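import Cfsg.Agent.Lib.Aschbacher.Forms

/-!
Pairwise commuting matrix subalgebras give a decomposition as a tensor power, and a group permuting
them lies in the tensor wreath subgroup.
-/

set_option autoImplicit false
set_option linter.unusedSectionVars false
set_option linter.style.haveILetI false

namespace CfsgLib.Aschbacher

open scoped MatrixGroups Matrix
open Cfsg.Geo

variable {ι : Type} [Fintype ι] [DecidableEq ι] {F : Type*} [Field F]

variable {κ : Type} [Fintype κ] [DecidableEq κ] {t : ℕ}

theorem pureMat_mul (a b : Fin t → Matrix κ κ F) : pureMat a * pureMat b = pureMat (fun j => a j * b j) := by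
  ext p q
  simp only [pureMat, Matrix.mul_apply, Matrix.of_apply, ← Finset.prod_mul_distrib]
  exact (Fintype.prod_sum fun j l => a j (p j) l * b j l (q j)).symm

theorem pureMat_one : pureMat (fun _ => 1 : Fin t → Matrix κ κ F) = 1 := by
  ext p q
  simp only [pureMat, Matrix.of_apply, Matrix.one_apply]
  rcases eq_or_ne p q with rfl | h
  · simp
  · obtain ⟨j, hj⟩ := Function.ne_iff.1 h
    rw [if_neg h]
    exact Finset.prod_eq_zero (Finset.mem_univ j) (by simp [hj])

theorem pureMat_smul_update (a : Fin t → Matrix κ κ F) (i : Fin t) (c : F) :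
    pureMat (Function.update a i (c • a i)) = c • pureMat a := by
  ext p q
  simp only [pureMat, Matrix.of_apply, Matrix.smul_apply, smul_eq_mul]
  rw [← Finset.mul_prod_erase _ _ (Finset.mem_univ i), ← Finset.mul_prod_erase _ _ (Finset.mem_univ i),
    Function.update_self, Matrix.smul_apply, smul_eq_mul, mul_assoc]
  congr 2
  exact Finset.prod_congr rfl fun j hj => by rw [Function.update_of_ne (Finset.ne_of_mem_erase hj)]

/-- The entries of the matrix of `x` in slot `i`. -/
theorem slot_apply (i : Fin t) (x : Matrix κ κ F) (p q : Fin t → κ) :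
    pureMat (Function.update (fun _ => (1 : Matrix κ κ F)) i x) p q =
      if ∀ j, j ≠ i → p j = q j then x (p i) (q i) else 0 := by
  simp only [pureMat, Matrix.of_apply]
  rw [← Finset.mul_prod_erase _ _ (Finset.mem_univ i), Function.update_self]
  split
  · next h =>
    rw [Finset.prod_eq_one, mul_one]
    intro j hj
    rw [Function.update_of_ne (Finset.ne_of_mem_erase hj), h j (Finset.ne_of_mem_erase hj),
      Matrix.one_apply_eq]
  · next h =>
    push Not at h
    obtain ⟨j, hj, hne⟩ := h
    rw [Finset.prod_eq_zero (Finset.mem_erase.2 ⟨hj, Finset.mem_univ j⟩), mul_zero]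
    rw [Function.update_of_ne hj, Matrix.one_apply_ne hne]

/-- The permutation matrix of a permutation of the factors. -/
def permMat (σ : Equiv.Perm (Fin t)) : Matrix (Fin t → κ) (Fin t → κ) F :=
  Matrix.of fun p q => if q = p ∘ σ then 1 else 0

theorem permMat_mul_apply (σ : Equiv.Perm (Fin t)) (M : Matrix (Fin t → κ) (Fin t → κ) F)
    (p q : Fin t → κ) : ((permMat σ : Matrix (Fin t → κ) (Fin t → κ) F) * M) p q = M (p ∘ σ) q := by
  simp [permMat, Matrix.mul_apply]

theorem mul_permMat_apply (σ : Equiv.Perm (Fin t)) (M : Matrix (Fin t → κ) (Fin t → κ) F)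
    (p q : Fin t → κ) : (M * (permMat σ : Matrix (Fin t → κ) (Fin t → κ) F)) p q = M p (q ∘ σ.symm) := by
  have h : ∀ r : Fin t → κ, (q = r ∘ σ) ↔ r = q ∘ σ.symm := fun r =>
    ⟨fun h => by funext j; simp [h], fun h => by funext j; simp [h]⟩
  simp [permMat, Matrix.mul_apply, h]

theorem permMat_mul_inv (σ : Equiv.Perm (Fin t)) :
    permMat σ * permMat σ.symm = (1 : Matrix (Fin t → κ) (Fin t → κ) F) := by
  ext p q
  rw [permMat_mul_apply]
  have h : (q = (p ∘ σ) ∘ σ.symm) ↔ p = q := by
    constructor
    · intro h; rw [h]; funext j; simp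
    · rintro rfl; funext j; simp
  simp [permMat, Matrix.one_apply, h]

theorem pureMat_mul_permMat (σ : Equiv.Perm (Fin t)) (b : Fin t → Matrix κ κ F) :
    pureMat (fun j => b (σ.symm j)) * permMat σ = permMat σ * pureMat b := by
  ext p q
  rw [permMat_mul_apply, mul_permMat_apply]
  simp only [pureMat, Matrix.of_apply, Function.comp]
  rw [← Equiv.prod_comp σ]
  simp

/-- A matrix commuting with all slots is scalar. -/
theorem scalar_of_commute_slots [Nonempty κ] (z : Matrix (Fin t → κ) (Fin t → κ) F)
    (hz : ∀ (i : Fin t) (x : Matrix κ κ F),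
      Commute z (pureMat (Function.update (fun _ => 1) i x))) :
    ∃ c : F, z = c • 1 := by
  classical
  have hrow : ∀ (i : Fin t) (x : Matrix κ κ F) (p q : Fin t → κ),
      ∑ a, z p (Function.update q i a) * x a (q i) = ∑ a, x (p i) a * z (Function.update p i a) q := by
    intro i x p q
    have h := congrFun (congrFun (hz i x).eq p) q
    simp only [Matrix.mul_apply, slot_apply] at h
    have e1 : ∀ r : Fin t → κ, (∀ j, j ≠ i → r j = q j) ↔ r = Function.update q i (r i) := fun r =>
      ⟨fun h => by
        funext j; rcases eq_or_ne j i with rfl | hj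
        · simp
        · simp [Function.update_of_ne hj, h j hj],
      fun h j hj => by rw [h, Function.update_of_ne hj]⟩
    have e2 : ∀ r : Fin t → κ, (∀ j, j ≠ i → p j = r j) ↔ r = Function.update p i (r i) := fun r =>
      ⟨fun h => by
        funext j; rcases eq_or_ne j i with rfl | hj
        · simp
        · simp [Function.update_of_ne hj, h j hj],
      fun h j hj => by rw [h, Function.update_of_ne hj]⟩
    have hL : ∀ (f : (Fin t → κ) → F) (p₀ : Fin t → κ),
        (∑ r, if r = Function.update p₀ i (r i) then f r else 0) = ∑ a, f (Function.update p₀ i a) := by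
      intro f p₀
      rw [← Finset.sum_filter]
      refine Finset.sum_bij' (fun r _ => r i) (fun a _ => Function.update p₀ i a) (fun r _ => Finset.mem_univ _)
        (fun a _ => Finset.mem_filter.2 ⟨Finset.mem_univ _, by simp⟩)
        (fun r hr => (Finset.mem_filter.1 hr).2.symm) (fun a _ => by simp)
        (fun r hr => congrArg f (Finset.mem_filter.1 hr).2)
    simp only [mul_ite, mul_zero, ite_mul, zero_mul, e1, e2] at h
    rw [hL (fun r => z p r * x (r i) (q i)) q, hL (fun r => x (p i) (r i) * z r q) p] at h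
    simpa using h
  have hdiag : ∀ p q, p ≠ q → z p q = 0 := by
    intro p q hpq
    obtain ⟨i, hi⟩ := Function.ne_iff.1 hpq
    have h := hrow i (Matrix.single (q i) (q i) 1) p q
    simpa [Matrix.single_apply, hi, Ne.symm hi] using h
  have hstep : ∀ (i : Fin t) (p : Fin t → κ) (b : κ), z (Function.update p i b) (Function.update p i b) = z p p := by
    intro i p b
    have h := hrow i (Matrix.single (p i) b 1) p (Function.update p i b)
    simpa [Matrix.single_apply] using h.symm
  let p₀ : Fin t → κ := fun _ => Classical.arbitrary κ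
  have hconst : ∀ p, z p p = z p₀ p₀ := by
    suffices ∀ (s : Finset (Fin t)) (p : Fin t → κ), (∀ j ∉ s, p j = p₀ j) → z p p = z p₀ p₀ from
      fun p => this Finset.univ p (by simp)
    intro s
    induction s using Finset.induction_on with
    | empty => intro p hp; rw [show p = p₀ from funext fun j => hp j (Finset.notMem_empty j)]
    | insert i s hi ih =>
      intro p hp
      rw [← hstep i p (p₀ i)]
      refine ih _ fun j hj => ?_
      rcases eq_or_ne j i with rfl | hji
      · simp
      · rw [Function.update_of_ne hji]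
        exact hp j (by simp [hji, hj])
  refine ⟨z p₀ p₀, ?_⟩
  ext p q
  rcases eq_or_ne p q with rfl | h
  · simpa using hconst p
  · simp [hdiag p q h, h]

variable {d : ℕ} [NeZero d]

/-- Commuting matrix subalgebras generating an irreducible algebra form a tensor power. -/
theorem exists_slotFactor [Nonempty ι] (φ : Fin t → (Matrix (Fin d) (Fin d) F →ₐ[F] Matrix ι ι F))
    (hcomm : ∀ i j, i ≠ j → ∀ x y, Commute (φ i x) (φ j y))
    (hirr : ∀ W : Submodule F (ι → F), (∀ i x, ∀ w ∈ W, φ i x *ᵥ w ∈ W) → W = ⊥ ∨ W = ⊤) :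
    ∃ (e : ι ≃ (Fin t → Fin d)) (P : GL ι F), ∀ i x, φ i x = slotFactor e P i x := by
  classical
  have hpw : ∀ (f : Fin t → Matrix (Fin d) (Fin d) F) (s : Finset (Fin t)),
      (s : Set (Fin t)).Pairwise (Function.onFun Commute fun j => φ j (f j)) :=
    fun f s a _ b _ hab => hcomm a b hab _ _
  obtain ⟨S, hS⟩ : ∃ S : (Fin t → Fin d) → Matrix ι ι F, ∀ q, S q =
      Finset.univ.noncommProd (fun j => φ j (Matrix.single (q j) 0 1)) (hpw _ _) :=
    ⟨_, fun q => rfl⟩
  obtain ⟨T, hT⟩ : ∃ T : (Fin t → Fin d) → Matrix ι ι F, ∀ q, T q =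
      Finset.univ.noncommProd (fun j => φ j (Matrix.single 0 (q j) 1)) (hpw _ _) :=
    ⟨_, fun q => rfl⟩
  obtain ⟨e₀, he₀⟩ : ∃ e₀ : Matrix ι ι F, e₀ =
      Finset.univ.noncommProd (fun j => φ j (Matrix.single 0 0 1)) (hpw _ _) :=
    ⟨_, rfl⟩
  have hTS : ∀ p q, T p * S q = if p = q then e₀ else 0 := by
    intro p q
    rw [hT, hS, ← Finset.noncommProd_mul_distrib (fun j => φ j (Matrix.single 0 (p j) 1))
      (fun j => φ j (Matrix.single (q j) 0 1)) _ _ (fun a _ b _ hab => hcomm a b hab _ _)]
    split
    · next h =>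
      subst h
      rw [he₀]
      refine Finset.noncommProd_congr rfl (fun j _ => ?_) _
      simp [← map_mul]
    · next h =>
      obtain ⟨j, hj⟩ := Function.ne_iff.1 h
      rw [← Finset.mul_noncommProd_erase _ (Finset.mem_univ j)]
      simp [← map_mul, Matrix.single_mul_single_of_ne _ _ _ _ hj]
  have he0 : e₀ * e₀ = e₀ := by
    rw [he₀, ← Finset.noncommProd_mul_distrib (fun j => φ j (Matrix.single 0 0 1))
      (fun j => φ j (Matrix.single 0 0 1)) _ _ (fun a _ b _ hab => hcomm a b hab _ _)]
    refine Finset.noncommProd_congr rfl (fun j _ => ?_) _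
    simp [← map_mul]
  have hne : e₀ ≠ 0 := by
    rw [he₀]
    suffices ∀ s : Finset (Fin t), s.noncommProd (fun j => φ j (Matrix.single 0 0 1)) (hpw _ _) ≠ 0 from this _
    intro s
    induction s using Finset.induction_on with
    | empty => simp
    | insert j s hj ih =>
      rw [Finset.noncommProd_insert_of_notMem _ _ _ _ hj]
      intro h0
      refine ih ?_
      obtain ⟨R, hR⟩ : ∃ R, R = s.noncommProd (fun j => φ j (Matrix.single (0 : Fin d) (0 : Fin d) (1 : F)))
        (hpw _ _) := ⟨_, rfl⟩
      rw [← hR] at h0 ⊢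
      have hcR : ∀ a, Commute (φ j (Matrix.single 0 a 1)) R := fun a => by
        rw [hR]
        exact Finset.noncommProd_commute _ _ _ _ fun l hl => hcomm j l (fun h => hj (h ▸ hl)) _ _
      have hall : ∀ a, φ j (Matrix.single a a 1) * R = 0 := fun a => by
        have e1 : Matrix.single a a (1 : F) = Matrix.single a 0 1 * Matrix.single 0 0 1 * Matrix.single 0 a 1 := by
          simp
        rw [e1, map_mul, map_mul, mul_assoc, (hcR a).eq, ← mul_assoc, mul_assoc (φ j _) (φ j _) R, h0,
          mul_zero, zero_mul]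
      rw [← one_mul R, ← map_one (φ j), ← Matrix.sum_single_one, map_sum, Finset.sum_mul]
      exact Finset.sum_eq_zero fun a _ => hall a
  obtain ⟨v₀, hv₀, hv₀ne⟩ : ∃ v₀, e₀ *ᵥ v₀ = v₀ ∧ v₀ ≠ 0 := by
    by_contra hcon
    push Not at hcon
    refine hne (Matrix.ext fun i j => ?_)
    have := hcon (e₀ *ᵥ Pi.single j 1) (by rw [Matrix.mulVec_mulVec, he0])
    simpa using congrFun this i
  let v : (Fin t → Fin d) → (ι → F) := fun q => S q *ᵥ v₀
  have hact : ∀ i x q, φ i x *ᵥ v q = ∑ a, x a (q i) • v (Function.update q i a) := by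
    intro i x q
    show φ i x *ᵥ (S q *ᵥ v₀) = ∑ a, x a (q i) • (S (Function.update q i a) *ᵥ v₀)
    have key : φ i x * S q = ∑ a, x a (q i) • S (Function.update q i a) := by
      have hx : x * Matrix.single (q i) 0 1 = ∑ a, x a (q i) • Matrix.single a 0 (1 : F) := by
        ext r c
        simp only [Matrix.sum_apply, Matrix.smul_apply, Matrix.single_apply, smul_eq_mul, mul_ite,
          mul_one, mul_zero, Matrix.mul_apply]
        by_cases hc : (0 : Fin d) = c
        · subst hc; simp
        · simp [hc]
      rw [hS, ← Finset.mul_noncommProd_erase _ (Finset.mem_univ i), ← mul_assoc, ← map_mul, hx, map_sum,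
        Finset.sum_mul]
      refine Finset.sum_congr rfl fun a _ => ?_
      rw [map_smul, smul_mul_assoc, hS, ← Finset.mul_noncommProd_erase _ (Finset.mem_univ i)
        (fun j => φ j (Matrix.single (Function.update q i a j) 0 1))]
      simp only [Function.update_self]
      congr 2
      exact Finset.noncommProd_congr rfl
        (fun j hj => by rw [Function.update_of_ne (Finset.ne_of_mem_erase hj)]) _
    rw [Matrix.mulVec_mulVec, key, Matrix.sum_mulVec]
    exact Finset.sum_congr rfl fun a _ => Matrix.smul_mulVec _ _ _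
  have hindep : LinearIndependent F v := by
    rw [Fintype.linearIndependent_iff]
    intro c hc q
    have h := congrArg (T q *ᵥ ·) hc
    simp only [v, Matrix.mulVec_sum, Matrix.mulVec_smul, Matrix.mulVec_zero, Matrix.mulVec_mulVec, hTS] at h
    rw [Finset.sum_eq_single q (fun r _ hr => by rw [if_neg (Ne.symm hr), Matrix.zero_mulVec, smul_zero])
      (by simp), if_pos rfl, hv₀] at h
    exact (smul_eq_zero.1 h).resolve_right hv₀ne
  have hspan : ⊤ ≤ Submodule.span F (Set.range v) := by
    rcases hirr (Submodule.span F (Set.range v)) (fun i x w hw => by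
      induction hw using Submodule.span_induction with
      | mem w hw =>
        obtain ⟨q, rfl⟩ := hw
        rw [hact]
        exact Submodule.sum_mem _ fun a _ => Submodule.smul_mem _ _ (Submodule.subset_span ⟨_, rfl⟩)
      | zero => rw [Matrix.mulVec_zero]; exact Submodule.zero_mem _
      | add a b _ _ ha hb => rw [Matrix.mulVec_add]; exact Submodule.add_mem _ ha hb
      | smul c a _ ha => rw [Matrix.mulVec_smul]; exact Submodule.smul_mem _ c ha) with h | h
    · exfalso
      refine hindep.ne_zero (fun _ => 0) ((Submodule.eq_bot_iff _).1 h _ (Submodule.subset_span ⟨_, rfl⟩))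
    · exact h.ge
  let B : Module.Basis (Fin t → Fin d) F (ι → F) := Module.Basis.mk hindep hspan
  let e : ι ≃ (Fin t → Fin d) := (Pi.basisFun F ι).indexEquiv B
  let P₀ : Matrix ι ι F := Matrix.of fun i j => v (e j) i
  have hP : IsUnit P₀ := Matrix.linearIndependent_cols_iff_isUnit.1 (hindep.comp e e.injective)
  refine ⟨e, hP.unit, fun i x => ?_⟩
  have key : φ i x * P₀ =
      P₀ * Matrix.reindex e.symm e.symm (pureMat (Function.update (fun _ => 1) i x)) := by
    ext r j
    have h := congrFun (hact i x (e j)) r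
    simp only [Matrix.mulVec, dotProduct, Finset.sum_apply, Pi.smul_apply, smul_eq_mul] at h
    rw [Matrix.mul_apply, Matrix.mul_apply]
    refine h.trans ?_
    rw [← Equiv.sum_comp e.symm]
    simp only [P₀, Matrix.of_apply, Matrix.reindex_apply, Matrix.submatrix_apply, Equiv.symm_symm,
      Equiv.apply_symm_apply, slot_apply, mul_ite, mul_zero]
    rw [← Finset.sum_filter]
    refine Finset.sum_bij' (fun a _ => Function.update (e j) i a) (fun r _ => r i)
      (fun a _ => Finset.mem_filter.2 ⟨Finset.mem_univ _, fun l hl => by rw [Function.update_of_ne hl]⟩)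
      (fun r _ => Finset.mem_univ _) (fun a _ => by simp)
      (fun r hr => by
        funext l
        rcases eq_or_ne l i with rfl | hl
        · simp
        · rw [Function.update_of_ne hl, (Finset.mem_filter.1 hr).2 l hl])
      (fun a _ => by simp [mul_comm])
  have h2 := congrArg (· * ((hP.unit⁻¹ : GL ι F) : Matrix ι ι F)) key
  simp only [slotFactor, cj_apply, IsUnit.unit_spec]
  rw [← h2, mul_assoc, hP.mul_val_inv, mul_one]

/-- A group permuting the factors of a tensor power decomposition stabilises it. -/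
theorem le_tensorWreathSubgroup [Nonempty ι] {G : Subgroup (GL ι F)} (ht : 0 < t)
    (φ : Fin t → (Matrix (Fin d) (Fin d) F →ₐ[F] Matrix ι ι F))
    (e : ι ≃ (Fin t → Fin d)) (P : GL ι F) (hφ : ∀ i x, φ i x = slotFactor e P i x)
    (hG : ∀ g ∈ G, ∃ σ : Equiv.Perm (Fin t), ∀ i x, cj g (φ i x) ∈ (φ (σ i)).range) :
    G ≤ tensorWreathSubgroup d t e P := by
  classical
  intro g hg
  obtain ⟨σ, hσ⟩ := hG g hg
  have hinj : ∀ i, Function.Injective (φ i) := fun i => (φ i).toRingHom.injective
  let γ : Fin t → (Matrix (Fin d) (Fin d) F →ₐ[F] Matrix (Fin d) (Fin d) F) := fun i =>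
    ((AlgEquiv.ofInjective (φ (σ i)) (hinj _)).symm : (φ (σ i)).range →ₐ[F] Matrix (Fin d) (Fin d) F).comp
      (((cj g).toAlgHom.comp (φ i)).codRestrict (φ (σ i)).range (fun x => hσ i x))
  have hγ : ∀ i x, φ (σ i) (γ i x) = cj g (φ i x) := fun i x =>
    congrArg Subtype.val ((AlgEquiv.ofInjective (φ (σ i)) (hinj _)).apply_symm_apply
      ⟨cj g (φ i x), hσ i x⟩)
  choose a ha using fun i => exists_inner_hom (γ i)
  obtain ⟨E, hE⟩ : ∃ E, E = Matrix.reindexAlgEquiv F F e := ⟨_, rfl⟩
  have hEs : ∀ z, E (Matrix.reindexAlgEquiv F F e.symm z) = z := fun z => by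
    rw [hE]; ext i j; simp
  have hsE : ∀ z, Matrix.reindexAlgEquiv F F e.symm (E z) = z := fun z => by
    rw [hE]; ext i j; simp
  obtain ⟨y, hy⟩ : ∃ y, y = E ((P⁻¹ * g * P : GL ι F) : Matrix ι ι F) := ⟨_, rfl⟩
  have hyx : ∀ i x, y * pureMat (Function.update (fun _ => 1) i x) =
      pureMat (Function.update (fun _ => 1) (σ i) (cj (a i) x)) * y := fun i x => by
    have h := hγ i x
    rw [ha i x, hφ, hφ, slotFactor, slotFactor, cj_apply P, cj_apply g, cj_apply P] at h
    have h2 := congrArg
      (fun z => E (((P⁻¹ : GL ι F) : Matrix ι ι F) * z * ((g : Matrix ι ι F) * (P : Matrix ι ι F)))) h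
    simp only [map_mul, mul_assoc, Units.inv_mul_cancel_left, Units.inv_mul, mul_one] at h2
    simp only [← Matrix.reindexAlgEquiv_apply F F] at h2
    simp only [hEs] at h2
    rw [hy]
    simp only [Units.val_mul, map_mul, mul_assoc]
    rw [h2]
  let C : GL (Fin t → Fin d) F :=
    { val := permMat σ * pureMat fun i => (a i : Matrix (Fin d) (Fin d) F)
      inv := (pureMat fun i => (((a i)⁻¹ : GL (Fin d) F) : Matrix (Fin d) (Fin d) F)) * permMat σ.symm
      val_inv := by
        rw [mul_assoc, ← mul_assoc (pureMat _) (pureMat _) _, pureMat_mul]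
        simp [pureMat_one, permMat_mul_inv]
      inv_val := by
        rw [mul_assoc, ← mul_assoc (permMat σ.symm) (permMat σ) _,
          show permMat σ.symm * permMat σ = (1 : Matrix (Fin t → Fin d) (Fin t → Fin d) F) by
            simpa using permMat_mul_inv (F := F) (κ := Fin d) σ.symm]
        simp [pureMat_mul, pureMat_one] }
  have hC : ∀ i x, (C : Matrix (Fin t → Fin d) (Fin t → Fin d) F) * pureMat (Function.update (fun _ => 1) i x) =
      pureMat (Function.update (fun _ => 1) (σ i) (cj (a i) x)) * (C : Matrix (Fin t → Fin d) (Fin t → Fin d) F) := by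
    intro i x
    show permMat σ * pureMat _ * _ = _ * (permMat σ * pureMat _)
    have : Function.update (fun _ : Fin t => (1 : Matrix (Fin d) (Fin d) F)) (σ i) (cj (a i) x) =
        fun j => Function.update (fun _ : Fin t => (1 : Matrix (Fin d) (Fin d) F)) i (cj (a i) x) (σ.symm j) := by
      funext j
      rcases eq_or_ne j (σ i) with rfl | hj
      · simp
      · rw [Function.update_of_ne hj, Function.update_of_ne]
        exact fun h => hj (by rw [← h]; simp)
    rw [this, ← mul_assoc, pureMat_mul_permMat, mul_assoc, mul_assoc, pureMat_mul, pureMat_mul]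
    congr 2
    funext j
    rcases eq_or_ne j i with rfl | hj
    · simp [cj_apply, mul_assoc]
    · simp [Function.update_of_ne hj]
  obtain ⟨c, hc⟩ := scalar_of_commute_slots
    (((C⁻¹ : GL (Fin t → Fin d) F) : Matrix (Fin t → Fin d) (Fin t → Fin d) F) * y) fun i x => by
      show _ * _ = _ * _
      have h3 : ((C⁻¹ : GL (Fin t → Fin d) F) : Matrix (Fin t → Fin d) (Fin t → Fin d) F) *
          pureMat (Function.update (fun _ => 1) (σ i) (cj (a i) x)) =
          pureMat (Function.update (fun _ => 1) i x) *
            ((C⁻¹ : GL (Fin t → Fin d) F) : Matrix (Fin t → Fin d) (Fin t → Fin d) F) := by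
        have := congrArg (fun z => ((C⁻¹ : GL (Fin t → Fin d) F) : Matrix (Fin t → Fin d) (Fin t → Fin d) F) * z *
          ((C⁻¹ : GL (Fin t → Fin d) F) : Matrix (Fin t → Fin d) (Fin t → Fin d) F)) (hC i x)
        simpa only [mul_assoc, Units.mul_inv, Units.inv_mul_cancel_left, mul_one] using this.symm
      rw [mul_assoc, hyx, ← mul_assoc, h3, mul_assoc]
  have hyc : y = c • (C : Matrix (Fin t → Fin d) (Fin t → Fin d) F) := by
    have := congrArg ((C : Matrix (Fin t → Fin d) (Fin t → Fin d) F) * ·) hc
    simpa only [Units.mul_inv_cancel_left, mul_smul_comm, mul_one] using this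
  have hc0 : c ≠ 0 := by
    rintro rfl
    have hyu : IsUnit y := hy ▸ (Units.isUnit _).map E
    rw [hyc, zero_smul] at hyu
    exact not_isUnit_zero hyu
  let k : GL (Fin t → Fin d) F := Units.map E.toMonoidHom (P⁻¹ * g * P)
  let i₀ : Fin t := ⟨0, ht⟩
  let b : Fin t → GL (Fin d) F := Function.update a i₀
    (Units.map (algebraMap F (Matrix (Fin d) (Fin d) F)).toMonoidHom (Units.mk0 c hc0) * a i₀)
  let pU : GL (Fin t → Fin d) F :=
    { val := pureMat fun i => (b i : Matrix (Fin d) (Fin d) F)
      inv := pureMat fun i => (((b i)⁻¹ : GL (Fin d) F) : Matrix (Fin d) (Fin d) F)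
      val_inv := by rw [pureMat_mul]; simp [pureMat_one]
      inv_val := by rw [pureMat_mul]; simp [pureMat_one] }
  let σU : GL (Fin t → Fin d) F :=
    { val := permMat σ
      inv := permMat σ.symm
      val_inv := permMat_mul_inv σ
      inv_val := by simpa using permMat_mul_inv (F := F) (κ := Fin d) σ.symm }
  refine ⟨glReindex e.symm k, ⟨k, ?_, rfl⟩, ?_⟩
  · have hk : k = σU * pU := by
      apply Units.ext
      show E ((P⁻¹ * g * P : GL ι F) : Matrix ι ι F) = permMat σ * pureMat fun i => (b i : Matrix (Fin d) (Fin d) F)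
      rw [← hy, hyc, show (C : Matrix (Fin t → Fin d) (Fin t → Fin d) F) = permMat σ * pureMat fun i => (a i : Matrix (Fin d) (Fin d) F) from rfl,
        ← mul_smul_comm, ← pureMat_smul_update _ i₀ c]
      congr 2
      funext i
      rcases eq_or_ne i i₀ with rfl | hi
      · simp [b, Algebra.smul_def]
      · simp [b, Function.update_of_ne hi]
    rw [hk]
    exact Subgroup.mul_mem _ (Subgroup.subset_closure (Or.inr ⟨σ, fun p q => rfl⟩))
      (Subgroup.subset_closure (Or.inl ⟨b, fun p q => rfl⟩))
  · apply Units.ext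
    show (P : Matrix ι ι F) * Matrix.reindexAlgEquiv F F e.symm (E ((P⁻¹ * g * P : GL ι F) : Matrix ι ι F))
        * ((P⁻¹ : GL ι F) : Matrix ι ι F) = _
    rw [hsE]
    simp [mul_assoc]

end CfsgLib.Aschbacher
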