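import Cfsg.Agent.Lib.Aschbacher.SympType
import Cfsg.Agent.Lib.Aschbacher.Wreath

/-!
The core theorem: an irreducible group containing the scalars carries one of the six kinds of data.
-/

set_option autoImplicit false
set_option linter.unusedSectionVars false
set_option linter.style.haveILetI false

namespace CfsgLib.Aschbacher

open scoped MatrixGroups Matrix
open Cfsg.Geo

variable {ι : Type} [Fintype ι] [DecidableEq ι] {F : Type*} [Field F]

theorem Normalized.mono {G G' L : Subgroup (GL ι F)} (h : Normalized G L) (hle : G' ≤ G) :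
    Normalized G' L := fun g hg => h g (hle hg)

theorem Normalized.inf {G A B : Subgroup (GL ι F)} (hA : Normalized G A) (hB : Normalized G B) :
    Normalized G (A ⊓ B) := fun g hg x hx => ⟨hA g hg x hx.1, hB g hg x hx.2⟩

theorem normalized_iff_map_le {G L : Subgroup (GL ι F)} :
    Normalized G L ↔ ∀ g ∈ G, L.map (MulAut.conj g).toMonoidHom ≤ L := by
  refine ⟨fun h g hg => ?_, fun h g hg x hx => h g hg ⟨x, hx, rfl⟩⟩
  rintro _ ⟨x, hx, rfl⟩
  exact h g hg x hx

theorem Normalized.map_eq {G L : Subgroup (GL ι F)} (h : Normalized G L) {g : GL ι F} (hg : g ∈ G) :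
    L.map (MulAut.conj g).toMonoidHom = L := by
  refine le_antisymm (normalized_iff_map_le.1 h g hg) fun x hx => ⟨g⁻¹ * x * g⁻¹⁻¹, h _ (G.inv_mem hg) x hx, ?_⟩
  simp [mul_assoc]

theorem Normalized.sup {G A B : Subgroup (GL ι F)} (hA : Normalized G A) (hB : Normalized G B) :
    Normalized G (A ⊔ B) :=
  normalized_iff_map_le.2 fun g hg => by rw [Subgroup.map_sup, hA.map_eq hg, hB.map_eq hg]

theorem Normalized.commutator {G A B : Subgroup (GL ι F)} (hA : Normalized G A) (hB : Normalized G B) :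
    Normalized G ⁅A, B⁆ :=
  normalized_iff_map_le.2 fun g hg => by rw [Subgroup.map_commutator, hA.map_eq hg, hB.map_eq hg]

theorem normalized_scalars (G : Subgroup (GL ι F)) : Normalized G (scalars ι F) :=
  fun g _ x hx => scalars_normal.conj_mem x hx g

theorem commutator_sup_scalars (A : Subgroup (GL ι F)) :
    ⁅A ⊔ scalars ι F, A ⊔ scalars ι F⁆ = ⁅A, A⁆ := by
  refine le_antisymm ?_ (Subgroup.commutator_mono le_sup_left le_sup_left)
  rw [Subgroup.commutator_le]
  intro a ha b hb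
  obtain ⟨a₁, ha₁, z, hz, rfl⟩ := Subgroup.mem_sup_of_normal_right.1 ha
  obtain ⟨b₁, hb₁, w, hw, rfl⟩ := Subgroup.mem_sup_of_normal_right.1 hb
  have : a₁ * z * (b₁ * w) * (a₁ * z)⁻¹ * (b₁ * w)⁻¹ = a₁ * b₁ * a₁⁻¹ * b₁⁻¹ := by
    calc a₁ * z * (b₁ * w) * (a₁ * z)⁻¹ * (b₁ * w)⁻¹
        = a₁ * (z * (b₁ * w)) * z⁻¹ * a₁⁻¹ * w⁻¹ * b₁⁻¹ := by simp [mul_assoc]
      _ = a₁ * b₁ * (w * a₁⁻¹) * w⁻¹ * b₁⁻¹ := by rw [scalars_commute hz]; simp [mul_assoc]
      _ = _ := by rw [scalars_commute hw]; simp [mul_assoc]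
  rw [commutatorElement_def, this]
  exact Subgroup.commutator_mem_commutator ha₁ hb₁

/-- A minimal normalised subgroup, not abelian modulo scalars, has a perfect commutator subgroup. -/
theorem perfect_of_minimal {G L : Subgroup (GL ι F)} (hL : Normalized G L) (hZ : scalars ι F ≤ L)
    (hmin : ∀ U, scalars ι F ≤ U → U ≤ L → Normalized G U → U = scalars ι F ∨ U = L)
    (hna : ¬ ⁅L, L⁆ ≤ scalars ι F) :
    L = ⁅L, L⁆ ⊔ scalars ι F ∧ ⁅⁅L, L⁆, ⁅L, L⁆⁆ = ⁅L, L⁆ := by
  have h1 : ⁅L, L⁆ ⊔ scalars ι F = L := by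
    refine (hmin _ le_sup_right (sup_le ?_ hZ) ((hL.commutator hL).sup (normalized_scalars G))).resolve_left ?_
    · rw [Subgroup.commutator_le]
      intro a ha b hb
      exact L.mul_mem (L.mul_mem (L.mul_mem ha hb) (L.inv_mem ha)) (L.inv_mem hb)
    · exact fun h => hna (h ▸ le_sup_left)
  refine ⟨h1.symm, ?_⟩
  calc ⁅⁅L, L⁆, ⁅L, L⁆⁆ = ⁅⁅L, L⁆ ⊔ scalars ι F, ⁅L, L⁆ ⊔ scalars ι F⁆ := (commutator_sup_scalars _).symm
    _ = ⁅L, L⁆ := by rw [h1]

/-- Elements commuting modulo scalars with a group centralise its commutator subgroup. -/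
theorem commute_of_mod_scalars {A : Subgroup (GL ι F)} {h : GL ι F}
    (hh : ∀ x ∈ A, h * x * h⁻¹ * x⁻¹ ∈ scalars ι F) : ∀ x ∈ ⁅A, A⁆, x * h = h * x := by
  suffices ⁅A, A⁆ ≤ Subgroup.centralizer {h} from fun x hx =>
    ((Subgroup.mem_centralizer_iff.1 (this hx)) h rfl).symm
  rw [Subgroup.commutator_le]
  intro a ha b hb
  rw [Subgroup.mem_centralizer_iff]
  intro u hu
  rw [Set.mem_singleton_iff] at hu
  rw [hu]
  obtain ⟨za, hza, hae⟩ : ∃ z ∈ scalars ι F, h * a * h⁻¹ = z * a := ⟨_, hh a ha, by group⟩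
  obtain ⟨zb, hzb, hbe⟩ : ∃ z ∈ scalars ι F, h * b * h⁻¹ = z * b := ⟨_, hh b hb, by group⟩
  have hconj : h * (a * b * a⁻¹ * b⁻¹) * h⁻¹ = a * b * a⁻¹ * b⁻¹ := by
    calc h * (a * b * a⁻¹ * b⁻¹) * h⁻¹
        = (h * a * h⁻¹) * (h * b * h⁻¹) * (h * a * h⁻¹)⁻¹ * (h * b * h⁻¹)⁻¹ := by group
      _ = za * (a * (zb * b)) * a⁻¹ * za⁻¹ * b⁻¹ * zb⁻¹ := by rw [hae, hbe]; simp [mul_assoc]
      _ = za * (a * (zb * b) * a⁻¹) * za⁻¹ * b⁻¹ * zb⁻¹ := by simp [mul_assoc]
      _ = a * (zb * b) * a⁻¹ * b⁻¹ * zb⁻¹ := by rw [scalars_commute hza, mul_inv_cancel_right]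
      _ = zb * (a * b * a⁻¹ * b⁻¹) * zb⁻¹ := by rw [← mul_assoc a zb b, ← scalars_commute hzb a]; simp [mul_assoc]
      _ = _ := by rw [scalars_commute hzb, mul_inv_cancel_right]
  rw [commutatorElement_def]
  exact mul_inv_eq_iff_eq_mul.1 hconj

theorem commutator_le_scalars_iff {A B : Subgroup (GL ι F)} :
    ⁅A, B⁆ ≤ scalars ι F ↔ ∀ a ∈ A, ∀ b ∈ B, a * b * a⁻¹ * b⁻¹ ∈ scalars ι F := by
  rw [Subgroup.commutator_le]; rfl

theorem scalar_mul_comm_alg {A B : Subgroup (GL ι F)} (h : ∀ a ∈ A, ∀ b ∈ B, a * b = b * a)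
    {x y : Matrix ι ι F} (hx : x ∈ alg A) (hy : y ∈ alg B) : Commute x y :=
  commute_alg (fun a ha => (commute_alg (y := (a : Matrix ι ι F))
    (fun b hb => by
      show (b : Matrix ι ι F) * (a : Matrix ι ι F) = (a : Matrix ι ι F) * (b : Matrix ι ι F)
      rw [← Units.val_mul, ← Units.val_mul, h a ha b hb]) hy).symm) hx

variable [Fintype F]

set_option maxHeartbeats 1000000 in
/-- One simple factor: the almost simple datum. -/
theorem core_of_simple {G N : Subgroup (GL ι F)} [Nonempty ι] (hNG : N ≤ G) (hN : Normalized G N)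
    (hZN : scalars ι F ≤ N) (hfull : ∀ L ≤ G, Normalized G L → L ≤ scalars ι F ∨ alg L = ⊤)
    (hna : ¬ ⁅N, N⁆ ≤ scalars ι F)
    (hmin : ∀ U, scalars ι F ≤ U → U ≤ N → Normalized N U → U = scalars ι F ∨ U = N) : Core G := by
  classical
  obtain ⟨hsup, hperf⟩ := perfect_of_minimal (hN.mono hNG) hZN hmin hna
  obtain ⟨P, hP⟩ : ∃ P, P = ⁅N, N⁆ := ⟨_, rfl⟩
  rw [← hP] at hsup hperf hna
  have hPN : P ≤ N := le_sup_left.trans hsup.ge
  have hPn : Normalized G P := hP ▸ hN.commutator hN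
  have hPalg : alg P = ⊤ := (hfull P (hPN.trans hNG) hPn).resolve_left hna
  have hQnt : Nontrivial (P ⧸ (scalars ι F).subgroupOf P) := by
    refine QuotientGroup.nontrivial_iff.2 fun h => hna fun x hx => ?_
    exact (h ▸ Subgroup.mem_top (⟨x, hx⟩ : P) : (⟨x, hx⟩ : P) ∈ (scalars ι F).subgroupOf P)
  refine Core.almostSimple P ⟨hPN.trans hNG, hPn, hperf, ?_, ?_, ?_, absIrred_of_alg_top hPalg, hPalg⟩
  · haveI := hQnt
    refine IsSimpleGroup.mk fun U hU => ?_
    obtain ⟨U', hU'⟩ : ∃ U' : Subgroup (GL ι F),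
        U' = (U.comap (QuotientGroup.mk' ((scalars ι F).subgroupOf P))).map P.subtype ⊔ scalars ι F := ⟨_, rfl⟩
    have hle : U' ≤ N := by
      rw [hU']; exact sup_le ((Subgroup.map_subtype_le _).trans hPN) hZN
    have hnorm : Normalized N U' := by
      intro g hg x hx
      rw [hsup] at hg
      obtain ⟨p, hp, z, hz, rfl⟩ := Subgroup.mem_sup_of_normal_right.1 hg
      rw [hU'] at hx ⊢
      obtain ⟨u, hu, w, hw, rfl⟩ := Subgroup.mem_sup_of_normal_right.1 hx
      have e : p * z * (u * w) * (p * z)⁻¹ = (p * u * p⁻¹) * w := by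
        calc p * z * (u * w) * (p * z)⁻¹ = p * (z * (u * w)) * z⁻¹ * p⁻¹ := by simp [mul_assoc]
          _ = p * u * (w * p⁻¹) := by rw [scalars_commute hz]; simp [mul_assoc]
          _ = _ := by rw [scalars_commute hw]; simp [mul_assoc]
      rw [e]
      obtain ⟨u', hu', rfl⟩ := hu
      refine Subgroup.mul_mem_sup (Subgroup.mem_map.2 ⟨⟨p, hp⟩ * u' * ⟨p, hp⟩⁻¹, ?_, ?_⟩) hw
      · exact (Subgroup.Normal.comap hU (QuotientGroup.mk' ((scalars ι F).subgroupOf P))).conj_mem u' hu' ⟨p, hp⟩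
      · simp only [Subgroup.subtype_apply, Subgroup.coe_mul, Subgroup.coe_inv]
    rcases hmin U' (by rw [hU']; exact le_sup_right) hle hnorm with h | h
    · left
      refine (Subgroup.eq_bot_iff_forall _).2 fun y hy => ?_
      obtain ⟨x, rfl⟩ := QuotientGroup.mk'_surjective _ y
      rw [QuotientGroup.mk'_apply, QuotientGroup.eq_one_iff]
      show (x : GL ι F) ∈ scalars ι F
      rw [← h, hU']
      exact Subgroup.mem_sup_left ⟨x, hy, rfl⟩
    · right
      refine (Subgroup.eq_top_iff' U).2 fun y => ?_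
      obtain ⟨x, rfl⟩ := QuotientGroup.mk'_surjective _ y
      have hx : (x : GL ι F) ∈ U' := h ▸ hPN x.2
      rw [hU'] at hx
      obtain ⟨u, ⟨u', hu', rfl⟩, z, hz, hxe⟩ := Subgroup.mem_sup_of_normal_right.1 hx
      have : QuotientGroup.mk' ((scalars ι F).subgroupOf P) x =
          QuotientGroup.mk' ((scalars ι F).subgroupOf P) u' := by
        rw [QuotientGroup.mk'_apply, QuotientGroup.mk'_apply, eq_comm, QuotientGroup.eq, Subgroup.mem_subgroupOf]
        have : ((u'⁻¹ * x : P) : GL ι F) = z := by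
          rw [Subgroup.coe_mul, Subgroup.coe_inv, ← hxe]; simp
        rw [this]; exact hz
      rw [this]; exact hu'
  · intro hc
    refine hna ?_
    rw [← hperf, commutator_le_scalars_iff]
    intro a ha b hb
    obtain ⟨q, hq⟩ : ∃ q : P, q = ⟨a, ha⟩ * ⟨b, hb⟩ * ⟨a, ha⟩⁻¹ * ⟨b, hb⟩⁻¹ := ⟨_, rfl⟩
    have hqv : (q : GL ι F) = a * b * a⁻¹ * b⁻¹ := by
      rw [hq]; simp only [Subgroup.coe_mul, Subgroup.coe_inv]
    rw [← hqv, ← Subgroup.mem_subgroupOf]
    have h2 : QuotientGroup.mk' ((scalars ι F).subgroupOf P) q = 1 := by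
      rw [hq]
      simp only [map_mul, map_inv]
      rw [hc.is_comm.comm (QuotientGroup.mk' ((scalars ι F).subgroupOf P) ⟨a, ha⟩)]
      group
    exact (QuotientGroup.eq_one_iff (N := (scalars ι F).subgroupOf P) q).1 h2
  · intro h _ hh
    refine mem_scalars_of_commute hPalg fun x hx => ?_
    exact commute_of_mod_scalars hh x (hperf.symm ▸ hx)

set_option maxHeartbeats 2000000 in
/-- Several simple factors: the tensor wreath datum. -/
theorem core_of_factors {G N : Subgroup (GL ι F)} [Nonempty ι] (hNG : N ≤ G) (hN : Normalized G N)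
    (hNalg : alg N = ⊤) (hna : ¬ ⁅N, N⁆ ≤ scalars ι F)
    (hminN : ∀ U, scalars ι F ≤ U → U ≤ N → Normalized G U → U = scalars ι F ∨ U = N)
    {L : Subgroup (GL ι F)} (hLN : L ≤ N) (hL : Normalized N L) (hZL : scalars ι F ≤ L)
    (hLs : ¬ L ≤ scalars ι F) (hLne : L ≠ N)
    (hminL : ∀ U, scalars ι F ≤ U → U ≤ L → Normalized N U → U = scalars ι F ∨ U = L) : Core G := by
  classical
  haveI : Fintype (Subgroup (GL ι F)) := Fintype.ofFinite _
  obtain ⟨c, hc⟩ : ∃ c : GL ι F → Subgroup (GL ι F) → Subgroup (GL ι F),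
      ∀ g A, c g A = A.map (MulAut.conj g).toMonoidHom := ⟨_, fun g A => rfl⟩
  have hcmem : ∀ g A x, x ∈ c g A ↔ g⁻¹ * x * g ∈ A := fun g A x => by
    rw [hc]
    exact ⟨fun ⟨y, hy, he⟩ => by rw [← he]; simpa [mul_assoc] using hy,
      fun h => ⟨g⁻¹ * x * g, h, by simp [mul_assoc]⟩⟩
  have hcmul : ∀ g h A, c (g * h) A = c g (c h A) := fun g h A => by
    ext x; simp only [hcmem]; rw [mul_inv_rev]; simp [mul_assoc]
  have hc1 : ∀ A, c 1 A = A := fun A => by ext x; simp [hcmem]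
  have hcsc : ∀ g, c g (scalars ι F) = scalars ι F := fun g => by
    ext x; rw [hcmem]
    exact ⟨fun h => by simpa [mul_assoc] using scalars_normal.conj_mem _ h g,
      fun h => by simpa using scalars_normal.conj_mem _ h g⁻¹⟩
  obtain ⟨O, hO⟩ : ∃ O, O = (Finset.univ.filter (· ∈ G)).image fun g => c g L := ⟨_, rfl⟩
  have hOmem : ∀ A ∈ O, ∃ g ∈ G, c g L = A := fun A hA => by
    rw [hO] at hA
    obtain ⟨g, hg, rfl⟩ := Finset.mem_image.1 hA
    exact ⟨g, (Finset.mem_filter.1 hg).2, rfl⟩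
  have hmemO : ∀ g ∈ G, c g L ∈ O := fun g hg =>
    hO ▸ Finset.mem_image.2 ⟨g, Finset.mem_filter.2 ⟨Finset.mem_univ _, hg⟩, rfl⟩
  -- every member is a minimal `N`-normalised subgroup
  have hOle : ∀ A ∈ O, A ≤ N := fun A hA => by
    obtain ⟨g, hg, rfl⟩ := hOmem A hA
    intro x hx
    have := hN g hg _ (hLN ((hcmem g L x).1 hx))
    simpa [mul_assoc] using this
  have hONorm : ∀ A ∈ O, Normalized N A := fun A hA => by
    obtain ⟨g, hg, rfl⟩ := hOmem A hA
    intro u hu x hx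
    rw [hcmem] at hx ⊢
    have h1 := hL (g⁻¹ * u * g) (by simpa using hN g⁻¹ (G.inv_mem hg) u hu) _ hx
    simpa [mul_assoc] using h1
  have hOZ : ∀ A ∈ O, scalars ι F ≤ A := fun A hA => by
    obtain ⟨g, hg, rfl⟩ := hOmem A hA
    rw [← hcsc g, hc, hc]
    exact Subgroup.map_mono hZL
  have hOmin : ∀ A ∈ O, ∀ U, scalars ι F ≤ U → U ≤ A → Normalized N U → U = scalars ι F ∨ U = A := by
    intro A hA U hZU hUA hU
    obtain ⟨g, hg, rfl⟩ := hOmem A hA
    have hU' : Normalized N (c g⁻¹ U) := fun u hu x hx => by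
      rw [hcmem, inv_inv] at hx ⊢
      have := hU (g * u * g⁻¹) (hN g hg u hu) _ hx
      simpa [mul_assoc] using this
    rcases hminL (c g⁻¹ U) (by rw [← hcsc g⁻¹, hc, hc]; exact Subgroup.map_mono hZU)
      (fun x hx => by
        have h2 := (hcmem g L _).1 (hUA ((hcmem g⁻¹ U x).1 hx))
        simpa [mul_assoc] using h2) hU' with h | h
    · exact Or.inl (by rw [← hc1 U, ← mul_inv_cancel g, hcmul, h, hcsc])
    · exact Or.inr (by rw [← hc1 U, ← mul_inv_cancel g, hcmul, h])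
  have hOclosed : ∀ g ∈ G, ∀ A ∈ O, c g A ∈ O := fun g hg A hA => by
    obtain ⟨a, ha, rfl⟩ := hOmem A hA
    rw [← hcmul]; exact hmemO _ (G.mul_mem hg ha)
  have hOsup : O.sup id = N := by
    refine (hminN _ ((hOZ _ (hmemO 1 G.one_mem)).trans (Finset.le_sup (f := id) (hmemO 1 G.one_mem)))
      (Finset.sup_le hOle) ?_).resolve_left ?_
    · refine normalized_iff_map_le.2 fun g hg => ?_
      rw [Finset.sup_eq_iSup, Subgroup.map_iSup]
      refine iSup_le fun A => ?_
      rw [Subgroup.map_iSup]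
      refine iSup_le fun hA => ?_
      exact le_trans (le_of_eq (hc g A).symm) (le_iSup₂ (f := fun A (_ : A ∈ O) => id A) (c g A) (hOclosed g hg A hA))
    · intro h
      exact hLs (h ▸ (hc1 L ▸ Finset.le_sup (f := id) (hmemO 1 G.one_mem)))
  have hpair : ∀ A ∈ O, ∀ B ∈ O, A ≠ B → ⁅A, B⁆ ≤ scalars ι F := by
    intro A hA B hB hne
    have h1 : ⁅A, B⁆ ≤ A ⊓ B := by
      rw [Subgroup.commutator_le]
      intro a ha b hb
      refine ⟨?_, B.mul_mem (hONorm B hB a (hOle A hA ha) b hb) (B.inv_mem hb)⟩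
      have := A.mul_mem ha (hONorm A hA b (hOle B hB hb) a⁻¹ (A.inv_mem ha))
      simpa [commutatorElement_def, mul_assoc] using this
    rcases hOmin A hA (A ⊓ B) (le_inf (hOZ A hA) (hOZ B hB)) inf_le_left ((hONorm A hA).inf (hONorm B hB)) with h | h
    · exact h ▸ h1
    · exfalso
      rcases hOmin B hB (A ⊓ B) (le_inf (hOZ A hA) (hOZ B hB)) inf_le_right ((hONorm A hA).inf (hONorm B hB)) with h' | h'
      · obtain ⟨g, hg, rfl⟩ := hOmem A hA
        have h2 : c g⁻¹ (c g L) = c g⁻¹ (scalars ι F) := congrArg _ (h.symm.trans h')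
        rw [← hcmul, inv_mul_cancel, hc1, hcsc] at h2
        exact hLs (h2 ▸ le_rfl)
      · exact hne (h.symm.trans h')
  -- the members are non-abelian modulo scalars
  have hLna : ¬ ⁅L, L⁆ ≤ scalars ι F := by
    intro hLab
    refine hna ?_
    have hall : ∀ A ∈ O, ∀ B ∈ O, ∀ a ∈ A, ∀ b ∈ B, a * b * a⁻¹ * b⁻¹ ∈ scalars ι F := by
      intro A hA B hB
      by_cases hAB : A = B
      · subst hAB
        obtain ⟨g, hg, rfl⟩ := hOmem A hA
        rw [← commutator_le_scalars_iff, hc, ← Subgroup.map_commutator, ← hcsc g, hc]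
        exact Subgroup.map_mono hLab
      · exact commutator_le_scalars_iff.1 (hpair A hA B hB hAB)
    let q := QuotientGroup.mk' (scalars ι F)
    have hq : ∀ a b, a * b * a⁻¹ * b⁻¹ ∈ scalars ι F ↔ q a * q b = q b * q a := fun a b => by
      rw [← QuotientGroup.eq_one_iff (N := scalars ι F)]
      simp only [q, QuotientGroup.mk'_apply, QuotientGroup.mk_mul, QuotientGroup.mk_inv]
      rw [mul_inv_eq_one, mul_inv_eq_iff_eq_mul]
    have hN2 : ∀ A ∈ O, N ≤ (Subgroup.centralizer ((A.map q : Subgroup _) : Set (GL ι F ⧸ scalars ι F))).comap q := by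
      intro A hA
      rw [← hOsup]
      refine Finset.sup_le fun B hB b hb => ?_
      rw [Subgroup.mem_comap, Subgroup.mem_centralizer_iff]
      rintro _ ⟨a, ha, rfl⟩
      exact (hq a b).1 (hall A hA B hB a ha b hb)
    rw [commutator_le_scalars_iff]
    intro a ha b hb
    have h3 : N ≤ (Subgroup.centralizer ({q a} : Set _)).comap q := by
      rw [← hOsup]
      refine Finset.sup_le fun B hB y hy => ?_
      rw [Subgroup.mem_comap, Subgroup.mem_centralizer_iff]
      rintro _ rfl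
      have := Subgroup.mem_centralizer_iff.1 (Subgroup.mem_comap.1 (hN2 B hB ha)) (q y) ⟨y, hy, rfl⟩
      exact this.symm
    exact (hq a b).2 (Subgroup.mem_centralizer_iff.1 (Subgroup.mem_comap.1 (h3 hb)) (q a) rfl)
  obtain ⟨hLsup, hLperf⟩ := perfect_of_minimal hL hZL hminL hLna
  have hcomm : ∀ A ∈ O, ∀ B ∈ O, A ≠ B → ∀ a ∈ A, ∀ b ∈ B, a * b = b * a := by
    intro A hA B hB hne a ha b hb
    obtain ⟨g, hg, rfl⟩ := hOmem A hA
    rw [hcmem, hLsup] at ha
    obtain ⟨p, hp, z, hz, hpz⟩ := Subgroup.mem_sup_of_normal_right.1 ha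
    have h1 : g * p * g⁻¹ * b = b * (g * p * g⁻¹) := by
      refine commute_of_mod_scalars (A := c g L) (fun x hx =>
        commutator_le_scalars_iff.1 (hpair B hB _ hA (Ne.symm hne)) b hb x hx) _ ?_
      rw [hc, ← Subgroup.map_commutator]
      exact ⟨p, hp, rfl⟩
    have e : a = (g * p * g⁻¹) * z := by
      have h2 : a = g * (p * z) * g⁻¹ := by rw [hpz]; simp [mul_assoc]
      rw [h2, mul_assoc g, mul_assoc p, scalars_commute hz]; simp [mul_assoc]
    rw [e, mul_assoc, scalars_commute hz b, ← mul_assoc, h1, mul_assoc]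
  -- the algebra of `L`
  have hNirr : ActsIrreducibly (matrixSet N) := actsIrreducibly_of_alg_top hNalg
  have hLc : L ∈ O := hc1 L ▸ hmemO 1 G.one_mem
  obtain ⟨d, hd, φ, hinj, hrange⟩ := exists_matrixHom hNirr (inv_alg hL) (fun x hx => by
    refine scalar_of_commute hNalg fun y hy => ?_
    let S : Subgroup (GL ι F) :=
      { carrier := {u | Commute (u : Matrix ι ι F) x}
        one_mem' := Commute.one_left x
        mul_mem' := fun {a b} ha hb => by show Commute _ _; rw [Units.val_mul]; exact ha.mul_left hb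
        inv_mem' := fun {a} ha => Commute.units_inv_left ha }
    have hS : N ≤ S := by
      rw [← hOsup]
      refine Finset.sup_le fun A hA a ha => ?_
      by_cases hAL : A = L
      · subst hAL; exact (commute_centreOf hx (coe_mem_alg ha)).symm
      · exact scalar_mul_comm_alg (hcomm A hA L hLc hAL) (coe_mem_alg ha) hx.1
    exact hS hy)
  have hd2 : 2 ≤ d := by
    by_contra hlt
    obtain rfl : d = 1 := by have := NeZero.ne d; omega
    refine hLs fun y hy => ?_
    obtain ⟨w, hw⟩ : (y : Matrix ι ι F) ∈ φ.range := hrange ▸ coe_mem_alg hy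
    have hw2 : w = algebraMap F _ (w 0 0) := by
      ext i j; fin_cases i; fin_cases j; simp [Matrix.algebraMap_matrix_apply]
    have hys : (y : Matrix ι ι F) = w 0 0 • (1 : Matrix ι ι F) := by
      rw [← hw]
      show φ w = _
      conv_lhs => rw [hw2]
      rw [AlgHom.commutes, Algebra.algebraMap_eq_smul_one]
    rw [mem_scalars_iff]
    exact ⟨Units.mk0 (w 0 0) fun h0 => y.ne_zero (by rw [hys, h0, zero_smul]), hys⟩
  -- numbering
  obtain ⟨t, ht⟩ : ∃ t, t = O.card := ⟨_, rfl⟩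
  let E : Fin t ≃ ↥O := (finCongr ht).trans O.equivFin.symm
  choose a ha haL using fun i : Fin t => hOmem _ (E i).2
  let Φ : Fin t → (Matrix (Fin d) (Fin d) F →ₐ[F] Matrix ι ι F) := fun i => (cj (a i)).toAlgHom.comp φ
  have halg : ∀ i, ∀ y, y ∈ alg (E i).1 ↔ ∃ x, Φ i x = y := by
    intro i y
    have hsub : ∀ (g : GL ι F) (A : Subgroup (GL ι F)) z, z ∈ alg A → cj g z ∈ alg (c g A) := fun g A z hz => by
      have : alg A ≤ (alg (c g A)).comap (cj g).toAlgHom := by
        refine Algebra.adjoin_le ?_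
        rintro _ ⟨u, hu, rfl⟩
        show cj g _ ∈ alg (c g A)
        rw [cj_coe]
        exact coe_mem_alg ((hcmem g A _).2 (by simpa [mul_assoc] using hu))
      exact this hz
    constructor
    · intro hy
      have := hsub (a i)⁻¹ _ _ hy
      rw [← haL i, ← hcmul, inv_mul_cancel, hc1, ← hrange] at this
      obtain ⟨x, hx⟩ := this
      exact ⟨x, by show cj (a i) (φ x) = y; rw [show φ x = cj (a i)⁻¹ y from hx, cj_cj_inv]⟩
    · rintro ⟨x, rfl⟩
      rw [← haL i]
      exact hsub (a i) L _ (hrange ▸ ⟨x, rfl⟩)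
  have hEne : ∀ i j, i ≠ j → (E i).1 ≠ (E j).1 := fun i j hij h => hij (E.injective (Subtype.ext h))
  obtain ⟨e, Q, hΦ⟩ := exists_slotFactor Φ
    (fun i j hij x y => scalar_mul_comm_alg (hcomm _ (E i).2 _ (E j).2 (hEne i j hij))
      ((halg i _).2 ⟨x, rfl⟩) ((halg j _).2 ⟨y, rfl⟩))
    (fun W hW => by
      refine Irr.eq_bot_or_top hNirr W fun g hg => ?_
      let S : Subgroup (GL ι F) :=
        { carrier := {u | (∀ w ∈ W, (u : Matrix ι ι F) *ᵥ w ∈ W) ∧ ∀ w ∈ W, ((u⁻¹ : GL ι F) : Matrix ι ι F) *ᵥ w ∈ W}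
          one_mem' := ⟨fun w hw => by simpa using hw, fun w hw => by simpa using hw⟩
          mul_mem' := fun {u v} hu hv =>
            ⟨fun w hw => by rw [Units.val_mul, ← Matrix.mulVec_mulVec]; exact hu.1 _ (hv.1 w hw),
             fun w hw => by rw [mul_inv_rev, Units.val_mul, ← Matrix.mulVec_mulVec]; exact hv.2 _ (hu.2 w hw)⟩
          inv_mem' := fun {u} hu => ⟨hu.2, by rw [inv_inv]; exact hu.1⟩ }
      have hS : N ≤ S := by
        rw [← hOsup]
        refine Finset.sup_le fun A hA u hu => ?_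
        obtain ⟨i, hi⟩ : ∃ i, E i = ⟨A, hA⟩ := ⟨E.symm ⟨A, hA⟩, E.apply_symm_apply _⟩
        have hA' : (E i).1 = A := congrArg Subtype.val hi
        refine ⟨fun w hw => ?_, fun w hw => ?_⟩
        · obtain ⟨x, hx⟩ := (halg i _).1 (coe_mem_alg (hA'.symm ▸ hu : u ∈ (E i).1))
          rw [← hx]; exact hW i x w hw
        · obtain ⟨x, hx⟩ := (halg i _).1 (coe_mem_alg (hA'.symm ▸ A.inv_mem hu : u⁻¹ ∈ (E i).1))
          rw [← hx]; exact hW i x w hw
      exact (hS hg).1)
  have hperm : ∀ g ∈ G, ∃ π : Equiv.Perm (Fin t), ∀ i,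
      (E i).1.map (MulAut.conj g).toMonoidHom = (E (π i)).1 := by
    intro g hg
    let π : ↥O ≃ ↥O :=
      ⟨fun A => ⟨c g A, hOclosed g hg _ A.2⟩, fun A => ⟨c g⁻¹ A, hOclosed _ (G.inv_mem hg) _ A.2⟩,
        fun A => Subtype.ext (by show c g⁻¹ (c g _) = _; rw [← hcmul, inv_mul_cancel, hc1]),
        fun A => Subtype.ext (by show c g (c g⁻¹ _) = _; rw [← hcmul, mul_inv_cancel, hc1])⟩
    exact ⟨(E.trans π).trans E.symm, fun i => by
      show _ = (E (E.symm (π (E i)))).1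
      rw [E.apply_symm_apply, ← hc]; rfl⟩
  have ht2 : 2 ≤ t := by
    by_contra hlt
    refine hLne (le_antisymm hLN ?_)
    rw [← hOsup]
    refine Finset.sup_le fun A hA => ?_
    rw [Finset.card_le_one.1 (by omega : O.card ≤ 1) A hA L hLc]
    exact le_rfl
  refine Core.wreath t d (fun i => (E i).1) (fun i => (hOle _ (E i).2).trans hNG) hperm (fun i j => ?_) e Q
    ht2 hd2 (fun i => ?_) (le_tensorWreathSubgroup (by omega) Φ e Q hΦ fun g hg => ?_) fun i => ?_
  · exact ⟨a j * (a i)⁻¹, G.mul_mem (ha j) (G.inv_mem (ha i)), by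
      rw [← hc, ← haL i, ← hcmul, inv_mul_cancel_right, haL j]⟩
  · ext y
    rw [SetLike.mem_coe, halg i y]
    simp only [hΦ, Set.mem_range]
  · obtain ⟨π, hπ⟩ := hperm g hg
    refine ⟨π, fun i x => ?_⟩
    have h1 : cj g (Φ i x) ∈ alg (E (π i)).1 := by
      rw [← hπ i]
      have : alg (E i).1 ≤ (alg ((E i).1.map (MulAut.conj g).toMonoidHom)).comap (cj g).toAlgHom := by
        refine Algebra.adjoin_le ?_
        rintro _ ⟨u, hu, rfl⟩
        show cj g _ ∈ alg _
        rw [cj_coe]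
        exact coe_mem_alg ⟨u, hu, rfl⟩
      exact this ((halg i _).2 ⟨x, rfl⟩)
    exact (halg (π i) _).1 h1
  · show (E i).1 = ⁅(E i).1, (E i).1⁆ ⊔ scalars ι F ∧ _
    rw [← haL i, hc]
    refine ⟨?_, ?_, fun h => hLs ?_⟩
    · conv_lhs => rw [hLsup, Subgroup.map_sup, Subgroup.map_commutator]
      rw [← hc _ (scalars ι F), hcsc]
    · rw [← Subgroup.map_commutator, ← Subgroup.map_commutator, hLperf]
    · intro x hx
      have h2 : a i * x * (a i)⁻¹ ∈ scalars ι F := h ⟨x, hx, rfl⟩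
      simpa [mul_assoc] using scalars_normal.conj_mem _ h2 (a i)⁻¹

/-- **The core of Aschbacher's theorem**: an irreducible group containing the scalars carries one of
the six kinds of intrinsic data. -/
theorem core {G : Subgroup (GL ι F)} (hn : 2 ≤ Fintype.card ι) (hirr : ActsIrreducibly (matrixSet G))
    (hZ : scalars ι F ≤ G) : Core G := by
  classical
  by_cases hcore : Core G
  · exact hcore
  haveI : Nonempty ι := Fintype.card_pos_iff.1 (by omega)
  have hfull : ∀ L ≤ G, Normalized G L → L ≤ scalars ι F ∨ alg L = ⊤ := fun L hLG hL =>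
    (core_or_full_alg hirr hLG hL).resolve_left hcore
  have hGn : Normalized G G := fun g hg x hx => G.mul_mem (G.mul_mem hg hx) (G.inv_mem hg)
  have hGs : ¬ G ≤ scalars ι F := by
    intro h
    obtain ⟨i⟩ := (inferInstance : Nonempty ι)
    rcases Irr.eq_bot_or_top hirr (Submodule.span F {(Pi.single i 1 : ι → F)}) (fun g hg w hw => by
        obtain ⟨c, hc⟩ := (mem_scalars_iff g).1 (h hg)
        rw [hc, Matrix.smul_mulVec, Matrix.one_mulVec]
        exact Submodule.smul_mem _ _ hw) with h1 | h1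
    · simp at h1
    · have := congrArg (fun W : Submodule F (ι → F) => Module.finrank F W) h1
      simp [finrank_span_singleton] at this
      omega
  obtain ⟨N, ⟨hNG, hN, hZN, hNs⟩, hmin⟩ := (Set.toFinite
    {L : Subgroup (GL ι F) | L ≤ G ∧ Normalized G L ∧ scalars ι F ≤ L ∧ ¬ L ≤ scalars ι F}).exists_minimal
    ⟨G, le_rfl, hGn, hZ, hGs⟩
  have hminN : ∀ U, scalars ι F ≤ U → U ≤ N → Normalized G U → U = scalars ι F ∨ U = N := by
    intro U hZU hUN hU
    by_cases hUs : U ≤ scalars ι F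
    · exact Or.inl (le_antisymm hUs hZU)
    · exact Or.inr (le_antisymm hUN (hmin ⟨hUN.trans hNG, hU, hZU, hUs⟩ hUN))
  by_cases hab : ⁅N, N⁆ ≤ scalars ι F
  · exact core_of_abelian_mod hn hfull hNG hN hZN hNs hminN (commutator_le_scalars_iff.1 hab)
  have hNself : Normalized N N := fun g hg x hx => N.mul_mem (N.mul_mem hg hx) (N.inv_mem hg)
  obtain ⟨L, ⟨hLN, hL, hZL, hLs⟩, hminL'⟩ := (Set.toFinite
    {L : Subgroup (GL ι F) | L ≤ N ∧ Normalized N L ∧ scalars ι F ≤ L ∧ ¬ L ≤ scalars ι F}).exists_minimal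
    ⟨N, le_rfl, hNself, hZN, hNs⟩
  have hminL : ∀ U, scalars ι F ≤ U → U ≤ L → Normalized N U → U = scalars ι F ∨ U = L := by
    intro U hZU hUL hU
    by_cases hUs : U ≤ scalars ι F
    · exact Or.inl (le_antisymm hUs hZU)
    · exact Or.inr (le_antisymm hUL (hminL' ⟨hUL.trans hLN, hU, hZU, hUs⟩ hUL))
  by_cases hLeq : L = N
  · subst hLeq
    exact core_of_simple hNG hN hZN hfull hab hminL
  · exact core_of_factors hNG hN ((hfull N hNG hN).resolve_left hNs) hab hminN hLN hL hZL hLs hLeq hminL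

end CfsgLib.Aschbacher
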