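import Cfsg.Agent.Lib.Aschbacher.Forms

/-!
Realisability over subfields, and the passage from the simple data to the residual core.
-/

set_option autoImplicit false
set_option linter.unusedSectionVars false
set_option linter.style.haveILetI false

namespace CfsgLib.Aschbacher

open scoped MatrixGroups Matrix
open Cfsg.Geo

variable {ι : Type} [Fintype ι] [DecidableEq ι] {F : Type*} [Field F]

/-- A finite field of order `Q ^ k` has the subfield of order `Q`. -/
theorem exists_subfield_card [Fintype F] {Q k : ℕ} (hQ : 1 < Q) (hcard : Fintype.card F = Q ^ k) :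
    ∃ F₁ : Subfield F, Nat.card F₁ = Q ∧ ∀ x : F, x ∈ F₁ ↔ x ^ Q = x := by
  classical
  obtain ⟨p, hp⟩ := CharP.exists F
  haveI : Fact p.Prime := ⟨CharP.char_is_prime F p⟩
  obtain ⟨a, -, ha⟩ := FiniteField.card F p
  have hk : k ≠ 0 := by
    rintro rfl
    exact absurd hcard (by simpa using (Fintype.one_lt_card (α := F)).ne')
  obtain ⟨b, -, hb⟩ := (Nat.dvd_prime_pow (Fact.out : p.Prime)).1
    (ha ▸ hcard ▸ dvd_pow_self Q hk : Q ∣ p ^ (a : ℕ))
  let F₁ : Subfield F :=
    { carrier := {x | x ^ Q = x}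
      one_mem' := one_pow _
      mul_mem' := fun {x y} hx hy => by show (x * y) ^ Q = _; rw [mul_pow, hx, hy]
      zero_mem' := zero_pow (by omega)
      add_mem' := fun {x y} hx hy => by
        show (x + y) ^ Q = _
        rw [hb, add_pow_char_pow, ← hb, hx, hy]
      neg_mem' := fun {x} hx => by
        show (-x) ^ Q = _
        have h0 : (x + -x) ^ Q = x ^ Q + (-x) ^ Q := by rw [hb]; exact add_pow_char_pow x (-x) p b
        rw [add_neg_cancel, zero_pow (by omega), hx] at h0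
        exact (neg_eq_of_add_eq_zero_right h0.symm).symm
      inv_mem' := fun x hx => by show x⁻¹ ^ Q = _; rw [inv_pow, hx] }
  refine ⟨F₁, ?_, fun x => Iff.rfl⟩
  have e1 : F₁ ≃ {x : F // x ^ Q = x} := Equiv.refl _
  rw [Nat.card_congr e1, Nat.card_eq_fintype_card, Fintype.card_subtype]
  have hset : (Finset.univ.filter fun x : F => x ^ Q = x) =
      insert 0 (((Finset.univ.filter fun u : Fˣ => u ^ (Q - 1) = 1)).image Units.val) := by
    ext x
    simp only [Finset.mem_filter, Finset.mem_univ, true_and, Finset.mem_insert, Finset.mem_image]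
    constructor
    · intro hx
      rcases eq_or_ne x 0 with h | h
      · exact Or.inl h
      · refine Or.inr ⟨Units.mk0 x h, Units.ext (mul_right_cancel₀ h ?_), rfl⟩
        simp [← pow_succ, Nat.sub_add_cancel hQ.le, hx]
    · rintro (rfl | ⟨u, hu, rfl⟩)
      · exact zero_pow (by omega)
      · rw [← Nat.sub_add_cancel hQ.le, pow_succ, ← Units.val_pow_eq_pow_val, hu, Units.val_one, one_mul]
  rw [hset, Finset.card_insert_of_notMem (by simp), Finset.card_image_of_injective _ Units.val_injective]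
  have hdvd : Q - 1 ∣ Nat.card Fˣ := by
    rw [Nat.card_units, Nat.card_eq_fintype_card, hcard]
    exact Nat.sub_one_dvd_pow_sub_one _ _
  have : (Finset.univ.filter fun u : Fˣ => u ^ (Q - 1) = 1).card = Q - 1 := by
    have h2 := IsCyclic.card_powMonoidHom_ker (G := Fˣ) (Q - 1)
    rw [Nat.gcd_eq_right hdvd] at h2
    refine Eq.trans ?_ h2
    rw [Nat.card_eq_fintype_card, ← Fintype.card_subtype]
    exact Fintype.card_congr (Equiv.subtypeEquivRight fun u => by simp [MonoidHom.mem_ker])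
  rw [this]
  omega

/-- Every proper subfield lies in a subfield of prime index. -/
theorem exists_prime_index_subfield [Fintype F] {F₀ : Subfield F} (h : F₀ ≠ ⊤) :
    ∃ (F₁ : Subfield F) (r : ℕ), F₀ ≤ F₁ ∧ r.Prime ∧ Fintype.card F = Nat.card F₁ ^ r := by
  classical
  obtain ⟨q₀, hq₀⟩ : ∃ q₀, q₀ = Fintype.card F₀ := ⟨_, rfl⟩
  have hcard : Fintype.card F = q₀ ^ Module.finrank F₀ F := hq₀ ▸ Module.card_eq_pow_finrank
  have hne : Module.finrank F₀ F ≠ 1 := by
    intro h1
    rw [h1, pow_one, hq₀] at hcard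
    refine h (Subfield.ext fun x => ⟨fun _ => Subfield.mem_top x, fun _ => ?_⟩)
    have hbij : Function.Bijective (Subtype.val : F₀ → F) :=
      (Fintype.bijective_iff_injective_and_card _).2 ⟨Subtype.val_injective, hcard.symm⟩
    obtain ⟨y, rfl⟩ := hbij.2 x
    exact y.2
  obtain ⟨r, hr, s, hs⟩ := Nat.exists_prime_and_dvd hne
  have hq1 : 1 < q₀ := hq₀ ▸ Fintype.one_lt_card
  have hs0 : s ≠ 0 := by
    rintro rfl
    rw [mul_zero] at hs
    rw [hs, pow_zero] at hcard
    exact absurd hcard (Fintype.one_lt_card (α := F)).ne'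
  have hcard' : Fintype.card F = (q₀ ^ s) ^ r := by rw [hcard, hs, ← pow_mul, mul_comm]
  obtain ⟨F₁, hF₁, hmem⟩ := exists_subfield_card (Nat.one_lt_pow hs0 hq1) hcard'
  refine ⟨F₁, r, fun x hx => (hmem x).2 ?_, hr, by rw [hF₁]; exact hcard'⟩
  have h2 : (⟨x, hx⟩ : F₀) ^ (Fintype.card F₀ ^ s) = ⟨x, hx⟩ := FiniteField.pow_card_pow s _
  rw [← hq₀] at h2
  exact congrArg Subtype.val h2

/-- An absolutely irreducible normal subgroup realisable over a proper subfield puts the whole group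
into a subfield group. -/
theorem le_subfield_of_realisable [Fintype F] [Nonempty ι] {G P : Subgroup (GL ι F)}
    (hN : Normalized G P) (hP : alg P = ⊤) {F₀ : Subfield F} (h₀ : F₀ ≠ ⊤)
    (hreal : RealisableOver F₀ (matrixSet P)) :
    ∃ (F₁ : Subfield F) (r : ℕ) (P' : GL ι F), F₀ ≤ F₁ ∧ r.Prime ∧
      Fintype.card F = Nat.card F₁ ^ r ∧ G ≤ subfieldSubgroup F₁ P' ∧
      ∀ x ∈ P, ∀ i j, cj P'⁻¹ (x : Matrix ι ι F) i j ∈ F₁ := by
  classical
  obtain ⟨B, hB⟩ := hreal
  obtain ⟨F₁, r, hle, hr, hcard⟩ := exists_prime_index_subfield h₀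
  refine ⟨F₁, r, B⁻¹, hle, hr, hcard, ?_, fun x hx i j => by
    rw [inv_inv]; exact hle (hB _ ⟨x, hx, rfl⟩ i j)⟩
  obtain ⟨M₁, hM₁⟩ : ∃ M₁ : Set (Matrix ι ι F), M₁ = {z | ∀ i j, z i j ∈ F₁} := ⟨_, rfl⟩
  obtain ⟨S, hS⟩ : ∃ S : Set (Matrix ι ι F), S = (fun x : GL ι F => cj B (x : Matrix ι ι F)) '' (P : Set (GL ι F)) :=
    ⟨_, rfl⟩
  have hSM : S ⊆ M₁ := by
    rw [hS, hM₁]
    rintro _ ⟨x, hx, rfl⟩ i j
    exact hle (hB _ ⟨x, hx, rfl⟩ i j)
  have hspanF : Submodule.span F S = ⊤ := by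
    rw [eq_top_iff]
    intro z _
    have hz : cj B⁻¹ z ∈ alg P := hP ▸ Algebra.mem_top
    have hmap : ∀ y ∈ alg P, cj B y ∈ Submodule.span F S ∧
        ∀ w ∈ Submodule.span F S, cj B y * w ∈ Submodule.span F S := by
      intro y hy
      induction hy using Algebra.adjoin_induction with
      | mem x hx =>
        obtain ⟨g, hg, rfl⟩ := hx
        refine ⟨Submodule.subset_span (hS ▸ ⟨g, hg, rfl⟩), fun w hw => ?_⟩
        induction hw using Submodule.span_induction with
        | mem s hs =>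
          rw [hS] at hs
          obtain ⟨h, hh, rfl⟩ := hs
          exact Submodule.subset_span (hS ▸ ⟨g * h, P.mul_mem hg hh, by simp only [Units.val_mul, map_mul]⟩)
        | zero => rw [mul_zero]; exact Submodule.zero_mem _
        | add s t _ _ hs ht => rw [mul_add]; exact Submodule.add_mem _ hs ht
        | smul c s _ hs => rw [mul_smul_comm]; exact Submodule.smul_mem _ c hs
      | algebraMap c =>
        refine ⟨?_, fun w hw => ?_⟩
        · rw [AlgEquiv.commutes, Algebra.algebraMap_eq_smul_one]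
          exact Submodule.smul_mem _ c (Submodule.subset_span (hS ▸ ⟨1, P.one_mem, by simp⟩))
        · rw [AlgEquiv.commutes, ← Algebra.smul_def]; exact Submodule.smul_mem _ c hw
      | add x y _ _ hx hy =>
        refine ⟨by rw [map_add]; exact Submodule.add_mem _ hx.1 hy.1, fun w hw => ?_⟩
        rw [map_add, add_mul]; exact Submodule.add_mem _ (hx.2 w hw) (hy.2 w hw)
      | mul x y _ _ hx hy =>
        refine ⟨by rw [map_mul]; exact hx.2 _ hy.1, fun w hw => ?_⟩
        rw [map_mul, mul_assoc]; exact hx.2 _ (hy.2 w hw)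
    have := (hmap _ hz).1
    rwa [cj_cj_inv] at this
  let ι₁ : Matrix ι ι F₁ →ₐ[F₁] Matrix ι ι F := (Algebra.ofId F₁ F).mapMatrix
  have hι₁ : ∀ z i j, ι₁ z i j = (z i j : F) := fun z i j => rfl
  have hι₁inj : Function.Injective ι₁ := fun a b h => Matrix.ext fun i j =>
    Subtype.ext (congrFun (congrFun h i) j)
  have hspan₁ : ∀ z, ι₁ z ∈ Submodule.span F₁ S := by
    obtain ⟨U, hU⟩ : ∃ U : Submodule F₁ (Matrix ι ι F₁),
        U = (Submodule.span F₁ S).comap ι₁.toLinearMap := ⟨_, rfl⟩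
    suffices U = ⊤ from fun z => by
      have : z ∈ U := this ▸ Submodule.mem_top
      rwa [hU] at this
    by_contra hne
    obtain ⟨l, hl0, hl⟩ := Submodule.exists_le_ker_of_lt_top U (lt_top_iff_ne_top.2 hne)
    obtain ⟨c, hc⟩ : ∃ c : ι → ι → F₁, c = fun i j => l (Matrix.single i j 1) := ⟨_, rfl⟩
    let L : Matrix ι ι F →ₗ[F] F :=
      { toFun := fun z => ∑ i, ∑ j, (c i j : F) * z i j
        map_add' := fun x y => by simp [mul_add, Finset.sum_add_distrib]
        map_smul' := fun a x => by simp [Finset.mul_sum, mul_left_comm] }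
    have hLl : ∀ z, L (ι₁ z) = (l z : F) := by
      intro z
      conv_rhs => rw [Matrix.matrix_eq_sum_single z]
      simp only [map_sum, AddSubmonoidClass.coe_finset_sum]
      refine Finset.sum_congr rfl fun i _ => Finset.sum_congr rfl fun j _ => ?_
      rw [show Matrix.single i j (z i j) = z i j • Matrix.single i j (1 : F₁) by
        rw [Matrix.smul_single, smul_eq_mul, mul_one], map_smul, smul_eq_mul, hc, hι₁]
      simp [mul_comm]
    have hLS : ∀ s ∈ S, L s = 0 := by
      intro s hs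
      have hsm := hSM hs
      rw [hM₁] at hsm
      have hs' : ι₁ (Matrix.of fun i j => (⟨s i j, hsm i j⟩ : F₁)) = s := Matrix.ext fun i j => rfl
      have hmemU : (Matrix.of fun i j => (⟨s i j, hsm i j⟩ : F₁) : Matrix ι ι F₁) ∈ U := by
        rw [hU, Submodule.mem_comap]
        show ι₁ _ ∈ _
        rw [hs']
        exact Submodule.subset_span hs
      rw [← hs', hLl, show l _ = 0 from LinearMap.mem_ker.1 (hl hmemU)]
      rfl
    have hL0 : L = 0 := LinearMap.ext_on hspanF fun s hs => hLS s hs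
    exact hl0 (LinearMap.ext fun z => Subtype.ext (by rw [← hLl, hL0]; rfl))
  intro g hg
  obtain ⟨g', hg'⟩ : ∃ g', g' = B * g * B⁻¹ := ⟨_, rfl⟩
  have hgM : ∀ z, ∀ i j, cj g' (ι₁ z) i j ∈ F₁ := by
    intro z
    suffices ∀ w ∈ Submodule.span F₁ S, ∀ i j, cj g' w i j ∈ F₁ from this _ (hspan₁ z)
    intro w hw
    induction hw using Submodule.span_induction with
    | mem s hs =>
      rw [hS] at hs
      obtain ⟨x, hx, rfl⟩ := hs
      intro i j
      rw [hg', show cj (B * g * B⁻¹) (cj B (x : Matrix ι ι F)) = cj B ((g * x * g⁻¹ : GL ι F) : Matrix ι ι F) by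
        rw [← cj_coe, ← cj_mul, ← cj_mul, inv_mul_cancel_right]]
      exact hle (hB _ ⟨_, hN g hg x hx, rfl⟩ i j)
    | zero => intro i j; rw [map_zero]; exact F₁.zero_mem
    | add s t _ _ hs ht => intro i j; rw [map_add]; exact F₁.add_mem (hs i j) (ht i j)
    | smul c s _ hs =>
      intro i j
      rw [show (c • s : Matrix ι ι F) = (c : F) • s from rfl, map_smul, Matrix.smul_apply, smul_eq_mul]
      exact F₁.mul_mem c.2 (hs i j)
  let γ : Matrix ι ι F₁ →ₐ[F₁] Matrix ι ι F₁ :=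
    { toFun := fun z => Matrix.of fun i j => ⟨cj g' (ι₁ z) i j, hgM z i j⟩
      map_one' := hι₁inj (Matrix.ext fun i j => by simp [hι₁, Matrix.one_apply, apply_ite Subtype.val])
      map_mul' := fun a b => hι₁inj (by
        refine Eq.trans ?_ (map_mul ι₁ _ _).symm
        exact (congrArg (cj g') (map_mul ι₁ a b)).trans (map_mul (cj g') _ _))
      map_zero' := hι₁inj (Matrix.ext fun i j => by simp [hι₁])
      map_add' := fun a b => hι₁inj (by
        refine Eq.trans ?_ (map_add ι₁ _ _).symm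
        exact (congrArg (cj g') (map_add ι₁ a b)).trans (map_add (cj g') _ _))
      commutes' := fun c => hι₁inj (by
        refine Matrix.ext fun i j => ?_
        show cj g' (ι₁ (algebraMap F₁ _ c)) i j = _
        rw [AlgHom.commutes, show algebraMap F₁ (Matrix ι ι F) c = algebraMap F (Matrix ι ι F) (c : F) from rfl,
          AlgEquiv.commutes]) }
  have hγ : ∀ z, ι₁ (γ z) = cj g' (ι₁ z) := fun z => Matrix.ext fun i j => rfl
  obtain ⟨a, ha⟩ := exists_inner_hom γ
  obtain ⟨A, hA⟩ : ∃ A : GL ι F, A = Units.map ι₁.toRingHom.toMonoidHom a := ⟨_, rfl⟩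
  have hAcj : ∀ z, cj A (ι₁ z) = cj g' (ι₁ z) := fun z => by
    rw [← hγ, ha, cj_apply, cj_apply, map_mul, map_mul, hA]; rfl
  have hk : A⁻¹ * g' ∈ scalars ι F := by
    have hcomm : ∀ i j, i ≠ j →
        Commute (Matrix.single i j (1 : F)) ((A⁻¹ * g' : GL ι F) : Matrix ι ι F) := fun i j _ => by
      have h1 : cj (A⁻¹ * g') (ι₁ (Matrix.single i j 1)) = ι₁ (Matrix.single i j 1) := by
        rw [cj_mul, ← hAcj, cj_inv_cj]
      have h2 : ι₁ (Matrix.single i j 1) = Matrix.single i j (1 : F) := Matrix.ext fun k l => by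
        simp [hι₁, Matrix.single_apply, apply_ite Subtype.val]
      rw [h2] at h1
      exact ((cj_eq_self_iff _ _).1 h1).symm
    obtain ⟨c, hc⟩ := Matrix.mem_range_scalar_of_commute_single hcomm
    have hc0 : c ≠ 0 := fun h0 => (A⁻¹ * g').ne_zero (by rw [← hc, h0, map_zero])
    rw [mem_scalars_iff]
    exact ⟨Units.mk0 c hc0, by rw [← hc]; ext i j; simp [Matrix.one_apply, Matrix.diagonal_apply]⟩
  refine ⟨g', ?_, by rw [hg']; simp [mul_assoc]⟩
  have : g' = A * (A⁻¹ * g') := by group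
  rw [this]
  exact Subgroup.mul_mem_sup ⟨a, by rw [hA]; rfl⟩ hk

/-- The simple data for `H ⊔ scalars` give the residual core for `H`. -/
theorem IsSimpleData.residualCore {H P : Subgroup (GL ι F)}
    (h : IsSimpleData (H ⊔ scalars ι F) P)
    (hsub : ∀ F₀ : Subfield F, F₀ ≠ ⊤ → ¬ RealisableOver F₀ (matrixSet P)) : IsResidualCore H P := by
  have hPH : P ≤ H := by
    have hcomm : ∀ a ∈ H ⊔ scalars ι F, ∀ b ∈ H ⊔ scalars ι F, a * b * a⁻¹ * b⁻¹ ∈ H := by
      have hmem : ∀ x ∈ H ⊔ scalars ι F, ∃ h ∈ H, ∃ z ∈ scalars ι F, x = h * z := fun x hx => by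
        obtain ⟨y, hy, z, hz, rfl⟩ := Subgroup.mem_sup_of_normal_right.1 hx
        exact ⟨y, hy, z, hz, rfl⟩
      have hcent : ∀ z ∈ scalars ι F, ∀ x : GL ι F, z * x = x * z := fun z hz x => by
        obtain ⟨c, hc⟩ := (mem_scalars_iff z).1 hz
        exact Units.ext (by simp [hc])
      intro a ha b hb
      obtain ⟨a₁, ha₁, z, hz, rfl⟩ := hmem a ha
      obtain ⟨b₁, hb₁, w, hw, rfl⟩ := hmem b hb
      have : a₁ * z * (b₁ * w) * (a₁ * z)⁻¹ * (b₁ * w)⁻¹ = a₁ * b₁ * a₁⁻¹ * b₁⁻¹ := by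
        calc a₁ * z * (b₁ * w) * (a₁ * z)⁻¹ * (b₁ * w)⁻¹
            = a₁ * (z * (b₁ * w)) * z⁻¹ * a₁⁻¹ * w⁻¹ * b₁⁻¹ := by simp [mul_assoc]
          _ = a₁ * b₁ * (w * a₁⁻¹) * w⁻¹ * b₁⁻¹ := by rw [hcent z hz]; simp [mul_assoc]
          _ = _ := by rw [hcent w hw]; simp [mul_assoc]
      rw [this]
      exact H.mul_mem (H.mul_mem (H.mul_mem ha₁ hb₁) (H.inv_mem ha₁)) (H.inv_mem hb₁)
    rw [← h.perfect, Subgroup.commutator_le]
    intro a ha b hb
    exact hcomm a (h.le ha) b (h.le hb)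
  exact ⟨hPH, fun g hg => h.normal g (Subgroup.mem_sup_left hg), h.perfect, h.simple, h.nonabelian,
    fun g hg => h.centralizer_scalar g (Subgroup.mem_sup_left hg), h.absIrred, hsub⟩

end CfsgLib.Aschbacher
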