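import Cfsg.Agent.Lib.Aschbacher.SympType
import Cfsg.Agent.Lib.Aschbacher.Realise

/-!
Consequences of the symplectic-type datum: realisability over the field of the centre, and the fixed
bilinear or hermitian form.
-/

set_option autoImplicit false
set_option linter.unusedSectionVars false
set_option linter.style.haveILetI false

namespace CfsgLib.Aschbacher

open scoped MatrixGroups Matrix
open Cfsg.Geo

variable {ι : Type} [Fintype ι] [DecidableEq ι] {F : Type*} [Field F]

/-- Matrix units in an algebra give a homomorphism from the matrix algebra. -/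
noncomputable def homOfUnits {κ : Type} [Fintype κ] [DecidableEq κ] {A : Type*} [Ring A] [Algebra F A]
    (u : κ → κ → A) (hmul : ∀ a b c d, u a b * u c d = if b = c then u a d else 0)
    (hone : ∑ a, u a a = 1) : Matrix κ κ F →ₐ[F] A :=
  AlgHom.ofLinearMap
    { toFun := fun z => ∑ a, ∑ b, z a b • u a b
      map_add' := fun x y => by simp [add_smul, Finset.sum_add_distrib]
      map_smul' := fun c x => by simp [Finset.smul_sum, smul_smul] }
    (by
      show ∑ a, ∑ b, (1 : Matrix κ κ F) a b • u a b = 1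
      rw [← hone]
      exact Finset.sum_congr rfl fun a _ => by simp [Matrix.one_apply])
    (fun x y => by
      show ∑ a, ∑ d, (x * y) a d • u a d = (∑ a, ∑ b, x a b • u a b) * (∑ c, ∑ d, y c d • u c d)
      simp only [Matrix.mul_apply, Finset.sum_smul]
      rw [Finset.sum_mul]
      refine Finset.sum_congr rfl fun a _ => ?_
      rw [Finset.sum_mul, Finset.sum_comm]
      refine Finset.sum_congr rfl fun b _ => ?_
      rw [Finset.mul_sum]
      symm
      rw [Finset.sum_eq_single b (fun c _ hc => by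
        rw [Finset.mul_sum]
        exact Finset.sum_eq_zero fun d _ => by
          rw [smul_mul_smul_comm, hmul, if_neg (Ne.symm hc), smul_zero]) (by simp), Finset.mul_sum]
      exact Finset.sum_congr rfl fun d _ => by rw [smul_mul_smul_comm, hmul, if_pos rfl])

theorem exists_scalar_of_center {R : Subgroup (GL ι F)} (halg : alg R = ⊤) {z : R}
    (hz : z ∈ Subgroup.center R) :
    ∃ c : F, ((z : GL ι F) : Matrix ι ι F) = c • (1 : Matrix ι ι F) :=
  scalar_of_commute halg fun y hy =>
    congrArg (fun u : R => ((u : GL ι F) : Matrix ι ι F)) (Subgroup.mem_center_iff.1 hz ⟨y, hy⟩)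

theorem exists_center_mul_out {R : Subgroup (GL ι F)} (x : R) :
    ∃ z ∈ Subgroup.center R, x = z * (QuotientGroup.mk x : R ⧸ Subgroup.center R).out := by
  have h : ((QuotientGroup.mk x : R ⧸ Subgroup.center R).out)⁻¹ * x ∈ Subgroup.center R :=
    QuotientGroup.eq.1 (Quotient.out_eq (QuotientGroup.mk x : R ⧸ Subgroup.center R))
  refine ⟨_, h, ?_⟩
  rw [← Subgroup.mem_center_iff.1 h (QuotientGroup.mk x : R ⧸ Subgroup.center R).out]
  group

variable [Fintype F]

/-- An absolutely irreducible group spanning over a subfield an algebra of dimension at most `n ^ 2` is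
realisable over that subfield. -/
theorem realisable_of_span [Nonempty ι] {P : Subgroup (GL ι F)} (hP : alg P = ⊤) (F₀ : Subfield F)
    {κ : Type*} [Fintype κ] (hκ : Fintype.card κ ≤ Fintype.card ι * Fintype.card ι)
    (b : κ → Matrix ι ι F) (hb : ∀ x ∈ P, (x : Matrix ι ι F) ∈ Submodule.span F₀ (Set.range b)) :
    RealisableOver F₀ (matrixSet P) := by
  classical
  obtain ⟨A, hA⟩ : ∃ A : Subalgebra F₀ (Matrix ι ι F), A = Algebra.adjoin F₀ (matrixSet P) := ⟨_, rfl⟩
  have hPA : ∀ x ∈ P, (x : Matrix ι ι F) ∈ A := fun x hx => hA ▸ Algebra.subset_adjoin ⟨x, hx, rfl⟩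
  have hAspan : ∀ y ∈ A, y ∈ Submodule.span F₀ (matrixSet P) := by
    intro y hy
    rw [hA, ← Subalgebra.mem_toSubmodule, Algebra.adjoin_eq_span] at hy
    refine Submodule.span_mono ?_ hy
    intro z hz
    induction hz using Submonoid.closure_induction with
    | mem z hz => exact hz
    | one => exact ⟨1, P.one_mem, rfl⟩
    | mul a b _ _ ha hb =>
      obtain ⟨g, hg, rfl⟩ := ha
      obtain ⟨h, hh, rfl⟩ := hb
      exact ⟨g * h, P.mul_mem hg hh, Units.val_mul g h⟩
  have hspanF : Submodule.span F (A : Set (Matrix ι ι F)) = ⊤ := by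
    rw [eq_top_iff]
    intro y _
    have hy : y ∈ (Algebra.adjoin F (matrixSet P)).toSubmodule := by
      rw [Subalgebra.mem_toSubmodule]; show y ∈ alg P; rw [hP]; exact Algebra.mem_top
    rw [Algebra.adjoin_eq_span] at hy
    refine Submodule.span_mono ?_ hy
    have hcl : Submonoid.closure (matrixSet P) ≤ A.toSubmonoid := by
      rw [Submonoid.closure_le]
      rintro _ ⟨g, hg, rfl⟩
      exact hPA g hg
    exact fun z hz => hcl hz
  haveI : Module.Finite F₀ A := Module.Finite.of_finite
  haveI : Nontrivial A := ⟨⟨0, 1, fun h => zero_ne_one (congrArg Subtype.val h)⟩⟩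
  obtain ⟨N, hN⟩ : ∃ N, N = Fintype.card ι * Fintype.card ι := ⟨_, rfl⟩
  have hMfin : Module.finrank F (Matrix ι ι F) = N := by
    rw [Module.finrank_matrix, Module.finrank_self, mul_one, hN]
  have hAfin : Module.finrank F₀ A ≤ N := by
    have h1 : A.toSubmodule ≤ Submodule.span F₀ (Set.range b) := fun y hy => by
      refine (Submodule.span_le.2 ?_) (hAspan y hy)
      rintro _ ⟨g, hg, rfl⟩
      exact hb g hg
    haveI : Module.Finite F₀ (Submodule.span F₀ (Set.range b)) := Module.Finite.of_finite
    refine le_trans ?_ ((finrank_range_le_card (R := F₀) b).trans (hN ▸ hκ))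
    exact Submodule.finrank_mono h1
  -- a left ideal-free spanning argument
  have hspan_fin : ∀ U : Submodule F₀ (Matrix ι ι F), Submodule.span F (U : Set (Matrix ι ι F)) = ⊤ →
      N ≤ Module.finrank F₀ U := by
    intro U hU
    haveI : Module.Finite F₀ U := Module.Finite.of_finite
    let bU := Module.finBasis F₀ U
    have hle : Submodule.span F (U : Set (Matrix ι ι F)) ≤
        Submodule.span F (Set.range fun i => (bU i : Matrix ι ι F)) := by
      refine Submodule.span_le.2 fun y hy => ?_
      have h2 := congrArg Subtype.val (bU.sum_repr ⟨y, hy⟩)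
      simp only [Submodule.coe_sum, Submodule.coe_smul] at h2
      rw [← h2]
      exact Submodule.sum_mem _ fun i _ => Submodule.smul_of_tower_mem _ _ (Submodule.subset_span ⟨i, rfl⟩)
    have h3 : Module.finrank F (Submodule.span F (Set.range fun i => (bU i : Matrix ι ι F))) = N := by
      rw [← hMfin, top_le_iff.1 (hU.symm.le.trans hle), finrank_top]
    rw [← h3]
    exact (finrank_range_le_card _).trans (by rw [Fintype.card_fin])
  haveI : IsSimpleRing A := by
    refine IsSimpleRing.of_eq_bot_or_eq_top fun I => ?_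
    rw [or_iff_not_imp_left]
    intro hI
    obtain ⟨x, hx, hx0⟩ : ∃ x ∈ I, x ≠ 0 := by
      by_contra h
      push Not at h
      exact hI (SetLike.ext fun y => ⟨fun hy => (TwoSidedIdeal.mem_bot A).2 (h y hy),
        fun hy => by rw [(TwoSidedIdeal.mem_bot A).1 hy]; exact I.zero_mem⟩)
    let U : Submodule F₀ (Matrix ι ι F) :=
      { carrier := {y | ∃ a ∈ I, (a : Matrix ι ι F) = y}
        add_mem' := fun {p q} hp hq => by
          obtain ⟨a, ha, rfl⟩ := hp; obtain ⟨c, hc, rfl⟩ := hq
          exact ⟨a + c, I.add_mem ha hc, rfl⟩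
        zero_mem' := ⟨0, I.zero_mem, rfl⟩
        smul_mem' := fun c p hp => by
          obtain ⟨a, ha, rfl⟩ := hp
          exact ⟨c • a, by rw [Algebra.smul_def]; exact I.mul_mem_left _ _ ha, rfl⟩ }
    have hU : Submodule.span F (U : Set (Matrix ι ι F)) = ⊤ := by
      obtain ⟨S, hS⟩ : ∃ S, S = Submodule.span F (U : Set (Matrix ι ι F)) := ⟨_, rfl⟩
      rw [← hS]
      have hl : ∀ y : Matrix ι ι F, ∀ s ∈ S, y * s ∈ S := by
        intro y
        have hy : y ∈ Submodule.span F (A : Set (Matrix ι ι F)) := hspanF ▸ Submodule.mem_top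
        induction hy using Submodule.span_induction with
        | mem a ha =>
          intro s hs
          rw [hS] at hs ⊢
          induction hs using Submodule.span_induction with
          | mem u hu =>
            obtain ⟨i, hi, rfl⟩ := hu
            exact Submodule.subset_span ⟨⟨a, ha⟩ * i, I.mul_mem_left _ _ hi, rfl⟩
          | zero => rw [mul_zero]; exact Submodule.zero_mem _
          | add p q _ _ hp hq => rw [mul_add]; exact Submodule.add_mem _ hp hq
          | smul c p _ hp => rw [mul_smul_comm]; exact Submodule.smul_mem _ c hp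
        | zero => intro s _; rw [zero_mul]; exact S.zero_mem
        | add p q _ _ hp hq => intro s hs; rw [add_mul]; exact S.add_mem (hp s hs) (hq s hs)
        | smul c p _ hp => intro s hs; rw [smul_mul_assoc]; exact S.smul_mem c (hp s hs)
      have hr : ∀ y : Matrix ι ι F, ∀ s ∈ S, s * y ∈ S := by
        intro y
        have hy : y ∈ Submodule.span F (A : Set (Matrix ι ι F)) := hspanF ▸ Submodule.mem_top
        induction hy using Submodule.span_induction with
        | mem a ha =>
          intro s hs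
          rw [hS] at hs ⊢
          induction hs using Submodule.span_induction with
          | mem u hu =>
            obtain ⟨i, hi, rfl⟩ := hu
            exact Submodule.subset_span ⟨i * ⟨a, ha⟩, I.mul_mem_right _ _ hi, rfl⟩
          | zero => rw [zero_mul]; exact Submodule.zero_mem _
          | add p q _ _ hp hq => rw [add_mul]; exact Submodule.add_mem _ hp hq
          | smul c p _ hp => rw [smul_mul_assoc]; exact Submodule.smul_mem _ c hp
        | zero => intro s _; rw [mul_zero]; exact S.zero_mem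
        | add p q _ _ hp hq => intro s hs; rw [mul_add]; exact S.add_mem (hp s hs) (hq s hs)
        | smul c p _ hp => intro s hs; rw [mul_smul_comm]; exact S.smul_mem c (hp s hs)
      have hxS : (x : Matrix ι ι F) ∈ S := hS ▸ Submodule.subset_span ⟨x, hx, rfl⟩
      obtain ⟨i, j, hij⟩ : ∃ i j, (x : Matrix ι ι F) i j ≠ 0 := by
        by_contra h
        push Not at h
        exact hx0 (Subtype.ext (Matrix.ext h))
      refine eq_top_iff.2 fun y _ => ?_
      rw [Matrix.matrix_eq_sum_single y]
      refine Submodule.sum_mem _ fun k _ => Submodule.sum_mem _ fun l _ => ?_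
      have : Matrix.single k l (y k l) = Matrix.single k i (y k l * ((x : Matrix ι ι F) i j)⁻¹) *
          (x : Matrix ι ι F) * Matrix.single j l 1 := by
        rw [Matrix.single_mul_mul_single]
        congr 1
        field_simp
      rw [this]
      exact hr _ _ (hl _ _ hxS)
    have hUA : U ≤ A.toSubmodule := by rintro _ ⟨a, -, rfl⟩; exact a.2
    have hUeq : U = A.toSubmodule :=
      Submodule.eq_of_le_of_finrank_le hUA (hAfin.trans (hspan_fin U hU))
    obtain ⟨a, ha, ha1⟩ : (1 : Matrix ι ι F) ∈ U := hUeq ▸ (A.one_mem : (1 : Matrix ι ι F) ∈ A.toSubmodule)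
    rw [show a = 1 from Subtype.ext ha1] at ha
    exact SetLike.ext fun y => ⟨fun _ => trivial, fun _ => by simpa using I.mul_mem_left y 1 ha⟩
  haveI : IsArtinianRing A := inferInstance
  obtain ⟨d, hd, ⟨ψ⟩⟩ := exists_matrix_of_center F₀ A fun x hx => by
    obtain ⟨c, hc⟩ := scalar_of_commute hP (y := (x : Matrix ι ι F)) fun y hy =>
      (congrArg Subtype.val (hx ⟨y, hPA y hy⟩)).symm
    suffices hcF : c ∈ F₀ by
      exact ⟨⟨c, hcF⟩, Subtype.ext (by rw [hc]; exact (Algebra.algebraMap_eq_smul_one (A := Matrix ι ι F) (⟨c, hcF⟩ : F₀)).symm)⟩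
    let bA := Module.finBasis F₀ A
    have hindep : LinearIndependent F fun i => (bA i : Matrix ι ι F) := by
      refine linearIndependent_of_top_le_span_of_card_eq_finrank ?_ ?_
      · rw [← hspanF]
        refine Submodule.span_le.2 fun y hy => ?_
        have h2 := congrArg Subtype.val (bA.sum_repr ⟨y, hy⟩)
        simp only [AddSubmonoidClass.coe_finsetSum, SetLike.val_smul] at h2
        rw [← h2]
        exact Submodule.sum_mem _ fun i _ => Submodule.smul_of_tower_mem _ _ (Submodule.subset_span ⟨i, rfl⟩)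
      · rw [Fintype.card_fin, hMfin]
        exact le_antisymm hAfin (hspan_fin A.toSubmodule hspanF)
    have h1 := congrArg Subtype.val (bA.sum_repr 1)
    have hxr := congrArg Subtype.val (bA.sum_repr x)
    simp only [AddSubmonoidClass.coe_finsetSum, SetLike.val_smul, OneMemClass.coe_one] at h1 hxr
    rw [hc, ← h1, Finset.smul_sum] at hxr
    have hz : ∀ i, ((bA.repr x i : F₀) : F) - c * ((bA.repr 1 i : F₀) : F) = 0 := by
      refine Fintype.linearIndependent_iff.1 hindep _ ?_
      simp only [sub_smul, Finset.sum_sub_distrib, mul_smul]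
      exact sub_eq_zero.2 hxr
    obtain ⟨i, hi⟩ : ∃ i, bA.repr 1 i ≠ 0 := by
      by_contra h
      push Not at h
      exact one_ne_zero (bA.repr.injective (Finsupp.ext fun i => by simpa using h i))
    have hi' : ((bA.repr 1 i : F₀) : F) ≠ 0 := fun h => hi (Subtype.ext h)
    rw [(eq_div_iff hi').2 (sub_eq_zero.1 (hz i)).symm]
    exact F₀.div_mem (bA.repr x i).2 (bA.repr 1 i).2
  have hd2 : d * d = N := by
    rw [← le_antisymm hAfin (hspan_fin A.toSubmodule hspanF)]
    show d * d = Module.finrank F₀ A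
    rw [LinearEquiv.finrank_eq ψ.toLinearEquiv, Module.finrank_matrix, Module.finrank_self, mul_one,
      Fintype.card_fin]
  let e : ι ≃ Fin d := Fintype.equivFinOfCardEq (Nat.mul_self_inj.1 (hN.symm.trans hd2.symm))
  let u : ι → ι → Matrix ι ι F := fun a b => (ψ.symm (Matrix.single (e a) (e b) 1) : A)
  obtain ⟨B, hB⟩ := exists_inner_hom (homOfUnits (F := F) u
    (fun a b c d => by
      simp only [u]
      rw [← MulMemClass.coe_mul, ← map_mul]
      split
      · next h => rw [h, Matrix.single_mul_single_same, mul_one]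
      · next h => rw [Matrix.single_mul_single_of_ne _ _ _ _ (e.injective.ne h), map_zero, ZeroMemClass.coe_zero])
    (by
      simp only [u]
      rw [← AddSubmonoidClass.coe_finsetSum, ← map_sum, Equiv.sum_comp e (fun a => Matrix.single a a (1 : F₀)),
        Matrix.sum_single_one, map_one, OneMemClass.coe_one]))
  refine ⟨B⁻¹, ?_⟩
  rintro _ ⟨g, hg, rfl⟩ i j
  obtain ⟨z, hz⟩ : ∃ z : Matrix ι ι F, z = Matrix.of fun a b => ((ψ ⟨g, hPA g hg⟩ (e a) (e b) : F₀) : F) :=
    ⟨_, rfl⟩
  have hBz : cj B z = g := by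
    rw [← hB]
    show ∑ a, ∑ b, z a b • u a b = _
    have h2 : ∑ a, ∑ b, ψ ⟨g, hPA g hg⟩ a b • ψ.symm (Matrix.single a b 1) = ⟨g, hPA g hg⟩ := by
      simp only [← map_smul, ← map_sum, Matrix.smul_single, smul_eq_mul, mul_one]
      rw [← Matrix.matrix_eq_sum_single, AlgEquiv.symm_apply_apply]
    have h3 := congrArg Subtype.val h2
    simp only [AddSubmonoidClass.coe_finsetSum, SetLike.val_smul] at h3
    rw [← Equiv.sum_comp e] at h3
    refine Eq.trans (Finset.sum_congr rfl fun a _ => ?_) h3
    rw [← Equiv.sum_comp e (fun b => ψ ⟨g, hPA g hg⟩ (e a) b • (ψ.symm (Matrix.single (e a) b 1) : Matrix ι ι F))]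
    exact Finset.sum_congr rfl fun b _ => by rw [hz]; rfl
  have : ((B⁻¹ : GL ι F) : Matrix ι ι F) * (g : Matrix ι ι F) * ((B⁻¹⁻¹ : GL ι F) : Matrix ι ι F) = z := by
    rw [← cj_apply, ← hBz, cj_inv_cj]
  rw [this, hz]
  exact (ψ ⟨g, hPA g hg⟩ (e i) (e j)).2

theorem IsSympData.center_pow {r m : ℕ} {R : Subgroup (GL ι F)} (h : IsSympData r m R) {z : R}
    (hz : z ∈ Subgroup.center R) {c : F}
    (hc : ((z : GL ι F) : Matrix ι ι F) = c • (1 : Matrix ι ι F)) :
    c ^ Nat.card (Subgroup.center R) = 1 := by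
  have hn : 0 < Fintype.card ι := by rw [h.card_index]; exact pow_pos h.symplecticType.prime.pos m
  obtain ⟨i⟩ : Nonempty ι := Fintype.card_pos_iff.1 hn
  have h1 : (⟨z, hz⟩ : Subgroup.center R) ^ Nat.card (Subgroup.center R) = 1 := pow_card_eq_one'
  have h2 := congrArg (fun w : Subgroup.center R => (((w : R) : GL ι F) : Matrix ι ι F)) h1
  simp only [SubgroupClass.coe_pow, Units.val_pow_eq_pow_val, OneMemClass.coe_one, Units.val_one] at h2
  rw [hc, smul_pow, one_pow] at h2
  simpa using congrFun (congrFun h2 i) i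

/-- A symplectic-type group is realisable over every subfield containing its centre. -/
theorem IsSympData.realisable {r m : ℕ} {R : Subgroup (GL ι F)} (h : IsSympData r m R) {F₀ : Subfield F}
    (hF₀ : Nat.card (Subgroup.center R) ∣ Nat.card F₀ - 1) : RealisableOver F₀ (matrixSet R) := by
  classical
  haveI : Nonempty ι := Fintype.card_pos_iff.1 (by rw [h.card_index]; exact pow_pos h.symplecticType.prime.pos m)
  haveI : Fintype (R ⧸ Subgroup.center R) := Fintype.ofFinite _
  refine realisable_of_span h.alg_top F₀ (κ := R ⧸ Subgroup.center R) ?_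
    (fun Q => (((Q.out : R) : GL ι F) : Matrix ι ι F)) fun x hx => ?_
  · have B : Module.Basis (R ⧸ Subgroup.center R) F (Matrix ι ι F) :=
      Module.Basis.mk (linearIndependent_reps h.commutator_scalar) (span_reps h.alg_top)
    rw [← Module.finrank_eq_card_basis B, Module.finrank_matrix, Module.finrank_self, mul_one]
  · obtain ⟨z, hz, hxz⟩ := exists_center_mul_out (⟨x, hx⟩ : R)
    obtain ⟨c, hc⟩ := exists_scalar_of_center h.alg_top hz
    have hcF : c ∈ F₀ := by
      obtain ⟨F₁, hF₁card, hF₁⟩ : ∃ s : Subfield F, s = F₀ ∧ ∀ y : F, y ^ Nat.card F₀ = y → y ∈ s := by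
        refine ⟨F₀, rfl, fun y hy => ?_⟩
        have hq1 : 1 < Nat.card F₀ := Finite.one_lt_card
        obtain ⟨k, hk⟩ : ∃ k, Fintype.card F = Nat.card F₀ ^ k :=
          ⟨_, by rw [Nat.card_eq_fintype_card]; exact Module.card_eq_pow_finrank (K := F₀) (V := F)⟩
        obtain ⟨F₂, hF₂card, hF₂⟩ := exists_subfield_card hq1 hk
        have hle : F₀ ≤ F₂ := fun w hw => (hF₂ w).2 (by
          have := FiniteField.pow_card (⟨w, hw⟩ : F₀)
          rw [← Nat.card_eq_fintype_card] at this
          exact congrArg Subtype.val this)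
        have heq : F₀ = F₂ := SetLike.coe_injective
          (Set.eq_of_subset_of_ncard_le hle (by
            rw [← Nat.card_coe_set_eq, ← Nat.card_coe_set_eq]; exact le_of_eq hF₂card))
        rw [heq]; exact (hF₂ y).2 hy
      subst hF₁card
      refine hF₁ c ?_
      obtain ⟨k, hk⟩ := hF₀
      have hq1 : 1 ≤ Nat.card F₁ := Finite.one_lt_card.le
      rw [← Nat.sub_add_cancel hq1, pow_succ, hk, pow_mul, h.center_pow hz hc, one_pow, one_mul]
    have hxv : (x : Matrix ι ι F) = (⟨c, hcF⟩ : F₀) •
        ((((QuotientGroup.mk (⟨x, hx⟩ : R) : R ⧸ Subgroup.center R).out : R) : GL ι F) : Matrix ι ι F) := by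
      have h1 := congrArg (fun w : R => ((w : GL ι F) : Matrix ι ι F)) hxz
      simp only [Subgroup.coe_mul, Units.val_mul, hc, Matrix.smul_mul, Matrix.one_mul] at h1
      exact h1
    rw [hxv]
    exact Submodule.smul_mem _ _ (Submodule.subset_span ⟨_, rfl⟩)

/-- A symplectic-type group fixes a form for every involution inverting its centre. -/
theorem IsSympData.exists_fixed_form {r m : ℕ} {R : Subgroup (GL ι F)} (h : IsSympData r m R)
    (σ : F ≃+* F) (hσ : ∀ a, σ (σ a) = a)
    (hζ : ∀ ζ : F, ζ ^ Nat.card (Subgroup.center R) = 1 → σ ζ = ζ⁻¹) :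
    ∃ f : (ι → F) → (ι → F) → F, IsSesqForm σ f ∧ IsNondegenerateForm f ∧ FixesForm (matrixSet R) f ∧
      ((σ = RingEquiv.refl F ∧ ((∀ u v, f u v = f v u) ∨ IsSymplecticForm f)) ∨ IsUnitaryForm σ f) := by
  classical
  haveI : Nonempty ι := Fintype.card_pos_iff.1 (by rw [h.card_index]; exact pow_pos h.symplecticType.prime.pos m)
  haveI : Fintype (R ⧸ Subgroup.center R) := Fintype.ofFinite _
  let s : Matrix ι ι F →+* Matrix ι ι F := σ.toRingHom.mapMatrix
  let θ : R → Matrix ι ι F := fun y => (s (((y : GL ι F)⁻¹ : GL ι F) : Matrix ι ι F))ᵀ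
  have hθmul : ∀ x y, θ (x * y) = θ x * θ y := fun x y => by
    simp only [θ, Subgroup.coe_mul, mul_inv_rev, Units.val_mul, map_mul, Matrix.transpose_mul]
  let B : Module.Basis (R ⧸ Subgroup.center R) F (Matrix ι ι F) :=
    Module.Basis.mk (linearIndependent_reps h.commutator_scalar) (span_reps h.alg_top)
  let L : Matrix ι ι F →ₗ[F] Matrix ι ι F := B.constr F fun Q => θ Q.out
  have hLR : ∀ x : R, L ((x : GL ι F) : Matrix ι ι F) = θ x := by
    intro x
    obtain ⟨z, hz, hxz⟩ := exists_center_mul_out x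
    obtain ⟨c, hc⟩ := exists_scalar_of_center h.alg_top hz
    have hc0 : c ≠ 0 := fun h0 => (z : GL ι F).ne_zero (by rw [hc, h0, zero_smul])
    have hzinv : ((((z : GL ι F))⁻¹ : GL ι F) : Matrix ι ι F) = c⁻¹ • (1 : Matrix ι ι F) := by
      have h1 : ((z : GL ι F) : Matrix ι ι F) * (c⁻¹ • (1 : Matrix ι ι F)) = 1 := by
        rw [hc]; simp [smul_smul, hc0]
      exact Units.inv_eq_of_mul_eq_one_right h1
    have hθz : θ z = c • (1 : Matrix ι ι F) := by
      ext i j
      simp only [θ, hzinv, s, Matrix.transpose_apply, RingHom.mapMatrix_apply, Matrix.map_apply,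
        Matrix.smul_apply, smul_eq_mul, Matrix.one_apply]
      rcases eq_or_ne i j with rfl | hij
      · simp [map_inv₀, hζ c (h.center_pow hz hc)]
      · simp [hij, Ne.symm hij]
    rw [hxz, Subgroup.coe_mul, Units.val_mul, hc, Matrix.smul_mul, Matrix.one_mul, map_smul, hθmul, hθz,
      Matrix.smul_mul, Matrix.one_mul]
    congr 1
    have hbv : B (QuotientGroup.mk x) =
        ((((QuotientGroup.mk x : R ⧸ Subgroup.center R).out : R) : GL ι F) : Matrix ι ι F) :=
      Module.Basis.mk_apply _ _ _
    rw [← hbv]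
    exact B.constr_basis _ _ _
  have hL1 : L 1 = 1 := by
    have := hLR 1
    simpa [θ] using this
  have hLmul : ∀ a b, L (a * b) = L a * L b := by
    have hb : ∀ Q, B Q = (((Q.out : R) : GL ι F) : Matrix ι ι F) := fun Q => Module.Basis.mk_apply _ _ _
    intro a b
    rw [← B.sum_repr a, ← B.sum_repr b, Finset.sum_mul, map_sum, map_sum, Finset.sum_mul]
    refine Finset.sum_congr rfl fun Q _ => ?_
    rw [Finset.mul_sum, map_sum, map_sum, Finset.mul_sum]
    refine Finset.sum_congr rfl fun Q' _ => ?_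
    rw [smul_mul_smul_comm, map_smul, map_smul, map_smul, smul_mul_smul_comm, hb, hb, ← Units.val_mul,
      ← Subgroup.coe_mul, hLR, hθmul, ← hLR, ← hLR]
  obtain ⟨a, ha⟩ := exists_inner_hom (AlgHom.ofLinearMap L hL1 hLmul)
  have hfix0 : ∀ x ∈ R, (s (x : Matrix ι ι F))ᵀ * (a : Matrix ι ι F) * (x : Matrix ι ι F) = (a : Matrix ι ι F) := by
    intro x hx
    have h1 : θ ⟨x, hx⟩ = cj a (x : Matrix ι ι F) := (hLR ⟨x, hx⟩).symm.trans (ha _)
    have h2 : (s (x : Matrix ι ι F))ᵀ * θ ⟨x, hx⟩ = 1 := by
      simp only [θ]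
      rw [← Matrix.transpose_mul, ← map_mul, Units.inv_mul, map_one, Matrix.transpose_one]
    rw [h1, cj_apply] at h2
    have h3 := congrArg (· * (a : Matrix ι ι F)) h2
    simpa only [mul_assoc, Units.inv_mul, mul_one, one_mul] using h3
  have hfixX : ∀ x ∈ R, (x : Matrix ι ι F)ᵀ * (a : Matrix ι ι F)ᵀ * s (x : Matrix ι ι F) = (a : Matrix ι ι F)ᵀ := by
    intro x hx
    have := congrArg Matrix.transpose (hfix0 x hx)
    simpa only [Matrix.transpose_mul, Matrix.transpose_transpose, mul_assoc] using this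
  obtain ⟨f, hf⟩ : ∃ f : (ι → F) → (ι → F) → F,
      ∀ u v, f u v = u ⬝ᵥ ((a : Matrix ι ι F)ᵀ *ᵥ (fun i => σ (v i))) := ⟨_, fun u v => rfl⟩
  have hσadd : ∀ x y : ι → F, (fun i => σ ((x + y) i)) = (fun i => σ (x i)) + fun i => σ (y i) :=
    fun x y => funext fun i => map_add σ _ _
  have hσsmul : ∀ (c : F) (x : ι → F), (fun i => σ ((c • x) i)) = σ c • fun i => σ (x i) :=
    fun c x => funext fun i => map_mul σ _ _
  have hsesq : IsSesqForm σ f :=
    ⟨fun x y v => by rw [hf, hf, hf, add_dotProduct],
      fun c x v => by rw [hf, hf, smul_dotProduct, smul_eq_mul],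
      fun v x y => by rw [hf, hf, hf, hσadd, Matrix.mulVec_add, dotProduct_add],
      fun c v x => by rw [hf, hf, hσsmul, Matrix.mulVec_smul, dotProduct_smul, smul_eq_mul]⟩
  have haT : IsUnit ((a : Matrix ι ι F)ᵀ) :=
    (Matrix.isUnit_iff_isUnit_det _).2 (by rw [Matrix.det_transpose]; exact (Matrix.isUnit_iff_isUnit_det _).1 a.isUnit)
  have hnd : IsNondegenerateForm f := by
    intro v hv
    constructor
    · by_contra hcon
      push Not at hcon
      have h1 : (a : Matrix ι ι F)ᵀ *ᵥ (fun i => σ (v i)) = 0 :=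
        dotProduct_eq_zero _ fun u => by rw [dotProduct_comm, ← hf]; exact hcon u
      have h2 : (fun i => σ (v i)) = 0 := Matrix.mulVec_injective_of_isUnit haT (by rw [h1, Matrix.mulVec_zero])
      exact hv (funext fun i => by simpa using congrFun h2 i)
    · by_contra hcon
      push Not at hcon
      refine hv (dotProduct_eq_zero _ fun w => ?_)
      obtain ⟨y, hy⟩ := (Matrix.mulVec_surjective_iff_isUnit.2 haT) w
      rw [← hy]
      have := hcon fun i => σ.symm (y i)
      rw [hf] at this
      simpa using this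
  have hfix : FixesForm (matrixSet R) f := by
    rintro _ ⟨x, hx, rfl⟩ u v
    show f ((x : Matrix ι ι F) *ᵥ u) ((x : Matrix ι ι F) *ᵥ v) = f u v
    have e1 : (fun i => σ (((x : Matrix ι ι F) *ᵥ v) i)) = s (x : Matrix ι ι F) *ᵥ fun i => σ (v i) :=
      funext fun i => σ.toRingHom.map_mulVec (x : Matrix ι ι F) v i
    rw [hf, hf, e1, Matrix.mulVec_mulVec, ← Matrix.vecMul_transpose, ← Matrix.dotProduct_mulVec,
      Matrix.mulVec_mulVec, ← mul_assoc, hfixX x hx]
  obtain ⟨u₀, v₀, huv⟩ := isNondegenerateForm_ne_zero hnd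
  by_cases hr : σ = RingEquiv.refl F
  · subst hr
    obtain ⟨c, hc⟩ := fixed_form_unique h.alg_top hsesq hnd (f' := fun u v => f v u)
      ⟨fun x y v => hsesq.add_right v x y, fun c x v => by simpa using hsesq.smul_right c v x,
        fun v x y => hsesq.add_left x y v, fun c v x => by simpa using hsesq.smul_left c x v⟩ hfix
      (fun s hs u v => hfix s hs v u)
    refine ⟨f, hsesq, hnd, hfix, Or.inl ⟨rfl, ?_⟩⟩
    have hc2 : c * c = 1 := by
      have := hc v₀ u₀
      rw [hc u₀ v₀, ← mul_assoc] at this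
      exact (mul_eq_right₀ huv).1 this.symm
    by_cases hc1 : c = 1
    · exact Or.inl fun u v => by rw [hc v u, hc1, one_mul]
    · have hcm : c = -1 := (mul_self_eq_one_iff.1 hc2).resolve_left hc1
      refine Or.inr ⟨⟨hsesq.add_left, hsesq.smul_left, hsesq.add_right, hsesq.smul_right⟩,
        fun v w => by rw [hc w v, hcm, neg_one_mul], fun v => ?_, hnd⟩
      have h2 := hc v v
      rw [hcm, neg_one_mul] at h2
      have : (2 : F) ≠ 0 := fun h2' => hc1 (hcm.trans (by linear_combination -h2'))
      have h3 : (2 : F) * f v v = 0 := by linear_combination h2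
      exact (mul_eq_zero.1 h3).resolve_left this
  · obtain ⟨c, hc⟩ := fixed_form_unique h.alg_top hsesq hnd (f' := fun u v => σ (f v u))
      ⟨fun x y v => by rw [hsesq.add_right, map_add], fun c x v => by rw [hsesq.smul_right, map_mul, hσ],
        fun v x y => by rw [hsesq.add_left, map_add], fun c v x => by rw [hsesq.smul_left, map_mul]⟩ hfix
      (fun s hs u v => congrArg σ (hfix s hs v u))
    obtain ⟨t, ht⟩ : ∃ t : F, t + σ t * c ≠ 0 := by
      by_cases h1 : (1 : F) + σ 1 * c = 0
      · rw [map_one, one_mul] at h1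
        obtain ⟨t, ht⟩ : ∃ t, σ t ≠ t := by
          by_contra hcon
          push Not at hcon
          exact hr (RingEquiv.ext hcon)
        refine ⟨t, ?_⟩
        rw [show c = -1 by linear_combination h1, mul_neg, mul_one, ← sub_eq_add_neg]
        exact sub_ne_zero.2 (Ne.symm ht)
      · exact ⟨1, h1⟩
    obtain ⟨k, hk⟩ : ∃ k, k = t + σ t * c := ⟨_, rfl⟩
    rw [← hk] at ht
    have hherm : ∀ u v, k * f u v = σ (k * f v u) := fun u v => by
      have e : ∀ u v, k * f u v = t * f u v + σ (t * f v u) := fun u v => by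
        rw [map_mul, hc u v, hk]; ring
      rw [e u v, e v u, map_add, hσ, add_comm]
    refine ⟨fun u v => k * f u v,
      ⟨fun x y v => by rw [hsesq.add_left, mul_add], fun c x v => by rw [hsesq.smul_left]; ring,
        fun v x y => by rw [hsesq.add_right, mul_add], fun c v x => by rw [hsesq.smul_right]; ring⟩,
      fun v hv => ⟨(hnd v hv).1.imp fun x hx => mul_ne_zero ht hx, (hnd v hv).2.imp fun x hx => mul_ne_zero ht hx⟩,
      fun s hs u v => by show k * f _ _ = _; rw [hfix s hs], Or.inr ?_⟩
    exact ⟨hr, hσ, fun x y v => by rw [hsesq.add_left, mul_add], fun c x v => by rw [hsesq.smul_left]; ring,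
      hherm,
      fun v hv => ⟨(hnd v hv).1.imp fun x hx => mul_ne_zero ht hx, (hnd v hv).2.imp fun x hx => mul_ne_zero ht hx⟩⟩

end CfsgLib.Aschbacher
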