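import Cfsg.Agent.Lib.Aschbacher.Defs

/-!
Subalgebras of the matrix algebra normalised by an irreducible group: they are semisimple; the central
idempotents give a decomposition, the centre gives an extension field.
-/

set_option autoImplicit false
set_option linter.unusedSectionVars false
set_option linter.style.haveILetI false

namespace CfsgLib.Aschbacher

open scoped MatrixGroups Matrix
open Cfsg.Geo

variable {ι : Type} [Fintype ι] [DecidableEq ι] {F : Type*} [Field F]

theorem coe_mem_alg {L : Subgroup (GL ι F)} {x : GL ι F} (hx : x ∈ L) :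
    (x : Matrix ι ι F) ∈ alg L := Algebra.subset_adjoin ⟨x, hx, rfl⟩

theorem commute_alg {L : Subgroup (GL ι F)} {y : Matrix ι ι F}
    (h : ∀ x ∈ L, Commute (x : Matrix ι ι F) y) {z : Matrix ι ι F} (hz : z ∈ alg L) : Commute z y :=
  by
  induction hz using Algebra.adjoin_induction with
  | mem x hx => obtain ⟨g, hg, rfl⟩ := hx; exact h g hg
  | algebraMap r => exact Algebra.commutes r y
  | add x z _ _ hx hz => exact hx.add_left hz
  | mul x z _ _ hx hz => exact hx.mul_left hz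

theorem inv_alg {G L : Subgroup (GL ι F)} (h : Normalized G L) : Inv G (alg L : Set (Matrix ι ι F)) := by
  intro g hg x hx
  have hsub : alg L ≤ (alg L).comap (cj g).toAlgHom := by
    refine Algebra.adjoin_le ?_
    rintro _ ⟨y, hy, rfl⟩
    show cj g _ ∈ alg L
    rw [cj_coe]
    exact coe_mem_alg (h g hg y hy)
  exact hsub hx

theorem Irr.eq_bot_or_top {G : Subgroup (GL ι F)} (hirr : ActsIrreducibly (matrixSet G))
    (W : Submodule F (ι → F)) (hW : ∀ g ∈ G, ∀ w ∈ W, (g : Matrix ι ι F) *ᵥ w ∈ W) : W = ⊥ ∨ W = ⊤ := by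
  refine hirr W ?_
  rintro _ ⟨g, hg, rfl⟩ _ ⟨w, hw, rfl⟩
  simpa using hW g hg w hw

theorem actsIrreducibly_iff {G : Subgroup (GL ι F)} :
    ActsIrreducibly (matrixSet G) ↔
      ∀ W : Submodule F (ι → F), (∀ g ∈ G, ∀ w ∈ W, (g : Matrix ι ι F) *ᵥ w ∈ W) → W = ⊥ ∨ W = ⊤ := by
  refine ⟨fun h W hW => Irr.eq_bot_or_top h W hW, fun h W hW => h W fun g hg w hw => ?_⟩
  have := hW _ ⟨g, hg, rfl⟩ ⟨w, hw, rfl⟩
  simpa using this

/-- A conjugation-closed set of matrices with a common non-zero null vector vanishes. -/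
theorem eq_zero_of_common_null {G : Subgroup (GL ι F)} (hirr : ActsIrreducibly (matrixSet G))
    {S : Set (Matrix ι ι F)} (hS : Inv G S) {v : ι → F} (hv : v ≠ 0) (h0 : ∀ x ∈ S, x *ᵥ v = 0)
    {x : Matrix ι ι F} (hx : x ∈ S) : x = 0 := by
  let W : Submodule F (ι → F) :=
    { carrier := {w | ∀ x ∈ S, x *ᵥ w = 0}
      add_mem' := fun {a b} ha hb x hx => by rw [Matrix.mulVec_add, ha x hx, hb x hx, add_zero]
      zero_mem' := fun x _ => Matrix.mulVec_zero x
      smul_mem' := fun c a ha x hx => by rw [Matrix.mulVec_smul, ha x hx, smul_zero] }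
  have hW : W = ⊥ ∨ W = ⊤ := Irr.eq_bot_or_top hirr W fun g hg w hw x hx => by
    have h1 := hw _ (hS g⁻¹ (G.inv_mem hg) x hx)
    rw [cj_apply, inv_inv, ← Matrix.mulVec_mulVec, ← Matrix.mulVec_mulVec] at h1
    have := congrArg ((g : Matrix ι ι F) *ᵥ ·) h1
    simpa [Matrix.mulVec_mulVec, ← mul_assoc] using this
  rcases hW with h | h
  · exact absurd ((Submodule.eq_bot_iff _).1 h v h0) hv
  · ext i j
    have : (Pi.single j 1 : ι → F) ∈ W := h ▸ Submodule.mem_top
    have := congrFun (this x hx) i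
    simpa using this

variable [Fintype F]

/-- A subalgebra normalised by an irreducible group is semisimple. -/
theorem isSemisimple_of_inv {G : Subgroup (GL ι F)} (hirr : ActsIrreducibly (matrixSet G))
    {A : Subalgebra F (Matrix ι ι F)} (hA : Inv G (A : Set (Matrix ι ι F))) :
    IsSemisimpleRing A := by
  classical
  haveI : IsArtinianRing A := inferInstance
  rw [IsArtinianRing.isSemisimpleRing_iff_jacobson]
  by_contra hne
  obtain ⟨m, hm⟩ := IsSemiprimaryRing.isNilpotent (R := A)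
  have hex : ∃ k, Ring.jacobson A ^ k = ⊥ := ⟨m, hm⟩
  obtain ⟨k, hk, hmin⟩ : ∃ k, Ring.jacobson A ^ k = ⊥ ∧ ∀ j < k, Ring.jacobson A ^ j ≠ ⊥ :=
    ⟨Nat.find hex, Nat.find_spec hex, fun j hj => Nat.find_min hex hj⟩
  obtain ⟨y, hy, hy0⟩ : ∃ y : A, y ≠ 0 ∧ ∀ x ∈ Ring.jacobson A, x * y = 0 := by
    rcases k with _ | k
    · exfalso
      rw [Submodule.pow_zero, Ideal.one_eq_top] at hk
      exact hne (le_bot_iff.1 (hk ▸ le_top))
    · obtain ⟨y, hy, hy0⟩ := Submodule.exists_mem_ne_zero_of_ne_bot (hmin k (Nat.lt_succ_self k))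
      refine ⟨y, hy0, fun x hx => ?_⟩
      have : x * y ∈ Ring.jacobson A ^ (k + 1) := by
        rw [Ideal.IsTwoSided.pow_succ]
        exact Ideal.mul_mem_mul hx hy
      rwa [hk, Ideal.mem_bot] at this
  obtain ⟨v, hv⟩ : ∃ v, (y : Matrix ι ι F) *ᵥ v ≠ 0 := by
    by_contra hall
    push Not at hall
    refine hy (Subtype.ext (Matrix.ext fun i j => ?_))
    simpa using congrFun (hall (Pi.single j 1)) i
  refine hne ((Submodule.eq_bot_iff _).2 fun x hx => Subtype.ext ?_)
  refine eq_zero_of_common_null hirr (S := Subtype.val '' (Ring.jacobson A : Set A)) ?_ hv ?_ ⟨x, hx, rfl⟩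
  · rintro g hg _ ⟨z, hz, rfl⟩
    let ψ : A →+* A :=
      { toFun := fun a => ⟨cj g (a : Matrix ι ι F), hA g hg a a.2⟩
        map_one' := Subtype.ext (map_one (cj g))
        map_mul' := fun a b => Subtype.ext (map_mul (cj g) (a : Matrix ι ι F) (b : Matrix ι ι F))
        map_zero' := Subtype.ext (map_zero (cj g))
        map_add' := fun a b => Subtype.ext (map_add (cj g) (a : Matrix ι ι F) (b : Matrix ι ι F)) }
    haveI : RingHomSurjective ψ :=
      ⟨fun a => ⟨⟨cj g⁻¹ (a : Matrix ι ι F), hA g⁻¹ (G.inv_mem hg) a a.2⟩, Subtype.ext (cj_cj_inv g (a : Matrix ι ι F))⟩⟩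
    exact ⟨ψ z, Ring.le_comap_jacobson ψ hz, rfl⟩
  · rintro _ ⟨z, hz, rfl⟩
    have := congrArg Subtype.val (hy0 z hz)
    simp only [MulMemClass.coe_mul, ZeroMemClass.coe_zero] at this
    rw [Matrix.mulVec_mulVec, this, Matrix.zero_mulVec]

theorem le_subalgebraNormalizer {G : Subgroup (GL ι F)} {K : Subalgebra F (Matrix ι ι F)}
    (h : Inv G (K : Set (Matrix ι ι F))) : G ≤ subalgebraNormalizer K := by
  intro g hg k
  refine ⟨fun hk => h g hg k hk, fun hk => ?_⟩
  have := h g⁻¹ (G.inv_mem hg) _ hk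
  rwa [← cj_apply, cj_inv_cj] at this

omit [Fintype F] in
/-- The subspace map of a matrix. -/
theorem map_range_toLin' (g : GL ι F) (x : Matrix ι ι F) :
    (LinearMap.range (Matrix.toLin' x)).map (Matrix.toLin' (g : Matrix ι ι F)) =
      LinearMap.range (Matrix.toLin' (cj g x)) := by
  have hsurj : LinearMap.range (Matrix.toLin' ((g⁻¹ : GL ι F) : Matrix ι ι F)) = ⊤ :=
    LinearMap.range_eq_top.2 fun v => ⟨(g : Matrix ι ι F) *ᵥ v, by simp⟩
  rw [cj_apply, Matrix.toLin'_mul, Matrix.toLin'_mul, LinearMap.range_comp_of_range_eq_top _ hsurj,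
    LinearMap.range_comp]

/-- A non-trivial central idempotent of a normalised subalgebra gives a decomposition. -/
theorem exists_idemSystem {G : Subgroup (GL ι F)} (hirr : ActsIrreducibly (matrixSet G))
    {A : Subalgebra F (Matrix ι ι F)} (hA : Inv G (A : Set (Matrix ι ι F)))
    {e₀ : Matrix ι ι F} (he₀ : e₀ ∈ A) (hz₀ : ∀ y ∈ A, e₀ * y = y * e₀) (hi₀ : e₀ * e₀ = e₀)
    (h0 : e₀ ≠ 0) (h1 : e₀ ≠ 1) :
    ∃ (t : ℕ) (E : Fin t → Matrix ι ι F), IsIdemSystem G A E := by
  classical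
  let P : Matrix ι ι F → Prop := fun f => f ∈ A ∧ (∀ y ∈ A, f * y = y * f) ∧ f * f = f ∧ f ≠ 0
  let below : Matrix ι ι F → Finset (Matrix ι ι F) := fun f =>
    Finset.univ.filter fun h => P h ∧ h * f = h
  obtain ⟨e, he, hmin⟩ := Finset.exists_min_image (Finset.univ.filter P) (fun f => (below f).card)
    ⟨e₀, Finset.mem_filter.2 ⟨Finset.mem_univ _, he₀, hz₀, hi₀, h0⟩⟩
  obtain ⟨heA, hez, hei, hene⟩ := (Finset.mem_filter.1 he).2
  have key : ∀ f, P f → f * e = 0 ∨ f * e = e := by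
    intro f hf
    obtain ⟨hfA, hfz, hfi, -⟩ := hf
    by_contra hcon
    push Not at hcon
    have hP : P (f * e) := by
      refine ⟨mul_mem hfA heA, fun y hy => ?_, ?_, hcon.1⟩
      · rw [mul_assoc, hez y hy, ← mul_assoc, hfz y hy, mul_assoc]
      · rw [mul_assoc, ← mul_assoc e f e, hez f hfA, mul_assoc f e e, hei, ← mul_assoc, hfi]
    have hlt : (below (f * e)).card < (below e).card := by
      refine Finset.card_lt_card ⟨fun h hh => ?_, fun hsub => ?_⟩
      · obtain ⟨hPh, hh2⟩ := (Finset.mem_filter.1 hh).2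
        refine Finset.mem_filter.2 ⟨Finset.mem_univ _, hPh, ?_⟩
        calc h * e = h * (f * e) * e := by rw [hh2]
          _ = h := by rw [mul_assoc, mul_assoc f e e, hei, hh2]
      · have := hsub (Finset.mem_filter.2 ⟨Finset.mem_univ e, ⟨heA, hez, hei, hene⟩, hei⟩)
        obtain ⟨-, hh2⟩ := (Finset.mem_filter.1 this).2
        rw [← mul_assoc, hez f hfA, mul_assoc, hei] at hh2
        exact hcon.2 hh2
    exact absurd (hmin _ (Finset.mem_filter.2 ⟨Finset.mem_univ _, hP⟩)) (not_le.2 hlt)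
  have he1 : e ≠ 1 := by
    rintro rfl
    rcases key e₀ ⟨he₀, hz₀, hi₀, h0⟩ with h | h
    · exact h0 (by simpa using h)
    · exact h1 (by simpa using h)
  let O : Finset (Matrix ι ι F) := (Finset.univ.filter (· ∈ G)).image fun g => cj g e
  have hO : ∀ f ∈ O, ∃ g ∈ G, cj g e = f := fun f hf => by
    obtain ⟨g, hg, rfl⟩ := Finset.mem_image.1 hf
    exact ⟨g, (Finset.mem_filter.1 hg).2, rfl⟩
  have heO : e ∈ O := Finset.mem_image.2 ⟨1, Finset.mem_filter.2 ⟨Finset.mem_univ _, G.one_mem⟩, cj_one e⟩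
  have hOcl : ∀ g ∈ G, ∀ f ∈ O, cj g f ∈ O := fun g hg f hf => by
    obtain ⟨a, ha, rfl⟩ := hO f hf
    exact Finset.mem_image.2 ⟨g * a, Finset.mem_filter.2 ⟨Finset.mem_univ _, G.mul_mem hg ha⟩, cj_mul g a e⟩
  have hPO : ∀ f ∈ O, P f := fun f hf => by
    obtain ⟨g, hg, rfl⟩ := hO f hf
    refine ⟨hA g hg e heA, fun y hy => ?_, by rw [← map_mul, hei], by simpa using hene⟩
    have := congrArg (cj g) (hez _ (hA g⁻¹ (G.inv_mem hg) y hy))
    simpa [map_mul, cj_cj_inv] using this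
  have horth : ∀ f ∈ O, ∀ h ∈ O, f ≠ h → f * h = 0 := by
    intro f hf h hh hne
    obtain ⟨g, hg, rfl⟩ := hO h hh
    obtain ⟨a, ha, rfl⟩ := hO f hf
    have hP' : P (cj g⁻¹ (cj a e)) := hPO _ (hOcl _ (G.inv_mem hg) _ hf)
    rcases key _ hP' with h | h
    · have := congrArg (cj g) h
      rwa [map_mul, cj_cj_inv, map_zero] at this
    · exfalso
      have h2 : cj a e * cj g e = cj g e := by
        have := congrArg (cj g) h
        rwa [map_mul, cj_cj_inv] at this
      rcases key _ (hPO _ (hOcl _ (G.inv_mem ha) _ hh)) with h3 | h3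
      · have := congrArg (cj a) h3
        rw [map_mul, cj_cj_inv, map_zero] at this
        rw [(hPO _ hh).2.1 _ (hPO _ hf).1, h2] at this
        exact (hPO _ hh).2.2.2 this
      · have := congrArg (cj a) h3
        rw [map_mul, cj_cj_inv] at this
        rw [(hPO _ hh).2.1 _ (hPO _ hf).1, h2] at this
        exact hne this.symm
  obtain ⟨s, hs⟩ : ∃ s, s = ∑ f ∈ O, f := ⟨_, rfl⟩
  have hsf : ∀ f ∈ O, s * f = f := fun f hf => by
    rw [hs, Finset.sum_mul, Finset.sum_eq_single f (fun h hh hne => horth h hh f hf hne)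
      (fun h => absurd hf h)]
    exact (hPO f hf).2.2.1
  have hsinv : ∀ g ∈ G, cj g s = s := fun g hg => by
    rw [hs, map_sum]
    refine Finset.sum_bij' (fun f _ => cj g f) (fun f _ => cj g⁻¹ f) (fun f hf => hOcl g hg f hf)
      (fun f hf => hOcl g⁻¹ (G.inv_mem hg) f hf) (fun f _ => cj_inv_cj g f) (fun f _ => cj_cj_inv g f)
      (fun f _ => rfl)
  have hs1 : s = 1 := by
    have hss : s * s = s := by
      nth_rewrite 2 [hs]
      rw [Finset.mul_sum, Finset.sum_congr rfl hsf, ← hs]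
    have hsne : s ≠ 0 := fun h => hene (by rw [← hsf e heO, h, zero_mul])
    rcases Irr.eq_bot_or_top hirr (LinearMap.range (Matrix.toLin' s)) (fun g hg w hw => by
        obtain ⟨v, rfl⟩ := hw
        refine ⟨(g : Matrix ι ι F) *ᵥ v, ?_⟩
        simp [((cj_eq_self_iff g s).1 (hsinv g hg)).eq]) with h | h
    · exact absurd (Matrix.toLin'.injective (by rw [LinearMap.range_eq_bot.1 h, map_zero])) hsne
    · refine Matrix.toLin'.injective (LinearMap.ext fun v => ?_)
      obtain ⟨w, rfl⟩ := LinearMap.range_eq_top.1 h v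
      simp [hss]
  let E : Fin O.card ≃ ↥O := O.equivFin.symm
  refine ⟨O.card, fun i => (E i : Matrix ι ι F), ⟨?_, fun i => (hPO _ (E i).2).1,
    fun i => (hPO _ (E i).2).2.1, fun i => (hPO _ (E i).2).2.2.1, fun i => (hPO _ (E i).2).2.2.2,
    fun i j hij => horth _ (E i).2 _ (E j).2 fun h => hij (E.injective (Subtype.ext h)), ?_, ?_, ?_, ?_⟩⟩
  · by_contra hlt
    have : O = {e} := by
      refine Finset.eq_singleton_iff_unique_mem.2 ⟨heO, fun x hx => ?_⟩
      exact Finset.card_le_one.1 (by omega) x hx e heO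
    rw [this, Finset.sum_singleton] at hs
    exact he1 (hs.symm.trans hs1)
  · rw [Equiv.sum_comp E (fun x : ↥O => (x : Matrix ι ι F))]
    exact (Finset.sum_coe_sort O (fun x => x)).trans (hs.symm.trans hs1)
  · intro i f hfA hfz hfi
    obtain ⟨g, hg, hge⟩ := hO _ (E i).2
    simp only [← hge]
    rcases eq_or_ne f 0 with rfl | hf0
    · exact Or.inl (zero_mul _)
    have hP' : P (cj g⁻¹ f) := by
      refine ⟨hA g⁻¹ (G.inv_mem hg) f hfA, fun y hy => ?_, by rw [← map_mul, hfi], by simpa using hf0⟩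
      have := congrArg (cj g⁻¹) (hfz _ (hA g hg y hy))
      simpa [map_mul, cj_inv_cj] using this
    rcases key _ hP' with h | h <;> [left; right] <;>
    · have := congrArg (cj g) h
      simpa [map_mul, cj_cj_inv] using this
  · intro g hg
    let π : ↥O ≃ ↥O :=
      ⟨fun f => ⟨cj g f, hOcl g hg _ f.2⟩, fun f => ⟨cj g⁻¹ f, hOcl _ (G.inv_mem hg) _ f.2⟩,
        fun f => Subtype.ext (cj_inv_cj g _), fun f => Subtype.ext (cj_cj_inv g _)⟩
    exact ⟨(E.trans π).trans E.symm, fun i => by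
      show cj g _ = ((E (E.symm (π (E i))) : ↥O) : Matrix ι ι F)
      rw [Equiv.apply_symm_apply]; rfl⟩
  · intro i j
    obtain ⟨a, ha, hae⟩ := hO _ (E i).2
    obtain ⟨b, hb, hbe⟩ := hO _ (E j).2
    exact ⟨b * a⁻¹, G.mul_mem hb (G.inv_mem ha), by simp only [← hae, ← hbe, cj_mul, cj_inv_cj]⟩

theorem IsIdemSystem.sum_mulVec {G : Subgroup (GL ι F)} {A : Subalgebra F (Matrix ι ι F)} {t : ℕ}
    {E : Fin t → Matrix ι ι F} (hE : IsIdemSystem G A E) (v : ι → F) : ∑ i, E i *ᵥ v = v := by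
  rw [← Matrix.sum_mulVec, hE.sum_one, Matrix.one_mulVec]

theorem IsIdemSystem.le_stabilizer {G : Subgroup (GL ι F)} {A : Subalgebra F (Matrix ι ι F)} {t : ℕ}
    {E : Fin t → Matrix ι ι F} (hE : IsIdemSystem G A E) :
    G ≤ decompositionStabilizer (idemSpace E) := fun g hg => by
  obtain ⟨π, hπ⟩ := hE.perm g hg
  exact ⟨π, fun i => by rw [idemSpace, map_range_toLin', hπ]; rfl⟩

theorem IsIdemSystem.isMDecomposition {G : Subgroup (GL ι F)} {A : Subalgebra F (Matrix ι ι F)} {t : ℕ}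
    {E : Fin t → Matrix ι ι F} (hE : IsIdemSystem G A E) :
    ∃ m, IsMDecomposition m (idemSpace E) := by
  classical
  have hfix : ∀ i, ∀ w ∈ idemSpace E i, E i *ᵥ w = w := by
    rintro i _ ⟨v, rfl⟩
    simp [hE.idem]
  let i₀ : Fin t := ⟨0, by have := hE.two_le; omega⟩
  refine ⟨Module.finrank F (idemSpace E i₀), hE.two_le, ?_, fun i => ?_, fun i => ?_, ?_⟩
  · rw [pos_iff_ne_zero, Ne, Submodule.finrank_eq_zero, idemSpace, LinearMap.range_eq_bot]
    exact fun h => hE.ne_zero i₀ (Matrix.toLin'.injective (by rw [h, map_zero]))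
  · obtain ⟨g, hg, hge⟩ := hE.trans i₀ i
    rw [idemSpace, idemSpace, ← hge, ← map_range_toLin']
    exact LinearEquiv.finrank_eq (Submodule.equivMapOfInjective _
      (fun x y hxy => by
        have := congrArg (((g⁻¹ : GL ι F) : Matrix ι ι F) *ᵥ ·) hxy
        simpa using this) _).symm
  · rw [Submodule.disjoint_def]
    intro w hw hw'
    have : (⨆ j ≠ i, idemSpace E j : Submodule F (ι → F)) ≤ LinearMap.ker (Matrix.toLin' (E i)) := by
      refine iSup₂_le fun j hj => ?_
      rintro _ ⟨v, rfl⟩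
      simp [hE.orth i j (Ne.symm hj)]
    rw [← hfix i w hw]
    simpa using this hw'
  · refine Submodule.eq_top_iff'.2 fun v => ?_
    rw [← hE.sum_mulVec v]
    exact Submodule.sum_mem _ fun i _ => Submodule.mem_iSup_of_mem i ⟨v, by simp⟩

/-- Any primitive central idempotent of the algebra is a member of the system. -/
theorem IsIdemSystem.eq_of_minimal {G : Subgroup (GL ι F)} {A : Subalgebra F (Matrix ι ι F)} {t : ℕ}
    {E : Fin t → Matrix ι ι F} (hE : IsIdemSystem G A E) {f : Matrix ι ι F} (hfA : f ∈ A)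
    (hfz : ∀ y ∈ A, f * y = y * f) (hfi : f * f = f) (hf0 : f ≠ 0)
    (hmin : ∀ h ∈ A, (∀ y ∈ A, h * y = y * h) → h * h = h → h * f = 0 ∨ h * f = f) :
    ∃ i, f = E i := by
  obtain ⟨i, hi⟩ : ∃ i, f * E i ≠ 0 := by
    by_contra h
    push Not at h
    exact hf0 (by rw [← mul_one f, ← hE.sum_one, Finset.mul_sum, Finset.sum_eq_zero fun i _ => h i])
  refine ⟨i, ?_⟩
  have h1 := (hE.minimal i f hfA hfz hfi).resolve_left hi
  have h2 := hfz _ (hE.mem i)
  rcases hmin _ (hE.mem i) (hE.central i) (hE.idem i) with h | h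
  · exact absurd (h2.trans h) hi
  · rw [← h, ← h2, h1]

/-- A normalised field of matrices larger than the scalars gives an extension-field shape. -/
theorem exists_prime_subfield {G : Subgroup (GL ι F)} {K₀ : Subalgebra F (Matrix ι ι F)}
    (hcomm : ∀ x ∈ K₀, ∀ y ∈ K₀, x * y = y * x)
    (hinv : ∀ x ∈ K₀, x ≠ 0 → ∃ y ∈ K₀, x * y = 1) (hG : Inv G (K₀ : Set (Matrix ι ι F)))
    (hdim : 1 < Module.finrank F K₀) {r : ℕ} (hr : r.Prime) (hre : r ∣ Module.finrank F K₀) :
    ∃ K : Subalgebra F (Matrix ι ι F),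
      (K : Set (Matrix ι ι F)) = {x | x ∈ K₀ ∧ x ^ (Fintype.card F ^ r) = x} ∧
      IsFieldSubalgebra r K ∧ G ≤ subalgebraNormalizer K := by
  classical
  have hfield : IsField K₀ :=
    { exists_pair_ne := ⟨0, 1, fun h => (not_subsingleton_iff_nontrivial.2 (Module.nontrivial_of_finrank_pos (R := F) (by omega : 0 < Module.finrank F K₀))) (subsingleton_of_zero_eq_one h)⟩
      mul_comm := fun a b => Subtype.ext (hcomm a a.2 b b.2)
      mul_inv_cancel := fun {a} ha => by
        obtain ⟨y, hy, h⟩ := hinv a a.2 fun h => ha (Subtype.ext h)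
        exact ⟨⟨y, hy⟩, Subtype.ext h⟩ }
  letI : Field K₀ := hfield.toField
  obtain ⟨e, he⟩ : ∃ e, e = Module.finrank F K₀ := ⟨_, rfl⟩
  rw [← he] at hre
  have hK₀card : Fintype.card K₀ = Fintype.card F ^ e := he ▸ Module.card_eq_pow_finrank
  obtain ⟨N, hN⟩ : ∃ N, N = Fintype.card F ^ r := ⟨_, rfl⟩
  have hN2 : 1 < N := hN ▸ Nat.one_lt_pow hr.ne_zero Fintype.one_lt_card
  obtain ⟨p, hp⟩ := CharP.exists F
  haveI : Fact p.Prime := ⟨CharP.char_is_prime F p⟩
  obtain ⟨a, -, ha⟩ := FiniteField.card F p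
  haveI : CharP K₀ p := charP_of_injective_algebraMap (algebraMap F K₀).injective p
  have hNp : N = p ^ ((a : ℕ) * r) := by rw [hN, ha, pow_mul]
  have haddpow : ∀ x y : K₀, (x + y) ^ N = x ^ N + y ^ N := fun x y => by
    rw [hNp]; exact add_pow_char_pow x y p _
  have hscal : ∀ c : F, (algebraMap F K₀ c) ^ N = algebraMap F K₀ c := fun c => by
    rw [← map_pow, hN, FiniteField.pow_card_pow]
  let K : Subalgebra F (Matrix ι ι F) :=
    { carrier := {x | x ∈ K₀ ∧ x ^ N = x}
      one_mem' := ⟨K₀.one_mem, one_pow _⟩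
      mul_mem' := fun {x y} hx hy => ⟨K₀.mul_mem hx.1 hy.1, by
        rw [Commute.mul_pow (hcomm x hx.1 y hy.1), hx.2, hy.2]⟩
      zero_mem' := ⟨K₀.zero_mem, zero_pow (by omega)⟩
      add_mem' := fun {x y} hx hy => ⟨K₀.add_mem hx.1 hy.1, by
        have h1 := congrArg Subtype.val (haddpow ⟨x, hx.1⟩ ⟨y, hy.1⟩)
        simpa [hx.2, hy.2] using h1⟩
      algebraMap_mem' := fun c => ⟨K₀.algebraMap_mem c, by
        simpa using congrArg Subtype.val (hscal c)⟩ }
  have hKcard : Nat.card K = Fintype.card F ^ r := by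
    have e1 : K ≃ {x : K₀ // x ^ N = x} :=
      { toFun := fun x => ⟨⟨x.1, x.2.1⟩, Subtype.ext (by simpa using x.2.2)⟩
        invFun := fun x => ⟨x.1.1, x.1.2, by simpa using congrArg Subtype.val x.2⟩
        left_inv := fun x => rfl
        right_inv := fun x => rfl }
    rw [Nat.card_congr e1, Nat.card_eq_fintype_card, Fintype.card_subtype]
    have hset : (Finset.univ.filter fun x : K₀ => x ^ N = x) =
        insert 0 (((Finset.univ.filter fun u : K₀ˣ => u ^ (N - 1) = 1)).image Units.val) := by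
      ext x
      simp only [Finset.mem_filter, Finset.mem_univ, true_and, Finset.mem_insert, Finset.mem_image]
      constructor
      · intro hx
        rcases eq_or_ne x 0 with h | h
        · exact Or.inl h
        · refine Or.inr ⟨Units.mk0 x h, Units.ext (mul_right_cancel₀ h ?_), rfl⟩
          simp [← pow_succ, Nat.sub_add_cancel hN2.le, hx]
      · rintro (rfl | ⟨u, hu, rfl⟩)
        · exact zero_pow (by omega)
        · rw [← Nat.sub_add_cancel hN2.le, pow_succ, ← Units.val_pow_eq_pow_val, hu, Units.val_one, one_mul]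
    rw [hset, Finset.card_insert_of_notMem (by simp), Finset.card_image_of_injective _ Units.val_injective]
    haveI : IsCyclic K₀ˣ := inferInstance
    have hdvd : N - 1 ∣ Nat.card K₀ˣ := by
      rw [Nat.card_units, Nat.card_eq_fintype_card, hK₀card, hN]
      obtain ⟨s, rfl⟩ := hre
      rw [pow_mul]
      exact Nat.sub_one_dvd_pow_sub_one _ _
    have : (Finset.univ.filter fun u : K₀ˣ => u ^ (N - 1) = 1).card = N - 1 := by
      have h2 := IsCyclic.card_powMonoidHom_ker (G := K₀ˣ) (N - 1)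
      rw [Nat.gcd_eq_right hdvd] at h2
      refine Eq.trans ?_ h2
      rw [Nat.card_eq_fintype_card, ← Fintype.card_subtype]
      exact Fintype.card_congr (Equiv.subtypeEquivRight fun u => by simp [MonoidHom.mem_ker])
    rw [this, hN]
    exact Nat.sub_add_cancel (hN ▸ hN2.le)
  refine ⟨K, by rw [← hN]; rfl, ⟨fun x hx y hy => hcomm x hx.1 y hy.1, fun x hx h0 => ?_, ?_⟩,
    le_subalgebraNormalizer fun g hg x hx => ⟨hG g hg x hx.1, by rw [← map_pow, hx.2]⟩⟩
  · obtain ⟨y, hy, h⟩ := hinv x hx.1 h0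
    refine ⟨y, ⟨hy, ?_⟩, h⟩
    have h1 : x * y ^ N = 1 := by
      nth_rewrite 1 [← hx.2]
      rw [← Commute.mul_pow (hcomm x hx.1 y hy), h, one_pow]
    calc y ^ N = (y * x) * y ^ N := by rw [← hcomm x hx.1 y hy, h, one_mul]
      _ = y := by rw [mul_assoc, h1, mul_one]
  · have := Module.natCard_eq_pow_finrank (K := F) (V := K)
    rw [hKcard, Nat.card_eq_fintype_card] at this
    exact (Nat.pow_right_injective Fintype.one_lt_card this).symm

theorem commute_centreOf {A : Subalgebra F (Matrix ι ι F)} {x y : Matrix ι ι F} (hx : x ∈ centreOf A)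
    (hy : y ∈ A) : x * y = y * x := ((Subalgebra.mem_centralizer_iff F).1 hx.2 y hy).symm

theorem inv_centreOf {G : Subgroup (GL ι F)} {A : Subalgebra F (Matrix ι ι F)}
    (hA : Inv G (A : Set (Matrix ι ι F))) : Inv G (centreOf A : Set (Matrix ι ι F)) := by
  intro g hg x hx
  refine ⟨hA g hg x hx.1, (Subalgebra.mem_centralizer_iff F).2 fun y hy => ?_⟩
  have := congrArg (cj g) ((Subalgebra.mem_centralizer_iff F).1 hx.2 _ (hA g⁻¹ (G.inv_mem hg) y hy))
  simpa [map_mul, cj_cj_inv] using this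

/-- For a normalised subalgebra: idempotent system, or central field, or the centre is scalar. -/
theorem centre_trichotomy [Nonempty ι] {G : Subgroup (GL ι F)} (hirr : ActsIrreducibly (matrixSet G))
    {A : Subalgebra F (Matrix ι ι F)} (hA : Inv G (A : Set (Matrix ι ι F))) :
    (∃ (t : ℕ) (E : Fin t → Matrix ι ι F), IsIdemSystem G A E) ∨
      ((∀ x ∈ centreOf A, x ≠ 0 → ∃ y ∈ centreOf A, x * y = 1) ∧
        1 < Module.finrank F (centreOf A)) ∨
      (∀ x ∈ centreOf A, ∃ c : F, x = c • (1 : Matrix ι ι F)) := by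
  classical
  haveI := isSemisimple_of_inv hirr hA
  by_cases hid : ∃ e ∈ A, (∀ y ∈ A, e * y = y * e) ∧ e * e = e ∧ e ≠ 0 ∧ e ≠ 1
  · obtain ⟨e, he, hz, hi, h0, h1⟩ := hid
    exact Or.inl (exists_idemSystem hirr hA he hz hi h0 h1)
  right
  have hno : ∀ e : A, (∀ y, e * y = y * e) → e * e = e → e = 0 ∨ e = 1 := by
    intro e hz hi
    by_contra hcon
    push Not at hcon
    exact hid ⟨e, e.2, fun y hy => congrArg Subtype.val (hz ⟨y, hy⟩), congrArg Subtype.val hi,
      fun h => hcon.1 (Subtype.ext h), fun h => hcon.2 (Subtype.ext h)⟩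
  by_cases hsc : ∀ x ∈ centreOf A, ∃ c : F, x = c • (1 : Matrix ι ι F)
  · exact Or.inr hsc
  left
  refine ⟨fun x hx h0 => ?_, ?_⟩
  · obtain ⟨y, hy, hxy⟩ := center_inv_of_no_idem F A hno ⟨x, hx.1⟩
      (fun y => Subtype.ext (commute_centreOf hx y.2))
      (fun h => h0 (congrArg Subtype.val h))
    exact ⟨y, ⟨y.2, (Subalgebra.mem_centralizer_iff F).2 fun z hz =>
      (congrArg Subtype.val (hy ⟨z, hz⟩)).symm⟩, congrArg Subtype.val hxy⟩
  · by_contra hle
    refine hsc fun x hx => ?_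
    have hbot : centreOf A = ⊥ := Subalgebra.eq_bot_of_finrank_one (by
      have : 0 < Module.finrank F (centreOf A) := Module.finrank_pos
      omega)
    rw [hbot] at hx
    obtain ⟨c, rfl⟩ := Algebra.mem_bot.1 hx
    exact ⟨c, Algebra.algebraMap_eq_smul_one c⟩

/-- A normalised subalgebra with scalar centre is the image of a full matrix algebra. -/
theorem exists_matrixHom [Nonempty ι] {G : Subgroup (GL ι F)} (hirr : ActsIrreducibly (matrixSet G))
    {A : Subalgebra F (Matrix ι ι F)} (hA : Inv G (A : Set (Matrix ι ι F)))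
    (h : ∀ x ∈ centreOf A, ∃ c : F, x = c • (1 : Matrix ι ι F)) :
    ∃ (d : ℕ) (_ : NeZero d) (φ : Matrix (Fin d) (Fin d) F →ₐ[F] Matrix ι ι F),
      Function.Injective φ ∧ φ.range = A := by
  haveI := isSemisimple_of_inv hirr hA
  obtain ⟨d, hd, ⟨ψ⟩⟩ := exists_matrix_of_center F A fun x hx => by
    obtain ⟨c, hc⟩ := h x ⟨x.2, (Subalgebra.mem_centralizer_iff F).2 fun y hy =>
      (congrArg Subtype.val (hx ⟨y, hy⟩)).symm⟩
    exact ⟨c, Subtype.ext (by rw [hc]; exact (Algebra.algebraMap_eq_smul_one c).symm)⟩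
  refine ⟨d, hd, A.val.comp ψ.symm.toAlgHom, Subtype.val_injective.comp ψ.symm.injective, ?_⟩
  ext x
  exact ⟨fun ⟨y, hy⟩ => hy ▸ (ψ.symm y).2, fun hx => ⟨ψ ⟨x, hx⟩, by simp⟩⟩

end CfsgLib.Aschbacher
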