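import Cfsg.Agent.Lib.Aschbacher.Forms

/-!
The symplectic-type datum: an irreducible group all of whose normalised subgroups are scalar or span
the matrix algebra, with a normal subgroup abelian modulo scalars.
-/

set_option autoImplicit false
set_option linter.unusedSectionVars false
set_option linter.style.haveILetI false

namespace CfsgLib.Aschbacher

open scoped MatrixGroups Matrix
open Cfsg.Geo

variable {ι : Type} [Fintype ι] [DecidableEq ι] {F : Type*} [Field F]

theorem scalars_commute {z : GL ι F} (hz : z ∈ scalars ι F) (x : GL ι F) : z * x = x * z := by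
  obtain ⟨c, hc⟩ := (mem_scalars_iff z).1 hz
  exact Units.ext (by simp [hc])

theorem mul_pow_of_central {Γ : Type*} [Group Γ] {x y c : Γ} (hc : ∀ w, c * w = w * c)
    (h : y * x = c * (x * y)) (k : ℕ) : (x * y) ^ k = c ^ (k.choose 2) * (x ^ k * y ^ k) := by
  have hyk : ∀ j : ℕ, y ^ j * x = c ^ j * (x * y ^ j) := by
    intro j
    induction j with
    | zero => simp
    | succ j ih =>
      have hcj : y * c ^ j = c ^ j * y := (Commute.pow_left (hc y) j).eq.symm
      calc y ^ (j + 1) * x = y * (y ^ j * x) := by rw [pow_succ']; simp [mul_assoc]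
        _ = c ^ j * (y * x) * y ^ j := by rw [ih, ← mul_assoc, hcj]; simp [mul_assoc]
        _ = c ^ (j + 1) * (x * y ^ (j + 1)) := by rw [h, pow_succ c j, pow_succ' y j]; simp [mul_assoc]
  induction k with
  | zero => simp
  | succ k ih =>
    have hxc : ∀ j : ℕ, x ^ k * c ^ j = c ^ j * x ^ k := fun j => (Commute.pow_left (hc (x ^ k)) j).eq.symm
    have e : (k + 1).choose 2 = k.choose 2 + k := by
      rw [Nat.choose_succ_succ, Nat.choose_one_right, add_comm]
    calc (x * y) ^ (k + 1) = c ^ k.choose 2 * (x ^ k * (y ^ k * x) * y) := by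
          rw [pow_succ, ih]; simp [mul_assoc]
      _ = c ^ k.choose 2 * (x ^ k * c ^ k * (x * y ^ k) * y) := by rw [hyk]; simp [mul_assoc]
      _ = _ := by rw [hxc, e, pow_add, pow_succ x k, pow_succ y k]; simp [mul_assoc]

theorem not_commutative_alg_top {L : Subgroup (GL ι F)} (hn : 2 ≤ Fintype.card ι) (hL : alg L = ⊤) :
    ¬ ∀ a ∈ L, ∀ b ∈ L, a * b = b * a := by
  intro h
  haveI : Nontrivial ι := Fintype.one_lt_card_iff_nontrivial.1 (by omega)
  obtain ⟨i, j, hij⟩ := exists_pair_ne ι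
  have hall : ∀ z w : Matrix ι ι F, Commute z w := fun z w => by
    refine commute_alg (L := L) (y := w) (fun x hx => ?_) (hL ▸ Algebra.mem_top)
    exact (commute_alg (L := L) (y := (x : Matrix ι ι F)) (fun y hy => congrArg Units.val (h y hy x hx))
      (z := w) (hL ▸ Algebra.mem_top)).symm
  have := congrFun (congrFun (hall (Matrix.single i j 1) (Matrix.single j i 1)).eq i) i
  simp [hij] at this

theorem scalars_isCyclic [Fintype F] : IsCyclic (scalars ι F) :=
  isCyclic_of_surjective _ (MonoidHom.rangeRestrict_surjective _)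

theorem scalar_injective [Nonempty ι] :
    Function.Injective (Units.map (Matrix.scalar ι : F →+* Matrix ι ι F).toMonoidHom) :=
  Units.map_injective fun a b h => Matrix.scalar_inj.1 h

/-- A normalised subgroup on which every coset modulo the centre is a distinct eigenvector. -/
theorem linearIndependent_reps [Nonempty ι] {R : Subgroup (GL ι F)}
    (hcomm : ∀ x ∈ R, ∀ y ∈ R, x * y * x⁻¹ * y⁻¹ ∈ scalars ι F) :
    LinearIndependent F (fun Q : R ⧸ Subgroup.center R => (((Q.out : R) : GL ι F) : Matrix ι ι F)) := by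
  classical
  have heig : ∀ (w y : R), ∃ c : F, cj (w : GL ι F) ((y : GL ι F) : Matrix ι ι F) = c • ((y : GL ι F) : Matrix ι ι F) := by
    intro w y
    obtain ⟨c, hc⟩ := (mem_scalars_iff _).1 (hcomm w w.2 y y.2)
    refine ⟨c, ?_⟩
    have : (w : GL ι F) * y * (w : GL ι F)⁻¹ = ((w : GL ι F) * y * (w : GL ι F)⁻¹ * (y : GL ι F)⁻¹) * y := by group
    rw [cj_coe, this, Units.val_mul, hc, Matrix.smul_mul, Matrix.one_mul]
  choose χ hχ using heig
  have hsep : ∀ Q Q' : R ⧸ Subgroup.center R, Q ≠ Q' → ∃ w : R, χ w Q.out ≠ χ w Q'.out := by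
    intro Q Q' hne
    by_contra hcon
    push Not at hcon
    refine hne ?_
    rw [← Quotient.out_eq Q, ← Quotient.out_eq Q']
    refine QuotientGroup.eq.2 (Subgroup.mem_center_iff.2 fun w => ?_)
    have hw : ∀ y : R, (((w * y * w⁻¹ : R) : GL ι F) : Matrix ι ι F) = χ w y • ((y : GL ι F) : Matrix ι ι F) := fun y => by
      rw [← hχ w y, cj_coe]; simp
    obtain ⟨a, ha⟩ : ∃ a, a = χ w Q.out := ⟨_, rfl⟩
    have h1 := hw Q.out
    have h2 := hw Q'.out
    rw [← hcon w, ← ha] at h2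
    rw [← ha] at h1
    apply Subtype.ext
    apply Units.ext
    have h3 : ((((w * Q.out * w⁻¹)⁻¹ * (w * Q'.out * w⁻¹) : R) : GL ι F) : Matrix ι ι F) =
        (((Q.out⁻¹ * Q'.out : R) : GL ι F) : Matrix ι ι F) := by
      have h4 : (((w * Q.out * w⁻¹ : R) : GL ι F) : Matrix ι ι F) *
          (((Q.out⁻¹ * Q'.out : R) : GL ι F) : Matrix ι ι F) =
          (((w * Q'.out * w⁻¹ : R) : GL ι F) : Matrix ι ι F) := by
        rw [h1, h2, Matrix.smul_mul, ← Units.val_mul, ← Subgroup.coe_mul, mul_inv_cancel_left]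
      rw [Subgroup.coe_mul, Units.val_mul, ← h4, ← mul_assoc, ← Units.val_mul, ← Subgroup.coe_mul,
        inv_mul_cancel]
      simp
    have h5 : (w * Q.out * w⁻¹)⁻¹ * (w * Q'.out * w⁻¹) = w * (Q.out⁻¹ * Q'.out) * w⁻¹ := by group
    rw [h5] at h3
    have h6 : w * (Q.out⁻¹ * Q'.out) * w⁻¹ = Q.out⁻¹ * Q'.out := Subtype.ext (Units.ext h3)
    exact congrArg (fun z : R => ((z : GL ι F) : Matrix ι ι F)) (mul_inv_eq_iff_eq_mul.1 h6)
  rw [linearIndependent_iff']
  intro s
  induction s using Finset.induction_on with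
  | empty => simp
  | insert Q₀ s hQ ih =>
    intro c hc
    have hs : ∀ Q ∈ s, c Q = 0 := by
      intro Q hQs
      obtain ⟨w, hw⟩ := hsep Q Q₀ (fun h => hQ (h ▸ hQs))
      have h1 := congrArg (cj (w : GL ι F)) hc
      simp only [map_sum, map_smul, map_zero, hχ, smul_smul] at h1
      have h2 : ∑ Q' ∈ s, (c Q' * (χ w Q'.out - χ w Q₀.out)) •
          (((Q'.out : R) : GL ι F) : Matrix ι ι F) = 0 := by
        have h3 := congrArg (χ w Q₀.out • ·) hc
        simp only [Finset.smul_sum, smul_smul, smul_zero] at h3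
        rw [Finset.sum_insert hQ] at h1 h3
        simp only [mul_sub, sub_smul, Finset.sum_sub_distrib]
        rw [mul_comm (χ w Q₀.out) (c Q₀)] at h3
        have e : ∀ Q' : R ⧸ Subgroup.center R, c Q' * χ w Q₀.out = χ w Q₀.out * c Q' := fun Q' => mul_comm _ _
        simp only [e]
        rw [e] at h1 h3
        rw [← sub_eq_zero.2 (h1.trans h3.symm)]
        abel
      exact (mul_eq_zero.1 (ih _ h2 Q hQs)).resolve_right (sub_ne_zero.2 hw)
    intro Q hQm
    rcases Finset.mem_insert.1 hQm with rfl | h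
    · rw [Finset.sum_insert hQ, Finset.sum_eq_zero (fun Q' hQ' => by rw [hs Q' hQ', zero_smul]), add_zero] at hc
      exact (smul_eq_zero.1 hc).resolve_right (Units.ne_zero _)
    · exact hs Q h

theorem span_reps [Nonempty ι] {R : Subgroup (GL ι F)} (halg : alg R = ⊤) :
    ⊤ ≤ Submodule.span F (Set.range fun Q : R ⧸ Subgroup.center R => (((Q.out : R) : GL ι F) : Matrix ι ι F)) := by
  classical
  obtain ⟨U, hU⟩ : ∃ U, U = Submodule.span F
      (Set.range fun Q : R ⧸ Subgroup.center R => (((Q.out : R) : GL ι F) : Matrix ι ι F)) := ⟨_, rfl⟩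
  rw [← hU]
  have hR : ∀ x : R, ((x : GL ι F) : Matrix ι ι F) ∈ U := by
    intro x
    have hzc : x * ((QuotientGroup.mk x : R ⧸ Subgroup.center R).out)⁻¹ ∈ Subgroup.center R := by
      have h := QuotientGroup.eq.1 (Quotient.out_eq (QuotientGroup.mk x : R ⧸ Subgroup.center R))
      rw [Subgroup.mem_center_iff] at h ⊢
      intro w
      have := h w
      calc w * (x * ((QuotientGroup.mk x : R ⧸ Subgroup.center R).out)⁻¹)
          = (QuotientGroup.mk x : R ⧸ Subgroup.center R).out * ((((QuotientGroup.mk x : R ⧸ Subgroup.center R).out)⁻¹ * w *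
              (QuotientGroup.mk x : R ⧸ Subgroup.center R).out) *
              (((QuotientGroup.mk x : R ⧸ Subgroup.center R).out)⁻¹ * x)) *
              ((QuotientGroup.mk x : R ⧸ Subgroup.center R).out)⁻¹ := by group
        _ = _ := by rw [h]; group
    obtain ⟨z, hz, hxz⟩ : ∃ z ∈ Subgroup.center R, x = z * (QuotientGroup.mk x : R ⧸ Subgroup.center R).out :=
      ⟨_, hzc, by group⟩
    obtain ⟨c, hc⟩ := scalar_of_commute halg (y := ((z : GL ι F) : Matrix ι ι F)) fun y hy =>
      congrArg (fun u : R => ((u : GL ι F) : Matrix ι ι F)) (Subgroup.mem_center_iff.1 hz ⟨y, hy⟩)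
    rw [hxz, Subgroup.coe_mul, Units.val_mul, hc, Matrix.smul_mul, Matrix.one_mul, hU]
    exact Submodule.smul_mem _ c (Submodule.subset_span ⟨_, rfl⟩)
  intro z _
  suffices ∀ y ∈ alg R, y ∈ U ∧ ∀ w ∈ U, y * w ∈ U from (this z (halg ▸ Algebra.mem_top)).1
  intro y hy
  induction hy using Algebra.adjoin_induction with
  | mem x hx =>
    obtain ⟨g, hg, rfl⟩ := hx
    refine ⟨hR ⟨g, hg⟩, fun w hw => ?_⟩
    rw [hU] at hw
    induction hw using Submodule.span_induction with
    | mem s hs =>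
      obtain ⟨Q, rfl⟩ := hs
      show (g : Matrix ι ι F) * _ ∈ U
      rw [← Units.val_mul]
      exact hR ⟨g * (Q.out : R), R.mul_mem hg (Q.out : R).2⟩
    | zero => rw [mul_zero]; exact U.zero_mem
    | add s t _ _ hs ht => rw [mul_add]; exact U.add_mem hs ht
    | smul c s _ hs => rw [mul_smul_comm]; exact U.smul_mem c hs
  | algebraMap c =>
    refine ⟨?_, fun w hw => ?_⟩
    · rw [Algebra.algebraMap_eq_smul_one]
      exact U.smul_mem c (by simpa using hR 1)
    · rw [← Algebra.smul_def]; exact U.smul_mem c hw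
  | add x y _ _ hx hy =>
    exact ⟨U.add_mem hx.1 hy.1, fun w hw => by rw [add_mul]; exact U.add_mem (hx.2 w hw) (hy.2 w hw)⟩
  | mul x y _ _ hx hy =>
    exact ⟨hx.2 _ hy.1, fun w hw => by rw [mul_assoc]; exact hx.2 _ (hy.2 w hw)⟩

variable [Fintype F]

/-- A normalised subgroup that is abelian modulo scalars and minimal gives the symplectic-type datum. -/
theorem core_of_abelian_mod {G N : Subgroup (GL ι F)} (hn : 2 ≤ Fintype.card ι)
    (hfull : ∀ L ≤ G, Normalized G L → L ≤ scalars ι F ∨ alg L = ⊤)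
    (hNG : N ≤ G) (hN : Normalized G N) (hZN : scalars ι F ≤ N) (hns : ¬ N ≤ scalars ι F)
    (hmin : ∀ L, scalars ι F ≤ L → L ≤ N → Normalized G L → L = scalars ι F ∨ L = N)
    (hab : ∀ x ∈ N, ∀ y ∈ N, x * y * x⁻¹ * y⁻¹ ∈ scalars ι F) : Core G := by
  classical
  haveI : Nonempty ι := Fintype.card_pos_iff.1 (by omega)
  haveI hcyc := scalars_isCyclic (ι := ι) (F := F)
  -- the prime
  obtain ⟨x₀, hx₀, hx₀s⟩ := SetLike.not_le_iff_exists.1 hns
  have hex : ∃ k, 0 < k ∧ x₀ ^ k ∈ scalars ι F :=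
    ⟨orderOf x₀, orderOf_pos x₀, by rw [pow_orderOf_eq_one]; exact (scalars ι F).one_mem⟩
  obtain ⟨k, ⟨hk0, hk⟩, hkmin⟩ : ∃ k, (0 < k ∧ x₀ ^ k ∈ scalars ι F) ∧
      ∀ j < k, ¬ (0 < j ∧ x₀ ^ j ∈ scalars ι F) :=
    ⟨Nat.find hex, Nat.find_spec hex, fun j hj => Nat.find_min hex hj⟩
  have hk1 : k ≠ 1 := by rintro rfl; exact hx₀s (by simpa using hk)
  obtain ⟨r, hr, s, hs⟩ := Nat.exists_prime_and_dvd hk1
  have hswap : ∀ x ∈ N, ∀ y ∈ N, ∃ c ∈ scalars ι F, y * x = c * (x * y) := fun x hx y hy =>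
    ⟨_, hab y hy x hx, by group⟩
  have hpowN : ∀ x ∈ N, ∀ y ∈ N, ∀ j : ℕ, ∃ c ∈ scalars ι F, (x * y) ^ j = c * (x ^ j * y ^ j) := by
    intro x hx y hy j
    obtain ⟨c, hc, he⟩ := hswap x hx y hy
    exact ⟨_, (scalars ι F).pow_mem hc _, mul_pow_of_central (scalars_commute hc) he j⟩
  let Lr : Subgroup (GL ι F) :=
    { carrier := {y | y ∈ N ∧ y ^ r ∈ scalars ι F}
      one_mem' := ⟨N.one_mem, by rw [one_pow]; exact (scalars ι F).one_mem⟩
      mul_mem' := fun {a b} ha hb => ⟨N.mul_mem ha.1 hb.1, by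
        obtain ⟨c, hc, he⟩ := hpowN a ha.1 b hb.1 r
        rw [he]
        exact (scalars ι F).mul_mem hc ((scalars ι F).mul_mem ha.2 hb.2)⟩
      inv_mem' := fun {a} ha => ⟨N.inv_mem ha.1, by rw [inv_pow]; exact (scalars ι F).inv_mem ha.2⟩ }
  have hLr : Lr = N := by
    refine (hmin Lr (fun z hz => ⟨hZN hz, (scalars ι F).pow_mem hz r⟩) (fun y hy => hy.1) ?_).resolve_left ?_
    · intro g hg y hy
      exact ⟨hN g hg y hy.1, by rw [conj_pow]; exact scalars_normal.conj_mem _ hy.2 g⟩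
    · intro h
      have hs0 : 0 < s := by rcases Nat.eq_zero_or_pos s with rfl | h; · simp at hs; omega
                             exact h
      have hmem : x₀ ^ s ∈ Lr := ⟨N.pow_mem hx₀ s, by rw [← pow_mul, mul_comm, ← hs]; exact hk⟩
      rw [h] at hmem
      exact hkmin s (by rw [hs]; exact (lt_mul_iff_one_lt_left hs0).2 hr.one_lt) ⟨hs0, hmem⟩
  have hpr : ∀ y ∈ N, y ^ r ∈ scalars ι F := fun y hy => (hLr.symm ▸ hy : y ∈ Lr).2
  have hcr : ∀ x ∈ N, ∀ y ∈ N, (x * y * x⁻¹ * y⁻¹) ^ r = 1 := by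
    intro x hx y hy
    obtain ⟨c, hc⟩ : ∃ c, c = x * y * x⁻¹ * y⁻¹ := ⟨_, rfl⟩
    rw [← hc]
    have h1 : (x * y * x⁻¹) ^ r = y ^ r := by
      rw [conj_pow, ← scalars_commute (hpr y hy) x, mul_inv_cancel_right]
    have h2 : x * y * x⁻¹ = c * y := by rw [hc]; group
    rw [h2, (show Commute c y from scalars_commute (hc ▸ hab x hx y hy) y).mul_pow] at h1
    exact mul_eq_right.1 h1
  have hNnc : ¬ ∀ x ∈ N, ∀ y ∈ N, x * y = y * x :=
    not_commutative_alg_top hn ((hfull N hNG hN).resolve_left hns)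
  obtain ⟨u, hu, v, hv, huv⟩ : ∃ u ∈ N, ∃ v ∈ N, u * v * u⁻¹ * v⁻¹ ≠ 1 := by
    by_contra hcon
    push Not at hcon
    exact hNnc fun x hx y hy => by
      have := hcon x hx y hy
      rw [mul_inv_eq_one, mul_inv_eq_iff_eq_mul] at this
      exact this
  obtain ⟨c₀, hc₀⟩ := hab u hu v hv
  have hc₀r : c₀ ^ r = 1 := scalar_injective (ι := ι) (by
    rw [map_pow, hc₀, map_one]; exact hcr u hu v hv)
  have hc₀1 : c₀ ≠ 1 := fun h => huv (by rw [← hc₀, h, map_one])
  have hord : orderOf c₀ = r := by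
    haveI : Fact r.Prime := ⟨hr⟩
    exact orderOf_eq_prime hc₀r hc₀1
  have hrF : (r : F) ≠ 0 := by
    intro h0
    haveI : Fact r.Prime := ⟨hr⟩
    haveI : CharP F r := (CharP.charP_iff_prime_eq_zero hr).2 h0
    have h1 : ((c₀ : F) - 1) ^ r = 0 := by
      rw [sub_pow_char, one_pow, ← Units.val_pow_eq_pow_val, hc₀r, Units.val_one, sub_self]
    exact hc₀1 (Units.ext (sub_eq_zero.1 (eq_zero_of_pow_eq_zero h1)))
  have hrq : r ∣ Nat.card F - 1 := by
    rw [← Nat.card_units, ← hord]; exact _root_.orderOf_dvd_natCard c₀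
  -- the exponent
  obtain ⟨z, hz⟩ : ∃ z, z = r * Nat.gcd 2 r := ⟨_, rfl⟩
  have hrz : r ∣ z := hz ▸ dvd_mul_right r _
  have hzch : r ∣ z.choose 2 := by
    rcases hr.eq_two_or_odd' with rfl | hodd
    · rw [hz]; decide
    · have h2 : Nat.gcd 2 r = 1 := Nat.coprime_two_left.2 hodd
      rw [hz, h2, mul_one]
      exact hr.dvd_choose_self two_ne_zero (by
        rcases hodd with ⟨j, rfl⟩; have := hr.two_le; omega)
  have hzr : ∃ j, z = r ^ j := by
    rcases hr.eq_two_or_odd' with rfl | hodd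
    · exact ⟨2, hz.trans rfl⟩
    · exact ⟨1, by rw [hz, Nat.coprime_two_left.2 hodd, mul_one, pow_one]⟩
  have hmulz : ∀ x ∈ N, ∀ y ∈ N, (x * y) ^ z = x ^ z * y ^ z := by
    intro x hx y hy
    obtain ⟨c, hc, he⟩ : ∃ c ∈ scalars ι F, y * x = c * (x * y) ∧ c ^ r = 1 :=
      ⟨_, hab y hy x hx, by group, hcr y hy x hx⟩
    rw [mul_pow_of_central (scalars_commute hc) he.1, orderOf_dvd_iff_pow_eq_one.1
      ((orderOf_dvd_of_pow_eq_one he.2).trans hzch), one_mul]
  let R : Subgroup (GL ι F) :=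
    { carrier := {y | y ∈ N ∧ y ^ z = 1}
      one_mem' := ⟨N.one_mem, one_pow _⟩
      mul_mem' := fun {a b} ha hb => ⟨N.mul_mem ha.1 hb.1, by rw [hmulz a ha.1 b hb.1, ha.2, hb.2, one_mul]⟩
      inv_mem' := fun {a} ha => ⟨N.inv_mem ha.1, by rw [inv_pow, ha.2, inv_one]⟩ }
  have hRN : R ≤ N := fun y hy => hy.1
  have hRn : Normalized G R := fun g hg y hy =>
    ⟨hN g hg y hy.1, by rw [conj_pow, hy.2, mul_one, mul_inv_cancel]⟩
  have hRns : ¬ R ≤ scalars ι F := by
    intro hle
    have hzs : ∀ x ∈ N, x ^ z ∈ scalars ι F := fun x hx => by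
      obtain ⟨j, hj⟩ := hrz
      rw [hj, pow_mul]
      exact (scalars ι F).pow_mem (hpr x hx) j
    let f : N →* scalars ι F :=
      { toFun := fun x => ⟨(x : GL ι F) ^ z, hzs x x.2⟩
        map_one' := Subtype.ext (one_pow z)
        map_mul' := fun x y => Subtype.ext (hmulz x x.2 y y.2) }
    have hker : f.ker ≤ Subgroup.center N := fun x hx => by
      have hxR : (x : GL ι F) ∈ scalars ι F := hle ⟨x.2, congrArg Subtype.val hx⟩
      exact Subgroup.mem_center_iff.2 fun w => Subtype.ext (scalars_commute hxR w).symm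
    exact hNnc fun x hx y hy =>
      congrArg Subtype.val (commutative_of_cyclic_center_quotient f hker ⟨x, hx⟩ ⟨y, hy⟩)
  have hRalg : alg R = ⊤ := (hfull R (hRN.trans hNG) hRn).resolve_left hRns
  have hRcomm : ∀ x ∈ R, ∀ y ∈ R, x * y * x⁻¹ * y⁻¹ ∈ scalars ι F := fun x hx y hy =>
    hab x (hRN hx) y (hRN hy)
  -- centre
  have hcenter : ∀ x : R, x ∈ Subgroup.center R ↔ (x : GL ι F) ∈ scalars ι F := fun x =>
    ⟨fun hx => mem_scalars_of_commute hRalg fun y hy =>
        congrArg Subtype.val (Subgroup.mem_center_iff.1 hx ⟨y, hy⟩),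
      fun hx => Subgroup.mem_center_iff.2 fun w => Subtype.ext (scalars_commute hx w).symm⟩
  have hcardc : Nat.card (Subgroup.center R) = Nat.gcd z (Nat.card F - 1) := by
    have e : (powMonoidHom z : Fˣ →* Fˣ).ker ≃ Subgroup.center R := by
      refine Equiv.ofBijective (fun c => ⟨⟨Units.map (Matrix.scalar ι : F →+* Matrix ι ι F).toMonoidHom c.1,
        hZN ⟨c.1, rfl⟩, by rw [← map_pow]; exact (congrArg _ c.2).trans (map_one _)⟩,
        (hcenter _).2 ⟨c.1, rfl⟩⟩) ⟨fun a b h => Subtype.ext (scalar_injective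
          (congrArg (fun w : Subgroup.center R => ((w : R) : GL ι F)) h)), fun w => ?_⟩
      obtain ⟨c, hc⟩ := (hcenter w).1 w.2
      refine ⟨⟨c, scalar_injective (ι := ι) ?_⟩, Subtype.ext (Subtype.ext hc)⟩
      rw [powMonoidHom_apply, map_pow, hc, map_one]
      exact (w : R).2.2
    rw [← Nat.card_congr e, IsCyclic.card_powMonoidHom_ker, Nat.card_units, Nat.gcd_comm]
  -- the index
  haveI : Fintype (R ⧸ Subgroup.center R) := Fintype.ofFinite _
  let B : Module.Basis (R ⧸ Subgroup.center R) F (Matrix ι ι F) :=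
    Module.Basis.mk (linearIndependent_reps hRcomm) (span_reps hRalg)
  have hindex : Fintype.card (R ⧸ Subgroup.center R) = Fintype.card ι * Fintype.card ι := by
    rw [← Module.finrank_eq_card_basis B, Module.finrank_matrix, Module.finrank_self, mul_one]
  haveI : Fact r.Prime := ⟨hr⟩
  have hpg : IsPGroup r R := by
    intro x
    obtain ⟨j, hj⟩ := hzr
    exact ⟨j, Subtype.ext (by rw [← hj]; exact x.2.2)⟩
  obtain ⟨k', hk'⟩ := IsPGroup.iff_card.1 (hpg.to_quotient (Subgroup.center R))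
  rw [Nat.card_eq_fintype_card, hindex] at hk'
  obtain ⟨m, -, hm⟩ := (Nat.dvd_prime_pow hr).1 (hk' ▸ dvd_mul_right (Fintype.card ι) (Fintype.card ι) :
    Fintype.card ι ∣ r ^ k')
  have hk'm : k' = 2 * m := by
    refine Nat.pow_right_injective hr.two_le ?_
    show r ^ k' = r ^ (2 * m)
    rw [← hk', hm, two_mul, pow_add]
  have hz1 : 1 < z := lt_of_lt_of_le hr.one_lt (Nat.le_of_dvd (by rw [hz]; exact Nat.mul_pos hr.pos (Nat.gcd_pos_of_pos_left _ two_pos)) hrz)
  refine Core.sympType r m R (hRN.trans hNG) hRn ⟨⟨hr, hpg, ?_, ?_⟩, hrF, ?_, hm, hRcomm,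
    fun x hx => hz ▸ hx.2, fun x hx hx1 => ⟨hZN hx, hz ▸ hx1⟩, hRalg, hz ▸ hcardc, ?_, ?_⟩
  · intro A hA hAc
    obtain ⟨A', hA'⟩ : ∃ A', A' = A.map R.subtype := ⟨_, rfl⟩
    have hA'R : A' ≤ R := by rw [hA']; exact Subgroup.map_subtype_le A
    have hA'n : Normalized G A' := by
      intro g hg y hy
      rw [hA'] at hy ⊢
      obtain ⟨w, hw, rfl⟩ := hy
      let ψ : R ≃* R :=
        { toFun := fun u => ⟨g * u * g⁻¹, hRn g hg u u.2⟩
          invFun := fun u => ⟨g⁻¹ * u * g⁻¹⁻¹, hRn g⁻¹ (G.inv_mem hg) u u.2⟩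
          left_inv := fun u => Subtype.ext (by simp [mul_assoc])
          right_inv := fun u => Subtype.ext (by simp [mul_assoc])
          map_mul' := fun a b => Subtype.ext (by simp [mul_assoc]) }
      refine ⟨ψ w, ?_, rfl⟩
      have := Subgroup.characteristic_iff_comap_eq.1 hA ψ
      show w ∈ A.comap ψ.toMonoidHom
      rw [this]; exact hw
    have hA's : A' ≤ scalars ι F := (hfull A' (hA'R.trans (hRN.trans hNG)) hA'n).resolve_right fun h =>
      not_commutative_alg_top hn h fun a ha b hb => by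
        rw [hA'] at ha hb
        obtain ⟨a', ha', rfl⟩ := ha
        obtain ⟨b', hb', rfl⟩ := hb
        exact congrArg (fun w : A => ((w : R) : GL ι F)) (hAc.is_comm.comm ⟨a', ha'⟩ ⟨b', hb'⟩)
    let f : A →* scalars ι F :=
      { toFun := fun a => ⟨((a : R) : GL ι F), hA's (hA' ▸ ⟨a, a.2, rfl⟩)⟩
        map_one' := rfl
        map_mul' := fun a b => rfl }
    exact isCyclic_of_injective f fun a b h => Subtype.ext (Subtype.ext (congrArg Subtype.val h :))
  · rw [← hz]
    refine Nat.dvd_antisymm (Monoid.exponent_dvd_of_forall_pow_eq_one fun x => Subtype.ext x.2.2) ?_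
    rcases hr.eq_two_or_odd' with rfl | hodd
    · obtain ⟨j, hj⟩ : ∃ j, z = 4 := ⟨0, by rw [hz]; rfl⟩
      have hd : Monoid.exponent R ∣ 2 ^ 2 := by
        refine (Monoid.exponent_dvd_of_forall_pow_eq_one fun x => Subtype.ext ?_)
        have := x.2.2; rw [hj] at this; exact this
      obtain ⟨i, hi, he⟩ := (Nat.dvd_prime_pow Nat.prime_two).1 hd
      rw [hj, he]
      rcases Nat.lt_or_ge i 2 with hi2 | hi2
      · exfalso
        refine not_commutative_alg_top hn hRalg fun a ha b hb => ?_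
        have h2 : ∀ w : R, w ^ 2 = 1 := fun w => by
          have := Monoid.pow_exponent_eq_one w
          rw [he] at this
          interval_cases i
          · simp at this; simp [this]
          · simpa using this
        have hinv : ∀ w : R, w⁻¹ = w := fun w => inv_eq_of_mul_eq_one_right (by rw [← sq]; exact h2 w)
        have hcomm2 : ∀ v w : R, v * w = w * v := fun v w => by
          rw [← hinv (v * w), mul_inv_rev, hinv, hinv]
        exact congrArg Subtype.val (hcomm2 ⟨a, ha⟩ ⟨b, hb⟩)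
      · obtain rfl : i = 2 := by omega
        norm_num
    · have hzr' : z = r := by rw [hz, Nat.coprime_two_left.2 hodd, mul_one]
      rw [hzr']
      rcases (Nat.dvd_prime hr).1 (hzr' ▸ Monoid.exponent_dvd_of_forall_pow_eq_one fun x : R =>
        Subtype.ext x.2.2 : Monoid.exponent R ∣ r) with h | h
      · exfalso
        refine hRns fun y hy => ?_
        have := Monoid.pow_exponent_eq_one (⟨y, hy⟩ : R)
        rw [h, pow_one] at this
        rw [show y = 1 from congrArg Subtype.val this]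
        exact (scalars ι F).one_mem
      · rw [h]
  · rcases Nat.eq_zero_or_pos m with rfl | h
    · rw [pow_zero] at hm; omega
    · exact h
  · rw [hcardc, hz]
    rcases hr.eq_two_or_odd' with rfl | hodd
    · right
      refine ⟨rfl, ?_⟩
      have h1 : Nat.gcd (2 * Nat.gcd 2 2) (Nat.card F - 1) ∣ 2 ^ 2 := Nat.gcd_dvd_left _ _
      have h2 : 2 ∣ Nat.gcd (2 * Nat.gcd 2 2) (Nat.card F - 1) := Nat.dvd_gcd (dvd_mul_right 2 _) hrq
      obtain ⟨i, hi, he⟩ := (Nat.dvd_prime_pow Nat.prime_two).1 h1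
      interval_cases i
      · rw [he] at h2; omega
      · exact Or.inl he
      · exact Or.inr he
    · left
      rw [Nat.coprime_two_left.2 hodd, mul_one]
      exact ⟨hodd, Nat.gcd_eq_left hrq⟩
  · rw [Subgroup.card_eq_card_quotient_mul_card_subgroup (Subgroup.center R), Nat.card_eq_fintype_card,
      hindex, mul_comm, hk', hk'm]

end CfsgLib.Aschbacher
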