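import Cfsg.Agent.Lib.Aschbacher.Centre

/-!
Tensor decompositions from matrix subalgebras, and the trichotomy for a normalised subgroup of an
irreducible group.
-/

set_option autoImplicit false
set_option linter.unusedSectionVars false
set_option linter.style.haveILetI false

namespace CfsgLib.Aschbacher

open scoped MatrixGroups Matrix Kronecker
open Cfsg.Geo

variable {ι : Type} [Fintype ι] [DecidableEq ι] {F : Type*} [Field F]

theorem kron_one_apply {κ : Type} [DecidableEq κ] {m : ℕ} (x : Matrix κ κ F) (p q : κ × Fin m) :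
    (x ⊗ₖ (1 : Matrix (Fin m) (Fin m) F)) p q = if p.2 = q.2 then x p.1 q.1 else 0 := by
  simp [Matrix.kroneckerMap_apply, Matrix.one_apply]

/-- A matrix subalgebra gives a tensor decomposition. -/
theorem exists_leftFactor {κ : Type} [Fintype κ] [DecidableEq κ] [Nonempty κ]
    (φ : Matrix κ κ F →ₐ[F] Matrix ι ι F) :
    ∃ (m : ℕ) (e : ι ≃ κ × Fin m) (P : GL ι F),
      ∀ x, φ x = cj P (Matrix.reindex e.symm e.symm (x ⊗ₖ (1 : Matrix (Fin m) (Fin m) F))) := by
  classical
  obtain ⟨a₀⟩ := (inferInstance : Nonempty κ)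
  obtain ⟨W, hW⟩ : ∃ W, W = LinearMap.range (Matrix.toLin' (φ (Matrix.single a₀ a₀ 1))) := ⟨_, rfl⟩
  obtain ⟨m, hm⟩ : ∃ m, m = Module.finrank F W := ⟨_, rfl⟩
  let b : Module.Basis (Fin m) F W := Module.finBasisOfFinrankEq F W hm.symm
  let v : κ × Fin m → (ι → F) := fun q => φ (Matrix.single q.1 a₀ 1) *ᵥ (b q.2 : ι → F)
  have hWfix : ∀ w ∈ W, φ (Matrix.single a₀ a₀ 1) *ᵥ w = w := by
    intro w hw
    rw [hW] at hw
    obtain ⟨u, rfl⟩ := hw
    simp [Matrix.mulVec_mulVec, ← map_mul]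
  have hact : ∀ (x : Matrix κ κ F) (q : κ × Fin m), φ x *ᵥ v q = ∑ a, x a q.1 • v (a, q.2) := by
    intro x q
    simp only [v, Matrix.mulVec_mulVec, ← map_mul]
    have : x * Matrix.single q.1 a₀ 1 = ∑ a, x a q.1 • Matrix.single a a₀ (1 : F) := by
      ext i j
      simp only [Matrix.sum_apply, Matrix.smul_apply, Matrix.single_apply, smul_eq_mul, mul_ite,
        mul_one, mul_zero, Matrix.mul_apply]
      by_cases hj : a₀ = j
      · subst hj; simp
      · simp [hj]
    rw [this, map_sum, Matrix.sum_mulVec]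
    exact Finset.sum_congr rfl fun a _ => by rw [map_smul, Matrix.smul_mulVec]
  have hindep : LinearIndependent F v := by
    rw [Fintype.linearIndependent_iff]
    intro c hc q
    have h := congrArg (φ (Matrix.single a₀ q.1 1) *ᵥ ·) hc
    simp only [Matrix.mulVec_sum, Matrix.mulVec_smul, Matrix.mulVec_zero] at h
    have hval : ∀ p : κ × Fin m, φ (Matrix.single a₀ q.1 1) *ᵥ v p =
        if q.1 = p.1 then (b p.2 : ι → F) else 0 := by
      intro p
      simp only [v, Matrix.mulVec_mulVec, ← map_mul]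
      split
      · next heq => rw [heq, Matrix.single_mul_single_same, mul_one, hWfix _ (b p.2).2]
      · next hne => rw [Matrix.single_mul_single_of_ne _ _ _ _ hne, map_zero, Matrix.zero_mulVec]
    simp only [hval, Fintype.sum_prod_type, smul_ite, smul_zero] at h
    rw [Finset.sum_comm] at h
    simp only [Finset.sum_ite_eq, Finset.mem_univ, if_true] at h
    have h2 : ∑ j, c (q.1, j) • b j = 0 := Subtype.ext (by simpa using h)
    exact Fintype.linearIndependent_iff.1 b.linearIndependent _ h2 q.2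
  have hspan : ⊤ ≤ Submodule.span F (Set.range v) := by
    intro u _
    have hu : u = ∑ a, φ (Matrix.single a a₀ 1) *ᵥ (φ (Matrix.single a₀ a 1) *ᵥ u) := by
      simp only [Matrix.mulVec_mulVec, ← map_mul, Matrix.single_mul_single_same, mul_one]
      rw [← Matrix.sum_mulVec, ← map_sum, Matrix.sum_single_one, map_one, Matrix.one_mulVec]
    rw [hu]
    refine Submodule.sum_mem _ fun a _ => ?_
    obtain ⟨w, hw⟩ : ∃ w, w = φ (Matrix.single a₀ a 1) *ᵥ u := ⟨_, rfl⟩
    have hwW : w ∈ W := by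
      rw [hW, hw]
      exact ⟨φ (Matrix.single a₀ a 1) *ᵥ u, by simp [Matrix.mulVec_mulVec, ← map_mul]⟩
    rw [← hw, show w = ((⟨w, hwW⟩ : W) : ι → F) from rfl, ← b.sum_repr ⟨w, hwW⟩,
      Submodule.coe_sum, Matrix.mulVec_sum]
    refine Submodule.sum_mem _ fun j _ => ?_
    rw [Submodule.coe_smul, Matrix.mulVec_smul]
    exact Submodule.smul_mem _ _ (Submodule.subset_span ⟨(a, j), rfl⟩)
  let B : Module.Basis (κ × Fin m) F (ι → F) := Module.Basis.mk hindep hspan
  let e : ι ≃ κ × Fin m := (Pi.basisFun F ι).indexEquiv B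
  let P₀ : Matrix ι ι F := Matrix.of fun i j => v (e j) i
  have hP : IsUnit P₀ := Matrix.linearIndependent_cols_iff_isUnit.1 (hindep.comp e e.injective)
  refine ⟨m, e, hP.unit, fun x => ?_⟩
  have key : φ x * P₀ = P₀ * Matrix.reindex e.symm e.symm (x ⊗ₖ (1 : Matrix (Fin m) (Fin m) F)) := by
    ext i j
    have h := congrFun (hact x (e j)) i
    simp only [Matrix.mulVec, dotProduct, Finset.sum_apply, Pi.smul_apply, smul_eq_mul] at h
    rw [Matrix.mul_apply, Matrix.mul_apply]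
    refine h.trans ?_
    rw [← Equiv.sum_comp e.symm, Fintype.sum_prod_type]
    refine Finset.sum_congr rfl fun a _ => ?_
    rw [Finset.sum_eq_single (e j).2]
    · simp [P₀, kron_one_apply, mul_comm]
    · intro l _ hl; simp [kron_one_apply, hl]
    · simp
  have h2 := congrArg (· * ((hP.unit⁻¹ : GL ι F) : Matrix ι ι F)) key
  simp only [cj_apply, IsUnit.unit_spec]
  rw [← h2, mul_assoc, hP.mul_val_inv, mul_one]

/-- A matrix commuting with all `x ⊗ 1` is `1 ⊗ b`. -/
theorem exists_eq_one_kron {d m : ℕ} [NeZero d] (y : Matrix (Fin d × Fin m) (Fin d × Fin m) F)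
    (hy : ∀ x : Matrix (Fin d) (Fin d) F, y * (x ⊗ₖ (1 : Matrix (Fin m) (Fin m) F)) = (x ⊗ₖ 1) * y) :
    ∃ b : Matrix (Fin m) (Fin m) F, y = (1 : Matrix (Fin d) (Fin d) F) ⊗ₖ b := by
  refine ⟨Matrix.of fun j j' => y (0, j) (0, j'), ?_⟩
  ext ⟨a, j⟩ ⟨a', j'⟩
  have h := congrFun (congrFun (hy (Matrix.single 0 a 1)) (0, j)) (a', j')
  simp only [Matrix.mul_apply, kron_one_apply, Fintype.sum_prod_type, Matrix.single_apply,
    mul_ite, ite_mul, mul_one, one_mul, mul_zero, zero_mul] at h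
  simp only [Matrix.kroneckerMap_apply, Matrix.one_apply, Matrix.of_apply]
  by_cases ha : a = a' <;> simp [ha] at h ⊢ <;> exact h.symm

theorem leftFactor_eq {d m : ℕ} (e : ι ≃ Fin d × Fin m) (P : GL ι F) (x : Matrix (Fin d) (Fin d) F) :
    leftFactor e P x = cj P (Matrix.reindexAlgEquiv F F e.symm (x ⊗ₖ (1 : Matrix (Fin m) (Fin m) F))) := rfl

/-- A group normalising the left factor of a tensor decomposition stabilises the decomposition. -/
theorem le_tensorProductSubgroup {G : Subgroup (GL ι F)} {d m : ℕ} [NeZero d]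
    (φ : Matrix (Fin d) (Fin d) F →ₐ[F] Matrix ι ι F) (hinj : Function.Injective φ)
    (e : ι ≃ Fin d × Fin m) (P : GL ι F) (hφ : ∀ x, φ x = leftFactor e P x)
    (hG : Inv G (φ.range : Set (Matrix ι ι F))) : G ≤ tensorProductSubgroup d m e P := by
  classical
  intro g hg
  let γ : Matrix (Fin d) (Fin d) F →ₐ[F] Matrix (Fin d) (Fin d) F :=
    ((AlgEquiv.ofInjective φ hinj).symm : φ.range →ₐ[F] Matrix (Fin d) (Fin d) F).comp
      (((cj g).toAlgHom.comp φ).codRestrict φ.range (fun x => hG g hg _ ⟨x, rfl⟩))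
  have hγ : ∀ x, φ (γ x) = cj g (φ x) := fun x => by
    have := (AlgEquiv.ofInjective φ hinj).apply_symm_apply
      ⟨cj g (φ x), hG g hg _ ⟨x, rfl⟩⟩
    exact congrArg Subtype.val this
  obtain ⟨a, ha⟩ := exists_inner_hom γ
  obtain ⟨E, hE⟩ : ∃ E, E = Matrix.reindexAlgEquiv F F e := ⟨_, rfl⟩
  obtain ⟨y, hy⟩ : ∃ y, y = E ((P⁻¹ * g * P : GL ι F) : Matrix ι ι F) := ⟨_, rfl⟩
  have hEs : ∀ z, E (Matrix.reindexAlgEquiv F F e.symm z) = z := fun z => by
    rw [hE]; ext i j; simp
  have hyx : ∀ x, y * (x ⊗ₖ (1 : Matrix (Fin m) (Fin m) F)) = (cj a x ⊗ₖ 1) * y := fun x => by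
    have h := hγ x
    rw [ha, hφ, hφ, leftFactor_eq, leftFactor_eq, cj_apply P, cj_apply g, cj_apply P] at h
    have h2 := congrArg (fun z => E (((P⁻¹ : GL ι F) : Matrix ι ι F) * z * ((g : Matrix ι ι F) * (P : Matrix ι ι F)))) h
    simp only [map_mul, mul_assoc, Units.inv_mul_cancel_left, Units.inv_mul, Units.mul_inv_cancel_left,
      mul_one] at h2
    rw [hy]
    simp only [Units.val_mul, map_mul, mul_assoc]
    simp only [hEs] at h2
    rw [h2]
  obtain ⟨b, hb⟩ := exists_eq_one_kron ((((a⁻¹ : GL (Fin d) F) : Matrix (Fin d) (Fin d) F) ⊗ₖ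
      (1 : Matrix (Fin m) (Fin m) F)) * y) (fun x => by
    rw [mul_assoc, hyx, ← mul_assoc, ← mul_assoc, ← Matrix.mul_kronecker_mul, ← Matrix.mul_kronecker_mul,
      cj_apply]
    simp [← mul_assoc])
  have hyab : y = (a : Matrix (Fin d) (Fin d) F) ⊗ₖ b := by
    have := congrArg (((a : Matrix (Fin d) (Fin d) F) ⊗ₖ (1 : Matrix (Fin m) (Fin m) F)) * ·) hb
    simpa [← mul_assoc, ← Matrix.mul_kronecker_mul] using this
  have hyu : IsUnit y := hy ▸ (Units.isUnit _).map E
  have hbu : IsUnit b := by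
    rw [Matrix.isUnit_iff_isUnit_det] at hyu ⊢
    rw [hyab, Matrix.det_kronecker, IsUnit.mul_iff] at hyu
    exact (isUnit_pow_iff (by simp [NeZero.ne d])).1 hyu.2
  let k : GL (Fin d × Fin m) F := Units.map E.toMonoidHom (P⁻¹ * g * P)
  refine ⟨glReindex e.symm k, ⟨k, ⟨a, hbu.unit, ?_⟩, rfl⟩, ?_⟩
  · exact hy.symm.trans hyab
  · apply Units.ext
    show (P : Matrix ι ι F) * Matrix.reindexAlgEquiv F F e.symm (E ((P⁻¹ * g * P : GL ι F) : Matrix ι ι F))
        * ((P⁻¹ : GL ι F) : Matrix ι ι F) = _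
    have : Matrix.reindexAlgEquiv F F e.symm (E ((P⁻¹ * g * P : GL ι F) : Matrix ι ι F)) =
        ((P⁻¹ * g * P : GL ι F) : Matrix ι ι F) := by rw [hE]; ext i j; simp
    rw [this]
    simp [mul_assoc]

theorem surjective_of_leftFactor_one {d : ℕ} (φ : Matrix (Fin d) (Fin d) F →ₐ[F] Matrix ι ι F)
    (e : ι ≃ Fin d × Fin 1) (P : GL ι F) (hφ : ∀ x, φ x = leftFactor e P x) : Function.Surjective φ := by
  intro y
  refine ⟨(Matrix.reindex (Equiv.prodUnique (Fin d) (Fin 1)) (Equiv.prodUnique (Fin d) (Fin 1)))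
    (Matrix.reindex e e (cj P⁻¹ y)), ?_⟩
  rw [hφ, leftFactor]
  conv_rhs => rw [← cj_cj_inv P y]
  congr 1
  ext i j
  simp only [Matrix.reindex_apply, Matrix.submatrix_apply, Equiv.symm_symm, kron_one_apply,
    Subsingleton.elim (e i).2 (e j).2, if_true]
  have hh : ∀ k : ι, e.symm ((Equiv.prodUnique (Fin d) (Fin 1)).symm (e k).1) = k := fun k =>
    (Equiv.symm_apply_eq e).2 (Prod.ext rfl (Subsingleton.elim _ _))
  rw [hh, hh]

variable [Fintype F]

/-- The trichotomy for a normalised subgroup: one of the first three data, or it is scalar, or it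
spans the full matrix algebra. -/
theorem core_or_full_alg [Nonempty ι] {G L : Subgroup (GL ι F)} (hirr : ActsIrreducibly (matrixSet G))
    (hLG : L ≤ G) (hL : Normalized G L) :
    Core G ∨ L ≤ scalars ι F ∨ alg L = ⊤ := by
  classical
  rcases centre_trichotomy hirr (inv_alg hL) with ⟨t, E, hE⟩ | ⟨hinv, hdim⟩ | hsc
  · exact Or.inl (Core.decomp L hLG hL t E hE)
  · exact Or.inl (Core.field L hLG hL hinv hdim)
  obtain ⟨d, hd, φ, hinj, hrange⟩ := exists_matrixHom hirr (inv_alg hL) hsc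
  obtain ⟨m, e, P, hφ⟩ := exists_leftFactor φ
  rcases Nat.lt_trichotomy d 1 with h | h | h
  · exact absurd h (by have := NeZero.ne d; omega)
  · subst h
    refine Or.inr (Or.inl fun x hx => ?_)
    obtain ⟨z, hz⟩ : (x : Matrix ι ι F) ∈ φ.range := hrange ▸ coe_mem_alg hx
    have hz2 : z = algebraMap F _ (z 0 0) := by
      ext i j; fin_cases i; fin_cases j; simp [Matrix.algebraMap_matrix_apply]
    have hxs : (x : Matrix ι ι F) = z 0 0 • (1 : Matrix ι ι F) := by
      rw [← hz]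
      show φ z = _
      conv_lhs => rw [hz2]
      rw [AlgHom.commutes, Algebra.algebraMap_eq_smul_one]
    rw [mem_scalars_iff]
    refine ⟨Units.mk0 (z 0 0) fun h0 => x.ne_zero (by rw [hxs, h0, zero_smul]), hxs⟩
  rcases Nat.lt_or_ge m 2 with hm | hm
  · refine Or.inr (Or.inr ?_)
    have hm1 : m = 1 := by
      have hm0 : m ≠ 0 := by rintro rfl; exact IsEmpty.false (α := Fin d × Fin 0) (e (Classical.arbitrary ι))
      omega
    subst hm1
    have hsurj := surjective_of_leftFactor_one φ e P hφ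
    rw [← hrange, (AlgHom.range_eq_top φ).2 hsurj]
  · refine Or.inl (Core.tensor L hLG hL d m e P h hm ?_ (le_tensorProductSubgroup φ hinj e P hφ ?_))
    · rw [← hrange]
      ext y
      exact ⟨fun ⟨x, hx⟩ => ⟨x, (hφ x).symm.trans hx⟩, fun ⟨x, hx⟩ => ⟨x, (hφ x).trans hx⟩⟩
    · rw [hrange]; exact inv_alg hL

end CfsgLib.Aschbacher
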