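import Cfsg.Agent.Lib.Aschbacher.Wreath
import Cfsg.Agent.Lib.KnownA.AltRank

/-!
Tensor powers of two-dimensional spaces carry a symmetric or symplectic form preserved up to a scalar.
-/

set_option autoImplicit false
set_option linter.unusedSectionVars false
set_option linter.style.haveILetI false

namespace CfsgLib.Aschbacher

open scoped MatrixGroups Matrix Kronecker
open Cfsg.Geo

variable {ι : Type} [Fintype ι] [DecidableEq ι] {F : Type*} [Field F]

/-- The dimension of a space with a symplectic form is even. -/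
theorem even_card_of_symplectic {f : (ι → F) → (ι → F) → F} (hf : IsSymplecticForm f) :
    Even (Fintype.card ι) := by
  let B : (ι → F) →ₗ[F] (ι → F) →ₗ[F] F :=
    LinearMap.mk₂ F f hf.bilinear.add_left hf.bilinear.smul_left hf.bilinear.add_right hf.bilinear.smul_right
  have h := CfsgLib.KnownA.even_finrank_range_of_alt B hf.alternating
  have hinj : LinearMap.ker B = ⊥ := by
    refine (Submodule.eq_bot_iff _).2 fun v hv => ?_
    by_contra hne
    obtain ⟨x, hx⟩ := (hf.nondegenerate v hne).2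
    exact hx (LinearMap.congr_fun (LinearMap.mem_ker.1 hv) x)
  have h2 := LinearMap.finrank_range_add_finrank_ker B
  rw [hinj, finrank_bot, add_zero, Module.finrank_fintype_fun_eq_card] at h2
  rwa [h2] at h

theorem pureMat_transpose {κ : Type} [Fintype κ] {t : ℕ} (a : Fin t → Matrix κ κ F) :
    (pureMat a)ᵀ = pureMat fun i => (a i)ᵀ := rfl

theorem pureMat_smul_all {κ : Type} [Fintype κ] {t : ℕ} (c : Fin t → F) (a : Fin t → Matrix κ κ F) :
    pureMat (fun i => c i • a i) = (∏ i, c i) • pureMat a := by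
  ext p q
  simp [pureMat, Finset.prod_mul_distrib]

theorem permMat_transpose {κ : Type} [Fintype κ] [DecidableEq κ] {t : ℕ} (σ : Equiv.Perm (Fin t)) :
    (permMat σ : Matrix (Fin t → κ) (Fin t → κ) F)ᵀ = permMat σ.symm := by
  ext p q
  simp only [permMat, Matrix.transpose_apply, Matrix.of_apply]
  have : (p = q ∘ σ) ↔ (q = p ∘ σ.symm) :=
    ⟨fun h => by funext j; simp [h], fun h => by funext j; simp [h]⟩
  simp [this]

/-- The standard alternating matrix in dimension two. -/
def twoJ (F : Type*) [Field F] : Matrix (Fin 2) (Fin 2) F := !![0, 1; -1, 0]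

theorem transpose_mul_twoJ_mul (a : Matrix (Fin 2) (Fin 2) F) : aᵀ * twoJ F * a = a.det • twoJ F := by
  ext i j
  fin_cases i <;> fin_cases j <;>
    simp [twoJ, Matrix.mul_apply, Fin.sum_univ_two, Matrix.det_fin_two] <;> ring

/-- A tensor power of two-dimensional spaces carries a symplectic form or a quadratic form in odd
characteristic, preserved up to scalars. -/
theorem forms_of_wreath_two {t : ℕ} (ht : 0 < t) (e : ι ≃ (Fin t → Fin 2)) (P : GL ι F) :
    (∃ f : (ι → F) → (ι → F) → F, IsSymplecticForm f ∧ tensorWreathSubgroup 2 t e P ≤ similarityGroup f) ∨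
      ((2 : F) ≠ 0 ∧ ∃ Q : (ι → F) → F, IsNondegenerateQuadraticForm Q ∧
        tensorWreathSubgroup 2 t e P ≤ quadSimilarityGroup Q) := by
  classical
  obtain ⟨X₀, hX₀⟩ : ∃ X₀ : Matrix (Fin t → Fin 2) (Fin t → Fin 2) F, X₀ = pureMat fun _ => twoJ F := ⟨_, rfl⟩
  obtain ⟨X, hX⟩ : ∃ X : Matrix ι ι F, X = ((P⁻¹ : GL ι F) : Matrix ι ι F)ᵀ *
      Matrix.reindexAlgEquiv F F e.symm X₀ * ((P⁻¹ : GL ι F) : Matrix ι ι F) := ⟨_, rfl⟩
  have hJT : (twoJ F)ᵀ = (-1 : F) • twoJ F := by
    ext i j; fin_cases i <;> fin_cases j <;> simp [twoJ]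
  have hX₀T : X₀ᵀ = ((-1 : F) ^ t) • X₀ := by
    rw [hX₀, pureMat_transpose]
    have : (fun i : Fin t => (twoJ F)ᵀ) = fun i => (fun _ : Fin t => (-1 : F)) i • twoJ F := funext fun _ => hJT
    rw [this, pureMat_smul_all]; simp
  have hre : ∀ M : Matrix (Fin t → Fin 2) (Fin t → Fin 2) F,
      (Matrix.reindexAlgEquiv F F e.symm M)ᵀ = Matrix.reindexAlgEquiv F F e.symm Mᵀ := fun M => rfl
  have hXT : Xᵀ = ((-1 : F) ^ t) • X := by
    rw [hX, Matrix.transpose_mul, Matrix.transpose_mul, Matrix.transpose_transpose, hre, hX₀T, map_smul]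
    simp only [Matrix.mul_smul, Matrix.smul_mul, mul_assoc]
  have hX₀u : IsUnit X₀ := by
    rw [hX₀]
    refine ⟨⟨pureMat fun _ => twoJ F, pureMat fun _ => -twoJ F, ?_, ?_⟩, rfl⟩ <;>
    · rw [pureMat_mul]
      convert pureMat_one (F := F) (κ := Fin 2) (t := t) using 2
      funext i
      ext a b; fin_cases a <;> fin_cases b <;> simp [twoJ, Matrix.mul_apply, Fin.sum_univ_two]
  have hXu : IsUnit X := by
    rw [hX]
    refine IsUnit.mul (IsUnit.mul ?_ (hX₀u.map _)) (Units.isUnit _)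
    exact (Matrix.isUnit_iff_isUnit_det _).2 (by
      rw [Matrix.det_transpose]; exact (Matrix.isUnit_iff_isUnit_det _).1 (Units.isUnit _))
  -- the group of similarities of `X₀`
  let S : Subgroup (GL (Fin t → Fin 2) F) :=
    { carrier := {g | ∃ c : Fˣ, (g : Matrix (Fin t → Fin 2) (Fin t → Fin 2) F)ᵀ * X₀ * (g : Matrix (Fin t → Fin 2) (Fin t → Fin 2) F) = (c : F) • X₀}
      one_mem' := ⟨1, by simp⟩
      mul_mem' := fun {a b} ha hb => by
        obtain ⟨c, hc⟩ := ha
        obtain ⟨d, hd⟩ := hb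
        refine ⟨c * d, ?_⟩
        have e : ∀ A B C : Matrix (Fin t → Fin 2) (Fin t → Fin 2) F,
            (A * B)ᵀ * C * (A * B) = Bᵀ * (Aᵀ * C * A) * B := fun A B C => by
          simp only [Matrix.transpose_mul, mul_assoc]
        rw [Units.val_mul, e, hc, Matrix.mul_smul, Matrix.smul_mul, hd, smul_smul, Units.val_mul]
      inv_mem' := fun {a} ha => by
        obtain ⟨c, hc⟩ := ha
        refine ⟨c⁻¹, ?_⟩
        have h := congrArg (fun z => ((a⁻¹ : GL (Fin t → Fin 2) F) : Matrix (Fin t → Fin 2) (Fin t → Fin 2) F)ᵀ * z *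
          ((a⁻¹ : GL (Fin t → Fin 2) F) : Matrix (Fin t → Fin 2) (Fin t → Fin 2) F)) hc
        simp only [← mul_assoc, ← Matrix.transpose_mul, Units.mul_inv, Matrix.transpose_one, one_mul] at h
        rw [mul_assoc, Units.mul_inv, mul_one, Matrix.mul_smul, Matrix.smul_mul] at h
        rw [Units.val_inv_eq_inv_val, eq_inv_smul_iff₀ c.ne_zero]
        exact h.symm }
  have hstd : tensorWreathStandard 2 t F ≤ S := by
    refine (Subgroup.closure_le S).2 ?_
    rintro g (⟨gs, hgs⟩ | ⟨σ, hσ⟩)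
    · have hg : (g : Matrix (Fin t → Fin 2) (Fin t → Fin 2) F) = pureMat fun i => (gs i : Matrix (Fin 2) (Fin 2) F) :=
        Matrix.ext hgs
      refine ⟨∏ i, Matrix.GeneralLinearGroup.det (gs i), ?_⟩
      rw [hg, hX₀, pureMat_transpose, pureMat_mul, pureMat_mul]
      simp only [transpose_mul_twoJ_mul]
      rw [pureMat_smul_all]
      simp [Units.coe_prod, Matrix.GeneralLinearGroup.val_det_apply]
    · have hg : (g : Matrix (Fin t → Fin 2) (Fin t → Fin 2) F) = permMat σ := Matrix.ext hσ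
      refine ⟨1, ?_⟩
      rw [hg, hX₀, permMat_transpose, mul_assoc,
        show pureMat (fun _ : Fin t => twoJ F) * permMat σ = permMat σ * pureMat (fun _ => twoJ F) from
          pureMat_mul_permMat σ fun _ => twoJ F, ← mul_assoc,
        show permMat σ.symm * permMat σ = (1 : Matrix (Fin t → Fin 2) (Fin t → Fin 2) F) by
          simpa using permMat_mul_inv (F := F) (κ := Fin 2) σ.symm]
      simp
  obtain ⟨f, hf⟩ : ∃ f : (ι → F) → (ι → F) → F, ∀ u v, f u v = u ⬝ᵥ (X *ᵥ v) := ⟨_, fun u v => rfl⟩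
  have hsim : ∀ g ∈ tensorWreathSubgroup 2 t e P, ∃ c : Fˣ,
      (g : Matrix ι ι F)ᵀ * X * (g : Matrix ι ι F) = (c : F) • X := by
    rintro _ ⟨_, ⟨k, hk, rfl⟩, rfl⟩
    obtain ⟨c, hc⟩ := hstd hk
    refine ⟨c, ?_⟩
    show ((P : Matrix ι ι F) * Matrix.reindexAlgEquiv F F e.symm (k : Matrix (Fin t → Fin 2) (Fin t → Fin 2) F) *
      ((P⁻¹ : GL ι F) : Matrix ι ι F))ᵀ * X * ((P : Matrix ι ι F) *
      Matrix.reindexAlgEquiv F F e.symm (k : Matrix (Fin t → Fin 2) (Fin t → Fin 2) F) *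
      ((P⁻¹ : GL ι F) : Matrix ι ι F)) = _
    rw [hX]
    simp only [Matrix.transpose_mul, hre, mul_assoc]
    rw [← mul_assoc ((P : Matrix ι ι F)ᵀ) (((P⁻¹ : GL ι F) : Matrix ι ι F)ᵀ), ← Matrix.transpose_mul,
      Units.inv_mul, Matrix.transpose_one, one_mul, Units.inv_mul_cancel_left]
    simp only [← mul_assoc]
    rw [mul_assoc (((P⁻¹ : GL ι F) : Matrix ι ι F)ᵀ), mul_assoc (((P⁻¹ : GL ι F) : Matrix ι ι F)ᵀ),
      ← map_mul, ← map_mul, hc, map_smul, Matrix.mul_smul, Matrix.smul_mul]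
  have hsimf : tensorWreathSubgroup 2 t e P ≤ similarityGroup f := fun g hg => by
    obtain ⟨c, hc⟩ := hsim g hg
    refine ⟨c, fun u v => ?_⟩
    rw [hf, hf, Matrix.mulVec_mulVec, ← Matrix.vecMul_transpose, ← Matrix.dotProduct_mulVec,
      Matrix.mulVec_mulVec, ← mul_assoc, hc, Matrix.smul_mulVec, dotProduct_smul, smul_eq_mul]
  have hbil : IsBilinearForm f :=
    ⟨fun x y v => by rw [hf, hf, hf, add_dotProduct], fun c x v => by rw [hf, hf, smul_dotProduct, smul_eq_mul],
      fun v x y => by rw [hf, hf, hf, Matrix.mulVec_add, dotProduct_add],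
      fun c v x => by rw [hf, hf, Matrix.mulVec_smul, dotProduct_smul, smul_eq_mul]⟩
  have hswap : ∀ u v, f u v = (-1 : F) ^ t * f v u := fun u v => by
    rw [hf, hf, Matrix.dotProduct_mulVec, ← Matrix.mulVec_transpose, hXT, Matrix.smul_mulVec,
      smul_dotProduct, smul_eq_mul, dotProduct_comm]
  have hnd : IsNondegenerateForm f := by
    intro v hv
    have h2 : ∃ x, f x v ≠ 0 := by
      by_contra hcon
      push Not at hcon
      have h1 : X *ᵥ v = 0 := dotProduct_eq_zero _ fun u => by rw [dotProduct_comm, ← hf]; exact hcon u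
      exact hv (Matrix.mulVec_injective_of_isUnit hXu (by rw [h1, Matrix.mulVec_zero]))
    exact ⟨h2, h2.imp fun x hx => by
      rw [hswap]; exact mul_ne_zero (pow_ne_zero _ (neg_ne_zero.2 one_ne_zero)) hx⟩
  by_cases halt : (-1 : F) ^ t = -1
  · left
    refine ⟨f, ⟨hbil, fun v w => by rw [hswap, halt, neg_one_mul], fun v => ?_, hnd⟩, hsimf⟩
    have hdiag₀ : ∀ p, X₀ p p = 0 := fun p => by
      rw [hX₀]
      simp only [pureMat, Matrix.of_apply]
      refine Finset.prod_eq_zero (Finset.mem_univ ⟨0, ht⟩) ?_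
      generalize p ⟨0, ht⟩ = a
      fin_cases a <;> simp [twoJ]
    have hskew₀ : ∀ p q, X₀ q p = - X₀ p q := fun p q => by
      have h := congrFun (congrFun hX₀T p) q
      rwa [halt, Matrix.transpose_apply, Matrix.smul_apply, smul_eq_mul, neg_one_mul] at h
    have hw : ∀ w : (Fin t → Fin 2) → F, ∑ x : (Fin t → Fin 2) × (Fin t → Fin 2), w x.1 * X₀ x.1 x.2 * w x.2 = 0 := by
      intro w
      refine Finset.sum_involution (fun x _ => (x.2, x.1)) (fun x _ => ?_) (fun x _ hx => ?_)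
        (fun x _ => Finset.mem_univ _) (fun x _ => rfl)
      · rw [hskew₀]; ring
      · intro h
        have h12 : x.2 = x.1 := congrArg Prod.fst h
        exact hx (by rw [h12, hdiag₀]; ring)
    obtain ⟨w, hwv⟩ : ∃ w : (Fin t → Fin 2) → F, w = fun p => (((P⁻¹ : GL ι F) : Matrix ι ι F) *ᵥ v) (e.symm p) :=
      ⟨_, rfl⟩
    rw [hf, hX, ← Matrix.mulVec_mulVec, ← Matrix.mulVec_mulVec, Matrix.dotProduct_mulVec,
      Matrix.vecMul_transpose, dotProduct, ← Equiv.sum_comp e.symm]
    refine Eq.trans ?_ (hw w)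
    rw [Fintype.sum_prod_type]
    refine Finset.sum_congr rfl fun p _ => ?_
    simp only [Matrix.mulVec, dotProduct, Matrix.coe_reindexAlgEquiv, Matrix.reindex_apply,
      Matrix.submatrix_apply, Equiv.symm_symm, Equiv.apply_symm_apply]
    rw [Finset.mul_sum, ← Equiv.sum_comp e.symm]
    refine Finset.sum_congr rfl fun q _ => ?_
    rw [hwv]
    simp [Matrix.mulVec, dotProduct]
    ring
  · right
    have h1 : (-1 : F) ^ t = 1 := ((neg_one_pow_eq_or F t).resolve_right halt)
    have h2 : (2 : F) ≠ 0 := fun h => halt (by rw [h1]; linear_combination h)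
    have hsym : ∀ u v, f u v = f v u := fun u v => by rw [hswap, h1, one_mul]
    have hpol : ∀ u v, QuadraticMap.polar (fun v => (2 : F)⁻¹ * f v v) u v = f u v := fun u v => by
      simp only [QuadraticMap.polar, hbil.add_left, hbil.add_right, hsym v u]
      field_simp
      ring
    have hpol' : QuadraticMap.polar (fun v => (2 : F)⁻¹ * f v v) = f := funext₂ hpol
    refine ⟨h2, fun v => (2 : F)⁻¹ * f v v, ⟨fun c v => by
      show _ * f (c • v) (c • v) = c ^ 2 * (_ * f v v)
      rw [hbil.smul_left, hbil.smul_right]; ring, hpol'.symm ▸ hbil, hpol'.symm ▸ hnd⟩, fun g hg => ?_⟩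
    obtain ⟨c, hc⟩ := hsimf hg
    exact ⟨c, fun v => by show _ * f _ _ = _ * (_ * f v v); rw [hc]; ring⟩

end CfsgLib.Aschbacher
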