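import Cfsg.Agent.Lib.Aschbacher.Main
import Cfsg.Agent.Lib.Aschbacher.SympForms
import Cfsg.Agent.Lib.Aschbacher.TwoFold

/-!
Aschbacher's theorem in the linear case, from the core theorem.
-/

set_option autoImplicit false
set_option linter.unusedSectionVars false
set_option linter.style.haveILetI false

namespace CfsgLib.Aschbacher

open scoped MatrixGroups Matrix Kronecker
open Cfsg.Geo

variable {ι : Type} [Fintype ι] [DecidableEq ι] {F : Type*} [Field F] [Fintype F]

/-- The geometric shapes of the linear case. -/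
inductive LinShape (H : Subgroup (GL ι F)) : Prop
  | red (W : Submodule F (ι → F)) (h₁ : W ≠ ⊥) (h₂ : W ≠ ⊤) (hle : H ≤ subspaceStabilizer W)
  | decomp (t m : ℕ) (D : Fin t → Submodule F (ι → F)) (hD : IsMDecomposition m D)
      (hle : H ≤ decompositionStabilizer D)
  | field (r : ℕ) (K : Subalgebra F (Matrix ι ι F)) (hr : r.Prime) (hK : IsFieldSubalgebra r K)
      (hdvd : r ∣ Fintype.card ι) (hle : H ≤ subalgebraNormalizer K)
  | tensor (n₁ n₂ : ℕ) (e : ι ≃ Fin n₁ × Fin n₂) (P : GL ι F) (h₁ : 2 ≤ n₁) (h₂ : n₁ < n₂)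
      (hle : H ≤ tensorProductSubgroup n₁ n₂ e P)
  | subfield (F₀ : Subfield F) (r : ℕ) (P : GL ι F) (hr : r.Prime)
      (hcard : Fintype.card F = Nat.card F₀ ^ r) (hle : H ≤ subfieldSubgroup F₀ P)
  | sympType (r m : ℕ) (R : Subgroup (GL ι F)) (hR : IsLinearSymplecticTypeData r R)
      (hm : Fintype.card ι = r ^ m) (hle : H ≤ subgroupNormalizer R)
  | wreath (m t : ℕ) (e : ι ≃ (Fin t → Fin m)) (P : GL ι F) (h₁ : 3 ≤ m) (h₂ : 2 ≤ t)
      (hle : H ≤ tensorWreathSubgroup m t e P)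
  | symp (f : (ι → F) → (ι → F) → F) (hf : IsSymplecticForm f) (heven : Even (Fintype.card ι))
      (hle : H ≤ similarityGroup f)
  | unitary (σ : F ≃+* F) (f : (ι → F) → (ι → F) → F) (hf : IsUnitaryForm σ f)
      (hle : H ≤ similarityGroup f)
  | quad (Q : (ι → F) → F) (hQ : IsNondegenerateQuadraticForm Q) (hodd : Odd (Fintype.card F))
      (hle : H ≤ quadSimilarityGroup Q)

/-- A field subalgebra of degree `r` makes `r` divide the dimension. -/
theorem dvd_card_of_isFieldSubalgebra [Nonempty ι] {r : ℕ} {K : Subalgebra F (Matrix ι ι F)}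
    (hK : IsFieldSubalgebra r K) : r ∣ Fintype.card ι := by
  have hfield : IsField K :=
    { exists_pair_ne := ⟨0, 1, fun h => zero_ne_one (congrArg Subtype.val h)⟩
      mul_comm := fun a b => Subtype.ext (hK.comm a a.2 b b.2)
      mul_inv_cancel := fun {a} ha => by
        obtain ⟨y, hy, h⟩ := hK.inv a a.2 fun h => ha (Subtype.ext h)
        exact ⟨⟨y, hy⟩, Subtype.ext h⟩ }
  letI : Field K := hfield.toField
  let φ : K →+* Module.End F (ι → F) :=
    ((Matrix.toLinAlgEquiv' : Matrix ι ι F ≃ₐ[F] Module.End F (ι → F)).toAlgHom.comp K.val).toRingHom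
  letI : Module K (ι → F) := Module.compHom _ φ
  have hcK : Nat.card K = Nat.card F ^ r := by
    rw [Module.natCard_eq_pow_finrank (K := F) (V := K), hK.finrank_eq]
  haveI : Module.Finite K (ι → F) := Module.Finite.of_finite
  have hcV : Nat.card (ι → F) = Nat.card K ^ Module.finrank K (ι → F) :=
    Module.natCard_eq_pow_finrank
  rw [hcK, Nat.card_fun, ← pow_mul, Nat.card_eq_fintype_card (α := ι)] at hcV
  exact Dvd.intro _ (Nat.pow_right_injective (Finite.one_lt_card (α := F)) hcV).symm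

theorem odd_card_of_two_ne_zero (h : (2 : F) ≠ 0) : Odd (Fintype.card F) :=
  Nat.odd_iff.2 (FiniteField.odd_card_of_char_ne_two fun hc => h (by
    haveI : CharP F 2 := ringChar.eq_iff.1 hc
    exact CharTwo.two_eq_zero))

/-- Conclusion from a fixed form. -/
theorem shape_of_form {G P : Subgroup (GL ι F)} [Nonempty ι] (hN : Normalized G P) (hP : alg P = ⊤)
    {σ : F ≃+* F} {f : (ι → F) → (ι → F) → F} (hf : IsSesqForm σ f) (hnd : IsNondegenerateForm f)
    (hfix : FixesForm (matrixSet P) f)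
    (hkind : (σ = RingEquiv.refl F ∧ (((∀ u v, f u v = f v u) ∧ (2 : F) ≠ 0) ∨ IsSymplecticForm f)) ∨
      IsUnitaryForm σ f) : LinShape G := by
  have hsim := le_similarityGroup_of_fixes hN hP hf hnd hfix
  rcases hkind with ⟨rfl, ⟨hsym, h2⟩ | hsymp⟩ | hu
  · have hbil : IsBilinearForm f :=
      ⟨hf.add_left, hf.smul_left, hf.add_right, hf.smul_right⟩
    have hpol : QuadraticMap.polar (fun v => (2 : F)⁻¹ * f v v) = f := funext₂ fun u v => by
      simp only [QuadraticMap.polar, hbil.add_left, hbil.add_right, hsym v u]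
      field_simp
      ring
    refine LinShape.quad (fun v => (2 : F)⁻¹ * f v v) ⟨fun c v => by
      show _ * f (c • v) (c • v) = c ^ 2 * (_ * f v v)
      rw [hbil.smul_left, hbil.smul_right]; ring, hpol.symm ▸ hbil, hpol.symm ▸ hnd⟩
      (odd_card_of_two_ne_zero h2) fun g hg => ?_
    obtain ⟨c, hc⟩ := hsim hg
    exact ⟨c, fun v => by show _ * f _ _ = _ * (_ * f v v); rw [hc]; ring⟩
  · exact LinShape.symp f hsymp (even_card_of_symplectic hsymp) hsim
  · exact LinShape.unitary σ f hu hsim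

/-- A symmetric nondegenerate form in characteristic two is symplectic or has a vector of non-zero value. -/
theorem IsSympData.two_ne_zero_of_two {r m : ℕ} {R : Subgroup (GL ι F)} (h : IsSympData r m R) (hr : r = 2) :
    (2 : F) ≠ 0 := by
  have := h.cast_ne_zero
  rw [hr] at this
  simpa using this

omit [Fintype F] in
theorem polar_alternating_of_two_eq_zero {Q : (ι → F) → F} (hQ : IsNondegenerateQuadraticForm Q)
    (h2 : (2 : F) = 0) : IsSymplecticForm (QuadraticMap.polar Q) := by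
  have h1 : ∀ x : F, -x = x := fun x => by linear_combination (-x) * h2
  refine ⟨hQ.polar_bilinear, fun v w => by rw [h1]; simp [QuadraticMap.polar, add_comm v w]; ring,
    fun v => ?_, hQ.nondegenerate⟩
  have h4 : Q (v + v) = 2 ^ 2 * Q v := by rw [← two_smul F v, hQ.smul]
  simp only [QuadraticMap.polar, h4]
  linear_combination Q v * h2

/-- The symplectic-type datum in the linear case. -/
theorem shape_of_sympData {G : Subgroup (GL ι F)} (hn : 3 ≤ Fintype.card ι) {r m : ℕ}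
    {R : Subgroup (GL ι F)} (hR : Normalized G R) (hd : IsSympData r m R) : LinShape G := by
  classical
  haveI : Nonempty ι := Fintype.card_pos_iff.1 (by omega)
  obtain ⟨c, hc⟩ : ∃ c, c = Nat.card (Subgroup.center R) := ⟨_, rfl⟩
  have hcq : c ∣ Fintype.card F - 1 := by
    rw [hc, hd.card_center, ← Nat.card_eq_fintype_card]; exact Nat.gcd_dvd_right _ _
  obtain ⟨p, hp⟩ := CharP.exists F
  obtain ⟨e, hpp, he⟩ := FiniteField.card F p
  have hp' : Fact p.Prime := ⟨hpp⟩
  have hexd : ∃ d, 0 < d ∧ c ∣ p ^ d - 1 := ⟨e, e.pos, by rw [← he]; exact hcq⟩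
  obtain ⟨d, ⟨hd0, hcd⟩, hdmin⟩ : ∃ d, (0 < d ∧ c ∣ p ^ d - 1) ∧ ∀ j < d, ¬ (0 < j ∧ c ∣ p ^ j - 1) :=
    ⟨Nat.find hexd, Nat.find_spec hexd, fun j hj => Nat.find_min hexd hj⟩
  have hde : d ∣ (e : ℕ) := by
    have hg : c ∣ p ^ Nat.gcd d e - 1 := by
      rw [← Nat.pow_sub_one_gcd_pow_sub_one]
      exact Nat.dvd_gcd hcd (by rw [← he]; exact hcq)
    have hgd : Nat.gcd d e = d := by
      rcases Nat.lt_or_ge (Nat.gcd d e) d with hlt | hge
      · exact absurd ⟨Nat.gcd_pos_of_pos_left _ hd0, hg⟩ (hdmin _ hlt)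
      · exact le_antisymm (Nat.le_of_dvd hd0 (Nat.gcd_dvd_left _ _)) hge
    exact hgd ▸ Nat.gcd_dvd_right _ _
  rcases Nat.lt_or_ge d e with hlt | hge
  · obtain ⟨k, hk⟩ := hde
    obtain ⟨F₀, hF₀, -⟩ := exists_subfield_card (F := F) (Q := p ^ d) (k := k)
      (Nat.one_lt_pow (by omega) hpp.one_lt) (by rw [he, hk, pow_mul])
    have hne : F₀ ≠ ⊤ := by
      rintro rfl
      have hbij : Nat.card (⊤ : Subfield F) = Nat.card F :=
        Nat.card_congr ⟨fun x => x.1, fun x => ⟨x, Subfield.mem_top x⟩, fun x => rfl, fun x => rfl⟩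
      rw [hbij, Nat.card_eq_fintype_card, he] at hF₀
      exact absurd (Nat.pow_right_injective hpp.two_le hF₀) (by omega)
    have hreal := hd.realisable (F₀ := F₀) (by rw [hF₀, ← hc]; exact hcd)
    obtain ⟨F₁, s, P', -, hs, hcard, hle, -⟩ := le_subfield_of_realisable hR hd.alg_top hne hreal
    exact LinShape.subfield F₁ s P' hs hcard hle
  have hde' : d = e := le_antisymm (Nat.le_of_dvd e.pos hde) hge
  have hnorm : G ≤ subgroupNormalizer R := by
    intro g hg
    rw [subgroupNormalizer, Subgroup.mem_normalizer_iff]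
    intro x
    refine ⟨fun hx => hR g hg x hx, fun hx => ?_⟩
    have := hR g⁻¹ (G.inv_mem hg) _ hx
    simpa [mul_assoc] using this
  have hmin : IsMinimalFieldFor c p e F :=
    ⟨hpp, hp, he, by rw [← he]; exact hcq, fun j hj hje hdiv => hdmin j (hde' ▸ hje) ⟨hj, hdiv⟩⟩
  have hrp : r ≠ p := by
    rintro rfl
    exact hd.cast_ne_zero (CharP.cast_eq_zero F r)
  -- the self-dual cases
  have hform : ∀ σ : F ≃+* F, (∀ a, σ (σ a) = a) → (∀ ζ : F, ζ ^ c = 1 → σ ζ = ζ⁻¹) →
      (σ = RingEquiv.refl F → (2 : F) ≠ 0) → LinShape G := by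
    intro σ hσ hζ h2
    obtain ⟨f, hf, hnd, hfix, hkind⟩ := hd.exists_fixed_form σ hσ (hc ▸ hζ)
    refine shape_of_form hR hd.alg_top hf hnd hfix ?_
    rcases hkind with ⟨h1, hs | hs⟩ | hu
    · exact Or.inl ⟨h1, Or.inl ⟨hs, h2 h1⟩⟩
    · exact Or.inl ⟨h1, Or.inr hs⟩
    · exact Or.inr hu
  have hunit : ∀ h : ℕ, (e : ℕ) = h + h → c ∣ p ^ h + 1 → LinShape G := by
    intro h hh hdiv
    have hbij : Function.Bijective (iterateFrobenius F p h) :=
      Finite.injective_iff_bijective.1 (iterateFrobenius F p h).injective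
    obtain ⟨σ, hσdef⟩ : ∃ σ : F ≃+* F, ∀ x, σ x = x ^ p ^ h :=
      ⟨RingEquiv.ofBijective (iterateFrobenius F p h) hbij, fun x => by simp [iterateFrobenius_def]⟩
    refine hform σ (fun a => ?_) (fun ζ hζ => ?_) (fun hσ1 => ?_)
    · rw [hσdef, hσdef, ← pow_mul, ← pow_add, ← hh, ← he, FiniteField.pow_card]
    · rw [hσdef]
      have h1 : ζ ^ p ^ h * ζ = 1 := by
        obtain ⟨k, hk⟩ := hdiv
        rw [← pow_succ, hk, pow_mul, hζ, one_pow]
      exact eq_inv_of_mul_eq_one_left h1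
    · exfalso
      have hall : ∀ x : F, x ^ p ^ h = x := fun x => by rw [← hσdef, hσ1]; rfl
      have hh0 : 0 < h := by have := e.pos; omega
      obtain ⟨F₂, hF₂, hmem⟩ := exists_subfield_card (F := F) (Q := p ^ h) (k := 2)
        (Nat.one_lt_pow (by omega) hpp.one_lt) (by rw [he, hh, ← pow_mul]; ring_nf)
      have htop : Nat.card F₂ = Nat.card F :=
        Nat.card_congr ⟨fun x => x.1, fun x => ⟨x, (hmem x).2 (hall x)⟩, fun x => rfl, fun x => rfl⟩
      rw [hF₂, Nat.card_eq_fintype_card, he] at htop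
      exact absurd (Nat.pow_right_injective hpp.two_le htop) (by omega)
  rcases hd.center_cases with ⟨hodd, hcr⟩ | ⟨hr2, hc2 | hc4⟩
  · rw [← hc] at hcr
    rcases Nat.even_or_odd (e : ℕ) with ⟨h, hh⟩ | hoe
    · refine hunit h hh ?_
      have hpr : c.Prime := hcr.symm ▸ hd.symplecticType.prime
      have h3 : c ∣ (p ^ h - 1) * (p ^ h + 1) := by
        have hsq : (p ^ h - 1) * (p ^ h + 1) = p ^ (e : ℕ) - 1 := by
          obtain ⟨u, hu⟩ : ∃ u, p ^ h = u + 1 :=
            ⟨p ^ h - 1, (Nat.sub_add_cancel (Nat.one_le_pow _ _ hpp.pos)).symm⟩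
          have : p ^ (e : ℕ) = (u + 1) * (u + 1) := by rw [hh, pow_add, hu]
          rw [this, hu]
          simp only [Nat.add_sub_cancel]
          have e2 : (u + 1) * (u + 1) = u * (u + 1 + 1) + 1 := by ring
          omega
        rw [hsq, ← he]; exact hcq
      refine (hpr.dvd_mul.1 h3).resolve_left fun h4 => ?_
      exact hdmin h (by rw [hde']; have := e.pos; omega) ⟨by have := e.pos; omega, h4⟩
    · refine LinShape.sympType r m R ⟨hd.symplecticType, absIrred_of_alg_top hd.alg_top,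
        p, e, hrp, hc ▸ hmin, Or.inl ⟨hodd, hoe, hc ▸ hcr, m, hd.one_le, ?_⟩⟩ hd.card_index hnorm
      rw [hd.card_eq, ← hc, hcr, pow_add, pow_one]
  · -- centre of order two
    rw [← hc] at hc2
    refine hform (RingEquiv.refl F) (fun a => rfl) (fun ζ hζ => ?_) (fun _ => hd.two_ne_zero_of_two hr2)
    rw [hc2] at hζ
    exact eq_inv_of_mul_eq_one_left (by rw [RingEquiv.refl_apply, ← sq]; exact hζ)
  · rw [← hc] at hc4
    have hpodd : p % 2 = 1 := (hpp.eq_two_or_odd).resolve_left (hr2 ▸ hrp.symm)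
    have h4 : 4 ∣ p ^ 2 - 1 := by
      obtain ⟨u, hu⟩ : ∃ u, p = 2 * u + 1 := ⟨p / 2, by omega⟩
      have e2 : p ^ 2 = 4 * (u * u + u) + 1 := by rw [hu]; ring
      rw [e2, Nat.add_sub_cancel]; exact dvd_mul_right 4 _
    have hd2 : d ≤ 2 := by
      by_contra hgt
      exact hdmin 2 (by omega) ⟨by norm_num, hc4 ▸ h4⟩
    rcases Nat.lt_or_ge d 2 with hd1 | hd2'
    · have he1 : (e : ℕ) = 1 := by omega
      refine LinShape.sympType r m R ⟨hd.symplecticType, absIrred_of_alg_top hd.alg_top,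
        p, e, hrp, hc ▸ hmin, Or.inr (Or.inl ⟨hr2, he1, hc ▸ hc4, ?_, m, ?_⟩)⟩ hd.card_index hnorm
      · rw [hd.card_index, hr2] at hn ⊢
        rcases Nat.lt_or_ge m 2 with hm | hm
        · interval_cases m <;> simp at hn
        · calc 4 = 2 ^ 2 := rfl
            _ ≤ 2 ^ m := Nat.pow_le_pow_right two_pos hm
      · rw [hd.card_eq, ← hc, hc4, hr2, pow_add]; norm_num
    · refine hunit 1 (by omega) ?_
      rw [hc4, pow_one]
      have h1 : ¬ 4 ∣ p - 1 := fun h => hdmin 1 (by omega) ⟨one_pos, by rw [pow_one, hc4]; exact h⟩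
      omega

/-- **Aschbacher's theorem, linear case.** -/
theorem linear_shape (hn : 3 ≤ Fintype.card ι) (H : Subgroup (GL ι F)) :
    LinShape H ∨ InLinearResidualClass H := by
  classical
  haveI : Nonempty ι := Fintype.card_pos_iff.1 (by omega)
  obtain ⟨G, hG⟩ : ∃ G, G = H ⊔ scalars ι F := ⟨_, rfl⟩
  have hHG : H ≤ G := hG ▸ le_sup_left
  have down : LinShape G → LinShape H := by
    intro h
    cases h with
    | red W h₁ h₂ hle => exact .red W h₁ h₂ (hHG.trans hle)
    | decomp t m D hD hle => exact .decomp t m D hD (hHG.trans hle)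
    | field r K hr hK hdvd hle => exact .field r K hr hK hdvd (hHG.trans hle)
    | tensor n₁ n₂ e P h₁ h₂ hle => exact .tensor n₁ n₂ e P h₁ h₂ (hHG.trans hle)
    | subfield F₀ r P hr hcard hle => exact .subfield F₀ r P hr hcard (hHG.trans hle)
    | sympType r m R hR hm hle => exact .sympType r m R hR hm (hHG.trans hle)
    | wreath m t e P h₁ h₂ hle => exact .wreath m t e P h₁ h₂ (hHG.trans hle)
    | symp f hf heven hle => exact .symp f hf heven (hHG.trans hle)
    | unitary σ f hf hle => exact .unitary σ f hf (hHG.trans hle)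
    | quad Q hQ hodd hle => exact .quad Q hQ hodd (hHG.trans hle)
  by_cases hirr : ActsIrreducibly (matrixSet G)
  swap
  · left
    rw [actsIrreducibly_iff] at hirr
    push Not at hirr
    obtain ⟨W, hW, h₁, h₂⟩ := hirr
    refine LinShape.red W h₁ h₂ fun g hg v => ?_
    refine ⟨fun hv => hW g (hHG hg) v hv, fun hv => ?_⟩
    have h3 := hW g⁻¹ (G.inv_mem (hHG hg)) _ hv
    have h4 : ((g⁻¹ : GL ι F) : Matrix ι ι F) *ᵥ ((g : Matrix ι ι F) *ᵥ v) = v := by
      rw [Matrix.mulVec_mulVec, ← Units.val_mul, inv_mul_cancel, Units.val_one, Matrix.one_mulVec]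
    exact h4 ▸ h3
  have fromTwo : ∀ (t : ℕ) (_ : 0 < t) (e : ι ≃ (Fin t → Fin 2)) (P : GL ι F),
      G ≤ tensorWreathSubgroup 2 t e P → LinShape G := by
    intro t ht e P hle
    rcases forms_of_wreath_two ht e P with ⟨f, hf, hfle⟩ | ⟨h2, Q, hQ, hQle⟩
    · exact LinShape.symp f hf (even_card_of_symplectic hf) (hle.trans hfle)
    · exact LinShape.quad Q hQ (odd_card_of_two_ne_zero h2) (hle.trans hQle)
  rcases core (by omega) hirr (hG ▸ le_sup_right) with
    ⟨L, -, -, t, E, hE⟩ | ⟨L, -, hL, hinv, hdim⟩ | ⟨L, -, -, d, m, e, P, hd, hm, -, hle⟩ |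
    ⟨t, d, L, -, -, -, e, P, ht, hd, -, hle, -⟩ | ⟨r, m, R, -, hR, hdata⟩ | ⟨P, hP⟩
  · obtain ⟨m, hm⟩ := hE.isMDecomposition
    exact Or.inl (down (LinShape.decomp t m _ hm hE.le_stabilizer))
  · obtain ⟨r, hr, hre⟩ := Nat.exists_prime_and_dvd (n := Module.finrank F (centreOf (alg L))) (by omega)
    obtain ⟨K, -, hK, hle⟩ := exists_prime_subfield (fun x hx y hy => commute_centreOf hx hy.1) hinv
      (inv_centreOf (inv_alg hL)) hdim hr hre
    exact Or.inl (down (LinShape.field r K hr hK (dvd_card_of_isFieldSubalgebra hK) hle))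
  · refine Or.inl (down ?_)
    have hswap : tensorProductSubgroup d m e P ≤ tensorProductSubgroup m d (e.trans (Equiv.prodComm _ _)) P := by
      rintro _ ⟨_, ⟨k, ⟨a, b, hk⟩, rfl⟩, rfl⟩
      refine ⟨_, ⟨glReindex (Equiv.prodComm (Fin d) (Fin m)) k, ⟨b, a, ?_⟩, rfl⟩, ?_⟩
      · ext i j
        show (k : Matrix _ _ F) (i.2, i.1) (j.2, j.1) = _
        rw [hk]; simp [Matrix.kroneckerMap_apply, mul_comm]
      · exact Units.ext rfl
    rcases Nat.lt_trichotomy d m with h | h | h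
    · exact LinShape.tensor d m e P hd h hle
    · subst h
      have hw : tensorProductSubgroup d d e P ≤
          tensorWreathSubgroup d 2 (e.trans (finTwoArrowEquiv (Fin d)).symm) P := by
        rintro _ ⟨_, ⟨k, ⟨a, b, hk⟩, rfl⟩, rfl⟩
        refine ⟨_, ⟨glReindex (finTwoArrowEquiv (Fin d)).symm k,
          Subgroup.subset_closure (Or.inl ⟨![a, b], fun x y => ?_⟩), rfl⟩, ?_⟩
        · show (k : Matrix _ _ F) (x 0, x 1) (y 0, y 1) = _
          rw [hk]; simp [Fin.prod_univ_two, Matrix.kroneckerMap_apply]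
        · exact Units.ext rfl
      rcases Nat.lt_or_ge d 3 with h3 | h3
      · obtain rfl : d = 2 := by omega
        exact fromTwo 2 two_pos _ P (hle.trans hw)
      · exact LinShape.wreath d 2 _ P h3 le_rfl (hle.trans hw)
    · exact LinShape.tensor m d _ P hm h (hle.trans hswap)
  · refine Or.inl (down ?_)
    rcases Nat.lt_or_ge d 3 with h3 | h3
    · obtain rfl : d = 2 := by omega
      exact fromTwo t (by omega) e P hle
    · exact LinShape.wreath d t e P h3 ht hle
  · exact Or.inl (down (shape_of_sympData hn hR hdata))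
  · -- almost simple
    by_cases hsub : ∃ F₀ : Subfield F, F₀ ≠ ⊤ ∧ RealisableOver F₀ (matrixSet P)
    · obtain ⟨F₀, hne, hreal⟩ := hsub
      obtain ⟨F₁, s, P', -, hs, hcard, hle, -⟩ := le_subfield_of_realisable hP.normal hP.alg_top hne hreal
      exact Or.inl (down (LinShape.subfield F₁ s P' hs hcard hle))
    by_cases hsymp : ∃ f : (ι → F) → (ι → F) → F, IsSymplecticForm f ∧ FixesForm (matrixSet P) f
    · obtain ⟨f, hf, hfix⟩ := hsymp
      exact Or.inl (down (shape_of_form hP.normal hP.alg_top (isSesqForm_of_bilinear hf.bilinear)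
        hf.nondegenerate hfix (Or.inl ⟨rfl, Or.inr hf⟩)))
    by_cases hu : ∃ (σ : F ≃+* F) (f : (ι → F) → (ι → F) → F), IsUnitaryForm σ f ∧ FixesForm (matrixSet P) f
    · obtain ⟨σ, f, hf, hfix⟩ := hu
      exact Or.inl (down (shape_of_form hP.normal hP.alg_top (isSesqForm_of_unitary hf)
        hf.nondegenerate hfix (Or.inr hf)))
    by_cases hq : ∃ Q : (ι → F) → F, IsNondegenerateQuadraticForm Q ∧ FixesQuadForm (matrixSet P) Q
    · obtain ⟨Q, hQ, hfix⟩ := hq
      by_cases h2 : (2 : F) = 0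
      · exact absurd ⟨_, polar_alternating_of_two_eq_zero hQ h2, fixesForm_polar hfix⟩ hsymp
      · exact Or.inl (down (LinShape.quad Q hQ (odd_card_of_two_ne_zero h2)
          (le_quadSimilarityGroup_of_fixes hP.normal hP.alg_top (by omega) hQ hfix)))
    push Not at hsub
    exact Or.inr ⟨P, (hG ▸ hP).residualCore hsub, hq, hsymp, hu⟩

/-- The union of the classes for `Fin n`. -/
theorem LinShape.inLinearClass {n : ℕ} (hn : 3 ≤ n) {H : Subgroup (GL (Fin n) F)} (h : LinShape H) :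
    ∃ M, InLinearClass n F M ∧ H ≤ M := by
  cases h with
  | red W h₁ h₂ hle => exact ⟨_, Or.inl ⟨W, h₁, h₂, rfl⟩, hle⟩
  | decomp t m D hD hle => exact ⟨_, Or.inr (Or.inr (Or.inr (Or.inl ⟨t, m, D, hD, rfl⟩))), hle⟩
  | field r K hr hK hdvd hle =>
    exact ⟨_, Or.inr (Or.inr (Or.inr (Or.inr (Or.inl ⟨r, K, hr, hK, rfl⟩)))), hle⟩
  | tensor n₁ n₂ e P h₁ h₂ hle =>
    exact ⟨_, Or.inr (Or.inr (Or.inr (Or.inr (Or.inr (Or.inl ⟨n₁, n₂, e, P, h₁, h₂, rfl⟩))))), hle⟩
  | subfield F₀ r P hr hcard hle =>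
    exact ⟨_, Or.inr (Or.inr (Or.inr (Or.inr (Or.inr (Or.inr (Or.inl ⟨F₀, r, P, hr, hcard, rfl⟩)))))), hle⟩
  | sympType r m R hR hm hle =>
    exact ⟨_, Or.inr (Or.inr (Or.inr (Or.inr (Or.inr (Or.inr (Or.inr (Or.inl ⟨r, R, hR, rfl⟩))))))), hle⟩
  | wreath m t e P h₁ h₂ hle =>
    exact ⟨_, Or.inr (Or.inr (Or.inr (Or.inr (Or.inr (Or.inr (Or.inr (Or.inr (Or.inl
      ⟨m, t, e, P, h₁, h₂, rfl⟩)))))))), hle⟩
  | symp f hf heven hle =>
    refine ⟨_, Or.inr (Or.inr (Or.inr (Or.inr (Or.inr (Or.inr (Or.inr (Or.inr (Or.inr (Or.inl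
      ⟨f, hf, ?_, ?_, rfl⟩))))))))), hle⟩
    · simpa using heven
    · rw [Fintype.card_fin] at heven
      rcases heven with ⟨k, hk⟩
      omega
  | unitary σ f hf hle =>
    exact ⟨_, Or.inr (Or.inr (Or.inr (Or.inr (Or.inr (Or.inr (Or.inr (Or.inr (Or.inr (Or.inr (Or.inl
      ⟨σ, f, hf, hn, rfl⟩)))))))))), hle⟩
  | quad Q hQ hodd hle =>
    exact ⟨_, Or.inr (Or.inr (Or.inr (Or.inr (Or.inr (Or.inr (Or.inr (Or.inr (Or.inr (Or.inr (Or.inr
      ⟨Q, hQ, hodd, hn, rfl⟩)))))))))), hle⟩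

end CfsgLib.Aschbacher
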