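import Cfsg.Agent.Lib.Aschbacher.Algebra

/-!
Interface of the general (form-agnostic) core of Aschbacher's theorem.

`Core G` is the conclusion for an irreducible `G ≤ GL ι F` containing all scalars:
one of six kinds of intrinsic data.  Every datum is attached to subgroups of `G`
normalised by `G`, so any property of `G` (such as fixing a form up to a scalar)
passes to it.  To use it for `H`, take `G := H ⊔ scalars ι F`.
-/

set_option autoImplicit false
set_option linter.unusedSectionVars false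

namespace CfsgLib.Aschbacher

open scoped MatrixGroups Matrix Kronecker
open Cfsg.Geo

variable {ι : Type} [Fintype ι] [DecidableEq ι] {F : Type*} [Field F]

/-- `S` is closed under conjugation by the elements of `G`. -/
def Inv (G : Subgroup (GL ι F)) (S : Set (Matrix ι ι F)) : Prop :=
  ∀ g ∈ G, ∀ x ∈ S, cj g x ∈ S

/-- `L` is normalised by `G`. -/
def Normalized (G L : Subgroup (GL ι F)) : Prop :=
  ∀ g ∈ G, ∀ x ∈ L, g * x * g⁻¹ ∈ L

/-- The algebra generated by the matrices of a subgroup. -/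
def alg (L : Subgroup (GL ι F)) : Subalgebra F (Matrix ι ι F) := Algebra.adjoin F (matrixSet L)

/-- The centre of a subalgebra, as a subalgebra of the matrix algebra. -/
def centreOf (A : Subalgebra F (Matrix ι ι F)) : Subalgebra F (Matrix ι ι F) :=
  A ⊓ Subalgebra.centralizer F (A : Set (Matrix ι ι F))

/-- The system of all primitive central idempotents of `A`, transitively permuted by `G`. -/
structure IsIdemSystem (G : Subgroup (GL ι F)) (A : Subalgebra F (Matrix ι ι F)) {t : ℕ}
    (E : Fin t → Matrix ι ι F) : Prop where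
  two_le : 2 ≤ t
  mem : ∀ i, E i ∈ A
  central : ∀ i, ∀ y ∈ A, E i * y = y * E i
  idem : ∀ i, E i * E i = E i
  ne_zero : ∀ i, E i ≠ 0
  orth : ∀ i j, i ≠ j → E i * E j = 0
  sum_one : ∑ i, E i = 1
  minimal : ∀ i, ∀ f ∈ A, (∀ y ∈ A, f * y = y * f) → f * f = f → f * E i = 0 ∨ f * E i = E i
  perm : ∀ g ∈ G, ∃ π : Equiv.Perm (Fin t), ∀ i, cj g (E i) = E (π i)
  trans : ∀ i j, ∃ g ∈ G, cj g (E i) = E j

/-- The subspaces belonging to a family of idempotents. -/
def idemSpace {t : ℕ} (E : Fin t → Matrix ι ι F) (i : Fin t) : Submodule F (ι → F) :=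
  LinearMap.range (Matrix.toLin' (E i))

/-- The matrix of `x` acting on the left factor of a tensor decomposition. -/
def leftFactor {d m : ℕ} (e : ι ≃ Fin d × Fin m) (P : GL ι F) (x : Matrix (Fin d) (Fin d) F) :
    Matrix ι ι F :=
  cj P (Matrix.reindex e.symm e.symm (x ⊗ₖ (1 : Matrix (Fin m) (Fin m) F)))

/-- The pure tensor of a family of square matrices. -/
def pureMat {κ : Type} [Fintype κ] {t : ℕ} (a : Fin t → Matrix κ κ F) :
    Matrix (Fin t → κ) (Fin t → κ) F :=
  Matrix.of fun p q => ∏ j, a j (p j) (q j)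

/-- The matrix of `x` acting on factor `i` of a tensor power decomposition. -/
def slotFactor {d t : ℕ} (e : ι ≃ (Fin t → Fin d)) (P : GL ι F) (i : Fin t)
    (x : Matrix (Fin d) (Fin d) F) : Matrix ι ι F :=
  cj P (Matrix.reindex e.symm e.symm (pureMat (Function.update (fun _ => 1) i x)))

/-- The data of a normalised group of symplectic type. -/
structure IsSympData (r m : ℕ) (R : Subgroup (GL ι F)) : Prop where
  symplecticType : IsSymplecticTypeGroup r R
  cast_ne_zero : (r : F) ≠ 0
  one_le : 1 ≤ m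
  card_index : Fintype.card ι = r ^ m
  commutator_scalar : ∀ x ∈ R, ∀ y ∈ R, x * y * x⁻¹ * y⁻¹ ∈ scalars ι F
  pow_eq_one : ∀ x ∈ R, x ^ (r * Nat.gcd 2 r) = 1
  scalar_mem : ∀ x ∈ scalars ι F, x ^ (r * Nat.gcd 2 r) = 1 → x ∈ R
  alg_top : alg R = ⊤
  card_center : Nat.card (Subgroup.center R) = Nat.gcd (r * Nat.gcd 2 r) (Nat.card F - 1)
  center_cases : (Odd r ∧ Nat.card (Subgroup.center R) = r) ∨
    (r = 2 ∧ (Nat.card (Subgroup.center R) = 2 ∨ Nat.card (Subgroup.center R) = 4))
  card_eq : Nat.card R = Nat.card (Subgroup.center R) * r ^ (2 * m)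

/-- The residual data: everything in `IsResidualCore` except the condition on subfields. -/
structure IsSimpleData (G P : Subgroup (GL ι F)) : Prop where
  le : P ≤ G
  normal : Normalized G P
  perfect : ⁅P, P⁆ = P
  simple : IsSimpleGroup (P ⧸ (scalars ι F).subgroupOf P)
  nonabelian : ¬ IsMulCommutative (P ⧸ (scalars ι F).subgroupOf P)
  centralizer_scalar : ∀ h ∈ G, (∀ x ∈ P, h * x * h⁻¹ * x⁻¹ ∈ scalars ι F) → h ∈ scalars ι F
  absIrred : ActsAbsolutelyIrreducibly (matrixSet P)
  alg_top : alg P = ⊤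

/-- The conclusion of the core theorem. -/
inductive Core (G : Subgroup (GL ι F)) : Prop
  | decomp (L : Subgroup (GL ι F)) (hLG : L ≤ G) (hL : Normalized G L) (t : ℕ)
      (E : Fin t → Matrix ι ι F) (hE : IsIdemSystem G (alg L) E)
  | field (L : Subgroup (GL ι F)) (hLG : L ≤ G) (hL : Normalized G L)
      (hinv : ∀ x ∈ centreOf (alg L), x ≠ 0 → ∃ y ∈ centreOf (alg L), x * y = 1)
      (hdim : 1 < Module.finrank F (centreOf (alg L)))
  | tensor (L : Subgroup (GL ι F)) (hLG : L ≤ G) (hL : Normalized G L) (d m : ℕ)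
      (e : ι ≃ Fin d × Fin m) (P : GL ι F) (hd : 2 ≤ d) (hm : 2 ≤ m)
      (hA : (alg L : Set (Matrix ι ι F)) = Set.range (leftFactor e P))
      (hle : G ≤ tensorProductSubgroup d m e P)
  | wreath (t d : ℕ) (L : Fin t → Subgroup (GL ι F)) (hLG : ∀ i, L i ≤ G)
      (hperm : ∀ g ∈ G, ∃ π : Equiv.Perm (Fin t), ∀ i, (L i).map (MulAut.conj g).toMonoidHom = L (π i))
      (htrans : ∀ i j, ∃ g ∈ G, (L i).map (MulAut.conj g).toMonoidHom = L j)
      (e : ι ≃ (Fin t → Fin d)) (P : GL ι F) (ht : 2 ≤ t) (hd : 2 ≤ d)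
      (hA : ∀ i, (alg (L i) : Set (Matrix ι ι F)) = Set.range (slotFactor e P i))
      (hle : G ≤ tensorWreathSubgroup d t e P)
      (hperf : ∀ i, L i = ⁅L i, L i⁆ ⊔ scalars ι F ∧ ⁅⁅L i, L i⁆, ⁅L i, L i⁆⁆ = ⁅L i, L i⁆ ∧
        ¬ L i ≤ scalars ι F)
  | sympType (r m : ℕ) (R : Subgroup (GL ι F)) (hRG : R ≤ G) (hR : Normalized G R)
      (hdata : IsSympData r m R)
  | almostSimple (P : Subgroup (GL ι F)) (hP : IsSimpleData G P)

/-- A form linear in the first variable and `σ`-semilinear in the second one. -/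
structure IsSesqForm (σ : F ≃+* F) (f : (ι → F) → (ι → F) → F) : Prop where
  add_left : ∀ x y v, f (x + y) v = f x v + f y v
  smul_left : ∀ (c : F) (x v : ι → F), f (c • x) v = c * f x v
  add_right : ∀ v x y, f v (x + y) = f v x + f v y
  smul_right : ∀ (c : F) (v x : ι → F), f v (c • x) = σ c * f v x

theorem isSesqForm_of_bilinear {f : (ι → F) → (ι → F) → F} (h : IsBilinearForm f) :
    IsSesqForm (RingEquiv.refl F) f :=
  ⟨h.add_left, h.smul_left, h.add_right, h.smul_right⟩

theorem isSesqForm_of_unitary {σ : F ≃+* F} {f : (ι → F) → (ι → F) → F} (h : IsUnitaryForm σ f) :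
    IsSesqForm σ f :=
  ⟨h.add_left, h.smul_left, fun v x y => by rw [h.herm, h.add_left, map_add, ← h.herm, ← h.herm],
    fun c v x => by rw [h.herm, h.smul_left, map_mul, ← h.herm]⟩

end CfsgLib.Aschbacher
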