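import Cfsg.Agent.Lib.Aschbacher.Tensor

/-!
Absolute irreducibility, and uniqueness up to a scalar of the forms fixed by an absolutely irreducible
normal subgroup.
-/

set_option autoImplicit false
set_option linter.unusedSectionVars false
set_option linter.style.haveILetI false

namespace CfsgLib.Aschbacher

open scoped MatrixGroups Matrix Kronecker
open Cfsg.Geo

variable {ι : Type} [Fintype ι] [DecidableEq ι] {F : Type*} [Field F]

/-- A matrix commuting with every element of a spanning group is scalar. -/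
theorem scalar_of_commute {P : Subgroup (GL ι F)} (hP : alg P = ⊤) {y : Matrix ι ι F}
    (hy : ∀ x ∈ P, Commute (x : Matrix ι ι F) y) : ∃ c : F, y = c • (1 : Matrix ι ι F) := by
  obtain ⟨c, hc⟩ := Matrix.mem_range_scalar_iff_commute_single'.2 fun i j =>
    commute_alg hy (z := Matrix.single i j 1) (hP ▸ Algebra.mem_top)
  exact ⟨c, by rw [← hc]; ext i j; simp [Matrix.one_apply, Matrix.diagonal_apply]⟩

theorem mem_scalars_of_commute [Nonempty ι] {P : Subgroup (GL ι F)} (hP : alg P = ⊤) {g : GL ι F}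
    (hg : ∀ x ∈ P, x * g = g * x) : g ∈ scalars ι F := by
  obtain ⟨c, hc⟩ := scalar_of_commute hP (y := (g : Matrix ι ι F)) fun x hx =>
    congrArg Units.val (hg x hx)
  rw [mem_scalars_iff]
  exact ⟨Units.mk0 c fun h0 => g.ne_zero (by rw [hc, h0, zero_smul]), hc⟩

theorem actsIrreducibly_of_alg_top {P : Subgroup (GL ι F)} (hP : alg P = ⊤) :
    ActsIrreducibly (matrixSet P) := by
  rw [actsIrreducibly_iff]
  intro W hW
  have hall : ∀ z ∈ alg P, ∀ w ∈ W, z *ᵥ w ∈ W := by
    intro z hz
    induction hz using Algebra.adjoin_induction with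
    | mem x hx => obtain ⟨g, hg, rfl⟩ := hx; exact hW g hg
    | algebraMap c => intro w hw; rw [Algebra.algebraMap_eq_smul_one, Matrix.smul_mulVec, Matrix.one_mulVec]; exact W.smul_mem c hw
    | add x z _ _ hx hz => intro w hw; rw [Matrix.add_mulVec]; exact W.add_mem (hx w hw) (hz w hw)
    | mul x z _ _ hx hz => intro w hw; rw [← Matrix.mulVec_mulVec]; exact hx _ (hz w hw)
  rw [or_iff_not_imp_left]
  intro hne
  obtain ⟨w, hw, hw0⟩ := Submodule.exists_mem_ne_zero_of_ne_bot hne
  obtain ⟨k, hk⟩ : ∃ k, w k ≠ 0 := Function.ne_iff.1 hw0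
  refine Submodule.eq_top_iff'.2 fun v => ?_
  have : Matrix.of (fun i j => if j = k then v i * (w k)⁻¹ else 0) *ᵥ w = v := by
    ext i
    simp [Matrix.mulVec, dotProduct, hk]
  rw [← this]
  exact hall _ (hP ▸ Algebra.mem_top) w hw

theorem absIrred_of_alg_top {P : Subgroup (GL ι F)} (hP : alg P = ⊤) :
    ActsAbsolutelyIrreducibly (matrixSet P) :=
  ⟨actsIrreducibly_of_alg_top hP,
    fun M hM => scalar_of_commute hP fun x hx => ((hM _ ⟨x, hx, rfl⟩).symm : _)⟩

/-- Burnside's theorem: absolutely irreducible groups span the matrix algebra. -/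
theorem alg_top_of_absIrred [Fintype F] [Nonempty ι] {P : Subgroup (GL ι F)}
    (hP : ActsAbsolutelyIrreducibly (matrixSet P)) : alg P = ⊤ := by
  classical
  have hN : Normalized P P := fun g hg x hx => P.mul_mem (P.mul_mem hg hx) (P.inv_mem hg)
  have hsc : ∀ x ∈ centreOf (alg P), ∃ c : F, x = c • (1 : Matrix ι ι F) := fun x hx =>
    hP.2 x fun s hs => commute_centreOf hx (Algebra.subset_adjoin hs)
  obtain ⟨d, hd, φ, hinj, hrange⟩ := exists_matrixHom hP.1 (inv_alg hN) hsc
  obtain ⟨m, e, Q, hφ⟩ := exists_leftFactor φ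
  rcases Nat.lt_trichotomy m 1 with h | h | h
  · exact isEmptyElim (α := Fin 0) ((Nat.lt_one_iff.1 h) ▸ (e (Classical.arbitrary ι)).2)
  · subst h
    rw [← hrange, (AlgHom.range_eq_top φ).2 (surjective_of_leftFactor_one φ e Q hφ)]
  · exfalso
    obtain ⟨y, hy⟩ : ∃ y, y = cj Q (Matrix.reindexAlgEquiv F F e.symm
        ((1 : Matrix (Fin d) (Fin d) F) ⊗ₖ Matrix.single (⟨0, by omega⟩ : Fin m) ⟨0, by omega⟩ (1 : F))) :=
      ⟨_, rfl⟩
    obtain ⟨c, hc⟩ := hP.2 y fun s hs => by
      obtain ⟨x, hx⟩ : s ∈ φ.range := hrange ▸ Algebra.subset_adjoin hs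
      rw [← hx]
      show y * φ x = φ x * y
      rw [hy, hφ, show Matrix.reindex e.symm e.symm (x ⊗ₖ (1 : Matrix (Fin m) (Fin m) F)) =
        Matrix.reindexAlgEquiv F F e.symm (x ⊗ₖ (1 : Matrix (Fin m) (Fin m) F)) from rfl, ← map_mul,
        ← map_mul, ← map_mul, ← map_mul, ← Matrix.mul_kronecker_mul, ← Matrix.mul_kronecker_mul]
      simp
    have h2 := congrArg (fun z => Matrix.reindexAlgEquiv F F e (cj Q⁻¹ z)) (hy.symm.trans hc)
    simp only [cj_inv_cj, map_smul, map_one] at h2
    have a1 := congrFun (congrFun h2 (0, ⟨0, by omega⟩)) (0, ⟨0, by omega⟩)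
    have a2 := congrFun (congrFun h2 (0, ⟨1, h⟩)) (0, ⟨1, h⟩)
    simp [Matrix.single_apply] at a1 a2
    exact one_ne_zero (a1.trans a2.symm)

theorem absIrred_iff_alg_top [Fintype F] [Nonempty ι] {P : Subgroup (GL ι F)} :
    ActsAbsolutelyIrreducibly (matrixSet P) ↔ alg P = ⊤ :=
  ⟨alg_top_of_absIrred, absIrred_of_alg_top⟩

theorem isNondegenerateForm_ne_zero [Nonempty ι] {f : (ι → F) → (ι → F) → F}
    (h : IsNondegenerateForm f) : ∃ u v, f u v ≠ 0 := by
  obtain ⟨x, hx⟩ := (h (Pi.single (Classical.arbitrary ι) 1) (by simp)).2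
  exact ⟨_, x, hx⟩

variable [Fintype F]

/-- Forms fixed by an absolutely irreducible group are unique up to a scalar. -/
theorem fixed_form_unique {P : Subgroup (GL ι F)} (hP : alg P = ⊤) {σ : F ≃+* F}
    {f f' : (ι → F) → (ι → F) → F} (hf : IsSesqForm σ f) (hnd : IsNondegenerateForm f)
    (hf' : IsSesqForm σ f') (hfix : FixesForm (matrixSet P) f) (hfix' : FixesForm (matrixSet P) f') :
    ∃ c : F, ∀ u v, f' u v = c * f u v := by
  classical
  let Ψ : (ι → F) → Module.Dual F (ι → F) := fun w =>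
    { toFun := fun u => f u w
      map_add' := fun x y => hf.add_left x y w
      map_smul' := fun c x => hf.smul_left c x w }
  have hsep : ∀ w w', (∀ u, f u w = f u w') → w = w' := fun w w' h => by
    by_contra hne
    obtain ⟨x, hx⟩ := (hnd (w - w') (sub_ne_zero.2 hne)).1
    refine hx ?_
    have := hf.add_right x (w - w') w'
    rw [sub_add_cancel, h] at this
    exact (add_eq_right.1 this.symm)
  have hinj : Function.Injective Ψ := fun w w' h => hsep w w' fun u => LinearMap.congr_fun h u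
  haveI : Finite (Module.Dual F (ι → F)) := Module.finite_of_finite F
  haveI := Fintype.ofFinite (Module.Dual F (ι → F))
  have hbij : Function.Bijective Ψ := by
    refine (Fintype.bijective_iff_injective_and_card Ψ).2 ⟨hinj, ?_⟩
    rw [Module.card_eq_pow_finrank (K := F) (V := Module.Dual F (ι → F)),
      Module.card_eq_pow_finrank (K := F) (V := ι → F), Subspace.dual_finrank_eq]
  have hex : ∀ v, ∃ w, ∀ u, f u w = f' u v := fun v => by
    obtain ⟨w, hw⟩ := hbij.2
      { toFun := fun u => f' u v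
        map_add' := fun x y => hf'.add_left x y v
        map_smul' := fun c x => hf'.smul_left c x v }
    exact ⟨w, fun u => LinearMap.congr_fun hw u⟩
  choose T hT using hex
  let L : (ι → F) →ₗ[F] (ι → F) :=
    { toFun := T
      map_add' := fun x y => hsep _ _ fun u => by rw [hT, hf'.add_right, hf.add_right, hT, hT]
      map_smul' := fun c x => hsep _ _ fun u => by
        rw [hT, hf'.smul_right, RingHom.id_apply, hf.smul_right, hT] }
  have hLv : ∀ v, LinearMap.toMatrix' L *ᵥ v = T v := fun v => LinearMap.toMatrix'_mulVec L v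
  obtain ⟨c, hc⟩ := scalar_of_commute hP (y := LinearMap.toMatrix' L) fun x hx => by
    refine Matrix.toLin'.injective (LinearMap.ext fun v => ?_)
    simp only [Matrix.toLin'_apply, ← Matrix.mulVec_mulVec, hLv]
    refine hsep _ _ fun u => ?_
    have hx' : ((x : Matrix ι ι F)) ∈ matrixSet P := ⟨x, hx, rfl⟩
    have hu : u = (x : Matrix ι ι F) *ᵥ (((x⁻¹ : GL ι F) : Matrix ι ι F) *ᵥ u) := by simp
    rw [hu, hfix _ hx', hT, hT, hfix' _ hx']
  refine ⟨σ c, fun u v => ?_⟩
  have : T v = c • v := by rw [← hLv, hc, Matrix.smul_mulVec, Matrix.one_mulVec]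
  rw [← hT v u, this, hf.smul_right]

/-- A group normalising an absolutely irreducible subgroup that fixes a form consists of
similarities of this form. -/
theorem le_similarityGroup_of_fixes [Nonempty ι] {G P : Subgroup (GL ι F)} (hN : Normalized G P)
    (hP : alg P = ⊤) {σ : F ≃+* F} {f : (ι → F) → (ι → F) → F} (hf : IsSesqForm σ f)
    (hnd : IsNondegenerateForm f) (hfix : FixesForm (matrixSet P) f) : G ≤ similarityGroup f := by
  intro g hg
  obtain ⟨c, hc⟩ := fixed_form_unique hP hf hnd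
    (f' := fun u v => f ((g : Matrix ι ι F) *ᵥ u) ((g : Matrix ι ι F) *ᵥ v))
    ⟨fun x y v => by simp only [Matrix.mulVec_add, hf.add_left],
      fun c x v => by simp only [Matrix.mulVec_smul, hf.smul_left],
      fun v x y => by simp only [Matrix.mulVec_add, hf.add_right],
      fun c v x => by simp only [Matrix.mulVec_smul, hf.smul_right]⟩ hfix (by
      rintro _ ⟨x, hx, rfl⟩ u v
      have h1 : g * x * g⁻¹ ∈ P := hN g hg x hx
      have h2 : ∀ w, (g : Matrix ι ι F) *ᵥ ((x : Matrix ι ι F) *ᵥ w) =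
          ((g * x * g⁻¹ : GL ι F) : Matrix ι ι F) *ᵥ ((g : Matrix ι ι F) *ᵥ w) := fun w => by
        simp [Matrix.mulVec_mulVec, mul_assoc]
      show f _ _ = f _ _
      rw [h2, h2, hfix _ ⟨_, h1, rfl⟩])
  have hc0 : c ≠ 0 := by
    obtain ⟨u, v, huv⟩ := isNondegenerateForm_ne_zero hnd
    intro h0
    refine huv ?_
    have := hc (((g⁻¹ : GL ι F) : Matrix ι ι F) *ᵥ u) (((g⁻¹ : GL ι F) : Matrix ι ι F) *ᵥ v)
    simpa [h0] using this
  exact ⟨Units.mk0 c hc0, hc⟩

omit [Fintype F] in
theorem fixesForm_polar {S : Set (Matrix ι ι F)} {Q : (ι → F) → F} (h : FixesQuadForm S Q) :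
    FixesForm S (QuadraticMap.polar Q) := fun s hs u v => by
  simp [QuadraticMap.polar, ← Matrix.mulVec_add, h s hs]

/-- The same for quadratic forms, in any characteristic. -/
theorem le_quadSimilarityGroup_of_fixes {G P : Subgroup (GL ι F)} (hN : Normalized G P)
    (hP : alg P = ⊤) (hn : 2 ≤ Fintype.card ι) {Q : (ι → F) → F} (hQ : IsNondegenerateQuadraticForm Q)
    (hfix : FixesQuadForm (matrixSet P) Q) : G ≤ quadSimilarityGroup Q := by
  classical
  haveI : Nonempty ι := Fintype.card_pos_iff.1 (by omega)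
  intro g hg
  obtain ⟨c, hc⟩ := le_similarityGroup_of_fixes hN hP (isSesqForm_of_bilinear hQ.polar_bilinear)
    hQ.nondegenerate (fixesForm_polar hfix) hg
  refine ⟨c, ?_⟩
  obtain ⟨D, hD⟩ : ∃ D : (ι → F) → F,
      ∀ v, D v = Q ((g : Matrix ι ι F) *ᵥ v) - (c : F) * Q v := ⟨_, fun v => rfl⟩
  suffices ∀ v, D v = 0 from fun v => sub_eq_zero.1 ((hD v).symm.trans (this v))
  have hadd : ∀ u v, D (u + v) = D u + D v := fun u v => by
    have := hc u v
    simp only [QuadraticMap.polar, ← Matrix.mulVec_add] at this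
    simp only [hD]
    linear_combination this
  have hsmul : ∀ (a : F) v, D (a • v) = a ^ 2 * D v := fun a v => by
    simp only [hD, Matrix.mulVec_smul, hQ.smul]; ring
  have hinv : ∀ x ∈ P, ∀ v, D ((x : Matrix ι ι F) *ᵥ v) = D v := fun x hx v => by
    have h2 : (g : Matrix ι ι F) *ᵥ ((x : Matrix ι ι F) *ᵥ v) =
        ((g * x * g⁻¹ : GL ι F) : Matrix ι ι F) *ᵥ ((g : Matrix ι ι F) *ᵥ v) := by
      simp [Matrix.mulVec_mulVec, mul_assoc]
    rw [hD, hD, h2, hfix _ ⟨_, hN g hg x hx, rfl⟩, hfix _ ⟨x, hx, rfl⟩]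
  let W : Submodule F (ι → F) :=
    { carrier := {v | D v = 0}
      zero_mem' := by have := hsmul 0 0; simpa using this
      add_mem' := fun {a b} ha hb => by show D _ = 0; rw [hadd, ha, hb, add_zero]
      smul_mem' := fun a v hv => by show D _ = 0; rw [hsmul, hv, mul_zero] }
  rcases Irr.eq_bot_or_top (actsIrreducibly_of_alg_top hP) W
      (fun x hx w hw => (hinv x hx w).trans hw) with h | h
  · exfalso
    have hinj : Function.Injective D := fun u v huv => by
      have hzero : D (u - v) = 0 := by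
        have := hadd (u - v) v
        rw [sub_add_cancel, huv] at this
        exact add_eq_right.1 this.symm
      exact sub_eq_zero.1 ((Submodule.eq_bot_iff _).1 h _ hzero)
    have := Fintype.card_le_of_injective D hinj
    rw [Fintype.card_fun] at this
    exact absurd this (not_le.2 (lt_of_lt_of_le (by nlinarith [Fintype.one_lt_card (α := F)])
      (Nat.pow_le_pow_right Fintype.card_pos hn)))
  · intro v
    exact (h ▸ Submodule.mem_top : v ∈ W)

end CfsgLib.Aschbacher
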