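import Mathlib
import Cfsg.Prelude.Def_GeometricClasses

/-!
Finite algebras for Aschbacher's theorem: structure of finite semisimple algebras with their centres,
conjugation of matrices, and Skolem-Noether for matrix algebras.
-/

set_option autoImplicit false
set_option linter.unusedSectionVars false
set_option linter.style.haveILetI false

namespace CfsgLib.Aschbacher

open scoped MatrixGroups Matrix

variable {ι : Type} [Fintype ι] [DecidableEq ι] {F : Type*} [Field F]

/-- Conjugation of matrices by an invertible matrix. -/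
def cj (g : GL ι F) : Matrix ι ι F ≃ₐ[F] Matrix ι ι F where
  toFun x := (g : Matrix ι ι F) * x * ((g⁻¹ : GL ι F) : Matrix ι ι F)
  invFun x := ((g⁻¹ : GL ι F) : Matrix ι ι F) * x * (g : Matrix ι ι F)
  left_inv x := by simp [mul_assoc]
  right_inv x := by simp [mul_assoc]
  map_mul' x y := by simp [mul_assoc]
  map_add' x y := by simp [mul_add, add_mul]
  commutes' c := by simp [← Algebra.commutes c (g : Matrix ι ι F), mul_assoc]

theorem cj_apply (g : GL ι F) (x : Matrix ι ι F) :
    cj g x = (g : Matrix ι ι F) * x * ((g⁻¹ : GL ι F) : Matrix ι ι F) := rfl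

theorem cj_mul (g h : GL ι F) (x : Matrix ι ι F) : cj (g * h) x = cj g (cj h x) := by
  simp [cj_apply, mul_assoc]

theorem cj_one (x : Matrix ι ι F) : cj 1 x = x := by simp [cj_apply]

theorem cj_inv_cj (g : GL ι F) (x : Matrix ι ι F) : cj g⁻¹ (cj g x) = x := by
  rw [← cj_mul, inv_mul_cancel, cj_one]

theorem cj_cj_inv (g : GL ι F) (x : Matrix ι ι F) : cj g (cj g⁻¹ x) = x := by
  rw [← cj_mul, mul_inv_cancel, cj_one]

theorem cj_coe (g h : GL ι F) :
    cj g (h : Matrix ι ι F) = ((g * h * g⁻¹ : GL ι F) : Matrix ι ι F) := by simp [cj_apply]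

theorem cj_eq_self_iff (g : GL ι F) (x : Matrix ι ι F) :
    cj g x = x ↔ Commute (g : Matrix ι ι F) x := by
  constructor
  · intro h
    have := congrArg (· * (g : Matrix ι ι F)) h
    simpa [cj_apply, mul_assoc, Commute, SemiconjBy] using this
  · intro h
    rw [cj_apply, h.eq, mul_assoc]; simp

/-- Every automorphism of a full matrix algebra is inner. -/
theorem exists_inner (φ : Matrix ι ι F ≃ₐ[F] Matrix ι ι F) :
    ∃ a : GL ι F, ∀ x, φ x = cj a x := by
  let E : Matrix ι ι F ≃ₐ[F] Module.End F (ι → F) := Matrix.toLinAlgEquiv'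
  obtain ⟨T, hT⟩ := (E.symm.trans (φ.trans E)).eq_linearEquivConjAlgEquiv
  refine ⟨Units.map E.symm.toMonoidHom (LinearMap.GeneralLinearGroup.ofLinearEquiv T), fun x => ?_⟩
  apply E.injective
  have := congrArg (fun f => f (E x)) hT
  simp only [AlgEquiv.trans_apply, AlgEquiv.symm_apply_apply] at this
  rw [this, cj_apply]
  simp only [map_mul]
  simp only [Units.coe_map, Units.coe_map_inv, LinearEquiv.conjAlgEquiv_apply]
  simp [E, Module.End.mul_eq_comp, LinearMap.comp_assoc]
  rfl

/-- A unital endomorphism of a full matrix algebra is inner. -/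
theorem exists_inner_hom [Nonempty ι] (φ : Matrix ι ι F →ₐ[F] Matrix ι ι F) :
    ∃ a : GL ι F, ∀ x, φ x = cj a x := by
  have hinj : Function.Injective φ := φ.toRingHom.injective
  have hsurj : Function.Surjective φ :=
    (LinearMap.injective_iff_surjective (f := φ.toLinearMap)).1 hinj
  exact exists_inner (AlgEquiv.ofBijective φ ⟨hinj, hsurj⟩)

section Finite

universe u v

variable (k : Type v) [Field k] [Finite k] (A : Type u) [Ring A] [Algebra k A]
  [Module.Finite k A] [IsSemisimpleRing A]

/-- In a finite semisimple algebra either there is a non-trivial central idempotent, or the algebra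
is a matrix algebra over a finite field. -/
theorem exists_idem_or_matrix [Nontrivial A] :
    (∃ e : A, (∀ y, e * y = y * e) ∧ e * e = e ∧ e ≠ 0 ∧ e ≠ 1) ∨
      ∃ (d : ℕ) (_ : NeZero d) (D : Type u) (_ : DivisionRing D) (_ : Algebra k D)
        (_ : Module.Finite k D), Finite D ∧ (∀ a b : D, a * b = b * a) ∧
          Nonempty (A ≃ₐ[k] Matrix (Fin d) (Fin d) D) := by
  classical
  obtain ⟨n, D, d, hdiv, halg, hfin, hd, ⟨e⟩⟩ :=
    IsSemisimpleRing.exists_algEquiv_pi_matrix_divisionRing_finite k A
  rcases Nat.lt_trichotomy n 1 with hn | hn | hn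
  · exfalso
    have : n = 0 := by omega
    subst this
    exact zero_ne_one (e.injective (Subsingleton.elim (e 0) (e 1)))
  · subst hn
    right
    haveI : Finite (D 0) := Module.finite_of_finite k
    refine ⟨d 0, hd 0, D 0, hdiv 0, halg 0, hfin 0, inferInstance,
      (Finite.isDomain_to_isField (D 0)).mul_comm, ⟨e.trans ?_⟩⟩
    exact AlgEquiv.ofAlgHom (Pi.evalAlgHom k _ 0)
      (AlgHom.ofLinearMap
        { toFun := fun x => fun i => Fin.cases (motive := fun i => Matrix (Fin (d i)) (Fin (d i)) (D i))
            x (fun j => Fin.elim0 j) i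
          map_add' := fun x y => funext fun i => by fin_cases i; rfl
          map_smul' := fun c x => funext fun i => by fin_cases i; rfl }
        (funext fun i => by fin_cases i; rfl) fun x y => funext fun i => by fin_cases i; rfl)
      (AlgHom.ext fun x => rfl) (AlgHom.ext fun x => funext fun i => by fin_cases i; rfl)
  · left
    let i₀ : Fin n := ⟨0, by omega⟩
    let i₁ : Fin n := ⟨1, by omega⟩
    let z : ∀ i, Matrix (Fin (d i)) (Fin (d i)) (D i) := fun i => if i = i₀ then 1 else 0
    haveI := hd i₀
    haveI := hd i₁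
    refine ⟨e.symm z, fun y => e.injective ?_, e.injective ?_, fun h => ?_, fun h => ?_⟩
    · simp only [map_mul, AlgEquiv.apply_symm_apply]
      funext i
      by_cases hi : i = i₀ <;> simp [z, hi]
    · simp only [map_mul, AlgEquiv.apply_symm_apply]
      funext i
      by_cases hi : i = i₀ <;> simp [z, hi]
    · have := congrFun (congrArg e h) i₀
      simp [z] at this
    · have := congrFun (congrArg e h) i₁
      simp [z, i₀, i₁] at this

include k in
/-- If there is no non-trivial central idempotent, non-zero central elements have central inverses. -/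
theorem center_inv_of_no_idem [Nontrivial A]
    (h : ∀ e : A, (∀ y, e * y = y * e) → e * e = e → e = 0 ∨ e = 1)
    (x : A) (hx : ∀ y, x * y = y * x) (hx0 : x ≠ 0) :
    ∃ y : A, (∀ z, y * z = z * y) ∧ x * y = 1 := by
  classical
  rcases exists_idem_or_matrix k A with ⟨e, he, hee, h0, h1⟩ | ⟨d, hd, D, _, _, _, _, hcomm, ⟨φ⟩⟩
  · exact absurd (h e he hee) (by tauto)
  · have hcz : ∀ j l : Fin d, j ≠ l → Commute (Matrix.single j l 1) (φ x) := fun j l _ => by
      have := congrArg φ (hx (φ.symm (Matrix.single j l 1)))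
      simpa [Commute, SemiconjBy] using this.symm
    obtain ⟨c, hc⟩ := Matrix.mem_range_scalar_of_commute_single hcz
    have hc0 : c ≠ 0 := by
      rintro rfl
      exact hx0 (φ.injective (by rw [← hc]; simp))
    refine ⟨φ.symm (Matrix.scalar (Fin d) c⁻¹), fun z => φ.injective ?_, φ.injective ?_⟩
    · simp only [map_mul, AlgEquiv.apply_symm_apply]
      exact (Matrix.scalar_commute _ (fun r' => hcomm _ _) (φ z)).eq
    · rw [map_mul, AlgEquiv.apply_symm_apply, ← hc, map_one, ← map_mul, mul_inv_cancel₀ hc0, map_one]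

/-- A finite semisimple algebra whose centre consists of scalars is a matrix algebra. -/
theorem exists_matrix_of_center [Nontrivial A]
    (h : ∀ x : A, (∀ y, x * y = y * x) → ∃ c : k, x = algebraMap k A c) :
    ∃ (d : ℕ) (_ : NeZero d), Nonempty (A ≃ₐ[k] Matrix (Fin d) (Fin d) k) := by
  classical
  rcases exists_idem_or_matrix k A with ⟨e, he, hee, h0, h1⟩ | ⟨d, hd, D, _, _, _, _, hcomm, ⟨φ⟩⟩
  · exfalso
    obtain ⟨c, rfl⟩ := h e he
    rw [← map_mul] at hee
    rcases IsIdempotentElem.iff_eq_zero_or_one.1
      ((algebraMap k A).injective hee : IsIdempotentElem c) with rfl | rfl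
    · exact h0 (map_zero _)
    · exact h1 (map_one _)
  · have hs : Function.Surjective (algebraMap k D) := fun a => by
      obtain ⟨c, hc⟩ := h (φ.symm (Matrix.scalar (Fin d) a)) (fun y => φ.injective (by
        simp only [map_mul, AlgEquiv.apply_symm_apply]
        exact (Matrix.scalar_commute _ (fun r' => hcomm _ _) (φ y)).eq))
      refine ⟨c, ?_⟩
      have := congrArg φ hc
      simp only [AlgEquiv.apply_symm_apply, AlgEquiv.commutes] at this
      have := congrArg (fun M => M 0 0) this
      simpa [Matrix.algebraMap_matrix_apply] using this.symm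
    exact ⟨d, hd, ⟨φ.trans (AlgEquiv.mapMatrix
      (AlgEquiv.ofBijective (Algebra.ofId k D) ⟨(algebraMap k D).injective, hs⟩).symm)⟩⟩

end Finite

end CfsgLib.Aschbacher
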