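import Cfsg.Prelude.Def_GeometricClasses
import Mathlib.RingTheory.LittleWedderburn
import Mathlib.RingTheory.SimpleModule.Basic
import Mathlib.LinearAlgebra.Eigenspace.Pi

/-!
Irreducible matrix groups in prime dimension: Schur's lemma, the density theorem, and Clifford's theorem.
-/

set_option autoImplicit false
set_option linter.unusedSectionVars false

namespace CfsgLib.AschPrime

open Matrix Cfsg.Geo
open scoped MatrixGroups

variable {ι : Type} [Fintype ι] [DecidableEq ι] {F : Type*} [Field F]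

theorem inv_mulVec_cancel (g : GL ι F) (v : ι → F) :
    ((g⁻¹ : GL ι F) : Matrix ι ι F) *ᵥ ((g : Matrix ι ι F) *ᵥ v) = v := by
  rw [mulVec_mulVec, ← Units.val_mul, inv_mul_cancel, Units.val_one, one_mulVec]

theorem mulVec_inj (g : GL ι F) {v w : ι → F}
    (h : (g : Matrix ι ι F) *ᵥ v = (g : Matrix ι ι F) *ᵥ w) : v = w := by
  rw [← inv_mulVec_cancel g v, h, inv_mulVec_cancel]

theorem scalars_comm {z : GL ι F} (hz : z ∈ scalars ι F) (g : GL ι F) : z * g = g * z := by
  obtain ⟨c, hc⟩ := (mem_scalars_iff z).1 hz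
  refine Units.ext ?_
  rw [Units.val_mul, Units.val_mul, hc, smul_mul, one_mul, Matrix.mul_smul, mul_one]

theorem mem_matrixSet {N : Subgroup (GL ι F)} {g : GL ι F} (hg : g ∈ N) :
    (g : Matrix ι ι F) ∈ matrixSet N := ⟨g, hg, rfl⟩

theorem matrixSet_mono {N M : Subgroup (GL ι F)} (h : N ≤ M) : matrixSet N ⊆ matrixSet M :=
  Set.image_mono h

theorem mem_scalars_of_matrix [Nonempty ι] {g : GL ι F} {c : F}
    (h : (g : Matrix ι ι F) = c • (1 : Matrix ι ι F)) : g ∈ scalars ι F := by
  have hc : c ≠ 0 := fun e => g.ne_zero (by rw [h, e, zero_smul])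
  exact (mem_scalars_iff g).2 ⟨Units.mk0 c hc, h⟩

theorem mem_scalars_of_commute [Nonempty ι] {S : Set (Matrix ι ι F)}
    (hS : ActsAbsolutelyIrreducibly S) {g : GL ι F}
    (h : ∀ s ∈ S, (g : Matrix ι ι F) * s = s * (g : Matrix ι ι F)) : g ∈ scalars ι F := by
  obtain ⟨c, hc⟩ := hS.2 _ h
  exact mem_scalars_of_matrix hc

/-- an element commuting with an absolutely irreducible group is scalar -/
theorem mem_scalars_of_commute_group [Nonempty ι] {N : Subgroup (GL ι F)}
    (hN : ActsAbsolutelyIrreducibly (matrixSet N)) {g : GL ι F} (h : ∀ x ∈ N, g * x = x * g) :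
    g ∈ scalars ι F :=
  mem_scalars_of_commute hN (by rintro _ ⟨x, hx, rfl⟩; exact congrArg Units.val (h x hx))

theorem mapsTo_iff_map_le {W : Submodule F (ι → F)} {A : Matrix ι ι F} :
    W.map (Matrix.toLin' A) ≤ W ↔ ∀ w ∈ W, A *ᵥ w ∈ W := by
  rw [Submodule.map_le_iff_le_comap]
  exact ⟨fun h w hw => h hw, fun h w hw => h w hw⟩

theorem toLin'_inj (g : GL ι F) : Function.Injective (Matrix.toLin' (g : Matrix ι ι F)) :=
  fun _ _ e => mulVec_inj g e

theorem finrank_map_gl (g : GL ι F) (W : Submodule F (ι → F)) :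
    Module.finrank F (W.map (Matrix.toLin' (g : Matrix ι ι F))) = Module.finrank F W :=
  ((Submodule.equivMapOfInjective _ (toLin'_inj g) W).symm).finrank_eq

/-! ### Commutant -/

/-- The commutant of a set of matrices. -/
def cmt (S : Set (Matrix ι ι F)) : Subalgebra F (Matrix ι ι F) :=
  Subalgebra.centralizer F S

theorem mem_cmt {S : Set (Matrix ι ι F)} {M : Matrix ι ι F} :
    M ∈ cmt S ↔ ∀ s ∈ S, s * M = M * s :=
  Subalgebra.mem_centralizer_iff F

theorem cmt_scalar_or_inj {S : Set (Matrix ι ι F)} (hS : ActsIrreducibly S) {M : Matrix ι ι F}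
    (hM : M ∈ cmt S) : M = 0 ∨ Function.Injective (Matrix.toLin' M) := by
  rcases hS (LinearMap.ker (Matrix.toLin' M)) (fun s hs => mapsTo_iff_map_le.2 fun w hw => by
      rw [LinearMap.mem_ker, toLin'_apply] at hw ⊢
      rw [mulVec_mulVec, ← (mem_cmt.1 hM s hs), ← mulVec_mulVec, hw, mulVec_zero]) with h | h
  · exact .inr (LinearMap.ker_eq_bot.1 h)
  · refine .inl ((Matrix.toLin').injective ?_)
    rw [map_zero, LinearMap.ker_eq_top.1 h]

theorem cmt_isUnit {S : Set (Matrix ι ι F)} (hS : ActsIrreducibly S) {M : Matrix ι ι F}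
    (hM : M ∈ cmt S) (h0 : M ≠ 0) : IsUnit M := by
  rw [← Matrix.mulVec_injective_iff_isUnit]
  exact (cmt_scalar_or_inj hS hM).resolve_left h0

theorem cmt_inv {S : Set (Matrix ι ι F)} (hS : ActsIrreducibly S) {M : Matrix ι ι F}
    (hM : M ∈ cmt S) (h0 : M ≠ 0) : ∃ N ∈ cmt S, M * N = 1 := by
  obtain ⟨u, rfl⟩ := cmt_isUnit hS hM h0
  refine ⟨(u⁻¹ : (Matrix ι ι F)ˣ), mem_cmt.2 fun s hs => ?_, by rw [← Units.val_mul, mul_inv_cancel, Units.val_one]⟩
  exact ((show Commute s (u : Matrix ι ι F) from mem_cmt.1 hM s hs).units_inv_right).eq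

/-- The commutant of an irreducible set is a field. -/
theorem cmt_comm [Finite F] [Nonempty ι] {S : Set (Matrix ι ι F)} (hS : ActsIrreducibly S)
    (x : Matrix ι ι F) (hx : x ∈ cmt S) (y : Matrix ι ι F) (hy : y ∈ cmt S) : x * y = y * x := by
  haveI : Finite (cmt S) := Finite.of_injective _ Subtype.val_injective
  haveI : IsDomain (cmt S) := by
    haveI : NoZeroDivisors (cmt S) := ⟨fun {a b} h => by
      by_contra hc
      rw [not_or] at hc
      have ha := cmt_isUnit hS a.2 fun e => hc.1 (Subtype.ext e)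
      exact hc.2 (Subtype.ext (ha.mul_right_eq_zero.1 (congrArg Subtype.val h)))⟩
    exact NoZeroDivisors.to_isDomain _
  have := (Finite.isDomain_to_isField (cmt S)).mul_comm ⟨x, hx⟩ ⟨y, hy⟩
  exact congrArg Subtype.val this

/-- If invariant subspaces of dimension `d`, none of which has a proper non-zero invariant part, span the
space then `d` divides the dimension. -/
theorem dvd_card_of_simple_span {J : Type*} (S : Set (Matrix ι ι F)) (W : J → Submodule F (ι → F)) (d : ℕ)
    (hd : ∀ j, Module.finrank F (W j) = d) (hinv : ∀ j, ∀ s ∈ S, ∀ w ∈ W j, s *ᵥ w ∈ W j)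
    (hsimp : ∀ (j) (U : Submodule F (ι → F)), (∀ s ∈ S, ∀ u ∈ U, s *ᵥ u ∈ U) → W j ⊓ U ≠ ⊥ → W j ≤ U)
    (htop : ⨆ j, W j = ⊤) : d ∣ Fintype.card ι := by
  classical
  obtain ⟨U, hU, hmax⟩ := WellFounded.has_min
    (InvImage.wf (fun U : Submodule F (ι → F) => Fintype.card ι - Module.finrank F U) Nat.lt_wfRel.wf)
    {U | (∀ s ∈ S, ∀ u ∈ U, s *ᵥ u ∈ U) ∧ d ∣ Module.finrank F U}
    ⟨⊥, fun s _ u hu => by rw [(Submodule.mem_bot F).1 hu, mulVec_zero]; exact zero_mem _,
      by rw [finrank_bot]; exact dvd_zero d⟩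
  have hle : ∀ j, W j ≤ U := by
    intro j
    by_contra hj
    have hb : W j ⊓ U = ⊥ := by_contra fun h => hj (hsimp j U hU.1 h)
    have h1 := Submodule.finrank_sup_add_finrank_inf_eq (W j) U
    rw [hb, finrank_bot, hd, add_zero] at h1
    refine hmax (W j ⊔ U) ⟨fun s hs u hu => ?_, h1 ▸ dvd_add dvd_rfl hU.2⟩ ?_
    · obtain ⟨a, ha, b, hb, rfl⟩ := Submodule.mem_sup.1 hu
      rw [mulVec_add]
      exact Submodule.add_mem_sup (hinv j s hs a ha) (hU.1 s hs b hb)
    · have h2 := Submodule.finrank_le (W j ⊔ U)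
      rw [Module.finrank_fintype_fun_eq_card] at h2
      have h3 : 0 < d := by
        rw [← hd j]
        exact Nat.pos_of_ne_zero fun e => hj (by rw [Submodule.finrank_eq_zero.1 e]; exact bot_le)
      show Fintype.card ι - _ < Fintype.card ι - _
      omega
  have htopU : U = ⊤ := eq_top_iff.2 (htop ▸ iSup_le hle)
  have := hU.2
  rwa [htopU, finrank_top, Module.finrank_fintype_fun_eq_card] at this

/-- In prime dimension the commutant of an irreducible set consists of scalars or is a field of full degree. -/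
theorem abs_or_field [Finite F] (hn : (Fintype.card ι).Prime) {S : Set (Matrix ι ι F)}
    (hS : ActsIrreducibly S) :
    ActsAbsolutelyIrreducibly S ∨ IsFieldSubalgebra (Fintype.card ι) (cmt S) := by
  classical
  haveI : Nonempty ι := Fintype.card_pos_iff.1 hn.pos
  let L : (ι → F) → (cmt S) →ₗ[F] (ι → F) := fun v =>
    { toFun := fun k => (k : Matrix ι ι F) *ᵥ v
      map_add' := fun a b => by rw [Subalgebra.coe_add, add_mulVec]
      map_smul' := fun c a => by rw [Subalgebra.coe_smul, smul_mulVec, RingHom.id_apply] }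
  have hLinj : ∀ v, v ≠ 0 → Function.Injective (L v) := by
    intro v hv
    rw [← LinearMap.ker_eq_bot, LinearMap.ker_eq_bot']
    intro k hk
    by_contra h0
    obtain ⟨N, -, hN⟩ := cmt_inv hS k.2 fun e => h0 (Subtype.ext e)
    obtain ⟨u, hu⟩ := cmt_isUnit hS k.2 fun e => h0 (Subtype.ext e)
    refine hv (mulVec_inj u ?_)
    rw [hu, mulVec_zero]
    exact hk
  have hdvd : Module.finrank F (cmt S) ∣ Fintype.card ι := by
    refine dvd_card_of_simple_span (cmt S : Set (Matrix ι ι F))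
      (fun v : {v : ι → F // v ≠ 0} => LinearMap.range (L v)) _
      (fun v => LinearMap.finrank_range_of_inj (hLinj v v.2)) ?_ ?_ ?_
    · rintro v s hs _ ⟨k, rfl⟩
      exact ⟨⟨s, hs⟩ * k, (mulVec_mulVec _ _ _).symm⟩
    · intro v U hU hne
      obtain ⟨w, hw, hw0⟩ := (Submodule.ne_bot_iff _).1 hne
      obtain ⟨⟨k, rfl⟩, hwU⟩ := hw
      have hk0 : (k : Matrix ι ι F) ≠ 0 := fun e => hw0 (by
        change (k : Matrix ι ι F) *ᵥ (v : ι → F) = 0
        rw [e, zero_mulVec])
      obtain ⟨N, hN, hkN⟩ := cmt_inv hS k.2 hk0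
      have hvU : (v : ι → F) ∈ U := by
        have := hU N hN _ hwU
        change N *ᵥ ((k : Matrix ι ι F) *ᵥ (v : ι → F)) ∈ U at this
        rwa [mulVec_mulVec, mul_eq_one_comm.1 hkN, one_mulVec] at this
      rintro _ ⟨k', rfl⟩
      exact hU _ k'.2 _ hvU
    · refine eq_top_iff.2 fun v _ => ?_
      rcases eq_or_ne v 0 with rfl | hv
      · exact zero_mem _
      · exact Submodule.mem_iSup_of_mem ⟨v, hv⟩ ⟨1, one_mulVec v⟩
  rcases (Nat.dvd_prime hn).1 hdvd with h | h
  · refine .inl ⟨hS, fun M hM => ?_⟩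
    have hbot := Subalgebra.eq_bot_of_finrank_one h
    have : M ∈ cmt S := mem_cmt.2 fun s hs => (hM s hs).symm
    rw [hbot, Algebra.mem_bot] at this
    obtain ⟨c, hc⟩ := this
    exact ⟨c, by rw [← hc, Algebra.algebraMap_eq_smul_one]⟩
  · exact .inr ⟨cmt_comm hS, fun x hx h0 => cmt_inv hS hx h0, h⟩

/-- A group normalising a set of matrices normalises its commutant. -/
theorem le_subalgebraNormalizer_cmt {N H : Subgroup (GL ι F)}
    (hN : ∀ h ∈ H, ∀ x ∈ N, h * x * h⁻¹ ∈ N) :
    H ≤ subalgebraNormalizer (cmt (matrixSet N)) := by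
  have key : ∀ h ∈ H, ∀ k, k ∈ cmt (matrixSet N) →
      (h : Matrix ι ι F) * k * ((h⁻¹ : GL ι F) : Matrix ι ι F) ∈ cmt (matrixSet N) := by
    intro h hh k hk
    refine mem_cmt.2 ?_
    rintro _ ⟨x, hx, rfl⟩
    have h1 := mem_cmt.1 hk _ (mem_matrixSet (hN _ (inv_mem hh) x hx))
    rw [inv_inv, Units.val_mul, Units.val_mul] at h1
    have e1 : (h : Matrix ι ι F) * ((h⁻¹ : GL ι F) : Matrix ι ι F) = 1 := by
      rw [← Units.val_mul, mul_inv_cancel, Units.val_one]
    calc (x : Matrix ι ι F) * ((h : Matrix ι ι F) * k * ((h⁻¹ : GL ι F) : Matrix ι ι F))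
        = ((h : Matrix ι ι F) * ((h⁻¹ : GL ι F) : Matrix ι ι F)) * (x : Matrix ι ι F) *
            ((h : Matrix ι ι F) * k * ((h⁻¹ : GL ι F) : Matrix ι ι F)) := by rw [e1, one_mul]
      _ = (h : Matrix ι ι F) * ((((h⁻¹ : GL ι F) : Matrix ι ι F) * (x : Matrix ι ι F) *
            (h : Matrix ι ι F)) * k) * ((h⁻¹ : GL ι F) : Matrix ι ι F) := by simp only [mul_assoc]
      _ = (h : Matrix ι ι F) * (k * (((h⁻¹ : GL ι F) : Matrix ι ι F) * (x : Matrix ι ι F) *
            (h : Matrix ι ι F))) * ((h⁻¹ : GL ι F) : Matrix ι ι F) := by rw [h1]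
      _ = (h : Matrix ι ι F) * k * ((h⁻¹ : GL ι F) : Matrix ι ι F) * (x : Matrix ι ι F) *
            ((h : Matrix ι ι F) * ((h⁻¹ : GL ι F) : Matrix ι ι F)) := by simp only [mul_assoc]
      _ = _ := by rw [e1, mul_one]
  intro h hh k
  refine ⟨key h hh k, fun hk => ?_⟩
  have := key _ (inv_mem hh) _ hk
  rw [inv_inv, ← mul_assoc, ← mul_assoc, ← Units.val_mul, inv_mul_cancel, Units.val_one, one_mul,
    mul_assoc, ← Units.val_mul, inv_mul_cancel, Units.val_one, mul_one] at this
  exact this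

/-! ### Density -/

/-- An absolutely irreducible group spans the whole matrix algebra. -/
theorem span_eq_top [Finite F] [Nonempty ι] {N : Subgroup (GL ι F)}
    (hN : ActsAbsolutelyIrreducibly (matrixSet N)) :
    Submodule.span F (matrixSet N) = ⊤ := by
  let A : Subalgebra F (Module.End F (ι → F)) := Algebra.adjoin F (Matrix.toLinAlgEquiv' '' matrixSet N)
  have hsimple : IsSimpleModule A (ι → F) := by
    refine (isSimpleModule_iff _ _).2 { eq_bot_or_eq_top := fun W => ?_ }
    rcases hN.1 (W.restrictScalars F) (fun s hs => mapsTo_iff_map_le.2 fun w hw =>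
        W.smul_mem (⟨Matrix.toLinAlgEquiv' s, Algebra.subset_adjoin ⟨s, hs, rfl⟩⟩ : A) hw) with h' | h'
    · left; exact (Submodule.restrictScalars_eq_bot_iff F A (ι → F)).1 h'
    · right; exact (Submodule.restrictScalars_eq_top_iff F A (ι → F)).1 h'
  refine eq_top_iff.2 fun M _ => ?_
  let f := Matrix.toLinAlgEquiv' M
  have hsc : ∀ g : Module.End A (ι → F), ∃ c : F, ∀ w, g w = c • w := fun g => by
    let gl : Module.End F (ι → F) := g.restrictScalars F
    obtain ⟨c, hc⟩ := hN.2 (Matrix.toLinAlgEquiv'.symm gl) (by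
      intro s hs
      apply Matrix.toLinAlgEquiv'.injective
      rw [map_mul, map_mul, AlgEquiv.apply_symm_apply]
      refine LinearMap.ext fun w => ?_
      exact g.map_smul (⟨Matrix.toLinAlgEquiv' s, Algebra.subset_adjoin ⟨s, hs, rfl⟩⟩ : A) w)
    refine ⟨c, fun w => ?_⟩
    have h1 := congrArg (fun B => Matrix.toLinAlgEquiv' B w) hc
    simpa [gl] using h1
  let f' : Module.End (Module.End A (ι → F)) (ι → F) :=
    { toFun := f
      map_add' := map_add f
      map_smul' := fun g w => by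
        obtain ⟨c, hc⟩ := hsc g
        show f (g w) = g (f w)
        rw [hc, hc, map_smul] }
  obtain ⟨s, hs⟩ := Module.Finite.fg_top (R := F) (M := ι → F)
  obtain ⟨a, ha⟩ := jacobson_density (R := A) (M := ι → F) f' s
  have hfa : f = (a : Module.End F (ι → F)) := LinearMap.ext_on hs fun w hw => ha w hw
  have hfA : f ∈ Subalgebra.toSubmodule A := hfa ▸ a.2
  have hA : Subalgebra.toSubmodule A =
      Submodule.span F (Matrix.toLinAlgEquiv' '' matrixSet N) := by
    refine Algebra.adjoin_eq_span_of_subset _ (fun x hx => ?_)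
    induction hx using Submonoid.closure_induction with
    | mem x hx => exact Submodule.subset_span hx
    | one => exact Submodule.subset_span ⟨1, ⟨1, one_mem N, Units.val_one⟩, map_one _⟩
    | mul x y _ _ hx hy =>
      have := Submodule.mul_mem_mul hx hy
      rw [Submodule.span_mul_span] at this
      refine Submodule.span_mono ?_ this
      rintro _ ⟨_, ⟨_, ⟨a, ha, rfl⟩, rfl⟩, _, ⟨_, ⟨b, hb, rfl⟩, rfl⟩, rfl⟩
      exact ⟨_, ⟨a * b, mul_mem ha hb, rfl⟩, map_mul Matrix.toLinAlgEquiv' (a : Matrix ι ι F) (b : Matrix ι ι F)⟩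
  rw [hA] at hfA
  have h2 : Matrix.toLinAlgEquiv'.toLinearMap M ∈
      (Submodule.span F (matrixSet N)).map Matrix.toLinAlgEquiv'.toLinearMap := by
    rw [Submodule.map_span]; exact hfA
  obtain ⟨M', hM', hMM⟩ := h2
  exact Matrix.toLinAlgEquiv'.injective hMM ▸ hM'

/-! ### Clifford's theorem in prime dimension -/

/-- the common eigenspace of `N` for the eigenvalue function `χ` -/
noncomputable def wtSpace (N : Subgroup (GL ι F)) (χ : N → F) : Submodule F (ι → F) :=
  ⨅ x : N, Module.End.eigenspace (Matrix.toLin' ((x : GL ι F) : Matrix ι ι F)) (χ x)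

theorem mem_wtSpace {N : Subgroup (GL ι F)} {χ : N → F} {v : ι → F} :
    v ∈ wtSpace N χ ↔ ∀ x : N, ((x : GL ι F) : Matrix ι ι F) *ᵥ v = χ x • v := by
  simp [wtSpace]

theorem wtSpace_indep {N : Subgroup (GL ι F)} : iSupIndep (wtSpace N) := by
  classical
  rw [iSupIndep_iff_finsetSum_eq_zero_imp_eq_zero]
  intro s
  induction s using Finset.induction_on with
  | empty => exact fun _ _ _ i hi => absurd hi (Finset.notMem_empty i)
  | @insert a s ha ih =>
    intro v hv hsum i hi
    rw [Finset.sum_insert ha] at hsum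
    have hall : ∀ j ∈ s, ∀ x : N, (j x - a x) • v j = 0 := by
      intro j hj x
      refine ih (fun j => (j x - a x) • v j) (fun j hj => Submodule.smul_mem _ _ (hv j (Finset.mem_insert_of_mem hj))) ?_ j hj
      have h1 : ((x : GL ι F) : Matrix ι ι F) *ᵥ (v a + ∑ j ∈ s, v j) - a x • (v a + ∑ j ∈ s, v j) = 0 := by
        rw [hsum, mulVec_zero, smul_zero, sub_zero]
      rw [mulVec_add, mem_wtSpace.1 (hv a (Finset.mem_insert_self _ _)), mulVec_sum, smul_add,
        Finset.smul_sum, add_sub_add_left_eq_sub, ← Finset.sum_sub_distrib] at h1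
      rw [← h1]
      exact Finset.sum_congr rfl fun j hj => by
        rw [mem_wtSpace.1 (hv j (Finset.mem_insert_of_mem hj)), sub_smul]
    have hs0 : ∀ j ∈ s, v j = 0 := by
      intro j hj
      obtain ⟨x, hx⟩ : ∃ x : N, j x ≠ a x := Function.ne_iff.1 fun e => ha (e ▸ hj)
      exact (smul_eq_zero.1 (hall j hj x)).resolve_left (sub_ne_zero.2 hx)
    rw [Finset.sum_eq_zero hs0, add_zero] at hsum
    rcases Finset.mem_insert.1 hi with rfl | hi
    · exact hsum
    · exact hs0 i hi

set_option maxHeartbeats 1000000 in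
/-- Clifford: a normal non-scalar subgroup of an irreducible group of prime degree is irreducible or gives a
decomposition into lines. -/
theorem clifford [Finite F] (hn : (Fintype.card ι).Prime) {H N : Subgroup (GL ι F)}
    (hH : ActsIrreducibly (matrixSet H)) (hN : ∀ h ∈ H, ∀ x ∈ N, h * x * h⁻¹ ∈ N)
    (hns : ¬ N ≤ scalars ι F) :
    ActsIrreducibly (matrixSet N) ∨
      (IsMulCommutative N ∧ ∃ D : Fin (Fintype.card ι) → Submodule F (ι → F),
        IsMDecomposition 1 D ∧ H ≤ decompositionStabilizer D) := by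
  classical
  haveI : Nonempty ι := Fintype.card_pos_iff.1 hn.pos
  by_cases hirr : ActsIrreducibly (matrixSet N)
  · exact .inl hirr
  refine .inr ?_
  let Inv : Submodule F (ι → F) → Prop := fun W => ∀ s ∈ matrixSet N, ∀ w ∈ W, s *ᵥ w ∈ W
  obtain ⟨W0, hW0inv, hW0b, hW0t⟩ : ∃ W, Inv W ∧ W ≠ ⊥ ∧ W ≠ ⊤ := by
    simp only [ActsIrreducibly, not_forall, not_or] at hirr
    obtain ⟨W, hW, h1, h2⟩ := hirr
    exact ⟨W, fun s hs => mapsTo_iff_map_le.1 (hW s hs), h1, h2⟩
  obtain ⟨W, ⟨hWinv, hWb⟩, hWmin⟩ := WellFounded.has_min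
    (InvImage.wf (fun W : Submodule F (ι → F) => Module.finrank F W) Nat.lt_wfRel.wf)
    {W | Inv W ∧ W ≠ ⊥} ⟨W0, hW0inv, hW0b⟩
  have hWlt : Module.finrank F W < Fintype.card ι := by
    have h1 := Submodule.finrank_lt hW0t
    rw [Module.finrank_fintype_fun_eq_card] at h1
    have h2 : ¬ Module.finrank F W0 < Module.finrank F W := hWmin W0 ⟨hW0inv, hW0b⟩
    omega
  let T : H → Submodule F (ι → F) := fun h => W.map (Matrix.toLin' ((h : GL ι F) : Matrix ι ι F))
  have hT : ∀ h, Inv (T h) := by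
    rintro h _ ⟨x, hx, rfl⟩ _ ⟨w, hw, rfl⟩
    refine ⟨_, hWinv _ (mem_matrixSet (hN _ (inv_mem h.2) x hx)) w hw, ?_⟩
    simp only [toLin'_apply, inv_inv, Units.val_mul, mulVec_mulVec]
    rw [← mul_assoc, ← mul_assoc, ← Units.val_mul, mul_inv_cancel, Units.val_one, one_mul]
  have htop : ⨆ h, T h = ⊤ := by
    refine (hH _ ?_).resolve_left fun hb => hWb (eq_bot_iff.2 ?_)
    · rintro _ ⟨g, hg, rfl⟩
      rw [Submodule.map_iSup]
      refine iSup_le fun h => le_iSup_of_le ⟨g * h, mul_mem hg h.2⟩ ?_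
      show (T h).map _ ≤ W.map _
      rw [← Submodule.map_comp, ← Matrix.toLin'_mul]
      exact le_of_eq (by rw [Units.val_mul])
    · rw [← hb]
      refine le_iSup_of_le (1 : H) (le_of_eq ?_)
      show W = W.map _
      rw [OneMemClass.coe_one, Units.val_one, Matrix.toLin'_one, Submodule.map_id]
  have hd : Module.finrank F W = 1 := by
    refine ((Nat.dvd_prime hn).1 (dvd_card_of_simple_span (matrixSet N) T _
      (fun h => finrank_map_gl _ _) hT (fun h U hU hne => ?_) htop)).resolve_right hWlt.ne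
    have hV : Inv (W ⊓ U.comap (Matrix.toLin' ((h : GL ι F) : Matrix ι ι F))) := by
      rintro _ ⟨x, hx, rfl⟩ w ⟨hw, hwU⟩
      refine ⟨hWinv _ (mem_matrixSet hx) w hw, ?_⟩
      show ((h : GL ι F) : Matrix ι ι F) *ᵥ ((x : Matrix ι ι F) *ᵥ w) ∈ U
      have := hU _ (mem_matrixSet (hN _ h.2 x hx)) _ hwU
      rwa [toLin'_apply, mulVec_mulVec, ← Units.val_mul, inv_mul_cancel_right, Units.val_mul,
        ← mulVec_mulVec] at this
    have hVb : W ⊓ U.comap (Matrix.toLin' ((h : GL ι F) : Matrix ι ι F)) ≠ ⊥ := by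
      intro e
      refine hne (eq_bot_iff.2 ?_)
      rintro _ ⟨⟨w, hw, rfl⟩, hwU⟩
      have : w ∈ W ⊓ U.comap (Matrix.toLin' ((h : GL ι F) : Matrix ι ι F)) := ⟨hw, hwU⟩
      rw [e, Submodule.mem_bot] at this
      simp [this]
    have hle := Submodule.eq_of_le_of_finrank_le inf_le_left (not_lt.1 (hWmin _ ⟨hV, hVb⟩))
    rintro _ ⟨w, hw, rfl⟩
    rw [← hle] at hw
    exact hw.2
  have heig : ∀ h : H, ∃ χ : N → F, T h ≤ wtSpace N χ := by
    intro h
    obtain ⟨⟨v, hvT⟩, hv, hspan⟩ :=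
      finrank_eq_one_iff'.1 (show Module.finrank F (T h) = 1 by rw [finrank_map_gl, hd])
    have := fun x : N => hspan ⟨_, hT h _ (mem_matrixSet x.2) v hvT⟩
    choose χ hχ using this
    refine ⟨χ, fun w hw => mem_wtSpace.2 fun x => ?_⟩
    obtain ⟨c, hc⟩ := hspan ⟨w, hw⟩
    have hc' : c • v = w := congrArg Subtype.val hc
    have hx : χ x • v = ((x : GL ι F) : Matrix ι ι F) *ᵥ v := congrArg Subtype.val (hχ x)
    rw [← hc', mulVec_smul, ← hx, smul_comm]
  choose χ hχ using heig
  have hactx : ∀ (g : H) (χ₀ : N → F), (wtSpace N χ₀).map (Matrix.toLin' ((g : GL ι F) : Matrix ι ι F)) =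
      wtSpace N (fun x => χ₀ ⟨(g : GL ι F)⁻¹ * x * g, by simpa using hN _ (inv_mem g.2) x x.2⟩) := by
    intro g χ₀
    refine le_antisymm ?_ fun w hw => ?_
    · rintro _ ⟨w, hw, rfl⟩
      refine mem_wtSpace.2 fun x => ?_
      have := mem_wtSpace.1 hw ⟨(g : GL ι F)⁻¹ * x * g, by simpa using hN _ (inv_mem g.2) x x.2⟩
      rw [toLin'_apply, ← mulVec_smul, ← this, mulVec_mulVec, mulVec_mulVec, ← Units.val_mul,
        ← Units.val_mul]
      congr 2
      group
    · refine ⟨(((g : GL ι F)⁻¹ : GL ι F) : Matrix ι ι F) *ᵥ w, mem_wtSpace.2 fun x => ?_, ?_⟩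
      · have := mem_wtSpace.1 hw ⟨(g : GL ι F) * x * (g : GL ι F)⁻¹, hN _ g.2 x x.2⟩
        simp only [mul_assoc, inv_mul_cancel, mul_one, inv_mul_cancel_left, Subtype.coe_eta] at this
        rw [← mulVec_smul, ← this, mulVec_mulVec, mulVec_mulVec, ← Units.val_mul, ← Units.val_mul]
        congr 2
        group
      · rw [toLin'_apply, mulVec_mulVec, ← Units.val_mul, mul_inv_cancel, Units.val_one, one_mulVec]
  let act : H → (N → F) → (N → F) := fun g χ₀ x =>
    χ₀ ⟨(g : GL ι F)⁻¹ * x * g, by simpa using hN _ (inv_mem g.2) x x.2⟩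
  let X : Finset (N → F) := Set.Finite.toFinset (Set.finite_range χ)
  have hX : ∀ χ₀, χ₀ ∈ X ↔ ∃ h, χ h = χ₀ := fun χ₀ => by simp [X]
  have hne : ∀ h, wtSpace N (χ h) ≠ ⊥ := fun h hb => by
    have := Submodule.finrank_mono (hχ h)
    rw [hb, finrank_bot, finrank_map_gl, hd] at this
    omega
  have hperm : ∀ g h : H, act g (χ h) = χ (g * h) := by
    intro g h
    by_contra hne'
    have h1 : T (g * h) ≤ wtSpace N (act g (χ h)) := by
      rw [← hactx]
      refine le_trans (le_of_eq ?_) (Submodule.map_mono (hχ h))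
      show W.map _ = (W.map _).map _
      rw [← Submodule.map_comp, ← Matrix.toLin'_mul, Subgroup.coe_mul, Units.val_mul]
    have h2 := (wtSpace_indep (N := N)).pairwiseDisjoint hne'
    have h3 := le_bot_iff.1 (h2.le_bot.trans' (le_inf h1 (hχ (g * h))))
    have := finrank_map_gl ((g * h : H) : GL ι F) W
    rw [hd] at this
    change Module.finrank F (T (g * h)) = 1 at this
    rw [h3, finrank_bot] at this
    omega
  have hindep : iSupIndep fun a : X => wtSpace N (a : N → F) :=
    (wtSpace_indep (N := N)).comp Subtype.val_injective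
  have hsup : ⨆ a : X, wtSpace N (a : N → F) = ⊤ := eq_top_iff.2 (htop ▸ iSup_le fun h =>
    le_iSup_of_le (⟨χ h, (hX _).2 ⟨h, rfl⟩⟩ : X) (hχ h))
  set d' := Module.finrank F (wtSpace N (χ 1)) with hd'
  have hdim : ∀ a : X, Module.finrank F (wtSpace N (a : N → F)) = d' := by
    rintro ⟨a, ha⟩
    obtain ⟨h, rfl⟩ := (hX _).1 ha
    show Module.finrank F (wtSpace N (χ h)) = d'
    rw [show χ h = act h (χ 1) by rw [hperm, mul_one], ← hactx, finrank_map_gl]
  have hcount : X.card * d' = Fintype.card ι := by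
    have h1 := DirectSum.isInternal_submodule_of_iSupIndep_of_iSup_eq_top hindep hsup
    have h2 : Module.finrank F (ι → F) = ∑ a : X, Module.finrank F (wtSpace N (a : N → F)) := by
      rw [← (LinearEquiv.ofBijective (DirectSum.coeLinearMap (fun a : X => wtSpace N (a : N → F))) h1).finrank_eq, Module.finrank_directSum]
    rw [Module.finrank_fintype_fun_eq_card, Finset.sum_congr rfl fun a _ => hdim a,
      Finset.sum_const, Finset.card_univ, Fintype.card_coe, smul_eq_mul] at h2
    exact h2.symm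
  have hX2 : X.card ≠ 1 := by
    intro h1
    obtain ⟨a, ha⟩ := Finset.card_eq_one.1 h1
    have htop' : wtSpace N a = ⊤ := eq_top_iff.2 (hsup ▸ iSup_le fun b => le_of_eq (by
      have := b.2
      simp only [ha, Finset.mem_singleton] at this
      rw [this]))
    refine hns fun x hx => ?_
    refine mem_scalars_of_matrix (c := a ⟨x, hx⟩) ((Matrix.toLin').injective (LinearMap.ext fun v => ?_))
    have := mem_wtSpace.1 (show v ∈ wtSpace N a from htop' ▸ Submodule.mem_top) ⟨x, hx⟩
    simpa using this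
  have hXn : X.card = Fintype.card ι := ((Nat.dvd_prime hn).1 (Dvd.intro _ hcount)).resolve_left hX2
  have hd1 : d' = 1 := by
    rw [hXn] at hcount
    exact (mul_eq_left₀ hn.ne_zero).1 hcount
  let e : Fin (Fintype.card ι) ≃ X := (finCongr hXn.symm).trans X.equivFin.symm
  refine ⟨⟨⟨fun x y => Subtype.ext (Units.ext ((Matrix.toLin').injective ?_))⟩⟩,
    fun i => wtSpace N (e i : N → F), ⟨hn.two_le, one_pos, fun i => (hdim _).trans hd1,
      hindep.comp e.injective, ?_⟩, fun g hg => ?_⟩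
  · have : ∀ v ∈ (⨆ a : X, wtSpace N (a : N → F)),
        Matrix.toLin' (((x * y : N) : GL ι F) : Matrix ι ι F) v =
          Matrix.toLin' (((y * x : N) : GL ι F) : Matrix ι ι F) v := by
      intro v hv
      induction hv using Submodule.iSup_induction' with
      | mem a v hv =>
        simp only [toLin'_apply, Subgroup.coe_mul, Units.val_mul, ← mulVec_mulVec,
          mem_wtSpace.1 hv, mulVec_smul, smul_smul, mul_comm]
      | zero => simp
      | add u v _ _ hu hv => rw [map_add, map_add, hu, hv]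
    exact LinearMap.ext fun v => this v (hsup ▸ Submodule.mem_top)
  · rw [← hsup]; exact e.iSup_comp (g := fun a : X => wtSpace N (a : N → F))
  · have hmaps : ∀ a : X, act ⟨g, hg⟩ (a : N → F) ∈ X := by
      rintro ⟨a, ha⟩
      obtain ⟨h, rfl⟩ := (hX _).1 ha
      exact (hX _).2 ⟨⟨g, hg⟩ * h, (hperm _ _).symm⟩
    let f : X → X := fun a => ⟨_, hmaps a⟩
    have hf : Function.Injective f := by
      intro a b hab
      have h1 := congrArg (fun c : X => wtSpace N (c : N → F)) hab
      simp only [f] at h1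
      rw [← hactx, ← hactx] at h1
      have h2 := Submodule.map_injective_of_injective (toLin'_inj g) h1
      by_contra hab'
      have h3 := (wtSpace_indep (N := N)).pairwiseDisjoint (fun e => hab' (Subtype.ext e))
      rw [Function.onFun, h2, disjoint_self] at h3
      have := hdim b
      rw [h3, finrank_bot, hd1] at this
      omega
    let σ : Equiv.Perm (Fin (Fintype.card ι)) :=
      (e.trans (Equiv.ofBijective f (Finite.injective_iff_bijective.1 hf))).trans e.symm
    refine ⟨σ, fun i => ?_⟩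
    simp only [σ, Equiv.trans_apply, Equiv.apply_symm_apply, Equiv.ofBijective_apply]
    exact hactx ⟨g, hg⟩ _

end CfsgLib.AschPrime
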