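import Cfsg.Agent.Lib.Aschbacher.Minimal
import Mathlib.GroupTheory.Exponent
import Mathlib.GroupTheory.SpecificGroups.Cyclic
import Mathlib.RingTheory.RootsOfUnity.PrimitiveRoots

/-!
The case of a minimal non-scalar normal subgroup abelian modulo scalars: it is an extraspecial group of order `n³`,
monomial in a suitable basis with entries `n`-th roots of unity.
-/

set_option autoImplicit false
set_option linter.unusedSectionVars false

namespace CfsgLib.AschPrime

open Matrix Cfsg.Geo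
open scoped MatrixGroups commutatorElement

variable {ι : Type} [Fintype ι] [DecidableEq ι] {F : Type*} [Field F]

/-- An extraspecial group of exponent `n` and order `n³`, `n` the dimension, monomial with root-of-unity entries. -/
structure IsHeisenberg (R : Subgroup (GL ι F)) : Prop where
  symplecticType : IsSymplecticTypeGroup (Fintype.card ι) R
  absIrred : ActsAbsolutelyIrreducibly (matrixSet R)
  card_eq : Nat.card R = Fintype.card ι ^ 3
  card_center : Nat.card (Subgroup.center R) = Fintype.card ι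
  primRoot : ∃ ζ : F, IsPrimitiveRoot ζ (Fintype.card ι)
  monomial : ∃ B : GL ι F, ∀ g ∈ R, ∃ (π : Equiv.Perm ι) (c : ι → F), (∀ i, c i ^ Fintype.card ι = 1) ∧
    ∀ u i, (((B * g * B⁻¹ : GL ι F) : Matrix ι ι F) *ᵥ u) (π i) = c i * u i

theorem finite_gl [Finite F] : Finite (GL ι F) :=
  Finite.of_injective (fun g => (g : Matrix ι ι F)) fun _ _ => Units.ext

theorem det_scalar {z : GL ι F} {c : Fˣ} (h : (z : Matrix ι ι F) = (c : F) • 1) :
    (z : Matrix ι ι F).det = (c : F) ^ Fintype.card ι := by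
  rw [h, Matrix.det_smul, Matrix.det_one, mul_one]

/-- A scalar commutator has trivial `n`-th power. -/
theorem modComm_pow {x y : GL ι F} (h : ModComm x y) : ⁅x, y⁆ ^ Fintype.card ι = 1 := by
  obtain ⟨c, hc⟩ := (mem_scalars_iff _).1 h
  have h1 : Matrix.GeneralLinearGroup.det ⁅x, y⁆ = 1 := by
    rw [map_commutatorElement, commutatorElement_eq_one_iff_mul_comm.2 (mul_comm _ _)]
  have h2 : (c : F) ^ Fintype.card ι = 1 := by
    rw [← det_scalar hc]
    exact congrArg Units.val h1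
  refine Units.ext ?_
  rw [Units.val_pow_eq_pow_val, hc, smul_pow, one_pow, h2, one_smul, Units.val_one]

theorem commutator_pow_left {x y : GL ι F} (h : ModComm x y) (k : ℕ) : ⁅x ^ k, y⁆ = ⁅x, y⁆ ^ k := by
  induction k with
  | zero => simp
  | succ k ih =>
    rw [pow_succ', pow_succ', ← ih]
    have hk : ⁅x ^ k, y⁆ ∈ scalars ι F := by rw [ih]; exact pow_mem h k
    calc ⁅x * x ^ k, y⁆ = x * ⁅x ^ k, y⁆ * (y * x⁻¹ * y⁻¹) := by
          simp only [commutatorElement_def]; group
      _ = ⁅x ^ k, y⁆ * ⁅x, y⁆ := by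
          rw [← scalars_comm hk x, commutatorElement_def x y]; group
      _ = _ := scalars_comm hk _

/-- the `k`-th power of a product of two elements commuting modulo scalars -/
theorem mul_pow_modComm {x y : GL ι F} (h : ModComm y x) (k : ℕ) :
    (x * y) ^ k = x ^ k * y ^ k * ⁅y, x⁆ ^ (k.choose 2) := by
  have hyk : ∀ k : ℕ, y ^ k * x = x * y ^ k * ⁅y, x⁆ ^ k := by
    intro k
    rw [← commutator_pow_left h]
    have : ⁅y ^ k, x⁆ ∈ scalars ι F := by rw [commutator_pow_left h]; exact pow_mem h k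
    rw [← scalars_comm this, commutatorElement_def]
    group
  induction k with
  | zero => simp
  | succ k ih =>
    have hc : ∀ (m : ℕ) (g : GL ι F), ⁅y, x⁆ ^ m * g = g * ⁅y, x⁆ ^ m := fun m => scalars_comm (pow_mem h m)
    rw [pow_succ, ih, Nat.choose_succ_succ, Nat.choose_one_right, pow_add]
    calc x ^ k * y ^ k * ⁅y, x⁆ ^ k.choose 2 * (x * y)
        = x ^ k * (y ^ k * x) * y * ⁅y, x⁆ ^ k.choose 2 := by rw [mul_assoc, hc]; group
      _ = x ^ (k + 1) * y ^ k * (⁅y, x⁆ ^ k * y) * ⁅y, x⁆ ^ k.choose 2 := by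
          rw [hyk, pow_succ]; group
      _ = _ := by
          rw [hc, pow_succ y, pow_succ x]
          simp only [mul_assoc, pow_one, pow_add]

theorem exists_eigenvector [Finite F] [Nonempty ι] {n : ℕ} {ζ : F} (hζ : IsPrimitiveRoot ζ n) (hn : 0 < n)
    (L : Module.End F (ι → F)) (hL : L ^ n = 1) : ∃ (v : ι → F) (μ : F), v ≠ 0 ∧ μ ^ n = 1 ∧ L v = μ • v := by
  classical
  obtain ⟨v, hv⟩ := exists_ne (0 : ι → F)
  have key : ∀ s : Finset F, ∀ w : ι → F, w ≠ 0 →
      Polynomial.aeval L (∏ a ∈ s, (Polynomial.X - Polynomial.C a)) w = 0 →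
      ∃ (u : ι → F) (a : F), u ≠ 0 ∧ a ∈ s ∧ L u = a • u := by
    intro s
    induction s using Finset.induction_on with
    | empty =>
      intro w hw h
      rw [Finset.prod_empty, map_one] at h
      exact absurd h hw
    | @insert a s ha ih =>
      intro w hw h
      rw [Finset.prod_insert ha, map_mul, Module.End.mul_apply] at h
      by_cases h0 : Polynomial.aeval L (∏ a ∈ s, (Polynomial.X - Polynomial.C a)) w = 0
      · obtain ⟨u, b, hu, hb, hub⟩ := ih w hw h0
        exact ⟨u, b, hu, Finset.mem_insert_of_mem hb, hub⟩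
      · refine ⟨_, a, h0, Finset.mem_insert_self a s, ?_⟩
        rw [map_sub, Polynomial.aeval_X, Polynomial.aeval_C, LinearMap.sub_apply, sub_eq_zero,
          Module.algebraMap_end_apply] at h
        exact h
  obtain ⟨u, a, hu, ha, hua⟩ := key (Polynomial.nthRootsFinset n (1 : F)) v hv (by
    rw [← Polynomial.X_pow_sub_one_eq_prod hn hζ, map_sub, map_pow, Polynomial.aeval_X, map_one, hL,
      sub_self, LinearMap.zero_apply])
  exact ⟨u, a, hu, (Polynomial.mem_nthRootsFinset hn (1 : F)).1 ha, hua⟩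

/-- monomial with `n`-th roots of unity in the coordinates of the equivalence `ψ` -/
def IsMono (n : ℕ) (A : Matrix ι ι F) : Prop :=
  ∃ (π : Equiv.Perm ι) (c : ι → F), (∀ i, c i ^ n = 1) ∧ ∀ u i, (A *ᵥ u) (π i) = c i * u i

theorem isMono_one (n : ℕ) : IsMono n (1 : Matrix ι ι F) :=
  ⟨1, fun _ => 1, fun _ => one_pow n, fun u i => by simp⟩

theorem IsMono.mul {n : ℕ} {A B : Matrix ι ι F} (hA : IsMono n A) (hB : IsMono n B) : IsMono n (A * B) := by
  obtain ⟨π, c, hc, hA⟩ := hA
  obtain ⟨ρ, d, hd, hB⟩ := hB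
  refine ⟨ρ.trans π, fun i => c (ρ i) * d i, fun i => by rw [mul_pow, hc, hd, one_mul], fun u i => ?_⟩
  rw [← mulVec_mulVec, Equiv.trans_apply, hA, hB, mul_assoc]

theorem heisenberg_of_minimal [Finite F] (hn : (Fintype.card ι).Prime) (hodd : Fintype.card ι ≠ 2)
    {H N : Subgroup (GL ι F)} (hmin : IsMinNonscalar H N) (habs : ActsAbsolutelyIrreducibly (matrixSet N))
    (hab : ∀ a ∈ N, ∀ b ∈ N, ModComm a b) : IsHeisenberg N := by
  classical
  set n := Fintype.card ι with hnι
  haveI : Nonempty ι := Fintype.card_pos_iff.1 hn.pos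
  haveI : Finite (GL ι F) := finite_gl
  have hn' : Fact n.Prime := ⟨hn⟩
  have hoddn : Odd n := hn.odd_of_ne_two hodd
  have hnc : ¬ ∀ a ∈ N, ∀ b ∈ N, a * b = b * a := fun h =>
    hmin.nonscalar fun a ha => mem_scalars_of_commute_group habs (h a ha)
  -- powers
  have hpow : ∀ x ∈ N, x ^ n ∈ scalars ι F := fun x hx => mem_scalars_of_commute_group habs fun y hy =>
    commutatorElement_eq_one_iff_mul_comm.1 (by
      rw [commutator_pow_left (hab x hx y hy)]; exact modComm_pow (hab x hx y hy))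
  have hchoose : ∀ x ∈ N, ∀ y ∈ N, ⁅y, x⁆ ^ n.choose 2 = 1 := by
    intro x hx y hy
    obtain ⟨m, hm⟩ := hoddn
    have : n.choose 2 = n * m := by
      rw [Nat.choose_two_right, hm, Nat.add_sub_cancel, show (2 * m + 1) * (2 * m) = (2 * m + 1) * m * 2 by ring,
        Nat.mul_div_cancel _ two_pos]
    rw [this, pow_mul, modComm_pow (hab y hy x hx), one_pow]
  have hmulpow : ∀ x ∈ N, ∀ y ∈ N, (x * y) ^ n = x ^ n * y ^ n := fun x hx y hy => by
    rw [mul_pow_modComm (hab y hy x hx), hchoose x hx y hy, mul_one]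
  let K : Subgroup (GL ι F) :=
    { carrier := {x | x ∈ N ∧ x ^ n = 1}
      mul_mem' := fun {a b} ha hb => ⟨mul_mem ha.1 hb.1, by rw [hmulpow a ha.1 b hb.1, ha.2, hb.2, one_mul]⟩
      one_mem' := ⟨one_mem N, one_pow n⟩
      inv_mem' := fun {a} ha => ⟨inv_mem ha.1, by rw [inv_pow, ha.2, inv_one]⟩ }
  have hexp : ∀ x ∈ N, x ^ n = 1 := by
    rcases hmin.minimal K (fun x hx => hx.1) (fun h hh x hx =>
        ⟨hmin.normal h hh x hx.1, by rw [conj_pow, hx.2, mul_one, mul_inv_cancel]⟩) with h | h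
    · exfalso
      let f : N →* GL ι F :=
        MonoidHom.mk' (fun x => (x : GL ι F) ^ n) fun a b => hmulpow _ a.2 _ b.2
      haveI : IsCyclic f.range := by
        obtain ⟨i⟩ := (inferInstance : Nonempty ι)
        let φ : f.range →* F :=
          { toFun := fun z => ((z : GL ι F) : Matrix ι ι F) i i
            map_one' := by simp
            map_mul' := fun a b => by
              obtain ⟨y, hy⟩ := a.2
              obtain ⟨c, hc⟩ := (mem_scalars_iff _).1 (hy ▸ hpow y y.2 : (a : GL ι F) ∈ scalars ι F)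
              simp [hc] }
        refine isCyclic_of_subgroup_isDomain φ fun a b hab' => ?_
        obtain ⟨y, hy⟩ := a.2
        obtain ⟨z, hz⟩ := b.2
        obtain ⟨c, hc⟩ := (mem_scalars_iff _).1 (hy ▸ hpow y y.2 : (a : GL ι F) ∈ scalars ι F)
        obtain ⟨d, hd⟩ := (mem_scalars_iff _).1 (hz ▸ hpow z z.2 : (b : GL ι F) ∈ scalars ι F)
        refine Subtype.ext (Units.ext ?_)
        simp only [φ, MonoidHom.coe_mk, OneHom.coe_mk, hc, hd, Matrix.smul_apply, Matrix.one_apply_eq,
          smul_eq_mul, mul_one] at hab'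
        rw [hc, hd, hab']
      obtain ⟨⟨_, w, rfl⟩, hw⟩ := IsCyclic.exists_generator (α := f.range)
      refine hnc fun a ha b hb => ?_
      have key : ∀ x : N, ∃ (z : GL ι F) (j : ℤ), z ∈ scalars ι F ∧ (x : GL ι F) = z * (w : GL ι F) ^ j := by
        intro x
        obtain ⟨j, hj⟩ := hw ⟨f x, x, rfl⟩
        have hj' : f (x * (w ^ j)⁻¹) = 1 := by
          have := congrArg Subtype.val hj
          rw [SubgroupClass.coe_zpow] at this
          rw [map_mul, map_inv, map_zpow]
          exact mul_inv_eq_one.2 this.symm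
        refine ⟨_, j, h ⟨(x * (w ^ j)⁻¹).2, hj'⟩, ?_⟩
        push_cast
        group
      obtain ⟨z, i, hz, e1⟩ := key ⟨a, ha⟩
      obtain ⟨z', j, hz', e2⟩ := key ⟨b, hb⟩
      change a = _ at e1
      change b = _ at e2
      rw [e1, e2]
      exact (Commute.mul_left (scalars_comm hz _) ((Commute.mul_right (scalars_comm hz' _).symm
        (Commute.zpow_zpow (Commute.refl _) i j)))).eq
    · exact fun x hx => (h ▸ hx : x ∈ K).2
  -- a non-commuting pair
  obtain ⟨x, hx, y, hy, hxy⟩ : ∃ x ∈ N, ∃ y ∈ N, x * y ≠ y * x := by simpa using hnc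
  obtain ⟨c, hc⟩ := (mem_scalars_iff _).1 (hab y hy x hx)
  have hcn : (c : F) ^ n = 1 := by
    have := congrArg Units.val (modComm_pow (hab y hy x hx))
    rw [Units.val_pow_eq_pow_val, hc, smul_pow, one_pow, Units.val_one] at this
    obtain ⟨i⟩ := (inferInstance : Nonempty ι)
    simpa using congrFun (congrFun this i) i
  have hc1 : (c : F) ≠ 1 := fun e => hxy (commutatorElement_eq_one_iff_mul_comm.1
    (show ⁅y, x⁆ = 1 from Units.ext (by rw [hc, e, one_smul, Units.val_one]))).symm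
  set ζ : F := (c : F)⁻¹ with hζdef
  have hζ : IsPrimitiveRoot ζ n := by
    refine IsPrimitiveRoot.inv ?_
    rw [← orderOf_eq_prime hcn hc1]
    exact IsPrimitiveRoot.orderOf _
  have hζ0 : ζ ≠ 0 := inv_ne_zero c.ne_zero
  set X : Matrix ι ι F := (x : Matrix ι ι F) with hXdef
  set Y : Matrix ι ι F := (y : Matrix ι ι F) with hYdef
  have hYX : Y * X = (c : F) • (X * Y) := by
    have h1 : y * x = ⁅y, x⁆ * (x * y) := by rw [commutatorElement_def]; group
    have := congrArg Units.val h1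
    rwa [Units.val_mul, Units.val_mul, Units.val_mul, hc, smul_mul, one_mul] at this
  have hXY : X * Y = ζ • (Y * X) := by
    rw [hYX, smul_smul, hζdef, inv_mul_cancel₀ c.ne_zero, one_smul]
  obtain ⟨v, μ, hv, hμ, hXv⟩ := exists_eigenvector hζ hn.pos (Matrix.toLinAlgEquiv' X) (by
    rw [← map_pow, hXdef, ← Units.val_pow_eq_pow_val, hexp x hx, Units.val_one, map_one])
  let e : ι ≃ Fin n := Fintype.equivFin ι
  let w : ι → (ι → F) := fun i => (Y ^ (e i : ℕ)) *ᵥ v
  have hXw : ∀ m : ℕ, X *ᵥ ((Y ^ m) *ᵥ v) = (ζ ^ m * μ) • ((Y ^ m) *ᵥ v) := by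
    intro m
    induction m with
    | zero => rw [pow_zero, one_mulVec, pow_zero, one_mul]; exact hXv
    | succ m ih =>
      rw [pow_succ', ← mulVec_mulVec, mulVec_mulVec, hXY, smul_mulVec, ← mulVec_mulVec, ih, mulVec_smul,
        smul_smul, pow_succ', mul_assoc]
  have hYm : ∀ m : ℕ, (Y ^ m) *ᵥ v ≠ 0 := fun m e => hv (mulVec_inj (y ^ m) (by
    rw [Units.val_pow_eq_pow_val, mulVec_zero]; exact e))
  have hμ0 : μ ≠ 0 := fun e => by rw [e, zero_pow hn.ne_zero] at hμ; exact zero_ne_one hμ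
  have hwli : LinearIndependent F w := by
    refine Module.End.eigenvectors_linearIndependent' (Matrix.toLinAlgEquiv' X)
      (fun i => ζ ^ (e i : ℕ) * μ) (fun i j h => e.injective (Fin.ext ?_)) w
      (fun i => ⟨Module.End.mem_eigenspace_iff.2 (hXw _), hYm _⟩)
    exact hζ.pow_inj (e i).2 (e j).2 (mul_right_cancel₀ hμ0 h)
  let b : Module.Basis ι F (ι → F) := basisOfLinearIndependentOfCardEqFinrank hwli
    (Module.finrank_fintype_fun_eq_card F).symm
  have hbw : ∀ i, b i = w i := fun i => by simp [b]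
  -- change of basis
  let P : GL ι F :=
    { val := (Pi.basisFun F ι).toMatrix b
      inv := b.toMatrix (Pi.basisFun F ι)
      val_inv := Module.Basis.toMatrix_mul_toMatrix_flip _ _
      inv_val := Module.Basis.toMatrix_mul_toMatrix_flip _ _ }
  have hPe : ∀ i, (P : Matrix ι ι F) *ᵥ Pi.single i 1 = w i := by
    intro i
    rw [mulVec_single_one]
    funext j
    show (Pi.basisFun F ι).toMatrix b j i = w i j
    rw [Module.Basis.toMatrix_apply, Pi.basisFun_repr, hbw]
  have hmono : ∀ (g : GL ι F) (π : Equiv.Perm ι) (d : ι → F), (∀ i, d i ^ n = 1) →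
      (∀ i, (g : Matrix ι ι F) *ᵥ w i = d i • w (π i)) →
      IsMono n ((P⁻¹ * g * P : GL ι F) : Matrix ι ι F) := by
    intro g π d hd hg
    refine ⟨π, d, hd, fun u i => ?_⟩
    have h1 : ∀ j, ((P⁻¹ * g * P : GL ι F) : Matrix ι ι F) *ᵥ Pi.single j 1 = d j • Pi.single (π j) 1 := by
      intro j
      refine mulVec_inj P ?_
      rw [mulVec_mulVec, ← Units.val_mul, show P * (P⁻¹ * g * P) = g * P by group, Units.val_mul,
        ← mulVec_mulVec, hPe, hg, mulVec_smul, hPe]
    conv_lhs => rw [pi_eq_sum_univ' u, mulVec_sum]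
    rw [Finset.sum_apply, Finset.sum_eq_single i]
    · rw [mulVec_smul, h1, Pi.smul_apply, Pi.smul_apply, Pi.single_eq_same, smul_eq_mul, smul_eq_mul]
      ring
    · intro j _ hj
      rw [mulVec_smul, h1, Pi.smul_apply, Pi.smul_apply,
        Pi.single_eq_of_ne (fun h => hj (π.injective h).symm), smul_zero, smul_zero]
    · exact fun h => absurd (Finset.mem_univ i) h
  have hmx : IsMono n ((P⁻¹ * x * P : GL ι F) : Matrix ι ι F) :=
    hmono x 1 (fun i => ζ ^ (e i : ℕ) * μ)
      (fun i => by rw [mul_pow, ← pow_mul, mul_comm _ n, pow_mul, hζ.pow_eq_one, one_pow, one_mul, hμ])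
      (fun i => hXw _)
  have hYn : Y ^ n = 1 := by rw [hYdef, ← Units.val_pow_eq_pow_val, hexp y hy, Units.val_one]
  haveI : NeZero n := ⟨hn.ne_zero⟩
  have hmy : IsMono n ((P⁻¹ * y * P : GL ι F) : Matrix ι ι F) := by
    refine hmono y ((e.trans (Equiv.addRight (1 : Fin n))).trans e.symm) (fun _ => 1) (fun _ => one_pow n) ?_
    intro i
    rw [one_smul]
    show Y *ᵥ ((Y ^ (e i : ℕ)) *ᵥ v) = (Y ^ (e (e.symm (e i + 1)) : ℕ)) *ᵥ v
    rw [mulVec_mulVec, ← pow_succ', e.apply_symm_apply, Fin.val_add, Fin.val_one',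
      Nat.add_mod_mod, ← pow_mod_orderOf Y ((e i : ℕ) + 1)]
    conv_rhs => rw [← pow_mod_orderOf Y, Nat.mod_mod_of_dvd _ (orderOf_dvd_of_pow_eq_one hYn)]
  -- only scalars commute with `x` and `y`
  have hcent : ∀ M : Matrix ι ι F, M * X = X * M → M * Y = Y * M → ∃ a : F, M = a • 1 := by
    intro M hMX hMY
    obtain ⟨i₀, hi₀⟩ : ∃ i, (e i : ℕ) = 0 := ⟨e.symm ⟨0, hn.pos⟩, by rw [e.apply_symm_apply]⟩
    have h1 : X *ᵥ (M *ᵥ v) = μ • (M *ᵥ v) := by
      rw [mulVec_mulVec, ← hMX, ← mulVec_mulVec]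
      have := hXw 0
      rw [pow_zero, one_mulVec, pow_zero, one_mul] at this
      rw [this, mulVec_smul]
    have h2 : X *ᵥ (M *ᵥ v) = ∑ i, (b.repr (M *ᵥ v) i * (ζ ^ (e i : ℕ) * μ)) • w i := by
      conv_lhs => rw [← b.sum_repr (M *ᵥ v)]
      rw [mulVec_sum]
      exact Finset.sum_congr rfl fun i _ => by rw [mulVec_smul, hbw, hXw, smul_smul]
    have h3 : ∀ i, i ≠ i₀ → b.repr (M *ᵥ v) i = 0 := by
      intro i hi
      have h4 : b.repr (X *ᵥ (M *ᵥ v)) i = b.repr (M *ᵥ v) i * (ζ ^ (e i : ℕ) * μ) := by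
        rw [h2]
        simp_rw [← hbw]
        rw [b.repr_sum_self]
      rw [h1, map_smul, Finsupp.smul_apply, smul_eq_mul] at h4
      have h5 : b.repr (M *ᵥ v) i * ((ζ ^ (e i : ℕ) - 1) * μ) = 0 := by linear_combination -h4
      rcases mul_eq_zero.1 h5 with h | h
      · exact h
      · exfalso
        have h6 : ζ ^ (e i : ℕ) = ζ ^ 0 := by
          rw [pow_zero]; exact sub_eq_zero.1 ((mul_eq_zero.1 h).resolve_right hμ0)
        exact hi (e.injective (Fin.ext ((hζ.pow_inj (e i).2 hn.pos h6).trans hi₀.symm)))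
    have hMv : M *ᵥ v = b.repr (M *ᵥ v) i₀ • v := by
      conv_lhs => rw [← b.sum_repr (M *ᵥ v)]
      rw [Finset.sum_eq_single i₀ (fun i _ hi => by rw [h3 i hi, zero_smul])
        (fun h => absurd (Finset.mem_univ _) h), hbw]
      simp [w, hi₀]
    obtain ⟨a, ha⟩ : ∃ a : F, M *ᵥ v = a • v := ⟨_, hMv⟩
    refine ⟨a, (Matrix.toLin').injective (b.ext fun i => ?_)⟩
    have hcm : Commute M Y := hMY
    rw [toLin'_apply, toLin'_apply, hbw, smul_mulVec, one_mulVec, mulVec_mulVec, (hcm.pow_right _).eq,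
      ← mulVec_mulVec, ha, mulVec_smul]
  -- every element is a scalar times `x ^ i * y ^ j`
  have hgen : ∀ g ∈ N, ∃ (z : GL ι F) (i j : Fin n), z ∈ scalars ι F ∧ z ^ n = 1 ∧
      g = z * (x ^ (i : ℕ) * y ^ (j : ℕ)) := by
    have hnd : ∀ {u : GL ι F}, u ∈ N → ∀ {v' : GL ι F}, v' ∈ N → ⁅u, v'⁆ = 1 ∨
        ∀ g ∈ N, ∃ j : Fin n, ⁅u, v'⁆ ^ (j : ℕ) = ⁅g, v'⁆ := by
      intro u hu v' hv'
      refine or_iff_not_imp_left.2 fun hne g hg => ?_
      obtain ⟨d, hd⟩ := (mem_scalars_iff _).1 (hab u hu v' hv')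
      obtain ⟨d', hd'⟩ := (mem_scalars_iff _).1 (hab g hg v' hv')
      obtain ⟨i'⟩ := (inferInstance : Nonempty ι)
      have hpw : ∀ {z : GL ι F} {a : Fˣ}, (z : Matrix ι ι F) = (a : F) • 1 → z ^ n = 1 → (a : F) ^ n = 1 := by
        intro z a h1 h2
        have := congrArg Units.val h2
        rw [Units.val_pow_eq_pow_val, h1, smul_pow, one_pow, Units.val_one] at this
        simpa using congrFun (congrFun this i') i'
      have hdp : IsPrimitiveRoot (d : F) n := by
        rw [← orderOf_eq_prime (hpw hd (modComm_pow (hab u hu v' hv'))) fun e => hne (Units.ext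
          (by rw [hd, e, one_smul, Units.val_one]))]
        exact IsPrimitiveRoot.orderOf _
      obtain ⟨j, hj, hjd⟩ := hdp.eq_pow_of_pow_eq_one (hpw hd' (modComm_pow (hab g hg v' hv')))
      exact ⟨⟨j, hj⟩, Units.ext (by rw [Units.val_pow_eq_pow_val, hd, smul_pow, one_pow, hjd, hd'])⟩
    intro g hg
    have hxy1 : ⁅x, y⁆ ≠ 1 := fun h => hxy (commutatorElement_eq_one_iff_mul_comm.1 h)
    have hyx1 : ⁅y, x⁆ ≠ 1 := fun h => hxy (commutatorElement_eq_one_iff_mul_comm.1 h).symm
    obtain ⟨i, hi⟩ := (hnd hx hy).resolve_left hxy1 g hg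
    obtain ⟨j, hj⟩ := (hnd hy hx).resolve_left hyx1 g hg
    set r := x ^ (i : ℕ) * y ^ (j : ℕ) with hr
    have hrN : r ∈ N := mul_mem (pow_mem hx _) (pow_mem hy _)
    have hry : ⁅r, y⁆ = ⁅g, y⁆ := by
      rw [← hi, ← commutator_pow_left (hab x hx y hy), hr]
      simp only [commutatorElement_def]
      group
    have hrx : ⁅r, x⁆ = ⁅g, x⁆ := by
      rw [← hj, ← commutator_pow_left (hab y hy x hx), hr]
      have hm : ⁅y ^ (j : ℕ), x⁆ ∈ scalars ι F := hab _ (pow_mem hy _) _ hx
      calc ⁅x ^ (i : ℕ) * y ^ (j : ℕ), x⁆ = x ^ (i : ℕ) * ⁅y ^ (j : ℕ), x⁆ * (x ^ (i : ℕ))⁻¹ := by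
            simp only [commutatorElement_def]; group
        _ = _ := by rw [← scalars_comm hm, mul_inv_cancel_right]
    have hcomm : ∀ t : GL ι F, t ∈ N → ⁅r, t⁆ = ⁅g, t⁆ → (g * r⁻¹) * t = t * (g * r⁻¹) := by
      intro t _ h
      have h' : r * t * r⁻¹ = g * t * g⁻¹ := by
        simp only [commutatorElement_def] at h
        exact mul_right_cancel h
      have hs : g * r⁻¹ * g⁻¹ * r ∈ scalars ι F := by
        have := hab g hg r⁻¹ (inv_mem hrN)
        rwa [ModComm, commutatorElement_def, inv_inv] at this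
      have h3 : r⁻¹ * g * t = t * (r⁻¹ * g) := by
        calc r⁻¹ * g * t = r⁻¹ * (g * t * g⁻¹) * g := by group
          _ = _ := by rw [← h']; group
      rw [show g * r⁻¹ = g * r⁻¹ * g⁻¹ * r * (r⁻¹ * g) by group, mul_assoc, h3, ← mul_assoc,
        scalars_comm hs t, mul_assoc]
    obtain ⟨a, ha⟩ := hcent ((g * r⁻¹ : GL ι F) : Matrix ι ι F)
      (congrArg Units.val (hcomm x hx hrx)) (congrArg Units.val (hcomm y hy hry))
    exact ⟨g * r⁻¹, i, j, mem_scalars_of_matrix ha, hexp _ (mul_mem hg (inv_mem hrN)), by rw [← hr]; group⟩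
  -- centre
  have hcard_center : Nat.card (Subgroup.center N) = n := by
    haveI : Fintype (Subgroup.center N) := Fintype.ofFinite _
    obtain ⟨i₀⟩ := (inferInstance : Nonempty ι)
    have hsc : ∀ z : Subgroup.center N, ∃ a : Fˣ, ((z : N) : GL ι F).val = (a : F) • (1 : Matrix ι ι F) := by
      intro z
      refine (mem_scalars_iff _).1 (mem_scalars_of_commute_group habs fun t ht => ?_)
      exact (congrArg Subtype.val (Subgroup.mem_center_iff.1 z.2 ⟨t, ht⟩)).symm
    choose a ha using hsc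
    have hinj : Function.Injective fun z : Subgroup.center N =>
        (⟨(a z : F), (Polynomial.mem_nthRootsFinset hn.pos (1 : F)).2 (by
          have h1 := congrArg Units.val (hexp _ (z : N).2)
          rw [Units.val_pow_eq_pow_val, ha z, smul_pow, one_pow, Units.val_one] at h1
          simpa using congrFun (congrFun h1 i₀) i₀)⟩ : {t // t ∈ Polynomial.nthRootsFinset n (1 : F)}) := by
      intro z z' h
      refine Subtype.ext (Subtype.ext (Units.ext ?_))
      rw [ha z, ha z', show (a z : F) = (a z' : F) from congrArg Subtype.val h]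
    have hle := Nat.card_le_card_of_injective _ hinj
    rw [Nat.card_eq_fintype_card, Nat.card_eq_fintype_card, Fintype.card_coe, hζ.card_nthRootsFinset] at hle
    have hp : IsPGroup n (Subgroup.center N) := fun z => ⟨1, by
      rw [pow_one]
      exact Subtype.ext (Subtype.ext (hexp _ (z : N).2))⟩
    obtain ⟨k, hk⟩ := IsPGroup.iff_card.1 hp
    rw [Nat.card_eq_fintype_card] at hk
    have hk0 : k ≠ 0 := by
      rintro rfl
      rw [pow_zero] at hk
      have hw : (⟨⁅y, x⁆, mul_mem (mul_mem (mul_mem hy hx) (inv_mem hy)) (inv_mem hx)⟩ : N) ∈ Subgroup.center N :=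
        Subgroup.mem_center_iff.2 fun t => Subtype.ext (scalars_comm (hab y hy x hx) (t : GL ι F)).symm
      have := Fintype.card_le_one_iff.1 hk.le ⟨_, hw⟩ 1
      exact hxy (commutatorElement_eq_one_iff_mul_comm.1
        (congrArg (fun q : Subgroup.center N => ((q : N) : GL ι F)) this)).symm
    have : k = 1 := by
      by_contra hk1
      have : n ^ 2 ≤ n ^ k := Nat.pow_le_pow_right hn.pos (by omega)
      rw [hk] at hle
      have := hn.two_le
      nlinarith
    rw [Nat.card_eq_fintype_card, hk, this, pow_one]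
  have hpg : IsPGroup n N := fun z => ⟨1, by rw [pow_one]; exact Subtype.ext (hexp _ z.2)⟩
  have hcard : Nat.card N = n ^ 3 := by
    obtain ⟨k, hk⟩ := IsPGroup.iff_card.1 hpg
    have hk3 : 3 ≤ k := by
      by_contra hk'
      refine hnc fun a ha b hb => ?_
      interval_cases k
      · haveI := (Nat.card_eq_one_iff_unique.1 (hk.trans (pow_zero n))).1
        exact congrArg Subtype.val (Subsingleton.elim (⟨a, ha⟩ * ⟨b, hb⟩ : N) (⟨b, hb⟩ * ⟨a, ha⟩))
      · haveI : IsCyclic N := isCyclic_of_prime_card (hk.trans (pow_one n))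
        exact congrArg Subtype.val (IsMulCommutative.is_comm.comm (⟨a, ha⟩ : N) ⟨b, hb⟩)
      · haveI := IsPGroup.isMulCommutative_of_card_eq_prime_sq (p := n) hk
        exact congrArg Subtype.val (IsMulCommutative.is_comm.comm (⟨a, ha⟩ : N) ⟨b, hb⟩)
    have hle : Nat.card N ≤ n ^ 3 := by
      let φ : Subgroup.center N × Fin n × Fin n → N := fun t =>
        (t.1 : N) * (⟨x, hx⟩ ^ (t.2.1 : ℕ) * ⟨y, hy⟩ ^ (t.2.2 : ℕ))
      have hsurj : Function.Surjective φ := by
        rintro ⟨g, hg⟩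
        obtain ⟨z, i, j, hz, -, rfl⟩ := hgen g hg
        have hzN : z ∈ N := by
          have := mul_mem hg (inv_mem (mul_mem (pow_mem hx (i : ℕ)) (pow_mem hy (j : ℕ))))
          rwa [mul_inv_cancel_right] at this
        exact ⟨(⟨⟨z, hzN⟩, Subgroup.mem_center_iff.2 fun t => Subtype.ext (scalars_comm hz _).symm⟩, i, j),
          Subtype.ext (by simp [φ])⟩
      refine (Nat.card_le_card_of_surjective φ hsurj).trans (le_of_eq ?_)
      rw [Nat.card_prod, Nat.card_prod, hcard_center, Nat.card_fin]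
      ring
    have : n ^ 3 ≤ Nat.card N := hk ▸ Nat.pow_le_pow_right hn.pos hk3
    omega
  refine ⟨⟨hn, hpg, ?_, ?_⟩, habs, hcard, hcard_center, ⟨ζ, hζ⟩, P⁻¹, ?_⟩
  · intro A hA hAc
    haveI : IsCyclic (Subgroup.center N) := isCyclic_of_prime_card hcard_center
    suffices hle : A ≤ Subgroup.center N from
      isCyclic_of_injective (Subgroup.inclusion hle) (Subgroup.inclusion_injective hle)
    intro a ha
    rcases hmin.minimal (A.map N.subtype) (by rintro _ ⟨t, -, rfl⟩; exact t.2) (fun h hh t ht => by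
        obtain ⟨t, ht, rfl⟩ := ht
        let cj : N ≃* N :=
          { toFun := fun s => ⟨h * s * h⁻¹, hmin.normal h hh s s.2⟩
            invFun := fun s => ⟨h⁻¹ * s * h, by simpa using hmin.normal h⁻¹ (inv_mem hh) s s.2⟩
            left_inv := fun s => Subtype.ext (by dsimp only; group)
            right_inv := fun s => Subtype.ext (by dsimp only; group)
            map_mul' := fun s s' => Subtype.ext (by simp [mul_assoc]) }
        exact ⟨cj t, (Subgroup.characteristic_iff_comap_eq.1 hA cj).symm.le ht, rfl⟩) with h1 | h1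
    · exact Subgroup.mem_center_iff.2 fun t =>
        Subtype.ext (scalars_comm (h1 ⟨a, ha, rfl⟩) (t : GL ι F)).symm
    · refine absurd (fun p hp q hq => ?_) hnc
      obtain ⟨p', hp', rfl⟩ : p ∈ A.map N.subtype := h1.symm ▸ hp
      obtain ⟨q', hq', rfl⟩ : q ∈ A.map N.subtype := h1.symm ▸ hq
      exact congrArg (fun s : A => ((s : N) : GL ι F)) (hAc.is_comm.comm ⟨p', hp'⟩ ⟨q', hq'⟩)
  · have hd : Monoid.exponent N ∣ n := Monoid.exponent_dvd_of_forall_pow_eq_one fun z => Subtype.ext (hexp _ z.2)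
    rw [show Nat.gcd 2 n = 1 from (Nat.coprime_two_left.2 hoddn), mul_one]
    refine ((Nat.dvd_prime hn).1 hd).resolve_left fun h1 => hxy ?_
    have := Monoid.exp_eq_one_iff.1 h1
    exact congrArg Subtype.val (Subsingleton.elim (⟨x, hx⟩ * ⟨y, hy⟩ : N) (⟨y, hy⟩ * ⟨x, hx⟩))
  · intro g hg
    obtain ⟨z, i, j, hz, hzn, rfl⟩ := hgen g hg
    rw [inv_inv]
    have hmp : ∀ (u : GL ι F), IsMono n ((P⁻¹ * u * P : GL ι F) : Matrix ι ι F) → ∀ k : ℕ,
        IsMono n ((P⁻¹ * u ^ k * P : GL ι F) : Matrix ι ι F) := by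
      intro u hu k
      induction k with
      | zero =>
        rw [pow_zero, mul_one, inv_mul_cancel, Units.val_one]
        exact isMono_one n
      | succ k ih =>
        rw [show P⁻¹ * u ^ (k + 1) * P = (P⁻¹ * u ^ k * P) * (P⁻¹ * u * P) by rw [pow_succ]; group, Units.val_mul]
        exact ih.mul hu
    have hmz : IsMono n (z : Matrix ι ι F) := by
      obtain ⟨a, ha⟩ := (mem_scalars_iff z).1 hz
      obtain ⟨i₀⟩ := (inferInstance : Nonempty ι)
      refine ⟨1, fun _ => (a : F), fun _ => ?_, fun u i => by simp [ha, smul_mulVec]⟩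
      have h1 := congrArg Units.val hzn
      rw [Units.val_pow_eq_pow_val, ha, smul_pow, one_pow, Units.val_one] at h1
      simpa using congrFun (congrFun h1 i₀) i₀
    have e' : P⁻¹ * (z * (x ^ (i : ℕ) * y ^ (j : ℕ))) * P =
        z * ((P⁻¹ * x ^ (i : ℕ) * P) * (P⁻¹ * y ^ (j : ℕ) * P)) := by
      rw [← mul_assoc P⁻¹ z, ← scalars_comm hz P⁻¹]; group
    rw [e', Units.val_mul, Units.val_mul]
    exact hmz.mul ((hmp x hmx i).mul (hmp y hmy j))

end CfsgLib.AschPrime
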