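import Cfsg.Agent.Lib.Aschbacher.SmallField
import Cfsg.Agent.Lib.Geom.SubfieldGroups
import Cfsg.Agent.Lib.Geom.Golden

/-!
Maximal subgroups of `SL_n(q)`, `n` an odd prime.
-/

set_option autoImplicit false
set_option linter.unusedSectionVars false

namespace CfsgLib.AschPrime

open Matrix Cfsg.Geo
open scoped MatrixGroups

variable {F : Type*} [Field F] [Fintype F]

theorem exists_prime_index_subfield {F₀ : Subfield F} (h : F₀ ≠ ⊤) :
    ∃ (F₁ : Subfield F) (r : ℕ), F₀ ≤ F₁ ∧ F₁ ≠ ⊤ ∧ r.Prime ∧ Fintype.card F = Nat.card F₁ ^ r := by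
  set u := Nat.card F₀ with hu
  have hu1 : 1 < u := by
    rw [hu]
    exact Finite.one_lt_card
  obtain ⟨d, hd⟩ : ∃ d, u ^ d = Fintype.card F :=
    ⟨Module.finrank F₀ F, by rw [hu, ← Module.natCard_eq_pow_finrank, Nat.card_eq_fintype_card]⟩
  have hd1 : d ≠ 1 := by
    rintro rfl
    rw [pow_one, ← Nat.card_eq_fintype_card, hu] at hd
    refine h (eq_top_iff.2 fun x _ => ?_)
    obtain ⟨y, rfl⟩ := ((Nat.bijective_iff_injective_and_card (Subtype.val : F₀ → F)).2
      ⟨Subtype.val_injective, hd⟩).2 x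
    exact y.2
  have hd0 : d ≠ 0 := by
    rintro rfl
    have := Fintype.one_lt_card (α := F)
    rw [← hd, pow_zero] at this
    omega
  have hr := Nat.minFac_prime hd1
  obtain ⟨s, hs⟩ := Nat.minFac_dvd d
  have hs0 : 0 < s := Nat.pos_of_ne_zero fun e => hd0 (by rw [hs, e, mul_zero])
  obtain ⟨F₁, hle, hcard⟩ :=
    CfsgLib.Geom.Moebius.exists_intermediate hu.symm hd (s := s) (Dvd.intro_left _ hs.symm) hs0
  have hc : Fintype.card F = Nat.card F₁ ^ d.minFac := by
    rw [hcard, ← pow_mul, mul_comm, ← hs, hd]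
  refine ⟨F₁, d.minFac, hle, fun e => ?_, hr, hc⟩
  have h1 : Nat.card F₁ = Fintype.card F := by
    rw [e, ← Nat.card_eq_fintype_card]
    exact Nat.card_congr Subfield.topEquiv.toEquiv
  rw [h1] at hc
  have h2 := Nat.pow_lt_pow_right (Fintype.one_lt_card (α := F)) hr.one_lt
  rw [← hc, pow_one] at h2
  exact lt_irrefl _ h2

variable {n : ℕ}

theorem subfieldSubgroup_mono {F₀ F₁ : Subfield F} (h : F₀ ≤ F₁) (P : GL (Fin n) F) :
    subfieldSubgroup F₀ P ≤ subfieldSubgroup F₁ P := by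
  refine Subgroup.map_mono (sup_le_sup_right ?_ _)
  rintro _ ⟨A, rfl⟩
  exact ⟨Matrix.GeneralLinearGroup.map (Subfield.inclusion h) A, Units.ext rfl⟩

theorem subfield_branch (h3 : 3 ≤ n) {H : Subgroup (GL (Fin n) F)} (hH : IsMaximalIn (specialLinear (Fin n) F) H)
    {F₀ : Subfield F} (hF₀ : F₀ ≠ ⊤) {P : GL (Fin n) F} (hle : H ≤ subfieldSubgroup F₀ P) :
    ∃ (F₀ : Subfield F) (r : ℕ) (P : GL (Fin n) F), r.Prime ∧ Fintype.card F = Nat.card F₀ ^ r ∧
      H = subfieldSubgroup F₀ P ⊓ specialLinear (Fin n) F := by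
  obtain ⟨F₁, r, h01, hne, hr, hc⟩ := exists_prime_index_subfield hF₀
  exact ⟨F₁, r, P, hr, hc, eq_inf_of_maximal hH (hle.trans (subfieldSubgroup_mono h01 P))
    (not_le_subfieldSubgroup (by rwa [Fintype.card_fin]) hne P)⟩

/-- Maximal subgroups of `SL_n(q)` for an odd prime `n`. -/
theorem maximal_sl_cases (hn : n.Prime) (h2 : n ≠ 2) (H : Subgroup (GL (Fin n) F))
    (hH : IsMaximalIn (specialLinear (Fin n) F) H) :
    (∃ W : Submodule F (Fin n → F), W ≠ ⊥ ∧ W ≠ ⊤ ∧ H = subspaceStabilizer W ⊓ specialLinear (Fin n) F) ∨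
    (5 ≤ Fintype.card F ∧ ∃ D : Fin n → Submodule F (Fin n → F), IsMDecomposition 1 D ∧
      H = decompositionStabilizer D ⊓ specialLinear (Fin n) F) ∨
    (¬ (n = 3 ∧ Fintype.card F = 4) ∧ ∃ K : Subalgebra F (Matrix (Fin n) (Fin n) F), IsFieldSubalgebra n K ∧
      H = subalgebraNormalizer K ⊓ specialLinear (Fin n) F) ∨
    (∃ (F₀ : Subfield F) (r : ℕ) (P : GL (Fin n) F), r.Prime ∧ Fintype.card F = Nat.card F₀ ^ r ∧
      H = subfieldSubgroup F₀ P ⊓ specialLinear (Fin n) F) ∨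
    (∃ (p e : ℕ) (R : Subgroup (GL (Fin n) F)), p.Prime ∧ CharP F p ∧ Fintype.card F = p ^ e ∧ Odd e ∧
      n ∣ p ^ e - 1 ∧ (∀ d, 0 < d → d < e → ¬ n ∣ p ^ d - 1) ∧ IsLinearSymplecticTypeData n R ∧
      H = subgroupNormalizer R ⊓ specialLinear (Fin n) F) ∨
    (Odd (Fintype.card F) ∧ ∃ Q : (Fin n → F) → F, IsNondegenerateQuadraticForm Q ∧
      H = quadSimilarityGroup Q ⊓ specialLinear (Fin n) F) ∨
    (∃ (σ : F ≃+* F) (f : (Fin n → F) → (Fin n → F) → F), IsUnitaryForm σ f ∧
      H = similarityGroup f ⊓ specialLinear (Fin n) F) ∨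
    InLinearResidualClass H := by
  classical
  have h3' : 3 ≤ n := by have := hn.two_le; omega
  have hcard : Fintype.card (Fin n) = n := Fintype.card_fin n
  have hn' : (Fintype.card (Fin n)).Prime := hcard.symm ▸ hn
  have h3 : 3 ≤ Fintype.card (Fin n) := hcard.symm ▸ h3'
  haveI : Nonempty (Fin n) := Fintype.card_pos_iff.1 hn'.pos
  have hoddn : Odd (Fintype.card (Fin n)) := hcard.symm ▸ hn.odd_of_ne_two h2
  by_cases hirr : ActsIrreducibly (matrixSet H)
  swap
  · obtain ⟨W, hW, h0, h1⟩ : ∃ W : Submodule F (Fin n → F), (∀ s ∈ matrixSet H, W.map (Matrix.toLin' s) ≤ W) ∧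
        W ≠ ⊥ ∧ W ≠ ⊤ := by
      simpa only [ActsIrreducibly, not_forall, not_or, exists_prop, ne_eq] using hirr
    refine .inl ⟨W, h0, h1, eq_inf_of_maximal hH (fun g hg => ?_) (not_le_subspaceStabilizer h0 h1)⟩
    exact CfsgLib.MaxSub.mem_subspaceStabilizer_of_maps (mapsTo_iff_map_le.1 (hW _ (mem_matrixSet hg)))
  right
  have hsub : ∀ {F₀ : Subfield F}, F₀ ≠ ⊤ → ∀ {P : GL (Fin n) F}, H ≤ subfieldSubgroup F₀ P →
      ∃ (F₀ : Subfield F) (r : ℕ) (P : GL (Fin n) F), r.Prime ∧ Fintype.card F = Nat.card F₀ ^ r ∧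
        H = subfieldSubgroup F₀ P ⊓ specialLinear (Fin n) F := fun h P hle => subfield_branch h3' hH h hle
  have hunit : ∀ {σ : F ≃+* F} {f : (Fin n → F) → (Fin n → F) → F}, IsUnitaryForm σ f → H ≤ similarityGroup f →
      ∃ (σ : F ≃+* F) (f : (Fin n → F) → (Fin n → F) → F), IsUnitaryForm σ f ∧
        H = similarityGroup f ⊓ specialLinear (Fin n) F := fun {σ f} hf hle =>
    ⟨σ, f, hf, eq_inf_of_maximal hH hle (not_le_similarityGroup h3 hf.isSesqForm hf.nondegenerate)⟩
  have hquad : ∀ {Q : (Fin n → F) → F}, IsNondegenerateQuadraticForm Q → H ≤ quadSimilarityGroup Q →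
      Odd (Fintype.card F) ∧ ∃ Q : (Fin n → F) → F, IsNondegenerateQuadraticForm Q ∧
        H = quadSimilarityGroup Q ⊓ specialLinear (Fin n) F := by
    intro Q hQ hle
    refine ⟨?_, Q, hQ, eq_inf_of_maximal hH hle (not_le_quadSimilarityGroup h3 hQ)⟩
    have h20 := two_ne_zero_of_quadratic hoddn hQ
    rcases Nat.even_or_odd (Fintype.card F) with he | ho
    · exfalso
      refine h20 ?_
      obtain ⟨p, hp⟩ := CharP.exists F
      obtain ⟨k, hpp, hk⟩ := FiniteField.card F p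
      haveI := Fact.mk hpp
      rw [hk, Nat.even_pow, Nat.Prime.even_iff hpp] at he
      obtain ⟨rfl, -⟩ := he
      exact_mod_cast CharP.cast_eq_zero F 2
    · exact ho
  rcases prime_dim_cases hn' (hcard.symm ▸ h2) hirr with ⟨D, hD, hle⟩ | ⟨K, hK, hle⟩ | ⟨R, hRH, hR, hRn⟩ | ⟨P, hP⟩
  · -- decomposition into lines
    obtain ⟨D, hD, hle⟩ : ∃ D : Fin n → Submodule F (Fin n → F), IsMDecomposition 1 D ∧
        H ≤ decompositionStabilizer D := by
      revert hD hle
      generalize hDD : D = D₀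
      clear hDD
      revert D₀
      rw [hcard]
      exact fun D₀ h1 h2 => ⟨D₀, h1, h2⟩
    by_cases h5 : 5 ≤ Fintype.card F
    · exact .inl ⟨h5, D, hD, eq_inf_of_maximal hH hle (not_le_decompositionStabilizer hD)⟩
    have h2q : 2 ≤ Fintype.card F := Fintype.one_lt_card
    obtain h | h | h : Fintype.card F = 2 ∨ Fintype.card F = 3 ∨ Fintype.card F = 4 := by omega
    · exact absurd hirr (reducible_of_card_two h hD (by omega) hle)
    · obtain ⟨Q, hQ, hQle⟩ := le_quadSimilarity_of_card_three (ι := Fin n) h hD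
      exact .inr (.inr (.inr (.inr (.inl (hquad hQ (hle.trans hQle))))))
    · obtain ⟨σ, f, hf, hfle⟩ := le_unitarySimilarity_of_card_four (ι := Fin n) h hD
      exact .inr (.inr (.inr (.inr (.inr (.inl (hunit hf (hle.trans hfle)))))))
  · -- extension field
    rw [hcard] at hK
    by_cases h34 : n = 3 ∧ Fintype.card F = 4
    · obtain ⟨rfl, hq⟩ := h34
      obtain ⟨F₀, P, hF₀, hF₀le⟩ := field_le_subfield_of_card_four hq hK
      refine .inr (.inr (.inl (hsub (F₀ := F₀) ?_ ((le_inf hle hH.1.le).trans hF₀le))))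
      intro e
      rw [e, Nat.card_congr Subfield.topEquiv.toEquiv, Nat.card_eq_fintype_card, hq] at hF₀
      norm_num at hF₀
    · exact .inr (.inl ⟨h34, K, hK, eq_inf_of_maximal hH hle
        (not_le_subalgebraNormalizer h3 hn.ne_one hK)⟩)
  · -- extraspecial normaliser
    obtain ⟨p, hp⟩ := CharP.exists F
    obtain ⟨⟨e, he0⟩, hpp, hk⟩ := FiniteField.card F p
    change Fintype.card F = p ^ e at hk
    haveI := Fact.mk hpp
    obtain ⟨ζ, hζ⟩ := hR.primRoot
    rw [hcard] at hζ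
    haveI : NeZero n := ⟨hn.ne_zero⟩
    have hζ0 : ζ ≠ 0 := hζ.ne_zero hn.ne_zero
    have hdvd : n ∣ p ^ e - 1 := by
      rw [hζ.eq_orderOf, orderOf_dvd_iff_pow_eq_one, ← hk]
      exact FiniteField.pow_card_sub_one_eq_one ζ hζ0
    have hnp : n ≠ p := by
      rintro rfl
      exact (hζ.neZero' (R := F)).out (CharP.cast_eq_zero F _)
    by_cases hmin : ∀ d, 0 < d → d < e → ¬ n ∣ p ^ d - 1
    · rcases Nat.even_or_odd e with heven | hodd
      · -- a unitary form is fixed
        obtain ⟨m, rfl⟩ := heven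
        have hm0 : 0 < m := by omega
        haveI : ExpChar F p := ExpChar.prime hpp
        let σ : F ≃+* F := iterateFrobeniusEquiv F p m
        have hσ : ∀ x, σ x = x ^ p ^ m := fun x => iterateFrobeniusEquiv_def F p m x
        have hplus : n ∣ p ^ m + 1 := by
          have h1 : p ^ (m + m) - 1 = (p ^ m + 1) * (p ^ m - 1) := by
            rw [pow_add, ← Nat.sq_sub_sq, one_pow, sq]
          rw [h1] at hdvd
          exact (hn.dvd_mul.1 hdvd).resolve_right (hmin m hm0 (by omega))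
        obtain ⟨f, hf, hfix⟩ := hR.fixes_unitary (σ := σ) (fun hσe => by
            refine hmin m hm0 (by omega) ?_
            rw [hζ.eq_orderOf, orderOf_dvd_iff_pow_eq_one]
            refine mul_left_cancel₀ hζ0 ?_
            rw [← pow_succ', Nat.sub_add_cancel (Nat.one_le_pow _ _ hpp.pos), ← hσ, hσe, mul_one]
            rfl)
          (fun a => by rw [hσ, hσ, ← pow_mul, ← pow_add, ← hk]; exact FiniteField.pow_card a)
          (fun c hc => by
            rw [hcard] at hc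
            rw [hσ, ← pow_succ']
            obtain ⟨k, hk'⟩ := hplus
            rw [hk', pow_mul, hc, one_pow])
        exact .inr (.inr (.inr (.inr (.inr (.inl (hunit hf fun g hg =>
          mem_similarityGroup_of_normalizes hR.absIrred hf.isSesqForm hf.nondegenerate hfix (hRn g hg)))))))
      · refine .inr (.inr (.inr (.inl ⟨p, e, R, hpp, hp, hk, hodd, hdvd, hmin,
          ⟨by have := hR.symplecticType; rwa [hcard] at this, hR.absIrred, p, e, hnp, ?_, .inl ⟨hn.odd_of_ne_two h2, hodd, ?_, 1, le_rfl, ?_⟩⟩,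
          eq_inf_of_maximal hH (le_subgroupNormalizer hRn) (not_le_subgroupNormalizer hn' h3 hR)⟩)))
        · rw [hR.card_center, hcard]
          exact ⟨hpp, hp, hk, hdvd, hmin⟩
        · rw [hR.card_center, hcard]
        · rw [hR.card_eq, hcard]
    · -- realisable over a smaller field
      push Not at hmin
      obtain ⟨d, hd0, hde, hd⟩ := hmin
      set g := Nat.gcd d e
      have hg : n ∣ p ^ g - 1 := by
        rw [← Nat.pow_sub_one_gcd_pow_sub_one]
        exact Nat.dvd_gcd hd hdvd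
      have hg0 : 0 < g := Nat.gcd_pos_of_pos_left _ hd0
      have hge : g < e := (Nat.gcd_le_left _ hd0).trans_lt hde
      obtain ⟨K, hK, -⟩ := CfsgLib.Geom.Moebius.exists_primeSubfield (F := F) p
      obtain ⟨F₀, -, hF₀⟩ :=
        CfsgLib.Geom.Moebius.exists_intermediate hK hk.symm (s := g) (Nat.gcd_dvd_right d e) hg0
      obtain ⟨B, hB⟩ := hR.rational (F₀ := F₀) fun c hc => by
        rw [hcard] at hc
        refine CfsgLib.Geom.Golden.mem_subfield_of_pow_eq hF₀ ?_
        obtain ⟨k, hk'⟩ := hg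
        rw [← Nat.sub_add_cancel (Nat.one_le_pow g p hpp.pos), hk', pow_succ, pow_mul, hc, one_pow, one_mul]
      refine .inr (.inr (.inl (hsub (F₀ := F₀) ?_ fun g hg =>
        mem_subfieldSubgroup_of_normalizes hR.absIrred hB (hRn g hg))))
      intro e'
      rw [e', Nat.card_congr Subfield.topEquiv.toEquiv, Nat.card_eq_fintype_card, hk] at hF₀
      exact hge.ne' (Nat.pow_right_injective hpp.two_le hF₀)
  · -- almost simple
    by_cases hreal : ∃ F₀ : Subfield F, F₀ ≠ ⊤ ∧ RealisableOver F₀ (matrixSet P)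
    · obtain ⟨F₀, hF₀, B, hB⟩ := hreal
      exact .inr (.inr (.inl (hsub hF₀ fun g hg => mem_subfieldSubgroup_of_normalizes hP.absIrred
        (fun x hx i j => by rw [Units.val_mul, Units.val_mul]; exact hB _ (mem_matrixSet hx) i j)
        (hP.normal g hg))))
    by_cases hu : ∃ (σ : F ≃+* F) (f : (Fin n → F) → (Fin n → F) → F), IsUnitaryForm σ f ∧
        FixesForm (matrixSet P) f
    · obtain ⟨σ, f, hf, hfix⟩ := hu
      exact .inr (.inr (.inr (.inr (.inr (.inl (hunit hf fun g hg =>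
        mem_similarityGroup_of_normalizes hP.absIrred hf.isSesqForm hf.nondegenerate hfix (hP.normal g hg)))))))
    by_cases hQ : ∃ Q : (Fin n → F) → F, IsNondegenerateQuadraticForm Q ∧ FixesQuadForm (matrixSet P) Q
    · obtain ⟨Q, hQ, hfix⟩ := hQ
      exact .inr (.inr (.inr (.inr (.inl (hquad hQ fun g hg =>
        mem_quadSimilarityGroup_of_normalizes hoddn hP.absIrred hQ hfix (hP.normal g hg))))))
    refine .inr (.inr (.inr (.inr (.inr (.inr ⟨P, ⟨hP.le, hP.normal, hP.perfect, hP.simple, hP.nonabelian,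
      hP.centralizer_scalar, hP.absIrred, fun F₀ h h' => hreal ⟨F₀, h, h'⟩⟩, hQ, ?_, hu⟩)))))
    rintro ⟨f, hf, -⟩
    have hu := hf.bilinear.isSesqForm.gram_isUnit hf.nondegenerate
    rw [Matrix.isUnit_iff_isUnit_det] at hu
    exact hu.ne_zero (two_ne_zero_of_quadratic.det_eq_zero_of_alt hoddn
      (fun i => hf.alternating _) fun i j => hf.skew _ _)

end CfsgLib.AschPrime
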