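import Cfsg.Agent.Lib.Aschbacher.Basic
import Mathlib.RingTheory.IntegralDomain

/-!
A minimal non-scalar normal subgroup of an irreducible group of prime degree: if it is not abelian modulo scalars it
is perfect, absolutely irreducible and simple modulo scalars.
-/

set_option autoImplicit false
set_option linter.unusedSectionVars false

namespace CfsgLib.AschPrime

open Matrix Cfsg.Geo
open scoped MatrixGroups commutatorElement

variable {ι : Type} [Fintype ι] [DecidableEq ι] {F : Type*} [Field F]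

/-- `N` is minimal among the non-scalar normal subgroups of `H`. -/
structure IsMinNonscalar (H N : Subgroup (GL ι F)) : Prop where
  le : N ≤ H
  normal : ∀ h ∈ H, ∀ x ∈ N, h * x * h⁻¹ ∈ N
  nonscalar : ¬ N ≤ scalars ι F
  minimal : ∀ M : Subgroup (GL ι F), M ≤ N → (∀ h ∈ H, ∀ x ∈ M, h * x * h⁻¹ ∈ M) → M ≤ scalars ι F ∨ M = N

theorem exists_minNonscalar [Finite F] {H : Subgroup (GL ι F)} (hH : ¬ H ≤ scalars ι F) :
    ∃ N, IsMinNonscalar H N := by
  haveI : Finite (GL ι F) := Finite.of_injective (fun g => (g : Matrix ι ι F)) fun _ _ => Units.ext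
  obtain ⟨N, ⟨h1, h2, h3⟩, hmin⟩ := WellFounded.has_min
    (InvImage.wf (fun N : Subgroup (GL ι F) => Nat.card N) Nat.lt_wfRel.wf)
    {N | N ≤ H ∧ (∀ h ∈ H, ∀ x ∈ N, h * x * h⁻¹ ∈ N) ∧ ¬ N ≤ scalars ι F}
    ⟨H, le_rfl, fun h hh x hx => mul_mem (mul_mem hh hx) (inv_mem hh), hH⟩
  refine ⟨N, h1, h2, h3, fun M hMN hM => (em (M ≤ scalars ι F)).imp_right fun hMs => ?_⟩
  exact Subgroup.eq_of_le_of_card_ge hMN (not_lt.1 (hmin M ⟨hMN.trans h1, hM, hMs⟩))

/-- commutation modulo scalars -/
def ModComm (x y : GL ι F) : Prop := ⁅x, y⁆ ∈ scalars ι F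

theorem modComm_iff {x y : GL ι F} :
    ModComm x y ↔ Commute (QuotientGroup.mk (s := scalars ι F) x) (QuotientGroup.mk y) := by
  rw [ModComm, ← QuotientGroup.eq_one_iff, ← QuotientGroup.mk'_apply, map_commutatorElement,
    commutatorElement_eq_one_iff_commute]
  rfl

/-- If `a`, `b` commute with `m` modulo scalars then `⁅a, b⁆` commutes with `m`. -/
theorem commutator_commute {a b m : GL ι F} (ha : ModComm a m) (hb : ModComm b m) :
    Commute ⁅a, b⁆ m := by
  let k : GL ι F → GL ι F → GL ι F := fun x y => x * y * x⁻¹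
  have ksc : ∀ z ∈ scalars ι F, ∀ x y, k x (z * y) = z * k x y := fun z hz x y => by
    change x * (z * y) * x⁻¹ = z * (x * y * x⁻¹)
    rw [← mul_assoc x z y, ← scalars_comm hz x]
    group
  have kinv : ∀ x, ModComm x m → k x⁻¹ m = ⁅x, m⁆⁻¹ * m := fun x hx => by
    have h1 : k x⁻¹ (⁅x, m⁆ * m) = m := by
      change x⁻¹ * (⁅x, m⁆ * m) * x⁻¹⁻¹ = m
      rw [commutatorElement_def]
      group
    rw [ksc _ hx] at h1
    exact eq_inv_mul_of_mul_eq h1
  have kfwd : ∀ x, k x m = ⁅x, m⁆ * m := fun x => by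
    change x * m * x⁻¹ = ⁅x, m⁆ * m
    rw [commutatorElement_def]
    group
  have h1 : k a (k b (k a⁻¹ (k b⁻¹ m))) = m := by
    rw [kinv b hb, ksc _ (inv_mem hb), kinv a ha, ksc _ (inv_mem hb), ksc _ (inv_mem ha), kfwd b,
      ksc _ (inv_mem hb), ksc _ (inv_mem ha), ksc _ hb, kfwd a, ← mul_assoc (⁅b, m⁆),
      ← scalars_comm ha ⁅b, m⁆]
    group
  have h2 : k ⁅a, b⁆ m = m := by
    refine Eq.trans ?_ h1
    simp only [k, commutatorElement_def]
    group
  exact mul_inv_eq_iff_eq_mul.1 h2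

theorem commutator_mem_scalars_of_modComm [Nonempty ι] {M M' : Subgroup (GL ι F)}
    (hM : ActsAbsolutelyIrreducibly (matrixSet M)) (h : ∀ a ∈ M', ∀ m ∈ M, ModComm a m)
    {a b : GL ι F} (ha : a ∈ M') (hb : b ∈ M') : ModComm a b :=
  mem_scalars_of_commute_group hM fun m hm => commutator_commute (h a ha m hm) (h b hb m hm)

/-- A perfect group normalising a field subalgebra centralises it. -/
theorem perfect_centralizes [Finite F] [Nonempty ι] {r : ℕ} {K : Subalgebra F (Matrix ι ι F)}
    (hK : IsFieldSubalgebra r K) {N : Subgroup (GL ι F)} (hperf : ⁅N, N⁆ = N)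
    (hN : N ≤ subalgebraNormalizer K) {x : GL ι F} (hx : x ∈ N) {k : Matrix ι ι F} (hk : k ∈ K) :
    (x : Matrix ι ι F) * k = k * (x : Matrix ι ι F) := by
  classical
  haveI : Finite K := Finite.of_injective _ Subtype.val_injective
  letI : CommRing K :=
    { (inferInstance : Ring K) with mul_comm := fun a b => Subtype.ext (hK.comm _ a.2 _ b.2) }
  haveI : IsDomain K := by
    haveI : NoZeroDivisors K := ⟨fun {a b} h => by
      by_contra hc
      rw [not_or] at hc
      obtain ⟨y, -, hy⟩ := hK.inv _ a.2 fun e => hc.1 (Subtype.ext e)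
      have hy' : y * (a : Matrix ι ι F) = 1 := mul_eq_one_comm.1 hy
      refine hc.2 (Subtype.ext ?_)
      have h2 : (a : Matrix ι ι F) * (b : Matrix ι ι F) = 0 := congrArg Subtype.val h
      have h3 : y * ((a : Matrix ι ι F) * (b : Matrix ι ι F)) = 0 := by rw [h2, mul_zero]
      rw [← mul_assoc, hy', one_mul] at h3
      exact h3⟩
    exact NoZeroDivisors.to_isDomain _
  haveI : IsCyclic Kˣ := isCyclic_of_subgroup_isDomain (Units.coeHom K) Units.val_injective
  obtain ⟨θ, hθ⟩ := IsCyclic.exists_monoid_generator (α := Kˣ)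
  set T : Matrix ι ι F := ((θ : K) : Matrix ι ι F) with hT
  have hT0 : T ≠ 0 := fun e => θ.ne_zero (Subtype.ext e)
  have hgen : ∀ k ∈ K, k ≠ 0 → ∃ j : ℕ, k = T ^ j := by
    intro k hk h0
    obtain ⟨y, hy, hky⟩ := hK.inv k hk h0
    let u : Kˣ := ⟨⟨k, hk⟩, ⟨y, hy⟩, Subtype.ext hky, Subtype.ext (mul_eq_one_comm.1 hky)⟩
    obtain ⟨j, hj⟩ := Submonoid.mem_powers_iff _ _ |>.1 (hθ u)
    refine ⟨j, ?_⟩
    have := congrArg (fun v : Kˣ => ((v : K) : Matrix ι ι F)) hj
    simpa [u] using this.symm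
  let cj : GL ι F → Matrix ι ι F → Matrix ι ι F :=
    fun g A => (g : Matrix ι ι F) * A * ((g⁻¹ : GL ι F) : Matrix ι ι F)
  have cmul : ∀ g h A, cj (g * h) A = cj g (cj h A) := fun g h A => by
    simp only [cj, Units.val_mul, _root_.mul_inv_rev, mul_assoc]
  have cpow : ∀ g A (j : ℕ), cj g (A ^ j) = cj g A ^ j := by
    intro g A j
    exact Units.conj_pow g A j |>.symm
  have cfix : ∀ g A, cj g A = A → (g : Matrix ι ι F) * A = A * (g : Matrix ι ι F) := by
    intro g A h
    have h1 := congrArg (· * (g : Matrix ι ι F)) h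
    simp only [cj] at h1
    rwa [mul_assoc, ← Units.val_mul, inv_mul_cancel, Units.val_one, mul_one] at h1
  have hexp : ∀ g ∈ N, ∃ a : ℕ, cj g T = T ^ a := fun g hg =>
    hgen _ ((hN hg T).1 θ.1.2) fun e => hT0 (by
      have h1 := congrArg (cj g⁻¹) e
      rw [← cmul, inv_mul_cancel] at h1
      simpa [cj] using h1)
  have hcomm : ∀ g ∈ N, ∀ h ∈ N, cj ⁅g, h⁆ T = T := by
    intro g hg h hh
    obtain ⟨a, ha⟩ := hexp g hg
    obtain ⟨b, hb⟩ := hexp h hh
    have e1 : cj (g * h) T = cj (h * g) T := by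
      rw [cmul, cmul, ha, hb, cpow, cpow, ha, hb, ← pow_mul, ← pow_mul, mul_comm]
    have ecomm : h * g * (h * g)⁻¹ = 1 := mul_inv_cancel _
    calc cj ⁅g, h⁆ T = cj (g * h) (cj (h * g)⁻¹ T) := by
          rw [← cmul]; congr 1; rw [commutatorElement_def]; group
      _ = T := by
          obtain ⟨c, hc⟩ := hexp _ (inv_mem (mul_mem hh hg))
          rw [hc, cpow, e1, ← cpow, ← hc, ← cmul, ecomm]
          simp [cj]
  have hfix : cj x T = T := by
    have hx' : x ∈ ⁅N, N⁆ := hperf.symm ▸ hx
    clear hx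
    rw [Subgroup.commutator_def] at hx'
    induction hx' using Subgroup.closure_induction with
    | mem y hy => obtain ⟨g, hg, h, hh, rfl⟩ := hy; exact hcomm g hg h hh
    | one => simp [cj]
    | mul a b _ _ ha hb => rw [cmul, hb, ha]
    | inv a _ ha =>
      calc cj a⁻¹ T = cj a⁻¹ (cj a T) := by rw [ha]
        _ = T := by rw [← cmul, inv_mul_cancel]; simp [cj]
  rcases eq_or_ne k 0 with rfl | h0
  · rw [mul_zero, zero_mul]
  · obtain ⟨j, rfl⟩ := hgen k hk h0
    exact (show Commute (x : Matrix ι ι F) T from cfix x T hfix).pow_right j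

/-- The part of the residual-class conditions not mentioning subfields or forms. -/
structure IsSimpleCore (H P : Subgroup (GL ι F)) : Prop where
  le : P ≤ H
  normal : ∀ h ∈ H, ∀ x ∈ P, h * x * h⁻¹ ∈ P
  perfect : ⁅P, P⁆ = P
  simple : IsSimpleGroup (P ⧸ (scalars ι F).subgroupOf P)
  nonabelian : ¬ IsMulCommutative (P ⧸ (scalars ι F).subgroupOf P)
  centralizer_scalar : ∀ h ∈ H, (∀ x ∈ P, h * x * h⁻¹ * x⁻¹ ∈ scalars ι F) → h ∈ scalars ι F
  absIrred : ActsAbsolutelyIrreducibly (matrixSet P)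

theorem conj_mem_scalars {z : GL ι F} (hz : z ∈ scalars ι F) (h : GL ι F) : h * z * h⁻¹ ∈ scalars ι F := by
  rw [← scalars_comm hz, mul_inv_cancel_right]; exact hz

theorem modComm_conj {a b : GL ι F} (hab : ModComm a b) (h : GL ι F) :
    ModComm (h * a * h⁻¹) (h * b * h⁻¹) := by
  rw [ModComm, show ⁅h * a * h⁻¹, h * b * h⁻¹⁆ = h * ⁅a, b⁆ * h⁻¹ by
    simp only [commutatorElement_def]; group]
  exact conj_mem_scalars hab h

set_option maxHeartbeats 1000000 in
theorem simpleCore_of_perfect [Finite F] (hn : (Fintype.card ι).Prime) {H N : Subgroup (GL ι F)}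
    (hmin : IsMinNonscalar H N) (habs : ActsAbsolutelyIrreducibly (matrixSet N))
    (hperf : ⁅N, N⁆ = N) : IsSimpleCore H N := by
  classical
  haveI : Nonempty ι := Fintype.card_pos_iff.1 hn.pos
  haveI : Finite (GL ι F) := Finite.of_injective (fun g => (g : Matrix ι ι F)) fun _ _ => Units.ext
  have hna : ¬ ∀ a ∈ N, ∀ b ∈ N, ModComm a b := fun h =>
    hmin.nonscalar (hperf.symm.le.trans (Subgroup.commutator_le.2 h))
  -- every normal subgroup of `N` is scalar or everything
  have hnorm : ∀ M : Subgroup (GL ι F), M ≤ N → (∀ x ∈ N, ∀ m ∈ M, x * m * x⁻¹ ∈ M) →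
      M ≤ scalars ι F ∨ M = N := by
    by_contra hcon
    push Not at hcon
    obtain ⟨M0, hM0⟩ := hcon
    obtain ⟨M, ⟨hMN, hMn, hMs, hMne⟩, hMmin⟩ := WellFounded.has_min
      (InvImage.wf (fun M : Subgroup (GL ι F) => Nat.card M) Nat.lt_wfRel.wf)
      {M | M ≤ N ∧ (∀ x ∈ N, ∀ m ∈ M, x * m * x⁻¹ ∈ M) ∧ ¬ M ≤ scalars ι F ∧ M ≠ N} ⟨M0, hM0⟩
    let cM : H → Subgroup (GL ι F) := fun h => M.map (MulAut.conj (h : GL ι F)).toMonoidHom
    have hcMem : ∀ (h : H) m, m ∈ cM h ↔ (h : GL ι F)⁻¹ * m * h ∈ M := by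
      intro h m
      constructor
      · rintro ⟨y, hy, rfl⟩
        simpa [mul_assoc] using hy
      · intro hm
        exact ⟨_, hm, by simp [mul_assoc]⟩
    -- distinct conjugates commute modulo scalars
    have hdist : ∀ h : H, cM h ≠ M → ∀ a ∈ cM h, ∀ m ∈ M, ModComm a m := by
      intro h hne a ha m hm
      have hle : cM h ⊓ M ≤ scalars ι F := by
        by_contra hs
        have hMI : Nat.card M ≤ Nat.card (cM h ⊓ M : Subgroup (GL ι F)) := by
          refine not_lt.1 (hMmin (cM h ⊓ M) ⟨inf_le_right.trans hMN, fun x hx y hy => ?_, hs, fun e => ?_⟩)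
          · refine ⟨?_, hMn x hx y hy.2⟩
            refine (hcMem _ _).2 ?_
            have := hMn _ (show (h : GL ι F)⁻¹ * x * (h : GL ι F) ∈ N by
              simpa using hmin.normal _ (inv_mem h.2) x hx) _ ((hcMem h y).1 hy.1)
            simpa [mul_assoc] using this
          · exact hMne (le_antisymm hMN (e.symm.le.trans inf_le_right))
        have h1 : cM h ⊓ M = M := Subgroup.eq_of_le_of_card_ge inf_le_right hMI
        refine hne (Subgroup.eq_of_le_of_card_ge (inf_eq_right.1 h1) (le_of_eq ?_)).symm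
        exact Subgroup.card_map_of_injective (MulAut.conj (h : GL ι F)).injective
      refine hle ⟨?_, ?_⟩
      · have hm' : (h : GL ι F)⁻¹ * m * h ∈ N := by
          simpa using hmin.normal _ (inv_mem h.2) m (hMN hm)
        refine (hcMem _ _).2 ?_
        have := mul_mem ((hcMem h a).1 ha) (hMn _ hm' _ (inv_mem ((hcMem h a).1 ha)))
        rw [commutatorElement_def]
        convert this using 1
        group
      · have haN : a ∈ N := by
          obtain ⟨y, hy, rfl⟩ := ha
          simpa using hmin.normal _ h.2 y (hMN hy)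
        show ⁅a, m⁆ ∈ M
        rw [commutatorElement_def]
        exact mul_mem (hMn a haN m hm) (inv_mem hm)
    -- `M` is abelian modulo scalars
    have hMab : ∀ a ∈ M, ∀ b ∈ M, ModComm a b := by
      rcases clifford hn habs.1 (H := N) (N := M) hMn hMs with hirr | ⟨hcomm, -⟩
      · rcases abs_or_field hn hirr with habsM | hfield
        · obtain ⟨h, hh⟩ : ∃ h : H, cM h ≠ M := by
            by_contra hall
            push Not at hall
            rcases hmin.minimal M hMN (fun h hh m hm => by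
              rw [← hall ⟨h, hh⟩, hcMem]
              simpa [mul_assoc] using hm) with h1 | h1
            exacts [hMs h1, hMne h1]
          intro a ha b hb
          have key := commutator_mem_scalars_of_modComm habsM (hdist h hh)
            (show (h : GL ι F) * a * (h : GL ι F)⁻¹ ∈ cM h from (hcMem h _).2 (by simpa [mul_assoc] using ha))
            (show (h : GL ι F) * b * (h : GL ι F)⁻¹ ∈ cM h from (hcMem h _).2 (by simpa [mul_assoc] using hb))
          have := modComm_conj key (h : GL ι F)⁻¹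
          simpa [mul_assoc] using this
        · exfalso
          have h1 : ∀ k ∈ cmt (matrixSet M), ∀ x ∈ N, (x : Matrix ι ι F) * k = k * (x : Matrix ι ι F) :=
            fun k hk x hx => perfect_centralizes hfield hperf (le_subalgebraNormalizer_cmt hMn) hx hk
          have h2 : cmt (matrixSet M) = ⊥ := eq_bot_iff.2 fun k hk => by
            obtain ⟨c, hc⟩ := habs.2 k (by rintro _ ⟨x, hx, rfl⟩; exact (h1 k hk x hx).symm)
            rw [Algebra.mem_bot]
            exact ⟨c, by rw [hc, Algebra.algebraMap_eq_smul_one]⟩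
          have := hfield.finrank_eq
          rw [h2, Subalgebra.finrank_bot] at this
          exact hn.one_lt.ne this
      · intro a ha b hb
        have : a * b = b * a :=
          congrArg Subtype.val (hcomm.is_comm.comm (⟨a, ha⟩ : M) ⟨b, hb⟩)
        rw [ModComm, commutatorElement_eq_one_iff_mul_comm.2 this]
        exact one_mem _
    -- all conjugates commute modulo scalars
    have hall : ∀ h₁ h₂ : H, ∀ a ∈ cM h₁, ∀ b ∈ cM h₂, ModComm a b := by
      intro h₁ h₂ a ha b hb
      set g : H := h₂⁻¹ * h₁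
      have ha' : (h₂ : GL ι F)⁻¹ * a * (h₂ : GL ι F) ∈ cM g := by
        rw [hcMem]
        simpa [g, mul_assoc] using (hcMem h₁ a).1 ha
      have hb' := (hcMem h₂ b).1 hb
      have key : ModComm ((h₂ : GL ι F)⁻¹ * a * (h₂ : GL ι F)) ((h₂ : GL ι F)⁻¹ * b * (h₂ : GL ι F)) := by
        by_cases hg : cM g = M
        · exact hMab _ (hg ▸ ha') _ hb'
        · exact hdist g hg _ ha' _ hb'
      simpa [mul_assoc] using modComm_conj key (h₂ : GL ι F)
    let L := ⨆ h : H, cM h
    have hLN : L ≤ N := iSup_le fun h => by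
      rintro _ ⟨y, hy, rfl⟩
      simpa using hmin.normal _ h.2 y (hMN hy)
    have hML : M ≤ L := le_iSup_of_le (1 : H) (fun m hm => (hcMem 1 m).2 (by simpa using hm))
    have hLn : ∀ h ∈ H, ∀ x ∈ L, h * x * h⁻¹ ∈ L := by
      intro h hh x hx
      refine Subgroup.iSup_induction (S := cM) (C := fun y => h * y * h⁻¹ ∈ L) hx (fun g y hy => ?_)
        (by simp) (fun y z hy hz => ?_)
      · refine Subgroup.mem_iSup_of_mem (⟨h, hh⟩ * g : H) ((hcMem _ _).2 ?_)
        simpa [mul_assoc] using (hcMem g y).1 hy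
      · have := mul_mem hy hz
        convert this using 1
        group
    have hLN' : L = N := (hmin.minimal L hLN hLn).resolve_left fun h => hMs (hML.trans h)
    let π : GL ι F →* GL ι F ⧸ scalars ι F := QuotientGroup.mk' _
    have hLab : ∀ a ∈ L, ∀ b ∈ L, Commute (π a) (π b) := by
      intro a ha b hb
      refine Subgroup.iSup_induction (S := cM) (C := fun y => ∀ z ∈ L, Commute (π y) (π z)) ha
        (fun g y hy z hz => ?_) (fun z _ => by rw [map_one]; exact Commute.one_left _)
        (fun y y' h1 h2 z hz => by rw [map_mul]; exact (h1 z hz).mul_left (h2 z hz)) b hb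
      refine Subgroup.iSup_induction (S := cM) (C := fun w => Commute (π y) (π w)) hz
        (fun g' w hw => modComm_iff.1 (hall g g' y hy w hw)) (by rw [map_one]; exact Commute.one_right _)
        fun w w' h1 h2 => by rw [map_mul]; exact h1.mul_right h2
    exact hna fun a ha b hb => modComm_iff.2 (hLab a (hLN' ▸ ha) b (hLN' ▸ hb))
  refine ⟨hmin.le, hmin.normal, hperf, ?_, ?_, ?_, habs⟩
  · haveI : Nontrivial (N ⧸ (scalars ι F).subgroupOf N) := by
      obtain ⟨x, hx, hxs⟩ := SetLike.not_le_iff_exists.1 hmin.nonscalar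
      refine ⟨QuotientGroup.mk ⟨x, hx⟩, 1, fun e => hxs ?_⟩
      exact Subgroup.mem_subgroupOf.1 ((QuotientGroup.eq_one_iff _).1 e)
    refine ⟨fun Q hQ => ?_⟩
    let π := QuotientGroup.mk' ((scalars ι F).subgroupOf N)
    rcases hnorm ((Q.comap π).map N.subtype) (by rintro _ ⟨y, -, rfl⟩; exact y.2) (by
        rintro x hx _ ⟨y, hy, rfl⟩
        exact ⟨⟨x, hx⟩ * y * ⟨x, hx⟩⁻¹, (hQ.comap π).conj_mem y hy _, rfl⟩) with h | h
    · refine .inl (eq_bot_iff.2 fun q hq => ?_)
      obtain ⟨y, rfl⟩ := QuotientGroup.mk'_surjective _ q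
      exact (QuotientGroup.eq_one_iff _).2 (Subgroup.mem_subgroupOf.2 (h ⟨y, hq, rfl⟩))
    · refine .inr (eq_top_iff.2 fun q _ => ?_)
      obtain ⟨y, rfl⟩ := QuotientGroup.mk'_surjective _ q
      obtain ⟨y', hy', e⟩ : (y : GL ι F) ∈ (Q.comap π).map N.subtype := by rw [h]; exact y.2
      exact Subtype.ext e ▸ hy'
  · intro hc
    refine hna fun a ha b hb => ?_
    have h1 : ⁅(⟨a, ha⟩ : N), ⟨b, hb⟩⁆ ∈ (scalars ι F).subgroupOf N := by
      rw [← QuotientGroup.eq_one_iff, ← QuotientGroup.mk'_apply, map_commutatorElement]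
      exact commutatorElement_eq_one_iff_mul_comm.2 (hc.is_comm.comm _ _)
    exact Subgroup.mem_subgroupOf.1 h1
  · intro h hh hx
    refine mem_scalars_of_commute_group habs fun x hxN => ?_
    have hmc : ∀ y ∈ N, ModComm y h := fun y hy => by
      have := inv_mem (hx y hy)
      rw [ModComm, commutatorElement_def]
      convert this using 1
      group
    have hx' : x ∈ ⁅N, N⁆ := hperf.symm ▸ hxN
    have : Commute x h := by
      clear hxN
      rw [Subgroup.commutator_def] at hx'
      induction hx' using Subgroup.closure_induction with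
      | mem y hy => obtain ⟨a, ha, b, hb, rfl⟩ := hy; exact commutator_commute (hmc a ha) (hmc b hb)
      | one => exact Commute.one_left _
      | mul a b _ _ ha hb => exact ha.mul_left hb
      | inv a _ ha => exact ha.inv_left
    exact this.eq.symm

end CfsgLib.AschPrime
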