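import Mathlib.FieldTheory.Finite.Basic
import Mathlib.Tactic.IntervalCases

/-!
The least exponent `e` with `n ∣ p ^ e - 1`, for small primes `n`, when it is odd.
-/

set_option autoImplicit false

namespace CfsgLib.AschPrime

theorem exponent_le {n p e : ℕ} (hn : n.Prime) (hp : p.Prime) (hdvd : n ∣ p ^ e - 1) (he : 0 < e)
    (hmin : ∀ d, 0 < d → d < e → ¬ n ∣ p ^ d - 1) :
    e < n ∧ (p % n) ^ e % n = 1 ∧ (∀ d, 0 < d → d < e → (p % n) ^ d % n ≠ 1) ∧ 0 < p % n ∧ p % n < n := by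
  haveI := Fact.mk hn
  have hiff : ∀ d, n ∣ p ^ d - 1 ↔ (p % n) ^ d % n = 1 := fun d => by
    rw [← Nat.pow_mod, ← Nat.modEq_iff_dvd' (Nat.one_le_pow _ _ hp.pos), Nat.ModEq,
      Nat.mod_eq_of_lt hn.one_lt, eq_comm]
  have h0 : 0 < p % n := by
    refine Nat.pos_of_ne_zero fun h => ?_
    have := (hiff e).1 hdvd
    rw [h, zero_pow he.ne', Nat.zero_mod] at this
    exact zero_ne_one this
  refine ⟨?_, (hiff e).1 hdvd, fun d h1 h2 h => hmin d h1 h2 ((hiff d).2 h), h0, Nat.mod_lt _ hn.pos⟩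
  by_contra hle
  refine hmin (n - 1) (by have := hn.two_le; omega) (by have := hn.two_le; omega) ?_
  have hne : (p : ZMod n) ≠ 0 := by
    rw [Ne, ZMod.natCast_eq_zero_iff]
    intro h
    rw [Nat.mod_eq_zero_of_dvd h] at h0
    omega
  rw [← ZMod.natCast_eq_zero_iff, Nat.cast_sub (Nat.one_le_pow _ _ hp.pos), Nat.cast_pow,
    ZMod.pow_card_sub_one_eq_one hne, Nat.cast_one, sub_self]

end CfsgLib.AschPrime
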