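import Cfsg.Prelude.Def_GeometricClasses
import Cfsg.Agent.Lib.Geom.HermNorm

/-!
An absolutely irreducible group fixing a non-degenerate bilinear and a unitary form is realisable over the fixed field;
the bilinear form fixed by an absolutely irreducible group rational over a subfield is rational up to a scalar.
-/

set_option autoImplicit false
set_option linter.unusedSectionVars false

namespace CfsgLib.Aschbacher.OrthForms

open Matrix Cfsg.Geo
open scoped MatrixGroups

variable {ι : Type} [Fintype ι] [DecidableEq ι] {F : Type*} [Field F]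

/-- Coordinates of a sesquilinear map. -/
theorem gram_apply {τ : F →+* F} {f : (ι → F) → (ι → F) → F} (hal : ∀ x y v, f (x + y) v = f x v + f y v)
    (hsl : ∀ (c : F) (x v : ι → F), f (c • x) v = c * f x v) (har : ∀ v x y, f v (x + y) = f v x + f v y)
    (hsr : ∀ (c : F) (v x : ι → F), f v (c • x) = τ c * f v x) (u v : ι → F) :
    f u v = u ⬝ᵥ (gramMatrix f *ᵥ (τ ∘ v)) := by
  let L : (ι → F) →ₗ[F] F :=
    { toFun := fun u => f u v, map_add' := fun a b => hal a b v, map_smul' := fun c a => hsl c a v }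
  let R : ι → (ι → F) →ₛₗ[τ] F := fun a =>
    { toFun := fun v => f (Pi.single a 1) v, map_add' := fun x y => har _ x y,
      map_smul' := fun c x => hsr c _ x }
  show L u = _
  conv_lhs => rw [pi_eq_sum_univ' u, map_sum]
  refine Finset.sum_congr rfl fun a _ => ?_
  rw [map_smul, smul_eq_mul]
  congr 1
  show R a v = _
  conv_lhs => rw [pi_eq_sum_univ' v, map_sum]
  refine Finset.sum_congr rfl fun b _ => ?_
  rw [LinearMap.map_smulₛₗ, smul_eq_mul, mul_comm]
  rfl

section Sesq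

variable {τ : F →+* F} {f : (ι → F) → (ι → F) → F} (hal : ∀ x y v, f (x + y) v = f x v + f y v)
  (hsl : ∀ (c : F) (x v : ι → F), f (c • x) v = c * f x v) (har : ∀ v x y, f v (x + y) = f v x + f v y)
  (hsr : ∀ (c : F) (v x : ι → F), f v (c • x) = τ c * f v x)
include hal hsl har hsr

theorem gram_isUnit (hnd : IsNondegenerateForm f) : IsUnit (gramMatrix f) := by
  rw [← Matrix.vecMul_injective_iff_isUnit]
  intro a b hab
  by_contra hne
  obtain ⟨-, x, hx⟩ := hnd (a - b) (sub_ne_zero.2 hne)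
  rw [gram_apply hal hsl har hsr, dotProduct_mulVec, sub_vecMul] at hx
  change a ᵥ* gramMatrix f = b ᵥ* gramMatrix f at hab
  rw [hab, sub_self, zero_dotProduct] at hx
  exact hx rfl

theorem gram_map (A : Matrix ι ι F) :
    gramMatrix (fun u v => f (A *ᵥ u) (A *ᵥ v)) = Aᵀ * gramMatrix f * A.map τ := by
  ext i j
  have e : τ ∘ (A *ᵥ Pi.single j 1) = A.map τ *ᵥ Pi.single j 1 := by
    funext k
    simp
  show f (A *ᵥ Pi.single i 1) (A *ᵥ Pi.single j 1) = _
  rw [gram_apply hal hsl har hsr, e, dotProduct_mulVec, mulVec_single_one, mulVec_single_one, ← dotProduct_mulVec]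
  simp [Matrix.mul_apply, dotProduct, mulVec, Finset.mul_sum, Finset.sum_mul, mul_assoc]
  rw [Finset.sum_comm]

theorem gram_fixed {P : Subgroup (GL ι F)} (hfix : FixesForm (matrixSet P) f) {x : GL ι F} (hx : x ∈ P) :
    (x : Matrix ι ι F)ᵀ * gramMatrix f * (x : Matrix ι ι F).map τ = gramMatrix f := by
  rw [← gram_map hal hsl har hsr]
  ext i j
  exact hfix _ ⟨x, hx, rfl⟩ _ _

end Sesq

theorem polar_hyps {Q : (ι → F) → F} (h : IsBilinearForm (QuadraticMap.polar Q)) :
    (∀ x y v, QuadraticMap.polar Q (x + y) v = QuadraticMap.polar Q x v + QuadraticMap.polar Q y v) ∧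
    (∀ (c : F) (x v : ι → F), QuadraticMap.polar Q (c • x) v = c * QuadraticMap.polar Q x v) ∧
    (∀ v x y, QuadraticMap.polar Q v (x + y) = QuadraticMap.polar Q v x + QuadraticMap.polar Q v y) ∧
    (∀ (c : F) (v x : ι → F), QuadraticMap.polar Q v (c • x) = RingHom.id F c * QuadraticMap.polar Q v x) :=
  ⟨h.add_left, h.smul_left, h.add_right, h.smul_right⟩

/-- `s G⁻¹ sᵀ = G⁻¹` for an isometry `s` of the Gram matrix `G`. -/
theorem mul_inv_transpose {G U s : Matrix ι ι F} (hU : U * G = 1) (hs : sᵀ * G * s = G) :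
    s * U * sᵀ = U := by
  have h1 : (U * sᵀ * G) * s = 1 := by rw [mul_assoc U, mul_assoc U, hs, hU]
  have h2 : s * (U * sᵀ * G) = 1 := mul_eq_one_comm.1 h1
  have h3 : G * U = 1 := mul_eq_one_comm.1 hU
  calc s * U * sᵀ = s * U * sᵀ * (G * U) := by rw [h3, mul_one]
    _ = (s * (U * sᵀ * G)) * U := by simp only [mul_assoc]
    _ = U := by rw [h2, one_mul]

variable [Fintype F]

/-- A fixed bilinear and a fixed unitary form make the group realisable over the fixed field. -/
theorem realisable_of_unitary [Nonempty ι] {P : Subgroup (GL ι F)}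
    (hcomm : ∀ M : Matrix ι ι F, (∀ s ∈ matrixSet P, M * s = s * M) → ∃ c : F, M = c • (1 : Matrix ι ι F))
    {Q : (ι → F) → F} (hQ : IsNondegenerateQuadraticForm Q) (hfix : FixesQuadForm (matrixSet P) Q)
    {σ : F ≃+* F} {h : (ι → F) → (ι → F) → F} (hh : IsUnitaryForm σ h) (hfixh : FixesForm (matrixSet P) h) :
    ∃ F₀ : Subfield F, F₀ ≠ ⊤ ∧ RealisableOver F₀ (matrixSet P) := by
  classical
  obtain ⟨pal, psl, par, psr⟩ := polar_hyps hQ.polar_bilinear
  set τ : F →+* F := (σ : F →+* F) with hτ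
  have hτ2 : ∀ a, τ (τ a) = a := hh.involutive
  have hτne : τ ≠ RingHom.id F := fun e => hh.ne_refl (RingEquiv.ext fun a => congrArg (fun k : F →+* F => k a) e)
  have har : ∀ v x y, h v (x + y) = h v x + h v y := fun v x y => by
    rw [hh.herm, hh.add_left, map_add, ← hh.herm, ← hh.herm]
  have hsr : ∀ (c : F) (v x : ι → F), h v (c • x) = τ c * h v x := fun c v x => by
    rw [hh.herm, hh.smul_left, map_mul, ← hh.herm]; rfl
  have hpol : FixesForm (matrixSet P) (QuadraticMap.polar Q) := fun s hs u v => by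
    simp only [QuadraticMap.polar]
    rw [← mulVec_add, hfix s hs, hfix s hs, hfix s hs]
  obtain ⟨G, hG⟩ := gram_isUnit pal psl par psr hQ.nondegenerate
  obtain ⟨Hm, hHm⟩ := gram_isUnit hh.add_left hh.smul_left har hsr hh.nondegenerate
  set M : GL ι F := G⁻¹ * Hm with hM
  have hsM : ∀ x ∈ P, (x : Matrix ι ι F) * (M : Matrix ι ι F) = (M : Matrix ι ι F) * (x : Matrix ι ι F).map τ := by
    intro x hx
    have h1 := gram_fixed pal psl par psr hpol hx
    have h2 := gram_fixed hh.add_left hh.smul_left har hsr hfixh hx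
    rw [← hG] at h1
    rw [← hHm] at h2
    simp only [RingHom.coe_id, Matrix.map_id] at h1
    have h3 := mul_inv_transpose (U := ((G⁻¹ : GL ι F) : Matrix ι ι F)) (by simp) h1
    calc (x : Matrix ι ι F) * (M : Matrix ι ι F)
        = (x : Matrix ι ι F) * ((G⁻¹ : GL ι F) : Matrix ι ι F) *
            ((x : Matrix ι ι F)ᵀ * (Hm : Matrix ι ι F) * (x : Matrix ι ι F).map τ) := by
          rw [h2, hM, Units.val_mul, mul_assoc]
      _ = ((x : Matrix ι ι F) * ((G⁻¹ : GL ι F) : Matrix ι ι F) * (x : Matrix ι ι F)ᵀ) *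
            (Hm : Matrix ι ι F) * (x : Matrix ι ι F).map τ := by simp only [mul_assoc]
      _ = _ := by rw [h3, hM, Units.val_mul]
  set N : Matrix ι ι F := (M : Matrix ι ι F).map τ
  have hττ : ∀ A : Matrix ι ι F, (A.map τ).map τ = A := fun A => by ext i j; exact hτ2 _
  obtain ⟨c, hc⟩ := hcomm ((M : Matrix ι ι F) * N) (by
    rintro _ ⟨x, hx, rfl⟩
    rw [← mul_assoc (x : Matrix ι ι F), hsM x hx, mul_assoc, mul_assoc]
    congr 1
    have := congrArg (fun A : Matrix ι ι F => A.map τ) (hsM x hx)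
    simp only [Matrix.map_mul, hττ] at this
    exact this.symm)
  have hN : IsUnit N := by
    refine ⟨⟨N, ((M⁻¹ : GL ι F) : Matrix ι ι F).map τ, ?_, ?_⟩, rfl⟩ <;>
      simp [N, ← Matrix.map_mul]
  have hc0 : c ≠ 0 := by
    rintro rfl
    rw [zero_smul] at hc
    exact (M.isUnit.mul hN).ne_zero hc
  have hcN : N * (M : Matrix ι ι F) = c • (1 : Matrix ι ι F) := by
    have h1 : (c⁻¹ • (M : Matrix ι ι F)) * N = 1 := by rw [smul_mul, hc, smul_smul, inv_mul_cancel₀ hc0, one_smul]
    have h2 := mul_eq_one_comm.1 h1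
    rw [Matrix.mul_smul] at h2
    rw [← h2, smul_smul, mul_inv_cancel₀ hc0, one_smul]
  have hσc : τ c = c := by
    have h1 := congrArg (fun A : Matrix ι ι F => A.map τ) hc
    simp only [Matrix.map_mul, N, hττ] at h1
    rw [show ((M : Matrix ι ι F).map τ) = N from rfl, hcN] at h1
    have h2 := congrFun (congrFun h1 (Classical.arbitrary ι)) (Classical.arbitrary ι)
    simpa [Matrix.map_apply] using h2.symm
  obtain ⟨d, hd⟩ := CfsgLib.Geom.exists_norm_eq hτne hτ2 hσc
  have hd0 : d ≠ 0 := fun e => hc0 (by rw [← hd, e, zero_mul])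
  set M' : Matrix ι ι F := d⁻¹ • (M : Matrix ι ι F) with hM'
  have hMM : M' * M'.map τ = 1 := by
    have e : M'.map τ = (τ d)⁻¹ • N := by ext i j; simp [hM', N]
    rw [e, hM', Matrix.smul_mul, Matrix.mul_smul, smul_smul, hc, smul_smul,
      ← mul_inv, hd, inv_mul_cancel₀ hc0, one_smul]
  let J : (ι → F) → (ι → F) := fun v => M' *ᵥ (τ ∘ v)
  have hJadd : ∀ v w, J (v + w) = J v + J w := fun v w => by
    show M' *ᵥ _ = M' *ᵥ _ + M' *ᵥ _
    rw [← mulVec_add]
    exact congrArg _ (funext fun i => map_add τ _ _)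
  have hJsmul : ∀ (a : F) v, J (a • v) = τ a • J v := fun a v => by
    show M' *ᵥ _ = τ a • (M' *ᵥ _)
    rw [← mulVec_smul]
    exact congrArg _ (funext fun i => map_mul τ _ _)
  have hJJ : ∀ v, J (J v) = v := fun v => by
    have e : τ ∘ (M' *ᵥ (τ ∘ v)) = M'.map τ *ᵥ v := by
      funext i
      rw [Function.comp_apply, τ.map_mulVec]
      simp [Function.comp_def, hτ2]
    show M' *ᵥ (τ ∘ (M' *ᵥ (τ ∘ v))) = v
    rw [e, mulVec_mulVec, hMM, one_mulVec]
  obtain ⟨l, hl⟩ : ∃ l, τ l ≠ l := by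
    by_contra hno
    push Not at hno
    exact hτne (RingHom.ext hno)
  have hspan : Submodule.span F {v | J v = v} = ⊤ := by
    refine eq_top_iff.2 fun v _ => ?_
    have hl' : l - τ l ≠ 0 := sub_ne_zero.2 (Ne.symm hl)
    rw [← one_smul F v, ← inv_mul_cancel₀ hl', mul_smul]
    refine Submodule.smul_mem _ _ ?_
    rw [show (l - τ l) • v = (l • v + τ l • J v) - τ l • (v + J v) by module]
    refine sub_mem (Submodule.subset_span ?_) (Submodule.smul_mem _ _ (Submodule.subset_span ?_))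
    · show J _ = _
      rw [hJadd, hJsmul, hJsmul, hτ2, hJJ, add_comm]
    · show J _ = _
      rw [hJadd, hJJ, add_comm]
  obtain ⟨s, hsS, hs, hli⟩ := exists_linearIndependent F {v | J v = v}
  have hsfin : Fintype s := Fintype.ofFinite _
  let b := Module.Basis.mk hli (by rw [Subtype.range_coe, hs, hspan])
  have hcard : Fintype.card s = Fintype.card ι := by
    rw [← Module.finrank_eq_card_basis b, Module.finrank_fintype_fun_eq_card]
  let e : ι ≃ s := (Fintype.equivOfCardEq hcard).symm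
  let Bm : Matrix ι ι F := Matrix.of fun i j => (e j : ι → F) i
  obtain ⟨B, hB⟩ : IsUnit Bm := by
    rw [← Matrix.linearIndependent_cols_iff_isUnit]
    exact hli.comp e e.injective
  have hMB : M' * (B : Matrix ι ι F).map τ = (B : Matrix ι ι F) := by
    ext i j
    have h1 := congrFun (hsS (e j).2) i
    rw [hB]
    exact h1
  refine ⟨RingHom.eqLocusField τ (RingHom.id F), fun e => hl ?_, B⁻¹, ?_⟩
  · exact (RingHom.mem_eqLocusField (f := τ) (g := RingHom.id F)).1 (e ▸ Subfield.mem_top l)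
  rintro _ ⟨x, hx, rfl⟩ i j
  show τ _ = _
  rw [inv_inv]
  set X := ((B⁻¹ : GL ι F) : Matrix ι ι F) * (x : Matrix ι ι F) * (B : Matrix ι ι F) with hX
  suffices X.map τ = X from congrFun (congrFun this i) j
  have h1 : (B : Matrix ι ι F) * X = (x : Matrix ι ι F) * (B : Matrix ι ι F) := by simp [hX, mul_assoc]
  have h2 : (B : Matrix ι ι F) * X.map τ = (x : Matrix ι ι F) * (B : Matrix ι ι F) := by
    have e1 := congrArg (fun A : Matrix ι ι F => M' * A.map τ) h1
    simp only [Matrix.map_mul, ← mul_assoc, hMB] at e1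
    rw [e1, hM', smul_mul, ← hsM x hx, ← Matrix.mul_smul, ← hM', mul_assoc, hMB]
  have h3 := congrArg (fun A => ((B⁻¹ : GL ι F) : Matrix ι ι F) * A) (h2.trans h1.symm)
  simpa using h3

/-- The fixed bilinear form of an absolutely irreducible group rational over `F₁` is rational up to a scalar. -/
theorem exists_rational_polar [Nonempty ι] {P : Subgroup (GL ι F)}
    (hcomm : ∀ M : Matrix ι ι F, (∀ s ∈ matrixSet P, M * s = s * M) → ∃ c : F, M = c • (1 : Matrix ι ι F))
    {Q : (ι → F) → F} (hQ : IsNondegenerateQuadraticForm Q) (hfix : FixesQuadForm (matrixSet P) Q)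
    {F₁ : Subfield F} {P' : GL ι F}
    (hP' : ∀ x ∈ P, ∀ i j, ((P'⁻¹ * x * P' : GL ι F) : Matrix ι ι F) i j ∈ F₁) :
    ∃ ζ : F, ζ ≠ 0 ∧ IsFormRationalStructure (QuadraticMap.polar Q) F₁ ζ P' := by
  classical
  obtain ⟨pal, psl, par, psr⟩ := polar_hyps hQ.polar_bilinear
  have hpol : FixesForm (matrixSet P) (QuadraticMap.polar Q) := fun s hs u v => by
    simp only [QuadraticMap.polar]
    rw [← mulVec_add, hfix s hs, hfix s hs, hfix s hs]
  obtain ⟨G₀, hG₀⟩ := gram_isUnit pal psl par psr hQ.nondegenerate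
  set A : Matrix ι ι F := (P' : Matrix ι ι F)ᵀ * (G₀ : Matrix ι ι F) * (P' : Matrix ι ι F) with hA
  obtain ⟨Au, hAu⟩ : IsUnit A :=
    ((((Matrix.isUnit_transpose _).2 P'.isUnit)).mul G₀.isUnit).mul P'.isUnit
  have hAfix : ∀ x ∈ P, ((P'⁻¹ * x * P' : GL ι F) : Matrix ι ι F)ᵀ * A *
      ((P'⁻¹ * x * P' : GL ι F) : Matrix ι ι F) = A := by
    intro x hx
    have h1 := gram_fixed pal psl par psr hpol hx
    rw [← hG₀] at h1
    simp only [RingHom.coe_id, Matrix.map_id] at h1
    have e : (P' : Matrix ι ι F) * ((P'⁻¹ * x * P' : GL ι F) : Matrix ι ι F) =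
        (x : Matrix ι ι F) * (P' : Matrix ι ι F) := by
      rw [← Units.val_mul, ← Units.val_mul]
      congr 1
      group
    calc ((P'⁻¹ * x * P' : GL ι F) : Matrix ι ι F)ᵀ * A * ((P'⁻¹ * x * P' : GL ι F) : Matrix ι ι F)
        = ((P' : Matrix ι ι F) * ((P'⁻¹ * x * P' : GL ι F) : Matrix ι ι F))ᵀ * (G₀ : Matrix ι ι F) *
            ((P' : Matrix ι ι F) * ((P'⁻¹ * x * P' : GL ι F) : Matrix ι ι F)) := by
          rw [hA, transpose_mul]; simp only [mul_assoc]
      _ = (P' : Matrix ι ι F)ᵀ * ((x : Matrix ι ι F)ᵀ * (G₀ : Matrix ι ι F) * (x : Matrix ι ι F)) *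
            (P' : Matrix ι ι F) := by rw [e, transpose_mul]; simp only [mul_assoc]
      _ = A := by rw [h1]
  obtain ⟨a, b, hab⟩ : ∃ a b, A a b ≠ 0 := by
    by_contra hno
    push Not at hno
    exact Au.ne_zero (by rw [hAu]; exact Matrix.ext hno)
  set ζ := (A a b)⁻¹ with hζ
  obtain ⟨φ, hφ⟩ := (LinearMap.toSpanSingleton F₁ F 1).exists_leftInverse_of_injective
    (LinearMap.ker_eq_bot.2 fun x y h => Subtype.ext (by simpa [Algebra.smul_def] using h))
  let ψ : F → F := fun x => ((φ x : F₁) : F)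
  have hψ1 : ψ 1 = 1 := by
    have := LinearMap.congr_fun hφ 1
    simp only [LinearMap.comp_apply, LinearMap.toSpanSingleton_apply, one_smul, LinearMap.id_apply] at this
    simp [ψ, this]
  have hψadd : ∀ x y, ψ (x + y) = ψ x + ψ y := fun x y => by simp [ψ]
  have hψmul : ∀ (c : F₁) x, ψ ((c : F) * x) = c * ψ x := fun c x => by
    show ((φ (c • x) : F₁) : F) = _
    rw [map_smul]; rfl
  have hψsum : ∀ (f : ι → F), ψ (∑ i, f i) = ∑ i, ψ (f i) := fun f =>
    map_sum (AddMonoidHom.mk' ψ hψadd) f Finset.univ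
  set B : Matrix ι ι F := (ζ • A).map ψ with hBdef
  have hBfix : ∀ x ∈ P, ((P'⁻¹ * x * P' : GL ι F) : Matrix ι ι F)ᵀ * B *
      ((P'⁻¹ * x * P' : GL ι F) : Matrix ι ι F) = B := by
    intro x hx
    set y := ((P'⁻¹ * x * P' : GL ι F) : Matrix ι ι F) with hy
    have h1 : yᵀ * (ζ • A) * y = ζ • A := by rw [Matrix.mul_smul, Matrix.smul_mul, hAfix x hx]
    ext i j
    have h2 := congrArg (fun X : Matrix ι ι F => ψ (X i j)) h1
    simp only [Matrix.mul_apply, Finset.sum_mul, hψsum] at h2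
    refine Eq.trans ?_ h2
    simp only [Matrix.mul_apply, Finset.sum_mul]
    refine Finset.sum_congr rfl fun k _ => Finset.sum_congr rfl fun m _ => ?_
    have e1 : yᵀ i m * (ζ • A) m k * y k j =
        ((⟨y m i, hP' x hx m i⟩ * ⟨y k j, hP' x hx k j⟩ : F₁) : F) * (ζ • A) m k := by
      push_cast; simp only [transpose_apply]; ring
    rw [e1, hψmul]
    push_cast
    simp only [hBdef, Matrix.map_apply, transpose_apply]
    ring
  obtain ⟨c, hc⟩ := hcomm ((P' : Matrix ι ι F) * (((Au⁻¹ : GL ι F) : Matrix ι ι F) * B) *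
      ((P'⁻¹ : GL ι F) : Matrix ι ι F)) (by
    rintro _ ⟨x, hx, rfl⟩
    set y := ((P'⁻¹ * x * P' : GL ι F) : Matrix ι ι F) with hy
    have h3 := mul_inv_transpose (U := ((Au⁻¹ : GL ι F) : Matrix ι ι F)) (G := A) (s := y)
      (by rw [← hAu]; simp) (hAfix x hx)
    have h4 : y * (((Au⁻¹ : GL ι F) : Matrix ι ι F) * B) = ((Au⁻¹ : GL ι F) : Matrix ι ι F) * B * y := by
      calc y * (((Au⁻¹ : GL ι F) : Matrix ι ι F) * B)
          = y * ((Au⁻¹ : GL ι F) : Matrix ι ι F) * (yᵀ * B * y) := by rw [hBfix x hx, mul_assoc]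
        _ = (y * ((Au⁻¹ : GL ι F) : Matrix ι ι F) * yᵀ) * B * y := by simp only [mul_assoc]
        _ = _ := by rw [h3]
    have h5 := congrArg (fun X => (P' : Matrix ι ι F) * X * ((P'⁻¹ : GL ι F) : Matrix ι ι F)) h4
    simp [hy, mul_assoc] at h5
    simpa [mul_assoc] using h5.symm)
  have hAB : B = c • A := by
    have h1 := congrArg (fun X => ((P'⁻¹ : GL ι F) : Matrix ι ι F) * X * (P' : Matrix ι ι F)) hc
    have e1 : ∀ X : Matrix ι ι F, ((P'⁻¹ : GL ι F) : Matrix ι ι F) * ((P' : Matrix ι ι F) * X *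
        ((P'⁻¹ : GL ι F) : Matrix ι ι F)) * (P' : Matrix ι ι F) = X := fun X => by
      simp only [mul_assoc, Units.inv_mul_cancel_left, Units.inv_mul, mul_one]
    simp only [e1, Matrix.mul_smul, Matrix.smul_mul, mul_one, Units.inv_mul] at h1
    rw [← Units.mul_inv_cancel_left Au B, h1, Matrix.mul_smul, mul_one, hAu]
  have hc1 : c = ζ := by
    have h1 := congrFun (congrFun hAB a) b
    simp only [hBdef, Matrix.map_apply, Matrix.smul_apply, smul_eq_mul, hζ, inv_mul_cancel₀ hab, hψ1] at h1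
    rw [hζ]
    exact eq_inv_of_mul_eq_one_left h1.symm
  have hent : ∀ i j, ζ * A i j ∈ F₁ := fun i j => by
    have h1 := congrFun (congrFun hAB i) j
    rw [hc1] at h1
    rw [← smul_eq_mul, ← Matrix.smul_apply, ← h1, hBdef, Matrix.map_apply]
    exact SetLike.coe_mem _
  refine ⟨ζ, inv_ne_zero hab, fun u v hu hv => ?_⟩
  have key : QuadraticMap.polar Q ((P' : Matrix ι ι F) *ᵥ u) ((P' : Matrix ι ι F) *ᵥ v) = u ⬝ᵥ (A *ᵥ v) := by
    rw [gram_apply pal psl par psr, ← hG₀, RingHom.coe_id, Function.id_comp, hA, ← mulVec_mulVec, ← mulVec_mulVec,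
      dotProduct_mulVec u (P' : Matrix ι ι F)ᵀ, vecMul_transpose]
  rw [key, dotProduct, Finset.mul_sum]
  refine sum_mem fun i _ => ?_
  rw [mulVec, dotProduct, Finset.mul_sum, Finset.mul_sum]
  refine sum_mem fun j _ => ?_
  rw [show ζ * (u i * (A i j * v j)) = u i * (ζ * A i j) * v j by ring]
  exact mul_mem (mul_mem (hu i) (hent i j)) (hv j)

end CfsgLib.Aschbacher.OrthForms
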