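import Cfsg.Agent.Lib.Aschbacher.Defs
import Cfsg.Agent.Lib.Aschbacher.OrthForms
import Cfsg.Agent.Lib.Geom.OmegaMax

/-!
The adjoint for the polar form of a quadratic form, and its action on algebras generated by similitudes.
-/

set_option autoImplicit false
set_option linter.unusedSectionVars false

namespace CfsgLib.Aschbacher.Orth

open Cfsg.Geo Matrix
open QuadraticMap (polar)
open scoped MatrixGroups

variable {ι : Type} [Fintype ι] [DecidableEq ι] {F : Type*} [Field F]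
variable {Q : QuadraticForm F (ι → F)}

/-- The Gram matrix of the polar form. -/
def gramQ (Q : QuadraticForm F (ι → F)) : Matrix ι ι F := gramMatrix (polar (⇑Q))

theorem polar_eq_dot (u v : ι → F) : polar Q u v = u ⬝ᵥ (gramQ Q *ᵥ v) := by
  have h := OrthForms.gram_apply (τ := RingHom.id F) (f := polar (⇑Q))
    (fun x y v => QuadraticMap.polar_add_left Q x y v)
    (fun c x v => by rw [QuadraticMap.polar_smul_left, smul_eq_mul])
    (fun v x y => QuadraticMap.polar_add_right Q v x y)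
    (fun c v x => by rw [QuadraticMap.polar_smul_right, smul_eq_mul]; rfl) u v
  simpa [gramQ] using h

theorem gramQ_symm : (gramQ Q)ᵀ = gramQ Q := by
  ext i j
  exact QuadraticMap.polar_comm _ _ _

theorem mulVec_gram (A : Matrix ι ι F) (u v : ι → F) :
    polar Q (A *ᵥ u) (A *ᵥ v) = u ⬝ᵥ ((Aᵀ * gramQ Q * A) *ᵥ v) := by
  rw [polar_eq_dot, ← vecMul_transpose, ← dotProduct_mulVec, mulVec_mulVec, mulVec_mulVec]

/-- The adjoint for the polar form. -/
noncomputable def adjQ (Q : QuadraticForm F (ι → F)) (A : Matrix ι ι F) : Matrix ι ι F :=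
  (gramQ Q)⁻¹ * Aᵀ * gramQ Q

theorem adjQ_add (A B : Matrix ι ι F) : adjQ Q (A + B) = adjQ Q A + adjQ Q B := by
  simp only [adjQ, transpose_add, mul_add, add_mul]

theorem adjQ_smul (c : F) (A : Matrix ι ι F) : adjQ Q (c • A) = c • adjQ Q A := by
  simp only [adjQ, transpose_smul, Matrix.mul_smul, Matrix.smul_mul]

theorem adjQ_zero : adjQ Q (0 : Matrix ι ι F) = 0 := by simp [adjQ]

variable (hQ : ∀ x, (∀ y, polar Q x y = 0) → x = 0)
include hQ

theorem gramQ_isUnit : IsUnit (gramQ Q) :=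
  OrthForms.gram_isUnit (τ := RingHom.id F) (f := polar (⇑Q))
    (fun x y v => QuadraticMap.polar_add_left Q x y v)
    (fun c x v => by rw [QuadraticMap.polar_smul_left, smul_eq_mul])
    (fun v x y => QuadraticMap.polar_add_right Q v x y)
    (fun c v x => by rw [QuadraticMap.polar_smul_right, smul_eq_mul]; rfl)
    fun v hv => by
      have h : ∃ x, polar Q v x ≠ 0 := by
        by_contra hno
        push Not at hno
        exact hv (hQ v hno)
      obtain ⟨x, hx⟩ := h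
      exact ⟨⟨x, by rwa [QuadraticMap.polar_comm]⟩, ⟨x, hx⟩⟩

theorem gramQ_mul_inv : gramQ Q * (gramQ Q)⁻¹ = 1 :=
  Matrix.mul_nonsing_inv _ ((Matrix.isUnit_iff_isUnit_det _).1 (gramQ_isUnit hQ))

theorem gramQ_inv_mul : (gramQ Q)⁻¹ * gramQ Q = 1 :=
  Matrix.nonsing_inv_mul _ ((Matrix.isUnit_iff_isUnit_det _).1 (gramQ_isUnit hQ))

theorem eq_of_forall_polar {a b : ι → F} (h : ∀ u, polar Q u a = polar Q u b) : a = b := by
  refine sub_eq_zero.1 (hQ _ fun u => ?_)
  rw [QuadraticMap.polar_comm, QuadraticMap.polar_sub_right, h, sub_self]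

theorem adjQ_one : adjQ Q (1 : Matrix ι ι F) = 1 := by
  rw [adjQ, transpose_one, mul_one, gramQ_inv_mul hQ]

theorem adjQ_mul (A B : Matrix ι ι F) : adjQ Q (A * B) = adjQ Q B * adjQ Q A := by
  simp only [adjQ, transpose_mul]
  calc (gramQ Q)⁻¹ * (Bᵀ * Aᵀ) * gramQ Q
      = (gramQ Q)⁻¹ * Bᵀ * (gramQ Q * (gramQ Q)⁻¹) * Aᵀ * gramQ Q := by
        rw [gramQ_mul_inv hQ]; simp only [mul_assoc, one_mul]
    _ = _ := by simp only [mul_assoc]

theorem adjQ_adjQ (A : Matrix ι ι F) : adjQ Q (adjQ Q A) = A := by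
  rw [adjQ, adjQ, transpose_mul, transpose_mul, transpose_transpose, transpose_nonsing_inv, gramQ_symm]
  calc (gramQ Q)⁻¹ * (gramQ Q * (A * (gramQ Q)⁻¹)) * gramQ Q
      = ((gramQ Q)⁻¹ * gramQ Q) * A * ((gramQ Q)⁻¹ * gramQ Q) := by simp only [mul_assoc]
    _ = A := by rw [gramQ_inv_mul hQ, one_mul, mul_one]

theorem polar_mulVec_left (A : Matrix ι ι F) (u v : ι → F) :
    polar Q (A *ᵥ u) v = polar Q u (adjQ Q A *ᵥ v) := by
  rw [polar_eq_dot, polar_eq_dot, ← vecMul_transpose, ← dotProduct_mulVec, mulVec_mulVec, mulVec_mulVec, adjQ,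
    ← mul_assoc, ← mul_assoc, gramQ_mul_inv hQ, one_mul]

/-- The adjoint of a similitude is a multiple of its inverse. -/
theorem adjQ_of_similitude {g : GL ι F} (hg : g ∈ similarityGroup (polar (⇑Q))) :
    ∃ c : F, c ≠ 0 ∧ adjQ Q (g : Matrix ι ι F) = c • ((g⁻¹ : GL ι F) : Matrix ι ι F) := by
  obtain ⟨c, hc⟩ := hg
  refine ⟨c, c.ne_zero, ?_⟩
  have h1 : adjQ Q (g : Matrix ι ι F) * (g : Matrix ι ι F) = (c : F) • 1 := by
    refine Matrix.ext_of_mulVec_single fun j => eq_of_forall_polar hQ fun u => ?_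
    rw [← mulVec_mulVec, ← polar_mulVec_left hQ, smul_mulVec, one_mulVec, QuadraticMap.polar_smul_right,
      smul_eq_mul, hc]
  calc adjQ Q (g : Matrix ι ι F)
      = adjQ Q (g : Matrix ι ι F) * ((g : Matrix ι ι F) * ((g⁻¹ : GL ι F) : Matrix ι ι F)) := by
        rw [← Units.val_mul, mul_inv_cancel, Units.val_one, mul_one]
    _ = _ := by rw [← mul_assoc, h1, smul_mul, one_mul]

omit hQ in
theorem scalars_le_quadSimilarityGroup : scalars ι F ≤ quadSimilarityGroup (⇑Q) := by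
  intro g hg
  obtain ⟨c, hc⟩ := (mem_scalars_iff g).1 hg
  refine ⟨c * c, fun v => ?_⟩
  rw [hc, smul_mulVec, one_mulVec, QuadraticMap.map_smul, smul_eq_mul, Units.val_mul]

omit hQ in
theorem quadSimilarityGroup_le_similarityGroup : quadSimilarityGroup (⇑Q) ≤ similarityGroup (polar (⇑Q)) := by
  rintro g ⟨c, hc⟩
  refine ⟨c, fun u v => ?_⟩
  simp only [QuadraticMap.polar, ← mulVec_add, hc]
  ring

omit hQ in
theorem sup_scalars_le {H : Subgroup (GL ι F)} (hH : ∀ g ∈ H, ∀ x, Q ((g : Matrix ι ι F) *ᵥ x) = Q x) :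
    H ⊔ scalars ι F ≤ quadSimilarityGroup (⇑Q) :=
  sup_le (fun g hg => ⟨1, fun v => by rw [Units.val_one, one_mul]; exact hH g hg v⟩) scalars_le_quadSimilarityGroup

/-- The algebra of a group of similitudes is closed under the adjoint. -/
theorem adjQ_mem_alg {L : Subgroup (GL ι F)} (hL : L ≤ similarityGroup (polar (⇑Q))) {x : Matrix ι ι F}
    (hx : x ∈ alg L) : adjQ Q x ∈ alg L := by
  induction hx using Algebra.adjoin_induction with
  | mem x hx =>
    obtain ⟨g, hg, rfl⟩ := hx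
    obtain ⟨c, -, hc⟩ := adjQ_of_similitude hQ (hL hg)
    show adjQ Q (g : Matrix ι ι F) ∈ alg L
    rw [hc]
    exact Subalgebra.smul_mem _ (Algebra.subset_adjoin (s := matrixSet L) ⟨g⁻¹, inv_mem hg, rfl⟩) c
  | algebraMap c =>
    rw [Algebra.algebraMap_eq_smul_one, adjQ_smul, adjQ_one hQ]
    exact Subalgebra.smul_mem _ (one_mem _) _
  | add x y _ _ hx hy => rw [adjQ_add]; exact add_mem hx hy
  | mul x y _ _ hx hy => rw [adjQ_mul hQ]; exact mul_mem hy hx

/-- The centre of that algebra is closed under the adjoint. -/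
theorem adjQ_mem_centre {L : Subgroup (GL ι F)} (hL : L ≤ similarityGroup (polar (⇑Q))) {x : Matrix ι ι F}
    (hx : x ∈ centreOf (alg L)) : adjQ Q x ∈ centreOf (alg L) := by
  refine ⟨adjQ_mem_alg hQ hL hx.1, (Subalgebra.mem_centralizer_iff F).2 fun y hy => ?_⟩
  have h := (Subalgebra.mem_centralizer_iff F).1 hx.2 (adjQ Q y) (adjQ_mem_alg hQ hL hy)
  have := congrArg (adjQ Q) h
  rwa [adjQ_mul hQ, adjQ_mul hQ, adjQ_adjQ hQ, eq_comm] at this

/-- Conjugation by a similitude commutes with the adjoint. -/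
theorem adjQ_cj {g : GL ι F} (hg : g ∈ similarityGroup (polar (⇑Q))) (x : Matrix ι ι F) :
    adjQ Q (cj g x) = cj g (adjQ Q x) := by
  obtain ⟨c, -, hc⟩ := adjQ_of_similitude hQ hg
  obtain ⟨d, -, hd⟩ := adjQ_of_similitude hQ (inv_mem hg)
  rw [inv_inv] at hd
  rcases isEmpty_or_nonempty ι with h0 | h0
  · exact Subsingleton.elim _ _
  have hdc : d * c = 1 := by
    have h1 : adjQ Q ((g : Matrix ι ι F) * ((g⁻¹ : GL ι F) : Matrix ι ι F)) = 1 := by
      rw [← Units.val_mul, mul_inv_cancel, Units.val_one, adjQ_one hQ]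
    rw [adjQ_mul hQ, hc, hd, Matrix.smul_mul, Matrix.mul_smul, smul_smul, ← Units.val_mul,
      mul_inv_cancel, Units.val_one] at h1
    obtain ⟨i⟩ := h0
    simpa using congrFun (congrFun h1 i) i
  rw [cj_apply, cj_apply, adjQ_mul hQ, adjQ_mul hQ, hc, hd, Matrix.smul_mul, Matrix.mul_smul,
    Matrix.mul_smul, smul_smul, hdc, one_smul, mul_assoc]

omit hQ in
/-- A perfect group of similitudes consists of isometries. -/
theorem perfect_fixes {P : Subgroup (GL ι F)} (hP : P ≤ quadSimilarityGroup (⇑Q))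
    (hperf : ⁅P, P⁆ = P) : FixesQuadForm (matrixSet P) (⇑Q) := by
  let K : Subgroup (GL ι F) :=
    { carrier := {g | ∀ v, Q ((g : Matrix ι ι F) *ᵥ v) = Q v}
      one_mem' := fun v => by simp
      mul_mem' := fun {a b} ha hb v => by rw [Units.val_mul, ← mulVec_mulVec, ha, hb]
      inv_mem' := fun {a} ha v => by
        have := ha (((a⁻¹ : GL ι F) : Matrix ι ι F) *ᵥ v)
        rwa [mulVec_mulVec, ← Units.val_mul, mul_inv_cancel, Units.val_one, one_mulVec, eq_comm] at this }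
  have hK : ⁅P, P⁆ ≤ K := by
    refine Subgroup.commutator_le.2 fun a ha b hb v => ?_
    obtain ⟨c, hc⟩ := hP ha
    obtain ⟨d, hd⟩ := hP hb
    have hi : ∀ (x : GL ι F) (e : Fˣ), (∀ v, Q ((x : Matrix ι ι F) *ᵥ v) = e * Q v) →
        ∀ v, Q (((x⁻¹ : GL ι F) : Matrix ι ι F) *ᵥ v) = ((e⁻¹ : Fˣ) : F) * Q v := fun x e he v => by
      have := he (((x⁻¹ : GL ι F) : Matrix ι ι F) *ᵥ v)
      rw [mulVec_mulVec, ← Units.val_mul, mul_inv_cancel, Units.val_one, one_mulVec] at this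
      rw [this, Units.inv_mul_cancel_left]
    rw [commutatorElement_def, Units.val_mul, Units.val_mul, Units.val_mul, ← mulVec_mulVec, ← mulVec_mulVec,
      ← mulVec_mulVec, hc, hd, hi a c hc, hi b d hd]
    calc (c : F) * ((d : F) * (((c⁻¹ : Fˣ) : F) * (((d⁻¹ : Fˣ) : F) * Q v)))
        = ((c : F) * ((c⁻¹ : Fˣ) : F)) * (((d : F) * ((d⁻¹ : Fˣ) : F)) * Q v) := by ring
      _ = Q v := by rw [Units.mul_inv, Units.mul_inv, one_mul, one_mul]
  rw [hperf] at hK
  rintro _ ⟨g, hg, rfl⟩ v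
  exact hK hg v

end CfsgLib.Aschbacher.Orth
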