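import Cfsg.Agent.Lib.Aschbacher.OrthFieldTwo

/-!
A self-adjoint field over which the space has dimension two: the centraliser contains a canonical quadratic element.
-/

set_option autoImplicit false
set_option linter.unusedSectionVars false

namespace CfsgLib.Aschbacher.Orth

open Cfsg.Geo Matrix CfsgLib.Classical CfsgLib.Geom
open QuadraticMap (polar)
open scoped MatrixGroups

variable {ι : Type} [Fintype ι] [DecidableEq ι] {F : Type*} [Field F] [Fintype F]
variable {Q : QuadraticForm F (ι → F)} (hQ : ∀ x, (∀ y, polar Q x y = 0) → x = 0)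
include hQ

set_option maxHeartbeats 1000000 in
/-- The canonical quadratic element of a binary space over a self-adjoint field. -/
theorem exists_theta_binary [Nonempty ι] {r : ℕ} {K : Subalgebra F (Matrix ι ι F)} (hK : IsFieldSubalgebra r K)
    (hcard : Fintype.card ι = 2 * r) (hs : ∀ k ∈ K, adjQ Q k = k) :
    ∃ θ δ : Matrix ι ι F, δ ∈ K ∧ (∀ k ∈ K, θ * k = k * θ) ∧ adjQ Q θ = 1 - θ ∧ θ * θ = θ - δ ∧ θ ∉ K ∧
      1 - (4 : F) • δ ≠ 0 ∧ (∀ w, Q w = polar Q w (θ *ᵥ w)) ∧
      ∀ D : Matrix ι ι F, (∀ k ∈ K, D * k = k * D) → (∀ w, polar Q w (D *ᵥ w) = 0) →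
        ∃ a ∈ K, ∃ b ∈ K, D = a + b * θ := by
  classical
  let _ : Field K := (isField_of_subalgebra hK.comm hK.inv).toField
  let _ : Module K (ι → F) :=
    { smul := fun k v => (k : Matrix ι ι F) *ᵥ v
      one_smul := fun v => one_mulVec v
      mul_smul := fun a b v => (mulVec_mulVec v _ _).symm
      smul_zero := fun a => mulVec_zero _
      smul_add := fun a u v => mulVec_add _ u v
      add_smul := fun a b v => add_mulVec _ _ v
      zero_smul := fun v => zero_mulVec v }
  have : IsScalarTower F K (ι → F) := ⟨fun c k v => smul_mulVec c (k : Matrix ι ι F) v⟩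
  have : FiniteDimensional F K := Module.Finite.of_finite
  have : Module.Free K (ι → F) := Module.Free.of_divisionRing K (ι → F)
  have : Module.Finite K (ι → F) := Module.Finite.of_finite
  have hsmul : ∀ (k : K) (v : ι → F), k • v = (k : Matrix ι ι F) *ᵥ v := fun k v => rfl
  have hd : Module.finrank K (ι → F) = 2 := by
    have h := Module.finrank_mul_finrank F K (ι → F)
    rw [hK.finrank_eq, Module.finrank_fintype_fun_eq_card, hcard] at h
    have hr : 0 < r := hK.finrank_eq ▸ Module.finrank_pos
    exact Nat.eq_of_mul_eq_mul_left hr (h.trans (mul_comm _ _))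
  have hself : ∀ (k : K) (x y : ι → F), polar Q (k • x) y = polar Q x (k • y) := fun k x y => by
    rw [hsmul, hsmul, polar_mulVec_left hQ, hs k k.2]
  obtain ⟨Φ, hΦ, hΦp⟩ := Lift.exists_lift Q hself
  have hsep : ∀ x, (∀ y, polar Φ x y = 0) → x = 0 := fun x hx => hQ x fun y => by
    have h := hΦp x y 1
    rwa [hx, zero_mul, map_zero, one_smul, eq_comm] at h
  let b := Module.finBasisOfFinrankEq K (ι → F) hd
  let G : Matrix (Fin 2) (Fin 2) K := Matrix.of fun i j => polar Φ (b i) (b j)
  have hGs : G 1 0 = G 0 1 := QuadraticMap.polar_comm _ _ _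
  have hGd : ∀ i, G i i = 2 * Φ (b i) := fun i => by
    show polar Φ (b i) (b i) = _
    rw [QuadraticMap.polar_self, two_smul, two_mul]
  have hrepr : ∀ v, ∃ x : Fin 2 → K, v = x 0 • b 0 + x 1 • b 1 := fun v =>
    ⟨fun i => b.repr v i, by rw [← Fin.sum_univ_two (fun i => b.repr v i • b i), b.sum_repr]⟩
  have hG0 : G.det ≠ 0 := by
    intro h0
    obtain ⟨x, hx0, hx⟩ := Matrix.exists_mulVec_eq_zero_iff.2 h0
    have hx' : x 0 • b 0 + x 1 • b 1 = 0 := hsep _ fun y => by
      obtain ⟨z, rfl⟩ := hrepr y
      have e0 := congrFun hx 0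
      have e1 := congrFun hx 1
      simp only [mulVec, dotProduct, Fin.sum_univ_two, Pi.zero_apply, G, Matrix.of_apply] at e0 e1
      simp only [QuadraticMap.polar_add_left, QuadraticMap.polar_add_right, QuadraticMap.polar_smul_left,
        QuadraticMap.polar_smul_right, smul_eq_mul]
      rw [QuadraticMap.polar_comm Φ (b 1) (b 0)] at e1 ⊢
      linear_combination z 0 * e0 + z 1 * e1
    have hli := Fintype.linearIndependent_iff.1 b.linearIndependent x (by rw [Fin.sum_univ_two]; exact hx')
    exact hx0 (funext hli)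
  obtain ⟨c, hc⟩ : ∃ c : K, G 0 1 - c ≠ c := by
    by_cases hg : G 0 1 = 0
    · refine ⟨1, fun h => ?_⟩
      rw [hg] at h
      have h2 : (2 : K) = 0 := by linear_combination -h
      refine hG0 ?_
      rw [Matrix.det_fin_two, hGd, hGd, hGs, hg, h2]
      ring
    · exact ⟨0, fun h => hg (by simpa using h)⟩
  let B : Matrix (Fin 2) (Fin 2) K := !![Φ (b 0), G 0 1 - c; c, Φ (b 1)]
  let T : Matrix (Fin 2) (Fin 2) K := G⁻¹ * B
  have hGT : G * T = B := by
    rw [← mul_assoc, Matrix.mul_nonsing_inv _ (isUnit_iff_ne_zero.2 hG0), one_mul]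
  have hBG : ∀ i j, B i j + B j i = G i j := fun i j => by
    fin_cases i <;> fin_cases j <;> simp [B, hGd, hGs] <;> ring
  have htr : T 0 0 + T 1 1 = 1 := by
    have hdet : (1 - T).det = T.det := by
      have h1 : G * (1 - T) = Bᵀ := by
        rw [mul_sub, mul_one, hGT]
        refine Matrix.ext fun i j => ?_
        rw [Matrix.sub_apply, Matrix.transpose_apply, ← hBG i j]; ring
      refine mul_left_cancel₀ hG0 ?_
      rw [← det_mul, ← det_mul, h1, hGT, det_transpose]
    rw [Matrix.det_fin_two, Matrix.det_fin_two] at hdet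
    simp at hdet
    linear_combination -hdet
  set δ : K := T.det with hδ
  have hTT : T * T = T - δ • 1 := by
    refine Matrix.ext fun i j => ?_
    rw [Matrix.mul_apply, Fin.sum_univ_two, Matrix.sub_apply, Matrix.smul_apply, smul_eq_mul, hδ,
      Matrix.det_fin_two, Matrix.one_apply]
    fin_cases i <;> fin_cases j <;>
      simp only [Fin.zero_eta, Fin.mk_one, Fin.isValue, Fin.reduceEq, ↓reduceIte, mul_one, mul_zero, sub_zero]
    · linear_combination T 0 0 * htr
    · linear_combination T 0 1 * htr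
    · linear_combination T 1 0 * htr
    · linear_combination T 1 1 * htr
  let θK : (ι → F) →ₗ[K] (ι → F) := Matrix.toLin b b T
  set θ : Matrix ι ι F := LinearMap.toMatrix' (θK.restrictScalars F) with hθdef
  have hθv : ∀ v, θ *ᵥ v = θK v := fun v => LinearMap.toMatrix'_mulVec _ v
  have hbil : ∀ i j, polar Φ (b i) (θK (b j)) = B i j := fun i j => by
    show polar Φ (b i) (Matrix.toLin b b T (b j)) = _
    rw [← hGT, Matrix.mul_apply, Matrix.toLin_self, Fin.sum_univ_two, Fin.sum_univ_two,
      QuadraticMap.polar_add_right, QuadraticMap.polar_smul_right, QuadraticMap.polar_smul_right, smul_eq_mul,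
      smul_eq_mul]
    simp only [G, Matrix.of_apply]
    ring
  have hΦθ : ∀ w, polar Φ w (θK w) = Φ w := fun w => by
    obtain ⟨x, rfl⟩ := hrepr w
    rw [map_add, map_smul, map_smul, QuadraticMap.map_add Φ, QuadraticMap.map_smul, QuadraticMap.map_smul]
    simp only [QuadraticMap.polar_add_left, QuadraticMap.polar_add_right, QuadraticMap.polar_smul_left,
      QuadraticMap.polar_smul_right, smul_eq_mul, hbil]
    simp [B, G]
    ring
  have hQθ : ∀ w, Q w = polar Q w (θ *ᵥ w) := fun w => by
    have h := hΦp w (θK w) 1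
    rw [mul_one, hΦθ, hΦ, one_smul] at h
    rw [hθv]
    exact h
  have hpolθ : ∀ u v, polar Q u (θ *ᵥ v) + polar Q v (θ *ᵥ u) = polar Q u v := fun u v => by
    have h := hQθ (u + v)
    rw [QuadraticMap.map_add Q, hQθ u, hQθ v, mulVec_add, QuadraticMap.polar_add_left,
      QuadraticMap.polar_add_right, QuadraticMap.polar_add_right] at h
    linear_combination -h
  refine ⟨θ, (δ : Matrix ι ι F), δ.2, fun k hk => ?_, ?_, ?_, ?_, ?_, hQθ, fun D hD hD0 => ?_⟩
  · refine Matrix.ext_of_mulVec_single fun i => ?_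
    rw [← mulVec_mulVec, ← mulVec_mulVec, hθv, hθv]
    exact map_smul θK (⟨k, hk⟩ : K) _
  · refine Matrix.ext_of_mulVec_single fun i => eq_of_forall_polar hQ fun u => ?_
    rw [← polar_mulVec_left hQ, sub_mulVec, one_mulVec, QuadraticMap.polar_sub_right, QuadraticMap.polar_comm Q (θ *ᵥ u)]
    linear_combination hpolθ u (Pi.single i 1)
  · refine Matrix.ext_of_mulVec_single fun i => ?_
    rw [sub_mulVec, ← mulVec_mulVec, hθv, hθv, ← hsmul]
    obtain ⟨x, hx⟩ := hrepr (Pi.single i 1)
    have hbb : ∀ j, θK (θK (b j)) = θK (b j) - δ • b j := fun j => by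
      show Matrix.toLin b b T (Matrix.toLin b b T (b j)) = Matrix.toLin b b T (b j) - δ • b j
      rw [← Matrix.toLin_mul_apply b b b, Matrix.toLin_self, Matrix.toLin_self, hTT, Fin.sum_univ_two,
        Fin.sum_univ_two]
      fin_cases j <;> simp [sub_smul] <;> abel
    rw [hx]
    simp only [map_add, map_smul, hbb, smul_sub, smul_add, smul_smul]
    rw [mul_comm δ (x 0), mul_comm δ (x 1)]
    abel
  · intro hθ
    have h : ∀ j, θK (b j) = (⟨θ, hθ⟩ : K) • b j := fun j => by rw [hsmul, ← hθv]
    have h01 := hbil 0 1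
    have h10 := hbil 1 0
    rw [h, QuadraticMap.polar_smul_right, QuadraticMap.polar_comm, smul_eq_mul] at h01
    rw [h, QuadraticMap.polar_smul_right, smul_eq_mul] at h10
    simp [B] at h01 h10
    exact hc (h01.symm.trans h10)
  · intro h
    have hK4 : (1 : K) - 4 * δ = 0 := Subtype.ext (by
      rw [Algebra.smul_def, map_ofNat] at h
      push_cast
      exact h)
    have hdG : δ * G.det = B.det := by rw [hδ, mul_comm, ← det_mul, hGT]
    have hsq : (G 0 1 - 2 * c) * (G 0 1 - 2 * c) = 0 := by
      rw [Matrix.det_fin_two, Matrix.det_fin_two, hGd, hGd, hGs] at hdG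
      simp [B] at hdG
      linear_combination (G 0 1 * G 0 1 - 4 * Φ (b 0) * Φ (b 1)) * hK4 - 4 * hdG
    exact hc (by linear_combination mul_self_eq_zero.1 hsq)
  · let DK : (ι → F) →ₗ[K] (ι → F) :=
      { toFun := fun v => D *ᵥ v
        map_add' := fun u v => mulVec_add D u v
        map_smul' := fun k v => by
          show D *ᵥ ((k : Matrix ι ι F) *ᵥ v) = (k : Matrix ι ι F) *ᵥ (D *ᵥ v)
          rw [mulVec_mulVec, mulVec_mulVec, hD k k.2] }
    have halt : ∀ w, polar Φ w (DK w) = 0 := fun w => by
      refine Lift.eq_of_trace_sq (F := F) fun l => ?_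
      rw [zero_mul, map_zero, hΦp, mul_smul, ← hself, ← map_smul DK]
      exact hD0 (l • w)
    set κ : K := polar Φ (b 0) (DK (b 1)) / (G 0 1 - 2 * c) with hκ
    have hne : G 0 1 - 2 * c ≠ 0 := fun h => hc (by linear_combination h)
    have hE : ∀ i j, polar Φ (b i) (DK (b j)) = κ * (2 * B i j - G i j) := by
      have h00 := halt (b 0)
      have h11 := halt (b 1)
      have h := halt (b 0 + b 1)
      rw [map_add, QuadraticMap.polar_add_left, QuadraticMap.polar_add_right, QuadraticMap.polar_add_right, h00,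
        h11] at h
      have hk : κ * (G 0 1 - 2 * c) = polar Φ (b 0) (DK (b 1)) := div_mul_cancel₀ _ hne
      intro i j
      fin_cases i <;> fin_cases j <;> simp [B, h00, h11, hGd, hGs]
      · linear_combination -hk
      · linear_combination h + hk
    have hDθ : ∀ v, DK v = (-κ) • v + (2 * κ) • θK v := by
      intro v
      have hz : ∀ j, DK (b j) - ((-κ) • b j + (2 * κ) • θK (b j)) = 0 := fun j => hsep _ fun y => by
        obtain ⟨z, rfl⟩ := hrepr y
        have e : ∀ i, polar Φ (b i) (DK (b j) - ((-κ) • b j + (2 * κ) • θK (b j))) = 0 := fun i => by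
          rw [QuadraticMap.polar_sub_right, QuadraticMap.polar_add_right, QuadraticMap.polar_smul_right,
            QuadraticMap.polar_smul_right, hE, hbil]
          simp [G]
          ring
        rw [QuadraticMap.polar_comm, QuadraticMap.polar_add_left, QuadraticMap.polar_smul_left,
          QuadraticMap.polar_smul_left, e, e, smul_zero, smul_zero, add_zero]
      obtain ⟨x, rfl⟩ := hrepr v
      simp only [map_add, map_smul, sub_eq_zero.1 (hz _), smul_add, smul_smul]
      rw [mul_comm (x 0), mul_comm (x 0), mul_comm (x 1), mul_comm (x 1)]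
      abel
    refine ⟨_, (-κ).2, _, (2 * κ).2, Matrix.ext_of_mulVec_single fun i => ?_⟩
    rw [add_mulVec, ← mulVec_mulVec, hθv]
    exact hDθ _

end CfsgLib.Aschbacher.Orth
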