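import Cfsg.Agent.Lib.Geom.PlusType

/-!
In odd dimension all non-singular symmetric matrices over a finite field of odd order are congruent up to a scalar.
-/

set_option autoImplicit false

namespace CfsgLib.Aschbacher.Orth

open Matrix
open QuadraticMap (polar)

variable {n : Type} [Fintype n] [DecidableEq n] {F : Type*} [Field F] [Fintype F]

theorem exists_congr_scalar (h2 : (2 : F) ≠ 0) (hn : Odd (Fintype.card n)) {G G' : Matrix n n F}
    (hG : Gᵀ = G) (hG' : G'ᵀ = G') (hu : IsUnit G) (hu' : IsUnit G') :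
    ∃ c : F, c ≠ 0 ∧ ∃ B : GL n F, (B : Matrix n n F)ᵀ * G' * (B : Matrix n n F) = c • G := by
  classical
  set c := G.det * G'.det with hc
  have hd : G.det ≠ 0 := ((Matrix.isUnit_iff_isUnit_det G).1 hu).ne_zero
  have hd' : G'.det ≠ 0 := ((Matrix.isUnit_iff_isUnit_det G').1 hu').ne_zero
  have hc0 : c ≠ 0 := mul_ne_zero hd hd'
  refine ⟨c, hc0, ?_⟩
  let B₁ : LinearMap.BilinForm F (n → F) := Matrix.toBilin' (c • G)
  let B₂ : LinearMap.BilinForm F (n → F) := Matrix.toBilin' G'
  have hsymm : ∀ (M : Matrix n n F), Mᵀ = M → (Matrix.toBilin' M).IsSymm := fun M hM => ⟨fun x y => by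
    rw [Matrix.toBilin'_apply', Matrix.toBilin'_apply', dotProduct_mulVec, ← mulVec_transpose, hM, dotProduct_comm]⟩
  have hS₁ : B₁.IsSymm := hsymm _ (by rw [transpose_smul, hG])
  have hS₂ : B₂.IsSymm := hsymm _ hG'
  have hsep : ∀ (M : Matrix n n F), IsUnit M → Mᵀ = M → ∀ x, (∀ y, Matrix.toBilin' M x y = 0) → x = 0 := by
    intro M hM hMt x hx
    have h1 : M *ᵥ x = 0 := by
      funext i
      have := hx (Pi.single i 1)
      rw [Matrix.toBilin'_apply', dotProduct_mulVec, ← mulVec_transpose, hMt, dotProduct_single, mul_one] at this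
      exact this
    exact Matrix.mulVec_injective_iff_isUnit.2 hM (h1.trans (mulVec_zero M).symm)
  have hu₁ : IsUnit (c • G) := by
    rw [Matrix.isUnit_iff_isUnit_det, det_smul]
    exact (mul_ne_zero (pow_ne_zero _ hc0) hd).isUnit
  have hmat : ∀ (M : Matrix n n F) (hM : (Matrix.toBilin' M).IsSymm),
      LinearMap.toMatrix₂ (Pi.basisFun F n) (Pi.basisFun F n)
        (LinearMap.BilinMap.toQuadraticMap (Matrix.toBilin' M)).polarBilin = (2 : F) • M := fun M hM => by
    rw [CfsgLib.Geom.polarBilin_toQuadraticMap _ hM]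
    ext i j
    simp [LinearMap.toMatrix₂_apply]
  obtain ⟨k, hk⟩ := hn
  obtain ⟨e, he⟩ := CfsgLib.Geom.exists_isometry_of_disc (LinearMap.BilinMap.toQuadraticMap B₁)
    (LinearMap.BilinMap.toQuadraticMap B₂) h2
    (CfsgLib.Geom.sep_toQuadraticMap B₁ hS₁ h2 (hsep _ hu₁ (by rw [transpose_smul, hG])))
    (CfsgLib.Geom.sep_toQuadraticMap B₂ hS₂ h2 (hsep _ hu' hG'))
    (Pi.basisFun F n) (Pi.basisFun F n) (by
      rw [hmat _ hS₁, hmat _ hS₂, det_smul, det_smul, det_smul, hk]
      exact ⟨(2 : F) ^ (2 * k + 1) * c ^ (k + 1), by rw [hc]; ring⟩)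
  have hB : ∀ x y, B₂ (e x) (e y) = B₁ x y := fun x y => by
    have h : polar (LinearMap.BilinMap.toQuadraticMap B₂) (e x) (e y) =
        polar (LinearMap.BilinMap.toQuadraticMap B₁) x y := by
      simp only [QuadraticMap.polar, ← map_add, he]
    rw [← QuadraticMap.polarBilin_apply_apply, ← QuadraticMap.polarBilin_apply_apply,
      CfsgLib.Geom.polarBilin_toQuadraticMap _ hS₁, CfsgLib.Geom.polarBilin_toQuadraticMap _ hS₂] at h
    exact mul_left_cancel₀ h2 (by simpa using h)
  let Bm := LinearMap.toMatrix' (e : (n → F) →ₗ[F] (n → F))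
  obtain ⟨B, hBu⟩ : IsUnit Bm := by
    rw [← Matrix.mulVec_injective_iff_isUnit]
    intro x y h
    have h' : ∀ z, Bm *ᵥ z = e z := fun z => LinearMap.toMatrix'_mulVec _ _
    exact e.injective (by rw [← h', ← h']; exact h)
  refine ⟨B, ?_⟩
  rw [hBu]
  ext i j
  have := hB (Pi.single i 1) (Pi.single j 1)
  simp only [B₁, B₂, Matrix.toBilin'_apply'] at this
  rw [show e (Pi.single i 1) = Bm *ᵥ Pi.single i 1 from (LinearMap.toMatrix'_mulVec _ _).symm,
    show e (Pi.single j 1) = Bm *ᵥ Pi.single j 1 from (LinearMap.toMatrix'_mulVec _ _).symm,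
    ← vecMul_transpose, ← dotProduct_mulVec, mulVec_mulVec, mulVec_mulVec] at this
  simpa using this

end CfsgLib.Aschbacher.Orth
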