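import Cfsg.Agent.Lib.Aschbacher.OrthAdj
import Cfsg.Agent.Lib.Aschbacher.Centre

/-!
The adjoint permutes a transitive system of central idempotents: an orthogonal isometric decomposition, or a fixed-point-free
involution of the system.
-/

set_option autoImplicit false
set_option linter.unusedSectionVars false

namespace CfsgLib.Aschbacher.Orth

open Cfsg.Geo Matrix
open QuadraticMap (polar)
open scoped MatrixGroups

variable {ι : Type} [Fintype ι] [DecidableEq ι] {F : Type*} [Field F] [Fintype F]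
variable {Q : QuadraticForm F (ι → F)}

theorem mem_idemSpace {t : ℕ} {E : Fin t → Matrix ι ι F} (hidem : ∀ i, E i * E i = E i) {i : Fin t} {v : ι → F} :
    v ∈ idemSpace E i ↔ E i *ᵥ v = v := by
  constructor
  · rintro ⟨w, rfl⟩
    rw [Matrix.toLin'_apply, mulVec_mulVec, hidem]
  · exact fun h => ⟨v, by rw [Matrix.toLin'_apply, h]⟩

variable (hQ : ∀ x, (∀ y, polar Q x y = 0) → x = 0)
include hQ

/-- The adjoint permutes the idempotents: it fixes all of them or none. -/
theorem adjoint_perm {G L : Subgroup (GL ι F)} (hG : G ≤ similarityGroup (polar (⇑Q))) (hLG : L ≤ G) {t : ℕ}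
    {E : Fin t → Matrix ι ι F} (hE : IsIdemSystem G (alg L) E) :
    ∃ π : Equiv.Perm (Fin t), (∀ i, adjQ Q (E i) = E (π i)) ∧ (∀ i, π (π i) = i) ∧
      ((∀ i, π i = i) ∨ (∀ i, π i ≠ i)) := by
  classical
  have hL : L ≤ similarityGroup (polar (⇑Q)) := hLG.trans hG
  -- the adjoint permutes the idempotents
  have hsel : ∀ i, ∃ j, adjQ Q (E i) = E j := by
    intro i
    set e := adjQ Q (E i) with he
    have hmem : e ∈ alg L := adjQ_mem_alg hQ hL (hE.mem i)
    have hc : ∀ y ∈ alg L, e * y = y * e := fun y hy => by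
      have := congrArg (adjQ Q) (hE.central i (adjQ Q y) (adjQ_mem_alg hQ hL hy))
      rwa [adjQ_mul hQ, adjQ_mul hQ, adjQ_adjQ hQ, eq_comm] at this
    have hid : e * e = e := by rw [he, ← adjQ_mul hQ, hE.idem]
    have hne : e ≠ 0 := fun h => hE.ne_zero i (by
      rw [← adjQ_adjQ hQ (E i), ← he, h, adjQ_zero])
    obtain ⟨j, hj⟩ : ∃ j, e * E j ≠ 0 := by
      by_contra hall
      push Not at hall
      apply hne
      rw [← mul_one e, ← hE.sum_one, Finset.mul_sum]
      exact Finset.sum_eq_zero fun j _ => hall j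
    refine ⟨j, ?_⟩
    have h1 : e * E j = E j := (hE.minimal j e hmem hc hid).resolve_left hj
    have hmem' : adjQ Q (E j) ∈ alg L := adjQ_mem_alg hQ hL (hE.mem j)
    have hc' : ∀ y ∈ alg L, adjQ Q (E j) * y = y * adjQ Q (E j) := fun y hy => by
      have := congrArg (adjQ Q) (hE.central j (adjQ Q y) (adjQ_mem_alg hQ hL hy))
      rwa [adjQ_mul hQ, adjQ_mul hQ, adjQ_adjQ hQ, eq_comm] at this
    have hj0 : E j ≠ 0 := hE.ne_zero j
    have h2 : adjQ Q (E j) * E i = adjQ Q (E j) := by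
      have h := congrArg (adjQ Q) h1
      rwa [adjQ_mul hQ, he, adjQ_adjQ hQ] at h
    rcases hE.minimal i (adjQ Q (E j)) hmem' hc' (by rw [← adjQ_mul hQ, hE.idem]) with h3 | h3
    · rw [h2] at h3
      exact absurd (by rw [← adjQ_adjQ hQ (E j), h3, adjQ_zero]) hj0
    · rw [h2] at h3
      rw [he, ← adjQ_adjQ hQ (E j), h3]
  choose π hπ using hsel
  have hinj : ∀ i j, E i = E j → i = j := fun i j h => by
    by_contra hne
    have := hE.orth i j hne
    rw [← h, hE.idem] at this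
    exact hE.ne_zero i this
  have hππ : ∀ i, π (π i) = i := fun i => hinj _ _ (by rw [← hπ (π i), ← hπ i, adjQ_adjQ hQ])
  refine ⟨⟨π, π, hππ, hππ⟩, hπ, hππ, ?_⟩
  by_cases hfix : ∀ i, π i = i
  · exact Or.inl hfix
  refine Or.inr fun i (hi : π i = i) => ?_
  push Not at hfix
  obtain ⟨j, hj⟩ := hfix
  obtain ⟨g, hg, hgi⟩ := hE.trans i j
  refine hj (hinj _ _ ?_)
  rw [← hπ j, ← hgi, adjQ_cj hQ (hG hg), hπ i, hi]

omit hQ in
/-- An odd number of idempotents: all are fixed. -/
theorem perm_fixed_of_odd {t : ℕ} (ht : Odd t) {π : Equiv.Perm (Fin t)} (h2 : ∀ i, π (π i) = i)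
    (h : (∀ i, π i = i) ∨ (∀ i, π i ≠ i)) : ∀ i, π i = i := by
  refine h.resolve_right fun hno => ?_
  have hs : π.support = Finset.univ := Finset.eq_univ_iff_forall.2 fun i => Equiv.Perm.mem_support.2 (hno i)
  have hd := Equiv.Perm.two_dvd_card_support (σ := π) (Equiv.ext fun i => by simp [pow_two, h2])
  rw [hs, Finset.card_univ, Fintype.card_fin] at hd
  obtain ⟨k, rfl⟩ := ht
  omega

/-- Self-adjoint idempotents give an orthogonal decomposition into isometric non-degenerate subspaces. -/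
theorem orthDecomp_of_selfAdjoint {H : Subgroup (GL ι F)}
    (hH : ∀ g ∈ H, ∀ x, Q ((g : Matrix ι ι F) *ᵥ x) = Q x) {L : Subgroup (GL ι F)} {t : ℕ}
    {E : Fin t → Matrix ι ι F} (hE : IsIdemSystem (H ⊔ scalars ι F) (alg L) E)
    (hfix : ∀ i, adjQ Q (E i) = E i) :
    ∃ m, IsOrthogonalMDecomposition (⇑Q) m (idemSpace E) ∧ H ≤ decompositionStabilizer (idemSpace E) := by
  obtain ⟨m, hm⟩ := hE.isMDecomposition
  refine ⟨m, ⟨⟨hm, fun i w hw hw0 => ?_, fun i j hij u hu v hv => ?_⟩, fun i j => ?_⟩,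
    le_sup_left.trans hE.le_stabilizer⟩
  · obtain ⟨x, hx⟩ : ∃ x, polar Q w x ≠ 0 := by
      by_contra hno
      push Not at hno
      exact hw0 (hQ w hno)
    have hx' : polar Q w (E i *ᵥ x) ≠ 0 := by
      have h := polar_mulVec_left hQ (E i) w x
      rw [hfix, (mem_idemSpace hE.idem).1 hw] at h
      rwa [← h]
    have hm' : E i *ᵥ x ∈ idemSpace E i := ⟨x, Matrix.toLin'_apply _ _⟩
    exact ⟨⟨_, hm', by rwa [QuadraticMap.polar_comm]⟩, ⟨_, hm', hx'⟩⟩
  · rw [← (mem_idemSpace hE.idem).1 hu, polar_mulVec_left hQ, hfix, ← (mem_idemSpace hE.idem).1 hv,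
      mulVec_mulVec, hE.orth i j hij, zero_mulVec, QuadraticMap.polar_zero_right]
  · obtain ⟨g, hg, hgij⟩ := hE.trans i j
    obtain ⟨h, hh, z, hz, rfl⟩ := Subgroup.mem_sup_of_normal_right.1 hg
    have hz' : cj z (E i) = E i := by
      obtain ⟨c, hc⟩ := (mem_scalars_iff z).1 hz
      rw [cj_eq_self_iff, hc]
      exact (Commute.one_left _).smul_left _
    rw [cj_mul, hz'] at hgij
    have hmap : (idemSpace E i).map (Matrix.toLin' (h : Matrix ι ι F)) = idemSpace E j := by
      unfold idemSpace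
      rw [map_range_toLin', hgij]
    have hinj : Function.Injective (Matrix.toLin' (h : Matrix ι ι F)) := fun a b e => by
      have := congrArg (((h⁻¹ : GL ι F) : Matrix ι ι F) *ᵥ ·) e
      simpa [mulVec_mulVec, ← Units.val_mul] using this
    refine ⟨(Submodule.equivMapOfInjective _ hinj _).trans (LinearEquiv.ofEq _ _ hmap), fun w => ?_⟩
    show Q ((h : Matrix ι ι F) *ᵥ (w : ι → F)) = _
    exact hH h hh _

end CfsgLib.Aschbacher.Orth
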