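import Cfsg.Agent.Lib.Aschbacher.OrthType

/-!
Discriminants of orthogonal sums in odd characteristic: isometric halves and frames.
-/

set_option autoImplicit false
set_option linter.unusedSectionVars false

namespace CfsgLib.Aschbacher.Orth

open Cfsg.Geo Matrix CfsgLib.Classical CfsgLib.Geom
open QuadraticMap (polar)
open scoped MatrixGroups

variable {ι : Type} [Fintype ι] [DecidableEq ι] {F : Type*} [Field F] [Fintype F]
variable {Q : QuadraticForm F (ι → F)}

omit [Fintype F] in
theorem isSquare_sq_mul_iff {t x : F} (ht : t ≠ 0) : IsSquare (t * t * x) ↔ IsSquare x := by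
  constructor
  · rintro ⟨s, hs⟩
    exact ⟨s / t, by field_simp; linear_combination hs⟩
  · rintro ⟨s, hs⟩
    exact ⟨t * s, by rw [hs]; ring⟩

omit [Fintype F] in
theorem isSquare_iff_of_sq_mul {t x y : F} (h : x = t * t * y) (ht : t ≠ 0) : IsSquare x ↔ IsSquare y :=
  h ▸ isSquare_sq_mul_iff ht

variable (hQ : ∀ x, (∀ y, polar Q x y = 0) → x = 0)
include hQ

theorem det_gramQ_ne_zero : (gramQ Q).det ≠ 0 :=
  ((Matrix.isUnit_iff_isUnit_det _).1 (gramQ_isUnit hQ)).ne_zero

/-- The discriminant in any basis. -/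
theorem det_basis {κ : Type*} [Fintype κ] [DecidableEq κ] (c : Module.Basis κ F (ι → F)) :
    ∃ t : F, t ≠ 0 ∧ (LinearMap.toMatrix₂ c c Q.polarBilin).det = t * t * (gramQ Q).det := by
  obtain ⟨t, ht, h⟩ := disc_change Q (Pi.basisFun F ι) (c.reindex (c.indexEquiv (Pi.basisFun F ι)))
  refine ⟨t, ht, ?_⟩
  rw [← toMatrix_polarBilin_eq_gramQ hQ, ← h]
  conv_rhs => rw [show LinearMap.toMatrix₂ (c.reindex (c.indexEquiv (Pi.basisFun F ι)))
      (c.reindex (c.indexEquiv (Pi.basisFun F ι))) Q.polarBilin =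
    (LinearMap.toMatrix₂ c c Q.polarBilin).submatrix (c.indexEquiv (Pi.basisFun F ι)).symm
      (c.indexEquiv (Pi.basisFun F ι)).symm by
        ext i j; simp [LinearMap.toMatrix₂_apply], Matrix.det_submatrix_equiv_self]

/-- An orthogonal basis with constant value has square discriminant in even dimension. -/
theorem square_det_of_frame {n : ℕ} (hn : Even n) (hcard : Fintype.card ι = n) (v : Fin n → ι → F) {c : F}
    (hc : c ≠ 0) (hv : ∀ i j, polar Q (v i) (v j) = if i = j then c else 0) : IsSquare (gramQ Q).det := by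
  rcases Nat.eq_zero_or_pos n with rfl | hpos
  · have : IsEmpty ι := Fintype.card_eq_zero_iff.1 hcard
    rw [Matrix.det_isEmpty]
    exact IsSquare.one
  have : Nonempty (Fin n) := ⟨⟨0, hpos⟩⟩
  have hli : LinearIndependent F v := Fintype.linearIndependent_iff.2 fun g hg p => by
    have h := congrArg (fun z => Q.polarBilin z (v p)) hg
    simp only [map_sum, map_smul, LinearMap.sum_apply, LinearMap.smul_apply, smul_eq_mul,
      QuadraticMap.polarBilin_apply_apply, hv, mul_ite, mul_zero, Finset.sum_ite_eq', Finset.mem_univ, if_true,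
      map_zero, LinearMap.zero_apply] at h
    exact (mul_eq_zero.1 h).resolve_right hc
  let b := basisOfLinearIndependentOfCardEqFinrank hli
    (by rw [Fintype.card_fin, Module.finrank_fintype_fun_eq_card, hcard])
  obtain ⟨t, ht, h⟩ := det_basis hQ b
  have hd : LinearMap.toMatrix₂ b b Q.polarBilin = Matrix.diagonal fun _ => c := by
    ext i j
    simp [b, LinearMap.toMatrix₂_apply, hv, Matrix.diagonal_apply]
  rw [hd, Matrix.det_diagonal, Finset.prod_const, Finset.card_univ, Fintype.card_fin] at h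
  refine (isSquare_iff_of_sq_mul h ht).1 ?_
  obtain ⟨k, rfl⟩ := hn
  exact ⟨c ^ k, by rw [pow_add]⟩

/-- Two orthogonal halves are isometric exactly when the discriminant is a square. -/
theorem isometric_halves_iff (h2 : (2 : F) ≠ 0) {W W' : Submodule F (ι → F)}
    (hW : IsNondegenerateOn (polar (⇑Q)) W) (hW' : IsNondegenerateOn (polar (⇑Q)) W')
    (horth : AreOrthogonalFor (polar (⇑Q)) W W') (hcompl : IsCompl W W') {k : ℕ}
    (hk : Module.finrank F W = k) (hk' : Module.finrank F W' = k) :
    AreIsometricFor (⇑Q) W W' ↔ IsSquare (gramQ Q).det := by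
  classical
  let bW := Module.finBasisOfFinrankEq F W hk
  let bW' := Module.finBasisOfFinrankEq F W' hk'
  let A := LinearMap.toMatrix₂ bW bW (Q.comp W.subtype).polarBilin
  let D := LinearMap.toMatrix₂ bW' bW' (Q.comp W'.subtype).polarBilin
  let c : Module.Basis (Fin k ⊕ Fin k) F (ι → F) :=
    (bW.prod bW').map (Submodule.prodEquivOfIsCompl W W' hcompl)
  have hM : LinearMap.toMatrix₂ c c Q.polarBilin = Matrix.fromBlocks A 0 0 D := by
    ext p q
    rcases p with i | i <;> rcases q with j | j <;>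
      simp [c, A, D, LinearMap.toMatrix₂_apply, QuadraticMap.polar]
    · exact horth _ (bW i).2 _ (bW' j).2
    · have h := horth _ (bW j).2 _ (bW' i).2
      rw [QuadraticMap.polar_comm] at h
      exact h
  obtain ⟨t, ht, hdet⟩ := det_basis hQ c
  rw [hM, Matrix.det_fromBlocks_zero₁₂] at hdet
  rw [← isSquare_iff_of_sq_mul hdet ht]
  constructor
  · rintro ⟨e, he⟩
    obtain ⟨u, hu, hch⟩ := disc_change (Q.comp W'.subtype) (bW.map e) bW'
    have hA : LinearMap.toMatrix₂ (bW.map e) (bW.map e) (Q.comp W'.subtype).polarBilin = A := by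
      ext i j
      simp only [A, LinearMap.toMatrix₂_apply, QuadraticMap.polarBilin_apply_apply, QuadraticMap.polar,
        QuadraticMap.comp_apply, Module.Basis.map_apply, Submodule.subtype_apply]
      rw [← map_add, he, he, he]
    rw [hA] at hch
    exact ⟨u * A.det, by simp only [D, hch]; ring⟩
  · intro h
    obtain ⟨e, he⟩ := exists_isometry_of_disc (Q.comp W.subtype) (Q.comp W'.subtype) h2
      (MaxSub.IsoType.sep_comp (nondegenerateOn_iff.1 hW)) (MaxSub.IsoType.sep_comp (nondegenerateOn_iff.1 hW'))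
      bW bW' h
    exact ⟨e, fun w => he w⟩

/-- A square discriminant decides the type by the class of `-1`. -/
theorem plusType_iff_of_square (h2 : (2 : F) ≠ 0) {m : ℕ} (hm : Fintype.card ι = 2 * m)
    (hd : IsSquare (gramQ Q).det) :
    IsPlusTypeOn (⇑Q) ⊤ ↔ (Even m ∨ Fintype.card F % 4 ≠ 3) := by
  rw [plusType_iff_square hQ h2 hm]
  obtain ⟨s, hs⟩ := hd
  have hs0 : s ≠ 0 := fun h => det_gramQ_ne_zero hQ (by rw [hs, h, mul_zero])
  rw [hs, mul_comm, isSquare_sq_mul_iff hs0]
  rcases Nat.even_or_odd m with he | ho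
  · have h1 : (-1 : F) ^ m = 1 := he.neg_one_pow
    rw [h1]
    exact iff_of_true IsSquare.one (Or.inl he)
  · rw [ho.neg_one_pow, FiniteField.isSquare_neg_one_iff]
    exact ⟨Or.inr, fun h => h.resolve_left fun he => Nat.not_even_iff_odd.2 ho he⟩

/-- A non-square discriminant decides the type by the class of `-1`, odd half dimension. -/
theorem plusType_iff_of_not_square (h2 : (2 : F) ≠ 0) {m : ℕ} (hm : Fintype.card ι = 2 * m) (ho : Odd m)
    (hd : ¬ IsSquare (gramQ Q).det) :
    IsPlusTypeOn (⇑Q) ⊤ ↔ Fintype.card F % 4 = 3 := by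
  classical
  rw [plusType_iff_square hQ h2 hm, ho.neg_one_pow]
  have hne : ringChar F ≠ 2 := fun h => h2 (by
    have : CharP F 2 := ringChar.eq_iff.1 h
    exact_mod_cast CharP.cast_eq_zero F 2)
  constructor
  · intro h
    by_contra hq
    obtain ⟨s, hs⟩ := FiniteField.isSquare_neg_one_iff.2 hq
    refine hd ((isSquare_sq_mul_iff (t := s) fun h0 => ?_).1 (hs ▸ h))
    rw [h0, mul_zero, neg_eq_zero] at hs
    exact one_ne_zero hs
  · intro hq
    have h1 : quadraticChar F (-1) = -1 :=
      quadraticChar_neg_one_iff_not_isSquare.2 fun h => FiniteField.isSquare_neg_one_iff.1 h hq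
    rw [← quadraticChar_neg_one_iff_not_isSquare] at hd
    rw [← quadraticChar_one_iff_isSquare (mul_ne_zero (neg_ne_zero.2 one_ne_zero) (det_gramQ_ne_zero hQ)),
      map_mul, h1, hd]
    rfl

end CfsgLib.Aschbacher.Orth
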