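import Cfsg.Agent.Lib.Aschbacher.OrthForms
import Cfsg.Agent.Lib.Classical.OrthOmega
import Cfsg.Agent.Lib.MaxSub.Rational

set_option autoImplicit false
set_option linter.unusedSectionVars false

/-!
The odd-dimensional standard form: rational structures up to scalar give rational structures, and the stabiliser
of an orthogonal isometric frame lies in every subfield group.
-/

namespace CfsgLib.Aschbacher.OrthOdd

open Matrix Cfsg.Geo CfsgLib.Classical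
open QuadraticMap (polar)
open scoped MatrixGroups

variable {ι : Type} [Fintype ι] [DecidableEq ι] {F : Type*} [Field F]

theorem mem_subfieldSubgroup_of_entries {F₀ : Subfield F} {P g : GL ι F}
    (h : ∀ i j, ((P⁻¹ * g * P : GL ι F) : Matrix ι ι F) i j ∈ F₀) : g ∈ subfieldSubgroup F₀ P := by
  have h1 := CfsgLib.MaxSub.ratMat_mem_subfieldSubgroup (g := P⁻¹ * g * P) h
  rw [subfieldSubgroup, map_one] at h1
  obtain ⟨y, hy, hy'⟩ := h1
  refine ⟨y, hy, ?_⟩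
  change y = P⁻¹ * g * P at hy'
  show P * y * P⁻¹ = g
  rw [hy']
  group

/-- Conjugating the change of basis by a scalar changes nothing. -/
theorem subfieldSubgroup_scalar_mul (F₀ : Subfield F) (P z : GL ι F) (hz : z ∈ scalars ι F) :
    subfieldSubgroup F₀ (z * P) = subfieldSubgroup F₀ P := by
  have hc : ∀ g : GL ι F, z * g = g * z := by
    obtain ⟨c, hc⟩ := (mem_scalars_iff z).1 hz
    intro g
    exact Units.ext (by rw [Units.val_mul, Units.val_mul, hc, Matrix.smul_mul, one_mul, Matrix.mul_smul, mul_one])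
  unfold subfieldSubgroup
  refine congrArg (fun f => Subgroup.map f _) (MonoidHom.ext fun g => ?_)
  show z * P * g * (z * P)⁻¹ = P * g * P⁻¹
  calc z * P * g * (z * P)⁻¹ = z * (P * g * P⁻¹) * z⁻¹ := by group
    _ = P * g * P⁻¹ := by rw [hc, mul_assoc (P * g * P⁻¹), mul_inv_cancel, mul_one]

section Std

variable [Fintype F] {m : ℕ}

theorem quadOdd_nondeg (h2 : (2 : F) ≠ 0) : IsNondegenerateQuadraticForm (Cfsg.quadFormOdd m F) := by
  rw [← qfOdd_coe]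
  refine ⟨fun c v => by rw [QuadraticMap.map_smul, smul_eq_mul, sq], ⟨fun x y v => QuadraticMap.polar_add_left _ x y v,
    fun c x v => by rw [QuadraticMap.polar_smul_left, smul_eq_mul], fun v x y => QuadraticMap.polar_add_right _ v x y,
    fun c v x => by rw [QuadraticMap.polar_smul_right, smul_eq_mul]⟩, fun v hv => ?_⟩
  have : ∃ y, polar (qfOdd m F) v y ≠ 0 := by
    by_contra hno
    push Not at hno
    exact hv (qfOdd_sep h2 m v hno)
  obtain ⟨y, hy⟩ := this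
  exact ⟨⟨y, by rwa [QuadraticMap.polar_comm]⟩, ⟨y, hy⟩⟩

theorem gram_entries_mem (F₀ : Subfield F) (i j : Unit ⊕ (Fin m ⊕ Fin m)) :
    gramMatrix (polar (Cfsg.quadFormOdd m F)) i j ∈ F₀ := by
  show polar (Cfsg.quadFormOdd m F) (Pi.single i 1) (Pi.single j 1) ∈ F₀
  have h : ∀ a b, (Pi.single a (1 : F) : Unit ⊕ (Fin m ⊕ Fin m) → F) b ∈ F₀ := fun a b => by
    rw [Pi.single_apply]; split
    exacts [one_mem _, zero_mem _]
  rw [← qfOdd_coe, polar_qfOdd]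
  exact add_mem (mul_mem (mul_mem (ofNat_mem F₀ 2) (h _ _)) (h _ _))
    (sum_mem fun k _ => add_mem (mul_mem (h _ _) (h _ _)) (mul_mem (h _ _) (h _ _)))

/-- A structure rational up to a scalar can be rescaled to a rational one. -/
theorem exists_rational_scale (h2 : (2 : F) ≠ 0) {F₀ : Subfield F} {P : GL (Unit ⊕ (Fin m ⊕ Fin m)) F} {ζ : F}
    (hζ : ζ ≠ 0) (h : IsFormRationalStructure (polar (Cfsg.quadFormOdd m F)) F₀ ζ P) :
    ∃ P' : GL (Unit ⊕ (Fin m ⊕ Fin m)) F, IsQuadFormRationalStructure (Cfsg.quadFormOdd m F) F₀ P' ∧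
      subfieldSubgroup F₀ P' = subfieldSubgroup F₀ P := by
  classical
  have hQ := quadOdd_nondeg (m := m) h2
  obtain ⟨pal, psl, par, psr⟩ := OrthForms.polar_hyps hQ.polar_bilinear
  set G := gramMatrix (polar (Cfsg.quadFormOdd m F)) with hGdef
  have hdet : ∀ A : Matrix (Unit ⊕ (Fin m ⊕ Fin m)) (Unit ⊕ (Fin m ⊕ Fin m)) F, (∀ i j, A i j ∈ F₀) →
      A.det ∈ F₀ := fun A hA => by
    have := RingHom.map_det F₀.subtype (Matrix.of fun i j => (⟨A i j, hA i j⟩ : F₀))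
    rw [show F₀.subtype.mapMatrix (Matrix.of fun i j => (⟨A i j, hA i j⟩ : F₀)) = A from rfl] at this
    rw [← this]
    exact SetLike.coe_mem _
  have hG : G.det ∈ F₀ := hdet G (gram_entries_mem F₀)
  have hG0 : G.det ≠ 0 :=
    ((Matrix.isUnit_iff_isUnit_det G).1 (OrthForms.gram_isUnit pal psl par psr hQ.nondegenerate)).ne_zero
  have hP0 : (P : Matrix (Unit ⊕ (Fin m ⊕ Fin m)) (Unit ⊕ (Fin m ⊕ Fin m)) F).det ≠ 0 := ((Matrix.isUnit_iff_isUnit_det _).1 P.isUnit).ne_zero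
  have hA : (ζ • ((P : Matrix (Unit ⊕ (Fin m ⊕ Fin m)) (Unit ⊕ (Fin m ⊕ Fin m)) F)ᵀ * G * (P : Matrix (Unit ⊕ (Fin m ⊕ Fin m)) (Unit ⊕ (Fin m ⊕ Fin m)) F))).det ∈ F₀ := by
    refine hdet _ fun i j => ?_
    rw [Matrix.smul_apply, smul_eq_mul, hGdef]
    have e := OrthForms.gram_map pal psl par psr (P : Matrix (Unit ⊕ (Fin m ⊕ Fin m)) (Unit ⊕ (Fin m ⊕ Fin m)) F)
    simp only [RingHom.coe_id, Matrix.map_id] at e
    rw [← e]
    exact h _ _ (CfsgLib.MaxSub.ratVec_single i (one_mem _)) (CfsgLib.MaxSub.ratVec_single j (one_mem _))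
  rw [det_smul, det_mul, det_mul, det_transpose] at hA
  have hn : Fintype.card (Unit ⊕ (Fin m ⊕ Fin m)) = 2 * m + 1 := by simp; omega
  rw [hn] at hA
  set c := (ζ ^ m * (P : Matrix (Unit ⊕ (Fin m ⊕ Fin m)) (Unit ⊕ (Fin m ⊕ Fin m)) F).det)⁻¹ with hc
  have hc0 : c ≠ 0 := inv_ne_zero (mul_ne_zero (pow_ne_zero _ hζ) hP0)
  have hcζ : c ^ 2 * ζ⁻¹ ∈ F₀ := by
    have e : c ^ 2 * ζ⁻¹ =
        (ζ ^ (2 * m + 1) * ((P : Matrix (Unit ⊕ (Fin m ⊕ Fin m)) (Unit ⊕ (Fin m ⊕ Fin m)) F).det * G.det * (P : Matrix (Unit ⊕ (Fin m ⊕ Fin m)) (Unit ⊕ (Fin m ⊕ Fin m)) F).det))⁻¹ * G.det := by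
      rw [hc]; field_simp; ring
    rw [e]
    exact mul_mem (F₀.inv_mem hA) hG
  let z : GL (Unit ⊕ (Fin m ⊕ Fin m)) F :=
    Units.map (Matrix.scalar _ : F →+* Matrix (Unit ⊕ (Fin m ⊕ Fin m)) (Unit ⊕ (Fin m ⊕ Fin m)) F).toMonoidHom (Units.mk0 c hc0)
  have hz : (z : Matrix (Unit ⊕ (Fin m ⊕ Fin m)) (Unit ⊕ (Fin m ⊕ Fin m)) F) = c • 1 := by simp [z, Matrix.smul_one_eq_diagonal]
  refine ⟨z * P, fun u hu => ?_, subfieldSubgroup_scalar_mul F₀ P z ⟨_, rfl⟩⟩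
  rw [Units.val_mul, hz, Matrix.smul_mul, one_mul, smul_mulVec, hQ.smul]
  set w := (P : Matrix (Unit ⊕ (Fin m ⊕ Fin m)) (Unit ⊕ (Fin m ⊕ Fin m)) F) *ᵥ u with hw
  have hp : polar (Cfsg.quadFormOdd m F) w w = 2 * Cfsg.quadFormOdd m F w := by
    simp only [QuadraticMap.polar, ← two_smul F w, hQ.smul]
    ring
  have e : c ^ 2 * Cfsg.quadFormOdd m F w = (c ^ 2 * ζ⁻¹) * (ζ * polar (Cfsg.quadFormOdd m F) w w) * (2 : F)⁻¹ := by
    rw [hp]; field_simp
  rw [e]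
  exact mul_mem (mul_mem hcζ (h u u hu hu)) (F₀.inv_mem (ofNat_mem F₀ 2))

/-- The stabiliser of an orthogonal isometric frame is rational over every subfield. -/
theorem frame_le_subfield (h2 : (2 : F) ≠ 0) {H : Subgroup (GL (Unit ⊕ (Fin m ⊕ Fin m)) F)}
    (hH : ∀ g ∈ H, ∀ x, Cfsg.quadFormOdd m F ((g : Matrix (Unit ⊕ (Fin m ⊕ Fin m)) (Unit ⊕ (Fin m ⊕ Fin m)) F) *ᵥ x) = Cfsg.quadFormOdd m F x) {t : ℕ}
    {D : Fin t → Submodule F (Unit ⊕ (Fin m ⊕ Fin m) → F)}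
    (hD : IsOrthogonalMDecomposition (Cfsg.quadFormOdd m F) 1 D) (hle : H ≤ decompositionStabilizer D)
    (F₀ : Subfield F) :
    ∃ P : GL (Unit ⊕ (Fin m ⊕ Fin m)) F, IsQuadFormRationalStructure (Cfsg.quadFormOdd m F) F₀ P ∧
      H ≤ subfieldSubgroup F₀ P := by
  classical
  have hQ := quadOdd_nondeg (m := m) h2
  obtain ⟨pal, psl, par, psr⟩ := OrthForms.polar_hyps hQ.polar_bilinear
  set Q := Cfsg.quadFormOdd m F with hQdef
  have hpp : ∀ w, polar Q w w = 2 * Q w := fun w => by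
    simp only [QuadraticMap.polar, ← two_smul F w, hQ.smul]; ring
  have hd := hD.decomp.decomp
  let i₀ : Fin t := ⟨0, by have := hd.two_le; omega⟩
  obtain ⟨v₀, hv₀, hv0⟩ := (D i₀).exists_mem_ne_zero_of_ne_bot (fun h => by
    have := hd.finrank_eq i₀; rw [h, finrank_bot] at this; omega)
  choose e he using fun i => hD.isometric i₀ i
  let v : Fin t → (Unit ⊕ (Fin m ⊕ Fin m) → F) := fun i => (e i ⟨v₀, hv₀⟩ : D i)
  have hvD : ∀ i, v i ∈ D i := fun i => SetLike.coe_mem _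
  have hvne : ∀ i, v i ≠ 0 := fun i h => hv0 (by
    have h1 : e i ⟨v₀, hv₀⟩ = 0 := Subtype.ext h
    exact congrArg Subtype.val ((e i).map_eq_zero_iff.1 h1))
  have hspan : ∀ i, D i = Submodule.span F {v i} := fun i =>
    (Submodule.eq_of_le_of_finrank_eq ((Submodule.span_singleton_le_iff_mem _ _).2 (hvD i))
      (by rw [finrank_span_singleton (hvne i), hd.finrank_eq i])).symm
  set a := Q v₀ with ha_def
  have hQv : ∀ i, Q (v i) = a := fun i => he i ⟨v₀, hv₀⟩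
  have ha : a ≠ 0 := by
    intro ha0
    obtain ⟨x, hx, hxv⟩ := (hD.decomp.nondegenerate i₀ v₀ hv₀ hv0).2
    have hs : D i₀ = Submodule.span F {v₀} :=
      (Submodule.eq_of_le_of_finrank_eq ((Submodule.span_singleton_le_iff_mem _ _).2 hv₀)
        (by rw [finrank_span_singleton hv0, hd.finrank_eq i₀])).symm
    rw [hs] at hx
    obtain ⟨r, rfl⟩ := Submodule.mem_span_singleton.1 hx
    exact hxv (by rw [hQ.polar_bilinear.smul_right, hpp, ← ha_def, ha0, mul_zero, mul_zero])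
  have hli : LinearIndependent F v := hd.indep.linearIndependent _ hvD hvne
  have hcard : t = Fintype.card (Unit ⊕ (Fin m ⊕ Fin m)) := by
    have hs : Submodule.span F (Set.range v) = ⊤ := by
      rw [eq_top_iff, ← hd.iSup_eq_top, iSup_le_iff]
      intro i
      rw [hspan i]
      exact Submodule.span_mono (by simp)
    have := finrank_span_eq_card hli
    rw [hs, finrank_top, Module.finrank_fintype_fun_eq_card, Fintype.card_fin] at this
    exact this.symm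
  let ε : Unit ⊕ (Fin m ⊕ Fin m) ≃ Fin t :=
    Fintype.equivOfCardEq (by rw [Fintype.card_fin]; exact hcard.symm)
  let Pm : Matrix (Unit ⊕ (Fin m ⊕ Fin m)) (Unit ⊕ (Fin m ⊕ Fin m)) F := Matrix.of fun i j => v (ε j) i
  obtain ⟨P, hP⟩ : IsUnit Pm := by
    rw [← Matrix.linearIndependent_cols_iff_isUnit]
    exact hli.comp ε ε.injective
  have hcol : ∀ j, (P : Matrix (Unit ⊕ (Fin m ⊕ Fin m)) (Unit ⊕ (Fin m ⊕ Fin m)) F) *ᵥ Pi.single j 1 = v (ε j) := fun j => by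
    rw [hP, mulVec_single_one]; rfl
  have hgram : (P : Matrix (Unit ⊕ (Fin m ⊕ Fin m)) (Unit ⊕ (Fin m ⊕ Fin m)) F)ᵀ * gramMatrix (polar Q) * (P : Matrix (Unit ⊕ (Fin m ⊕ Fin m)) (Unit ⊕ (Fin m ⊕ Fin m)) F) = (2 * a) • 1 := by
    have e1 := OrthForms.gram_map pal psl par psr (P : Matrix (Unit ⊕ (Fin m ⊕ Fin m)) (Unit ⊕ (Fin m ⊕ Fin m)) F)
    simp only [RingHom.coe_id, Matrix.map_id] at e1
    rw [← e1]
    ext i j
    show polar Q ((P : Matrix (Unit ⊕ (Fin m ⊕ Fin m)) (Unit ⊕ (Fin m ⊕ Fin m)) F) *ᵥ Pi.single i 1) ((P : Matrix (Unit ⊕ (Fin m ⊕ Fin m)) (Unit ⊕ (Fin m ⊕ Fin m)) F) *ᵥ Pi.single j 1) = _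
    rw [hcol, hcol, Matrix.smul_apply, Matrix.one_apply, smul_eq_mul]
    by_cases hij : i = j
    · subst hij
      rw [if_pos rfl, mul_one, hpp, hQv]
    · rw [if_neg hij, mul_zero]
      exact hD.decomp.orthogonal _ _ (fun h => hij (ε.injective h)) _ (hvD _) _ (hvD _)
  have h2a : (2 * a : F) ≠ 0 := mul_ne_zero h2 ha
  have hrat : IsFormRationalStructure (polar Q) F₀ (2 * a)⁻¹ P := fun u w hu hw => by
    rw [OrthForms.gram_apply pal psl par psr, RingHom.coe_id, Function.id_comp, ← vecMul_transpose,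
      ← dotProduct_mulVec, mulVec_mulVec, mulVec_mulVec, hgram]
    rw [smul_mulVec, one_mulVec, dotProduct_smul, smul_eq_mul, ← mul_assoc, inv_mul_cancel₀ h2a, one_mul]
    exact CfsgLib.MaxSub.RatVec.dot hu hw
  obtain ⟨P', hP', heq⟩ := exists_rational_scale h2 (inv_ne_zero h2a) hrat
  refine ⟨P', hP', fun g hg => heq ▸ mem_subfieldSubgroup_of_entries fun i j => ?_⟩
  obtain ⟨σ, hσ⟩ := hle hg
  have him : (g : Matrix (Unit ⊕ (Fin m ⊕ Fin m)) (Unit ⊕ (Fin m ⊕ Fin m)) F) *ᵥ v (ε j) ∈ D (σ (ε j)) := by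
    rw [← hσ]
    exact ⟨_, hvD _, Matrix.toLin'_apply _ _⟩
  rw [hspan] at him
  obtain ⟨r, hr⟩ := Submodule.mem_span_singleton.1 him
  have hr2 : r * r = 1 := by
    have h1 := hH g hg (v (ε j))
    rw [← hr, hQ.smul, hQv, hQv] at h1
    rw [← sq]
    exact mul_right_cancel₀ ha (h1.trans (one_mul a).symm)
  have hrF : r ∈ F₀ := by
    rcases mul_self_eq_one_iff.1 hr2 with h | h <;> rw [h]
    exacts [one_mem _, neg_mem (one_mem _)]
  have hcolg : ((P⁻¹ * g * P : GL (Unit ⊕ (Fin m ⊕ Fin m)) F) : Matrix (Unit ⊕ (Fin m ⊕ Fin m)) (Unit ⊕ (Fin m ⊕ Fin m)) F) *ᵥ Pi.single j 1 = r • Pi.single (ε.symm (σ (ε j))) 1 := by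
    rw [Units.val_mul, Units.val_mul, ← mulVec_mulVec, ← mulVec_mulVec, hcol, ← hr,
      ← ε.apply_symm_apply (σ (ε j)), ← hcol, mulVec_smul, mulVec_mulVec, ← Units.val_mul, inv_mul_cancel,
      Units.val_one, one_mulVec, Equiv.symm_apply_apply]
  have := congrFun hcolg i
  rw [mulVec_single_one] at this
  rw [show ((P⁻¹ * g * P : GL (Unit ⊕ (Fin m ⊕ Fin m)) F) : Matrix (Unit ⊕ (Fin m ⊕ Fin m)) (Unit ⊕ (Fin m ⊕ Fin m)) F) i j = _ from this, Pi.smul_apply, smul_eq_mul]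
  exact mul_mem hrF (CfsgLib.MaxSub.ratVec_single _ (one_mem _) i)

end Std

end CfsgLib.Aschbacher.OrthOdd
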