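import Cfsg.Agent.Lib.Aschbacher.OrthNotLe
import Cfsg.Agent.Lib.Aschbacher.OrthOdd

/-!
Orthogonal frames are rational over every subfield up to a scalar, and `Ω` is not in a tensor stabiliser `2 ⊗ n`.
-/

set_option autoImplicit false
set_option linter.unusedSectionVars false

namespace CfsgLib.Aschbacher.Orth

open Cfsg.Geo Matrix CfsgLib.Classical
open QuadraticMap (polar)
open scoped MatrixGroups Kronecker

variable {ι : Type} [Fintype ι] [DecidableEq ι] {F : Type*} [Field F] [Fintype F]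
variable {Q : QuadraticForm F (ι → F)}

/-- The stabiliser of an isometric orthogonal frame is rational over every subfield up to a scalar. -/
theorem frame_le_subfield_even (h2 : (2 : F) ≠ 0) {H : Subgroup (GL ι F)}
    (hH : ∀ g ∈ H, ∀ x, Q ((g : Matrix ι ι F) *ᵥ x) = Q x) {t : ℕ} {D : Fin t → Submodule F (ι → F)}
    (hD : IsOrthogonalMDecomposition (⇑Q) 1 D) (hle : H ≤ decompositionStabilizer D) (F₀ : Subfield F) :
    ∃ (P : GL ι F) (ζ : F), ζ ≠ 0 ∧ IsQuadFormRationalStructure (fun v => ζ * Q v) F₀ P ∧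
      H ≤ subfieldSubgroup F₀ P := by
  classical
  have hd := hD.decomp.decomp
  let i₀ : Fin t := ⟨0, by have := hd.two_le; omega⟩
  obtain ⟨v₀, hv₀, hv0⟩ := (D i₀).exists_mem_ne_zero_of_ne_bot (fun h => by
    have := hd.finrank_eq i₀; rw [h, finrank_bot] at this; omega)
  choose e he using fun i => hD.isometric i₀ i
  let v : Fin t → (ι → F) := fun i => (e i ⟨v₀, hv₀⟩ : D i)
  have hvD : ∀ i, v i ∈ D i := fun i => SetLike.coe_mem _
  have hvne : ∀ i, v i ≠ 0 := fun i h => hv0 (by
    have h1 : e i ⟨v₀, hv₀⟩ = 0 := Subtype.ext h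
    exact congrArg Subtype.val ((e i).map_eq_zero_iff.1 h1))
  have hspan : ∀ i, D i = Submodule.span F {v i} := fun i =>
    (Submodule.eq_of_le_of_finrank_eq ((Submodule.span_singleton_le_iff_mem _ _).2 (hvD i))
      (by rw [finrank_span_singleton (hvne i), hd.finrank_eq i])).symm
  set a := Q v₀ with ha_def
  have hQv : ∀ i, Q (v i) = a := fun i => he i ⟨v₀, hv₀⟩
  have ha : a ≠ 0 := by
    intro ha0
    obtain ⟨x, hx, hxv⟩ := (hD.decomp.nondegenerate i₀ v₀ hv₀ hv0).2
    have hs : D i₀ = Submodule.span F {v₀} :=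
      (Submodule.eq_of_le_of_finrank_eq ((Submodule.span_singleton_le_iff_mem _ _).2 hv₀)
        (by rw [finrank_span_singleton hv0, hd.finrank_eq i₀])).symm
    rw [hs] at hx
    obtain ⟨r, rfl⟩ := Submodule.mem_span_singleton.1 hx
    exact hxv (by rw [QuadraticMap.polar_smul_right, QuadraticMap.polar_self, ← ha_def, ha0, smul_zero, smul_zero])
  have hli : LinearIndependent F v := hd.indep.linearIndependent _ hvD hvne
  have hcard : t = Fintype.card ι := by
    have hs : Submodule.span F (Set.range v) = ⊤ := by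
      rw [eq_top_iff, ← hd.iSup_eq_top, iSup_le_iff]
      intro i
      rw [hspan i]
      exact Submodule.span_mono (by simp)
    have := finrank_span_eq_card hli
    rw [hs, finrank_top, Module.finrank_fintype_fun_eq_card, Fintype.card_fin] at this
    exact this.symm
  let ε : ι ≃ Fin t := Fintype.equivOfCardEq (by rw [Fintype.card_fin]; exact hcard.symm)
  let Pm : Matrix ι ι F := Matrix.of fun i j => v (ε j) i
  obtain ⟨P, hP⟩ : IsUnit Pm := by
    rw [← Matrix.linearIndependent_cols_iff_isUnit]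
    exact hli.comp ε ε.injective
  have hcol : ∀ j, (P : Matrix ι ι F) *ᵥ Pi.single j 1 = v (ε j) := fun j => by
    rw [hP, mulVec_single_one]; rfl
  refine ⟨P, a⁻¹, inv_ne_zero ha, fun u hu => ?_, fun g hg =>
    OrthOdd.mem_subfieldSubgroup_of_entries fun i j => ?_⟩
  · have hPu : (P : Matrix ι ι F) *ᵥ u = ∑ j, u j • v (ε j) := by
      conv_lhs => rw [pi_eq_sum_univ' u, ← Matrix.toLin'_apply, map_sum]
      simp only [map_smul, Matrix.toLin'_apply, hcol]
    have hsum : ∀ s : Finset ι, Q (∑ j ∈ s, u j • v (ε j)) = a * ∑ j ∈ s, u j * u j := by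
      intro s
      induction s using Finset.induction_on with
      | empty => simp
      | insert b s hb ih =>
        have h0 : polar Q (v (ε b)) (∑ j ∈ s, u j • v (ε j)) = 0 := by
          rw [← QuadraticMap.polarBilin_apply_apply, map_sum]
          refine Finset.sum_eq_zero fun j hj => ?_
          rw [map_smul, QuadraticMap.polarBilin_apply_apply, hD.decomp.orthogonal _ _
            (fun h => hb (by rwa [ε.injective h])) _ (hvD _) _ (hvD _), smul_zero]
        rw [Finset.sum_insert hb, Finset.sum_insert hb, QuadraticMap.map_add Q, QuadraticMap.map_smul,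
          QuadraticMap.polar_smul_left, h0, ih, hQv, smul_zero, smul_eq_mul]
        ring
    show a⁻¹ * Q _ ∈ F₀
    rw [hPu, hsum, ← mul_assoc, inv_mul_cancel₀ ha, one_mul]
    exact sum_mem fun j _ => mul_mem (hu j) (hu j)
  obtain ⟨σ, hσ⟩ := hle hg
  have him : (g : Matrix ι ι F) *ᵥ v (ε j) ∈ D (σ (ε j)) := by
    rw [← hσ]
    exact ⟨_, hvD _, Matrix.toLin'_apply _ _⟩
  rw [hspan] at him
  obtain ⟨r, hr⟩ := Submodule.mem_span_singleton.1 him
  have hr2 : r * r = 1 := by
    have h1 := hH g hg (v (ε j))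
    rw [← hr, QuadraticMap.map_smul, hQv, hQv, smul_eq_mul] at h1
    exact mul_right_cancel₀ ha (h1.trans (one_mul a).symm)
  have hrF : r ∈ F₀ := by
    rcases mul_self_eq_one_iff.1 hr2 with h | h <;> rw [h]
    exacts [one_mem _, neg_mem (one_mem _)]
  have hcolg : ((P⁻¹ * g * P : GL ι F) : Matrix ι ι F) *ᵥ Pi.single j 1 = r • Pi.single (ε.symm (σ (ε j))) 1 := by
    rw [Units.val_mul, Units.val_mul, ← mulVec_mulVec, ← mulVec_mulVec, hcol, ← hr,
      ← ε.apply_symm_apply (σ (ε j)), ← hcol, mulVec_smul, mulVec_mulVec, ← Units.val_mul, inv_mul_cancel,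
      Units.val_one, one_mulVec, Equiv.symm_apply_apply]
  have := congrFun hcolg i
  rw [mulVec_single_one] at this
  rw [show ((P⁻¹ * g * P : GL ι F) : Matrix ι ι F) i j = _ from this, Pi.smul_apply, smul_eq_mul]
  exact mul_mem hrF (CfsgLib.MaxSub.ratVec_single _ (one_mem _) i)

/-- `Ω` is not contained in the stabiliser of a tensor decomposition with enough room. -/
theorem omega_not_le_tensorProduct (hQ : ∀ x, (∀ y, polar Q x y = 0) → x = 0) (h7 : 7 ≤ Fintype.card ι)
    {n₁ n₂ : ℕ} (h1 : 1 ≤ n₁) (h2 : 1 ≤ n₂) (hroom : n₁ + n₂ + 4 ≤ n₁ * n₂) (e : ι ≃ Fin n₁ × Fin n₂)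
    (P : GL ι F) : ¬ omegaGL (⇑Q) ≤ tensorProductSubgroup n₁ n₂ e P := by
  classical
  intro hle
  have hn : Fintype.card ι = n₁ * n₂ := by simpa using Fintype.card_congr e
  let i₀ : Fin n₁ := ⟨0, by omega⟩
  let j₀ : Fin n₂ := ⟨0, by omega⟩
  let S : Finset ι := (Finset.univ.image fun i => e.symm (i, j₀)) ∪ (Finset.univ.image fun j => e.symm (i₀, j))
  have hS : S.card + 4 ≤ Fintype.card ι := by
    have := (Finset.card_union_le (Finset.univ.image fun i => e.symm (i, j₀))
      (Finset.univ.image fun j => e.symm (i₀, j))).trans (add_le_add Finset.card_image_le Finset.card_image_le)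
    rw [Finset.card_univ, Finset.card_univ, Fintype.card_fin, Fintype.card_fin] at this
    rw [hn]
    change S.card ≤ n₁ + n₂ at *
    omega
  obtain ⟨f, hf0, hfS, hf⟩ := exists_move_coord hQ h7 P S (s := e.symm (i₀, j₀))
    (Finset.mem_union_left _ (Finset.mem_image_of_mem _ (Finset.mem_univ _))) hS
  obtain ⟨g, hg, hgv⟩ := hf 1
  obtain ⟨h, ⟨k, ⟨a, b, hk⟩, rfl⟩, rfl⟩ := hle hg
  rw [show (MulAut.conj P).toMonoidHom ((glReindex e.symm).toMonoidHom k) =
    P * glReindex e.symm k * P⁻¹ from rfl, conj_inv_mulVec, one_smul,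
    show (Pi.single (e.symm (i₀, j₀)) 1 : ι → F) = (Pi.single (i₀, j₀) 1 : _ → F) ∘ e from
      funext fun x => by simp [Pi.single_apply, Equiv.eq_symm_apply],
    glReindex_symm_mulVec, hk, mulVec_single_one] at hgv
  have hval : ∀ i j, (a : Matrix (Fin n₁) (Fin n₁) F) i i₀ * (b : Matrix (Fin n₂) (Fin n₂) F) j j₀ =
      (if (i, j) = (i₀, j₀) then 1 else 0) + f (e.symm (i, j)) := fun i j => by
    have := congrFun hgv (e.symm (i, j))
    simpa [Pi.single_apply, Matrix.kroneckerMap_apply] using this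
  have h00 := hval i₀ j₀
  rw [if_pos rfl, hfS _ (Finset.mem_union_left _ (Finset.mem_image_of_mem _ (Finset.mem_univ _))), add_zero] at h00
  refine hf0 (funext fun x => ?_)
  obtain ⟨⟨i, j⟩, rfl⟩ := e.symm.surjective x
  by_cases hi : i = i₀
  · subst hi
    exact hfS _ (Finset.mem_union_right _ (Finset.mem_image_of_mem _ (Finset.mem_univ j)))
  by_cases hj : j = j₀
  · subst hj
    exact hfS _ (Finset.mem_union_left _ (Finset.mem_image_of_mem _ (Finset.mem_univ i)))
  have hi0 := hval i j₀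
  rw [if_neg (by simp [hi]), hfS _ (Finset.mem_union_left _ (Finset.mem_image_of_mem _ (Finset.mem_univ _))),
    add_zero] at hi0
  have ha : (a : Matrix (Fin n₁) (Fin n₁) F) i i₀ = 0 :=
    (mul_eq_zero.1 hi0).resolve_right (right_ne_zero_of_mul_eq_one h00)
  have := hval i j
  rw [if_neg (by simp [hi]), ha, zero_mul, zero_add] at this
  exact this.symm

end CfsgLib.Aschbacher.Orth
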