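import Cfsg.Agent.Lib.Aschbacher.OrthEvenShapes

/-!
Orthogonal decompositions and tensor decompositions `2 ⊗ n` in even dimension: facts used by the lists.
-/

set_option autoImplicit false
set_option linter.unusedSectionVars false

namespace CfsgLib.Aschbacher.Orth

open Cfsg.Geo Matrix CfsgLib.Classical CfsgLib.MaxSub
open QuadraticMap (polar)
open scoped MatrixGroups Kronecker

variable {ι : Type} [Fintype ι] [DecidableEq ι] {F : Type*} [Field F] [Fintype F]
variable {Q : QuadraticForm F (ι → F)} (hQ : ∀ x, (∀ y, polar Q x y = 0) → x = 0)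
include hQ

/-- Partial sums of an orthogonal decomposition into isometric parts. -/
theorem orth_partial {t k : ℕ} {D : Fin t → Submodule F (ι → F)} (hD : IsOrthogonalMDecomposition (⇑Q) k D)
    (i₀ : Fin t) (s : Finset (Fin t)) :
    IsNondegenerateOn (polar (⇑Q)) (s.sup D) ∧ Module.finrank F (s.sup D : Submodule F (ι → F)) = k * s.card ∧
      ∀ l, k = 2 * l → (IsPlusTypeOn (⇑Q) (s.sup D) ↔ (Even s.card ∨ IsPlusTypeOn (⇑Q) (D i₀))) := by
  classical
  induction s using Finset.induction_on with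
  | empty =>
    rw [Finset.sup_empty]
    refine ⟨fun w hw h0 => absurd ((Submodule.mem_bot F).1 hw) h0, by simp, fun l _ => ?_⟩
    exact iff_of_true (plusType_iff_hasHalf.2 (IsoType.hasHalf_bot Q)) (Or.inl ⟨0, rfl⟩)
  | insert a s ha ih =>
    obtain ⟨hnd, hd, htype⟩ := ih
    have horth : AreOrthogonalFor (polar (⇑Q)) (D a) (s.sup D) := by
      intro u hu v hv
      suffices h : s.sup D ≤ LinearMap.ker (Q.polarBilin u) from LinearMap.mem_ker.1 (h hv)
      refine Finset.sup_le fun j hj w hw => ?_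
      rw [LinearMap.mem_ker, QuadraticMap.polarBilin_apply_apply]
      exact hD.decomp.orthogonal a j (fun h => ha (h ▸ hj)) u hu w hw
    have hperp : s.sup D ≤ IsoSemi.perp Q.polarBilin (D a) := fun v hv u hu => horth u hu v hv
    have ha' := hD.decomp.nondegenerate a
    rw [Finset.sup_insert]
    refine ⟨nondegenerateOn_iff.2 (IsoSemi.nd_sup (IsoOrth.geom hQ) (nondegenerateOn_iff.1 ha')
      (nondegenerateOn_iff.1 hnd) hperp), ?_, fun l hl => ?_⟩
    · rw [(IsoType.finrank_sum hQ (nondegenerateOn_iff.1 ha') hperp).2, hd, hD.decomp.decomp.finrank_eq,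
        Finset.card_insert_of_notMem ha]
      ring
    rw [plusType_sup_iff hQ ha' hnd horth (k₁ := l) (k₂ := l * s.card) (by rw [hD.decomp.decomp.finrank_eq, hl])
      (by rw [hd, hl, mul_assoc]), htype l hl, Finset.card_insert_of_notMem ha, Nat.even_add_one]
    have hiso : IsPlusTypeOn (⇑Q) (D a) ↔ IsPlusTypeOn (⇑Q) (D i₀) :=
      ⟨plusType_of_isometric (hD.isometric a i₀), plusType_of_isometric (hD.isometric i₀ a)⟩
    rw [hiso]
    tauto

/-- The type of an orthogonal decomposition into isometric parts of even dimension. -/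
theorem orth_plus_top_iff {t l : ℕ} {D : Fin t → Submodule F (ι → F)}
    (hD : IsOrthogonalMDecomposition (⇑Q) (2 * l) D) (i₀ : Fin t) :
    IsPlusTypeOn (⇑Q) ⊤ ↔ (Even t ∨ IsPlusTypeOn (⇑Q) (D i₀)) := by
  have h := (orth_partial hQ hD i₀ Finset.univ).2.2 l rfl
  rwa [Finset.sup_univ_eq_iSup, hD.decomp.decomp.iSup_eq_top, Finset.card_univ, Fintype.card_fin] at h

/-- An isometric orthogonal frame in even dimension has square discriminant. -/
theorem square_det_of_lines (h2 : (2 : F) ≠ 0) {n : ℕ} (hn : Even n) (hcard : Fintype.card ι = n)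
    {D : Fin n → Submodule F (ι → F)} (hD : IsOrthogonalMDecomposition (⇑Q) 1 D) : IsSquare (gramQ Q).det := by
  classical
  have hd := hD.decomp.decomp
  let i₀ : Fin n := ⟨0, by have := hd.two_le; omega⟩
  obtain ⟨v₀, hv₀, hv0⟩ := (D i₀).exists_mem_ne_zero_of_ne_bot (fun h => by
    have := hd.finrank_eq i₀; rw [h, finrank_bot] at this; omega)
  choose e he using fun i => hD.isometric i₀ i
  have ha : Q v₀ ≠ 0 := by
    intro ha0
    obtain ⟨x, hx, hxv⟩ := (hD.decomp.nondegenerate i₀ v₀ hv₀ hv0).2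
    have hs : D i₀ = Submodule.span F {v₀} :=
      (Submodule.eq_of_le_of_finrank_eq ((Submodule.span_singleton_le_iff_mem _ _).2 hv₀)
        (by rw [finrank_span_singleton hv0, hd.finrank_eq i₀])).symm
    rw [hs] at hx
    obtain ⟨r, rfl⟩ := Submodule.mem_span_singleton.1 hx
    exact hxv (by rw [QuadraticMap.polar_smul_right, QuadraticMap.polar_self, ha0, smul_zero, smul_zero])
  refine square_det_of_frame hQ hn hcard (fun i => (e i ⟨v₀, hv₀⟩ : D i)) (c := 2 * Q v₀) (mul_ne_zero h2 ha)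
    fun i j => ?_
  by_cases hij : i = j
  · subst hij
    rw [if_pos rfl, QuadraticMap.polar_self, he, two_smul, two_mul]
  · rw [if_neg hij]
    exact hD.decomp.orthogonal i j hij _ (SetLike.coe_mem _) _ (SetLike.coe_mem _)

/-- A symmetric tensor decomposition `2 ⊗ k` reduces to totally singular halves or to a quadratic field. -/
theorem tensor_two_sym (h2 : (2 : F) ≠ 0) {m k : ℕ} [NeZero k] (hm : Fintype.card ι = 2 * m) (h4 : 4 ≤ m)
    {H : Subgroup (GL ι F)} (hH : IsMaximalIn (omegaGL (⇑Q)) H) (e : ι ≃ Fin 2 × Fin k) (P : GL ι F)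
    {a : Matrix (Fin 2) (Fin 2) F} {b : Matrix (Fin k) (Fin k) F} (hau : IsUnit a) (hbu : IsUnit b)
    (hAB : coordGram Q e P = a ⊗ₖ b) (has : aᵀ = a) (hle : H ≤ tensorProductSubgroup 2 k e P) :
    (∃ D : Fin 2 → Submodule F (ι → F), IsMDecomposition m D ∧ (∀ i, IsTotallySingularQuad (⇑Q) (D i)) ∧
        IsPlusTypeOn (⇑Q) ⊤ ∧ H = decompositionStabilizer D ⊓ omegaGL (⇑Q)) ∨
      (∃ K : Subalgebra F (Matrix ι ι F), IsFieldSubalgebra 2 K ∧ (∀ k ∈ K, adjQ Q k ∈ K) ∧
        (¬ ∀ k ∈ K, adjQ Q k = k) ∧ H = subalgebraNormalizer K ⊓ omegaGL (⇑Q)) := by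
  have : Nonempty ι := Fintype.card_pos_iff.1 (by omega)
  have hG : H ≤ quadSimilarityGroup (⇑Q) :=
    le_sup_left.trans (sup_scalars_le fun g hg => omega_isometry (hH.1.le hg))
  obtain ⟨z, δ, hz, hzz, hδ, hzg⟩ := skew_of_sym_two hQ hG e P hau hbu hAB has hle
  rcases skew_cases hQ h2 hm hz hzz hδ hzg with ⟨D, hD, hts, hle'⟩ | ⟨K, hK, hadj, hns, hle'⟩
  · refine Or.inl ⟨D, hD, hts, ⟨D 0, le_top, hts 0, ?_⟩,
      maximal_eq hH hle' (omega_not_le_decompositionStabilizer hQ (by omega) hD)⟩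
    rw [hD.finrank_eq, finrank_top, Module.finrank_fintype_fun_eq_card, hm]
  · exact Or.inr ⟨K, hK, hadj, hns,
      maximal_eq hH hle' (omega_not_le_subalgebraNormalizer hQ (by omega) le_rfl hK)⟩

omit hQ in
/-- Orthogonal sums of isometric pairs are isometric. -/
theorem isometric_sup {A B C E : Submodule F (ι → F)} (hAB : Disjoint A B) (hCE : Disjoint C E)
    (oAB : AreOrthogonalFor (polar (⇑Q)) A B) (oCE : AreOrthogonalFor (polar (⇑Q)) C E)
    (h₁ : AreIsometricFor (⇑Q) A C) (h₂ : AreIsometricFor (⇑Q) B E) :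
    AreIsometricFor (⇑Q) (A ⊔ B) (C ⊔ E) := by
  have mk : ∀ {X Y : Submodule F (ι → F)}, Disjoint X Y →
      ∃ f : (X × Y) ≃ₗ[F] ↥(X ⊔ Y), ∀ p, ((f p : ↥(X ⊔ Y)) : ι → F) = (p.1 : ι → F) + (p.2 : ι → F) := by
    intro X Y h
    let g : (X × Y) →ₗ[F] ↥(X ⊔ Y) :=
      (Submodule.inclusion le_sup_left).coprod (Submodule.inclusion le_sup_right)
    have hg : ∀ p, ((g p : ↥(X ⊔ Y)) : ι → F) = (p.1 : ι → F) + (p.2 : ι → F) := fun p => by
      simp [g, LinearMap.coprod_apply]
    have hb : Function.Bijective g := by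
      refine ⟨(injective_iff_map_eq_zero g).2 fun p hp => ?_, fun z => ?_⟩
      · have h0 := (hg p).symm.trans (congrArg Subtype.val hp)
        rw [ZeroMemClass.coe_zero] at h0
        have h1 : (p.1 : ι → F) ∈ Y := by
          rw [eq_neg_of_add_eq_zero_left h0]; exact Y.neg_mem p.2.2
        have h2 : (p.1 : ι → F) = 0 := Submodule.disjoint_def.1 h _ p.1.2 h1
        rw [h2, zero_add] at h0
        exact Prod.ext (Subtype.ext h2) (Subtype.ext h0)
      · obtain ⟨x, hx, y, hy, hxy⟩ := Submodule.mem_sup.1 z.2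
        exact ⟨(⟨x, hx⟩, ⟨y, hy⟩), Subtype.ext ((hg _).trans hxy)⟩
    exact ⟨LinearEquiv.ofBijective g hb, hg⟩
  obtain ⟨f, hf⟩ := mk hAB
  obtain ⟨g, hg⟩ := mk hCE
  obtain ⟨e₁, he₁⟩ := h₁
  obtain ⟨e₂, he₂⟩ := h₂
  refine ⟨f.symm.trans ((e₁.prodCongr e₂).trans g), fun w => ?_⟩
  obtain ⟨⟨a, b⟩, rfl⟩ := f.surjective w
  rw [LinearEquiv.trans_apply, LinearEquiv.symm_apply_apply, LinearEquiv.trans_apply, hg, hf,
    QuadraticMap.map_add Q, QuadraticMap.map_add Q]
  simp only [LinearEquiv.prodCongr_apply]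
  rw [he₁, he₂, oAB _ a.2 _ b.2, oCE _ (e₁ a).2 _ (e₂ b).2]

/-- Four isometric orthogonal blocks make the type plus. -/
theorem plus_of_four_blocks {k : ℕ} {D : Fin 4 → Submodule F (ι → F)}
    (hD : IsOrthogonalMDecomposition (⇑Q) k D) : IsPlusTypeOn (⇑Q) ⊤ := by
  obtain ⟨hE, hEd, -⟩ := orth_partial hQ hD 0 {0, 1}
  obtain ⟨hR, -, -⟩ := orth_partial hQ hD 0 {2, 3}
  rw [Finset.card_pair (by decide)] at hEd
  simp only [Finset.sup_insert, Finset.sup_singleton] at hE hR hEd
  have hi := hD.decomp.decomp.indep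
  have ho := hD.decomp.orthogonal
  have horth : AreOrthogonalFor (polar (⇑Q)) (D 0 ⊔ D 1) (D 2 ⊔ D 3) := by
    intro u hu v hv
    obtain ⟨a, ha, b, hb, rfl⟩ := Submodule.mem_sup.1 hu
    obtain ⟨c, hc, d, hd, rfl⟩ := Submodule.mem_sup.1 hv
    rw [QuadraticMap.polar_add_left, QuadraticMap.polar_add_right, QuadraticMap.polar_add_right,
      ho 0 2 (by decide) a ha c hc, ho 0 3 (by decide) a ha d hd, ho 1 2 (by decide) b hb c hc,
      ho 1 3 (by decide) b hb d hd, add_zero, add_zero]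
  refine plusType_of_isometric_pair hQ hE hR horth ?_ ⟨k, by rw [Finset.sup_insert, Finset.sup_singleton] at hEd; rw [hEd]; ring⟩
    (isometric_sup (hi.pairwiseDisjoint (by decide)) (hi.pairwiseDisjoint (by decide)) (ho 0 1 (by decide))
      (ho 2 3 (by decide)) (hD.isometric 0 2) (hD.isometric 1 3))
  rw [eq_top_iff, ← hD.decomp.decomp.iSup_eq_top, iSup_le_iff]
  intro i
  fin_cases i
  exacts [le_sup_left.trans le_sup_left, le_sup_right.trans le_sup_left, le_sup_left.trans le_sup_right,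
    le_sup_right.trans le_sup_right]

omit hQ in
/-- An invertible alternating matrix has even size. -/
theorem even_size_of_alt {n : ℕ} {a : Matrix (Fin n) (Fin n) F} (ha : IsUnit a)
    (h : ∀ x, x ⬝ᵥ (a *ᵥ x) = 0) : Even n := by
  let B : (Fin n → F) →ₗ[F] (Fin n → F) →ₗ[F] F := Matrix.toLinearMap₂' F a
  have hB : ∀ v, B v v = 0 := fun v => by rw [Matrix.toLinearMap₂'_apply']; exact h v
  have he := CfsgLib.KnownA.even_finrank_range_of_alt B hB
  have hinj : Function.Injective B := (injective_iff_map_eq_zero B).2 fun x hx => by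
    have h1 : x ᵥ* a = 0 := funext fun j => by
      have := LinearMap.congr_fun hx (Pi.single j 1)
      rwa [Matrix.toLinearMap₂'_apply', dotProduct_mulVec, dotProduct_single, mul_one,
        LinearMap.zero_apply] at this
    exact Matrix.vecMul_injective_iff_isUnit.2 ha (h1.trans (zero_vecMul a).symm)
  rwa [LinearMap.finrank_range_of_inj hinj, Module.finrank_fintype_fun_eq_card, Fintype.card_fin] at he

/-- In minus type the even factor of a symmetric `3 ⊗ 4` decomposition has minus type. -/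
theorem minus_right_factor (h2 : (2 : F) ≠ 0) (hm : Fintype.card ι = 2 * 6) (hminus : ¬ IsPlusTypeOn (⇑Q) ⊤)
    (e : ι ≃ Fin 3 × Fin 4) (P : GL ι F) {a : Matrix (Fin 3) (Fin 3) F} {b : Matrix (Fin 4) (Fin 4) F}
    (hbu : IsUnit b) (hAB : coordGram Q e P = a ⊗ₖ b) (hbs : bᵀ = b) :
    ¬ IsPlusTypeOn (fun v : Fin 4 → F => v ⬝ᵥ (b *ᵥ v)) ⊤ := by
  let B : (Fin 4 → F) →ₗ[F] (Fin 4 → F) →ₗ[F] F := Matrix.toLinearMap₂' F b
  let q : QuadraticForm F (Fin 4 → F) := LinearMap.BilinMap.toQuadraticMap B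
  have hq : ∀ v, q v = v ⬝ᵥ (b *ᵥ v) := fun v => by
    simp [q, B, LinearMap.BilinMap.toQuadraticMap_apply, Matrix.toLinearMap₂'_apply']
  have hpol : ∀ u v, polar q u v = 2 * (u ⬝ᵥ (b *ᵥ v)) := fun u v => by
    have hsym : v ⬝ᵥ (b *ᵥ u) = u ⬝ᵥ (b *ᵥ v) := by
      rw [dotProduct_mulVec, ← mulVec_transpose, hbs, dotProduct_comm]
    simp only [QuadraticMap.polar, hq, mulVec_add, dotProduct_add, add_dotProduct, hsym]
    ring
  have hqs : ∀ x, (∀ y, polar q x y = 0) → x = 0 := fun x hx => by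
    have h1 : x ᵥ* b = 0 := funext fun j => by
      have := hx (Pi.single j 1)
      rw [hpol, dotProduct_mulVec, dotProduct_single, mul_one] at this
      exact (mul_eq_zero.1 this).resolve_left h2
    exact Matrix.vecMul_injective_iff_isUnit.2 hbu (h1.trans (zero_vecMul b).symm)
  rw [show (fun v : Fin 4 → F => v ⬝ᵥ (b *ᵥ v)) = ⇑q from (funext hq).symm,
    plusType_iff_square hqs h2 (show Fintype.card (Fin 4) = 2 * 2 by simp)]
  rw [plusType_iff_square hQ h2 hm, Even.neg_one_pow ⟨3, rfl⟩, one_mul] at hminus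
  rw [Even.neg_one_pow ⟨1, rfl⟩, one_mul]
  have hg : gramQ q = (2 : F) • b := by
    ext i j
    show polar q (Pi.single i 1) (Pi.single j 1) = _
    rw [hpol]
    simp [mulVec_single, single_dotProduct]
  rw [hg, det_smul, Fintype.card_fin, show (2 : F) ^ 4 = (2 * 2) * (2 * 2) by ring,
    isSquare_sq_mul_iff (mul_ne_zero h2 h2)]
  intro hb
  apply hminus
  have h := congrArg Matrix.det hAB
  rw [coordGram, Matrix.det_reindex_self, det_mul, det_mul, det_transpose, Matrix.det_kronecker, Fintype.card_fin,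
    Fintype.card_fin] at h
  obtain ⟨s, hs⟩ := hb
  have hP : (P : Matrix ι ι F).det ≠ 0 := ((Matrix.isUnit_iff_isUnit_det _).1 P.isUnit).ne_zero
  refine (isSquare_sq_mul_iff hP).1 ⟨a.det ^ 2 * s ^ 3, ?_⟩
  rw [hs] at h
  linear_combination h

end CfsgLib.Aschbacher.Orth
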