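import Cfsg.Agent.Lib.Aschbacher.OrthMove
import Cfsg.Agent.Lib.Classical.OrthSimple

set_option autoImplicit false
set_option linter.unusedSectionVars false

/-!
`Ω` is not contained in field normalisers, tensor stabilisers or subfield groups.
-/

namespace CfsgLib.Aschbacher

open CfsgLib.Classical CfsgLib.Geom CfsgLib.MaxSub Cfsg.Geo Matrix
open QuadraticMap (polar)
open scoped MatrixGroups Kronecker

variable {F : Type*} [Field F] [Fintype F] {ι : Type} [Fintype ι] [DecidableEq ι]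
variable {Q : QuadraticForm F (ι → F)} (hQ : ∀ x, (∀ y, polar Q x y = 0) → x = 0) (h7 : 7 ≤ Fintype.card ι)

theorem glReindex_symm_mulVec {κ : Type} [Fintype κ] [DecidableEq κ] (e : ι ≃ κ) (k : GL κ F) (x : κ → F) :
    (glReindex e.symm k : Matrix ι ι F) *ᵥ (x ∘ e) = ((k : Matrix κ κ F) *ᵥ x) ∘ e := by
  show ((k : Matrix κ κ F).submatrix e e) *ᵥ (x ∘ e) = _
  rw [Matrix.submatrix_mulVec_equiv]
  simp [Function.comp_assoc]

theorem conj_inv_mulVec (P h : GL ι F) (x : ι → F) :
    ((P⁻¹ * (P * h * P⁻¹) * P : GL ι F) : Matrix ι ι F) *ᵥ x = (h : Matrix ι ι F) *ᵥ x := by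
  rw [show P⁻¹ * (P * h * P⁻¹) * P = h by group]

/-- The maximal subgroup `H` is the intersection with `K` of any overgroup not containing `K`. -/
theorem maximal_eq {G : Type*} [Group G] {K H S : Subgroup G} (hH : IsMaximalIn K H) (hS : H ≤ S)
    (hK : ¬ K ≤ S) : H = S ⊓ K := by
  rcases hH.2 (S ⊓ K) (le_inf hS hH.1.le) inf_le_right with h | h
  · exact h.symm
  · exact absurd (inf_eq_right.1 h) hK

/-- Pure tensors of a tensor power. -/
def IsPureVec {k t : ℕ} (x : (Fin t → Fin k) → F) : Prop :=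
  ∃ xs : Fin t → Fin k → F, ∀ a, x a = ∏ i, xs i (a i)

/-- The matrices preserving the set of pure tensors. -/
def pureSubgroup (F : Type*) [Field F] [Fintype F] (k t : ℕ) : Subgroup (GL (Fin t → Fin k) F) where
  carrier := {g | ∀ x, IsPureVec ((g : Matrix (Fin t → Fin k) (Fin t → Fin k) F) *ᵥ x) ↔ IsPureVec x}
  one_mem' := fun x => by simp
  mul_mem' {g h} hg hh := fun x => by
    rw [Units.val_mul, ← mulVec_mulVec, hg, hh]
  inv_mem' {g} hg := fun x => by
    rw [← hg, mulVec_mulVec, ← Units.val_mul, mul_inv_cancel, Units.val_one, one_mulVec]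

theorem tensorWreathStandard_le_pure (k t : ℕ) : tensorWreathStandard k t F ≤ pureSubgroup F k t := by
  classical
  refine (Subgroup.closure_le _).2 fun g hg => ?_
  have hmaps : Set.MapsTo (fun x => (g : Matrix (Fin t → Fin k) (Fin t → Fin k) F) *ᵥ x)
      {x | IsPureVec x} {x | IsPureVec x} := by
    rintro x ⟨xs, hx⟩
    rcases hg with ⟨gs, hgs⟩ | ⟨σ, hσ⟩
    · refine ⟨fun i => (gs i : Matrix (Fin k) (Fin k) F) *ᵥ xs i, fun a => ?_⟩
      simp only [mulVec, dotProduct, hgs, hx, ← Finset.prod_mul_distrib]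
      rw [Fintype.prod_sum]
    · refine ⟨fun i => xs (σ.symm i), fun a => ?_⟩
      simp only [mulVec, dotProduct, hσ, ite_mul, one_mul, zero_mul]
      rw [Finset.sum_ite_eq', if_pos (Finset.mem_univ _), hx]
      exact Fintype.prod_equiv σ _ _ fun i => by simp
  have hinj : Function.Injective (fun x => (g : Matrix (Fin t → Fin k) (Fin t → Fin k) F) *ᵥ x) :=
    Matrix.mulVec_injective_iff_isUnit.2 g.isUnit
  intro x
  refine ⟨fun hx => ?_, fun hx => hmaps hx⟩
  obtain ⟨y, hy, hyx⟩ := (((Set.toFinite {x | IsPureVec x}).injOn_iff_bijOn_of_mapsTo hmaps).1 hinj.injOn).surjOn hx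
  rw [← hinj hyx]
  exact hy

theorem pow_ge_wreath (k t : ℕ) (hk : 3 ≤ k) (ht : 2 ≤ t) : 1 + t * (k - 1) + 4 ≤ k ^ t := by
  induction t, ht using Nat.le_induction with
  | base =>
    obtain ⟨j, rfl⟩ := Nat.exists_eq_add_of_le hk
    rw [show 3 + j - 1 = j + 2 by omega]
    nlinarith
  | succ t ht ih =>
    obtain ⟨j, rfl⟩ := Nat.exists_eq_add_of_le hk
    rw [show 3 + j - 1 = j + 2 by omega] at ih ⊢
    rw [pow_succ]
    nlinarith [Nat.mul_le_mul_right (3 + j) ih, Nat.zero_le (t * j), Nat.zero_le (t * j * j), Nat.zero_le j]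

include hQ h7

/-- Moving a basis vector of the basis `P` while keeping a few coordinates. -/
theorem exists_move_coord (P : GL ι F) (S : Finset ι) {s : ι} (hs : s ∈ S) (hS : S.card + 4 ≤ Fintype.card ι) :
    ∃ f : ι → F, f ≠ 0 ∧ (∀ i ∈ S, f i = 0) ∧ ∀ c : F, ∃ g ∈ omegaGL (⇑Q),
      ((P⁻¹ * g * P : GL ι F) : Matrix ι ι F) *ᵥ Pi.single s 1 = Pi.single s 1 + c • f := by
  let L : (ι → F) →ₗ[F] (S → F) :=
    (LinearMap.pi fun i : S => LinearMap.proj (i : ι)) ∘ₗ Matrix.toLin' ((P⁻¹ : GL ι F) : Matrix ι ι F)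
  have hL : ∀ x (i : S), L x i = (((P⁻¹ : GL ι F) : Matrix ι ι F) *ᵥ x) i := fun x i => rfl
  have h1 := L.finrank_range_add_finrank_ker
  have h2 := Submodule.finrank_le (LinearMap.range L)
  rw [Module.finrank_fintype_fun_eq_card, Fintype.card_coe] at h2
  rw [Module.finrank_fintype_fun_eq_card] at h1
  have hPP : ∀ x, ((P⁻¹ : GL ι F) : Matrix ι ι F) *ᵥ ((P : Matrix ι ι F) *ᵥ x) = x := fun x => by
    rw [mulVec_mulVec, ← Units.val_mul, inv_mul_cancel, Units.val_one, one_mulVec]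
  obtain ⟨y, hy, hy0, hmove⟩ := exists_move_GL hQ h7 (C := LinearMap.ker L) (by omega)
    (v := (P : Matrix ι ι F) *ᵥ Pi.single s 1) (fun h => by
      have := congrFun (LinearMap.mem_ker.1 h) ⟨s, hs⟩
      rw [hL, hPP] at this
      simp at this)
  refine ⟨((P⁻¹ : GL ι F) : Matrix ι ι F) *ᵥ y, fun h => hy0 ?_, fun i hi => ?_, fun c => ?_⟩
  · have h' := congrArg ((P : Matrix ι ι F) *ᵥ ·) h
    simpa [mulVec_mulVec, ← Units.val_mul] using h'
  · exact congrFun (LinearMap.mem_ker.1 hy) ⟨i, hi⟩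
  · obtain ⟨g, hg, hgv⟩ := hmove c
    refine ⟨g, hg, ?_⟩
    rw [Units.val_mul, Units.val_mul, ← mulVec_mulVec, ← mulVec_mulVec, hgv, mulVec_add, mulVec_smul, hPP]

theorem omega_not_le_subfieldSubgroup {F₀ : Subfield F} (hF₀ : F₀ ≠ ⊤) (P : GL ι F) :
    ¬ omegaGL (⇑Q) ≤ subfieldSubgroup F₀ P := by
  intro hle
  obtain ⟨s⟩ : Nonempty ι := Fintype.card_pos_iff.1 (by omega)
  obtain ⟨f, hf0, hfS, hf⟩ := exists_move_coord hQ h7 P {s} (Finset.mem_singleton_self s)
    (by rw [Finset.card_singleton]; omega)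
  obtain ⟨i, hi⟩ : ∃ i, f i ≠ 0 := Function.ne_iff.1 hf0
  have his : i ≠ s := fun h => hi (hfS i (by rw [h]; exact Finset.mem_singleton_self s))
  refine hF₀ (eq_top_iff.2 fun a _ => ?_)
  obtain ⟨g, hg, hgv⟩ := hf (a / f i)
  obtain ⟨h, hh, rfl⟩ := hle hg
  obtain ⟨x, ⟨x₀, rfl⟩, z, hz, rfl⟩ := Subgroup.mem_sup_of_normal_right.1 hh
  obtain ⟨l, hl⟩ := (mem_scalars_iff z).1 hz
  rw [show (MulAut.conj P).toMonoidHom ((Matrix.GeneralLinearGroup.map F₀.subtype) x₀ * z) =
    P * ((Matrix.GeneralLinearGroup.map F₀.subtype) x₀ * z) * P⁻¹ from rfl, conj_inv_mulVec] at hgv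
  have hval : ∀ j, (l : F) * ((x₀ : Matrix ι ι F₀) j s : F) =
      (Pi.single s 1 + (a / f i) • f : ι → F) j := fun j => by
    rw [← hgv, Units.val_mul, hl, Matrix.mul_smul, Matrix.mul_one, smul_mulVec, Pi.smul_apply,
      mulVec_single_one, smul_eq_mul]
    rfl
  have hs := hval s
  rw [Pi.add_apply, Pi.single_eq_same, Pi.smul_apply, hfS s (Finset.mem_singleton_self s), smul_zero, add_zero] at hs
  have hl0 : (l : F) ∈ F₀ := by
    rw [show (l : F) = (((x₀ : Matrix ι ι F₀) s s : F))⁻¹ from eq_inv_of_mul_eq_one_left hs]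
    exact F₀.inv_mem (SetLike.coe_mem _)
  have ha := hval i
  rw [Pi.add_apply, Pi.single_eq_of_ne his, zero_add, Pi.smul_apply, smul_eq_mul, div_mul_cancel₀ _ hi] at ha
  rw [← ha]
  exact F₀.mul_mem hl0 (SetLike.coe_mem _)

theorem omega_not_le_tensorProductSubgroup {n₁ n₂ : ℕ} (h1 : 3 ≤ n₁) (h12 : n₁ < n₂) (e : ι ≃ Fin n₁ × Fin n₂)
    (P : GL ι F) : ¬ omegaGL (⇑Q) ≤ tensorProductSubgroup n₁ n₂ e P := by
  classical
  intro hle
  have hn : Fintype.card ι = n₁ * n₂ := by simpa using Fintype.card_congr e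
  let i₀ : Fin n₁ := ⟨0, by omega⟩
  let j₀ : Fin n₂ := ⟨0, by omega⟩
  let S : Finset ι := (Finset.univ.image fun i => e.symm (i, j₀)) ∪ (Finset.univ.image fun j => e.symm (i₀, j))
  have hS : S.card + 4 ≤ Fintype.card ι := by
    have := (Finset.card_union_le (Finset.univ.image fun i => e.symm (i, j₀))
      (Finset.univ.image fun j => e.symm (i₀, j))).trans (add_le_add Finset.card_image_le Finset.card_image_le)
    rw [Finset.card_univ, Finset.card_univ, Fintype.card_fin, Fintype.card_fin] at this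
    rw [hn]
    have : 3 * n₂ ≤ n₁ * n₂ := Nat.mul_le_mul_right n₂ h1
    change S.card ≤ n₁ + n₂ at *
    omega
  obtain ⟨f, hf0, hfS, hf⟩ := exists_move_coord hQ h7 P S (s := e.symm (i₀, j₀))
    (Finset.mem_union_left _ (Finset.mem_image_of_mem _ (Finset.mem_univ _))) hS
  obtain ⟨g, hg, hgv⟩ := hf 1
  obtain ⟨h, ⟨k, ⟨a, b, hk⟩, rfl⟩, rfl⟩ := hle hg
  rw [show (MulAut.conj P).toMonoidHom ((glReindex e.symm).toMonoidHom k) =
    P * glReindex e.symm k * P⁻¹ from rfl, conj_inv_mulVec, one_smul,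
    show (Pi.single (e.symm (i₀, j₀)) 1 : ι → F) = (Pi.single (i₀, j₀) 1 : _ → F) ∘ e from
      funext fun x => by simp [Pi.single_apply, Equiv.eq_symm_apply],
    glReindex_symm_mulVec, hk, mulVec_single_one] at hgv
  have hval : ∀ i j, (a : Matrix (Fin n₁) (Fin n₁) F) i i₀ * (b : Matrix (Fin n₂) (Fin n₂) F) j j₀ =
      (if (i, j) = (i₀, j₀) then 1 else 0) + f (e.symm (i, j)) := fun i j => by
    have := congrFun hgv (e.symm (i, j))
    simpa [Pi.single_apply, Matrix.kroneckerMap_apply] using this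
  have h00 := hval i₀ j₀
  rw [if_pos rfl, hfS _ (Finset.mem_union_left _ (Finset.mem_image_of_mem _ (Finset.mem_univ _))), add_zero] at h00
  refine hf0 (funext fun x => ?_)
  obtain ⟨⟨i, j⟩, rfl⟩ := e.symm.surjective x
  by_cases hi : i = i₀
  · subst hi
    exact hfS _ (Finset.mem_union_right _ (Finset.mem_image_of_mem _ (Finset.mem_univ j)))
  by_cases hj : j = j₀
  · subst hj
    exact hfS _ (Finset.mem_union_left _ (Finset.mem_image_of_mem _ (Finset.mem_univ i)))
  have hi0 := hval i j₀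
  rw [if_neg (by simp [hi]), hfS _ (Finset.mem_union_left _ (Finset.mem_image_of_mem _ (Finset.mem_univ _))),
    add_zero] at hi0
  have ha : (a : Matrix (Fin n₁) (Fin n₁) F) i i₀ = 0 :=
    (mul_eq_zero.1 hi0).resolve_right (right_ne_zero_of_mul_eq_one h00)
  have := hval i j
  rw [if_neg (by simp [hi]), ha, zero_mul, zero_add] at this
  exact this.symm

theorem omega_not_le_subalgebraNormalizer {r : ℕ} {K : Subalgebra F (Matrix ι ι F)} (hr : 2 ≤ r)
    (hK : IsFieldSubalgebra r K) : ¬ omegaGL (⇑Q) ≤ subalgebraNormalizer K := by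
  intro hle
  have : Nonempty ι := Fintype.card_pos_iff.1 (by omega)
  have hfield : IsField K :=
    ⟨⟨0, 1, zero_ne_one⟩, fun x y => Subtype.ext (hK.comm x x.2 y y.2), fun {x} hx => by
      obtain ⟨y, hy, hxy⟩ := hK.inv x x.2 fun h => hx (Subtype.ext h)
      exact ⟨⟨y, hy⟩, Subtype.ext hxy⟩⟩
  let : Field K := hfield.toField
  let φ : (g : GL ι F) → g ∈ omegaGL (⇑Q) → (K ≃ₐ[F] K) := fun g hg =>
    { toFun := fun k => ⟨(g : Matrix ι ι F) * k * ((g⁻¹ : GL ι F) : Matrix ι ι F), (hle hg k).1 k.2⟩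
      invFun := fun k => ⟨((g⁻¹ : GL ι F) : Matrix ι ι F) * k * (g : Matrix ι ι F),
        (hle hg _).2 (by simp [mul_assoc])⟩
      left_inv := fun k => Subtype.ext (by simp [mul_assoc])
      right_inv := fun k => Subtype.ext (by simp [mul_assoc])
      map_mul' := fun x y => Subtype.ext (by simp [mul_assoc])
      map_add' := fun x y => Subtype.ext (by simp [mul_add, add_mul])
      commutes' := fun c => Subtype.ext (by simp [Algebra.algebraMap_eq_smul_one]) }
  let Φ : ↥(omegaGL (⇑Q)) →* (K ≃ₐ[F] K) :=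
    MonoidHom.mk' (fun g => φ g.1 g.2) fun g h => AlgEquiv.ext fun k => Subtype.ext (by simp [φ, mul_assoc, Matrix.mul_inv_rev])
  have hperf : commutator ↥(omegaGL (⇑Q)) = ⊤ := by
    apply Subgroup.map_injective (omegaGL (⇑Q)).subtype_injective
    have h := congrArg (Subgroup.map (commutator (quadIsoms Q)).subtype)
      (commutator_commutator_quadIsoms Q hQ (by rw [Module.finrank_fintype_fun_eq_card]; omega))
    rw [Subgroup.map_subtype_commutator, ← MonoidHom.range_eq_map, Subgroup.range_subtype] at h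
    rw [Subgroup.map_subtype_commutator, ← MonoidHom.range_eq_map, Subgroup.range_subtype, omegaGL_eq_map,
      ← Subgroup.map_commutator, h]
  let : CommGroup (K ≃ₐ[F] K) := IsCyclic.commGroup
  have hker : Φ.ker = ⊤ := by
    rw [eq_top_iff, ← hperf]
    exact Abelianization.commutator_subset_ker Φ
  have hle' : K ≤ ⊥ := fun M hM => by
    obtain ⟨c, rfl⟩ := omega_commutant hQ h7 (M := M) fun g hg => by
      have h1 : Φ ⟨g, hg⟩ = 1 := by
        rw [← MonoidHom.mem_ker, hker]; trivial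
      have h2 : (g : Matrix ι ι F) * M * ((g⁻¹ : GL ι F) : Matrix ι ι F) = M :=
        congrArg (fun k : K ≃ₐ[F] K => (k ⟨M, hM⟩ : Matrix ι ι F)) h1
      have h3 := congrArg (· * (g : Matrix ι ι F)) h2
      simpa [mul_assoc] using h3.symm
    exact Algebra.mem_bot.2 ⟨c, Algebra.algebraMap_eq_smul_one c⟩
  have := Submodule.finrank_mono (R := F) (Subalgebra.toSubmodule.monotone hle')
  rw [Subalgebra.finrank_toSubmodule, Subalgebra.finrank_toSubmodule, hK.finrank_eq, Subalgebra.finrank_bot] at this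
  omega

theorem omega_not_le_tensorWreathSubgroup {k t : ℕ} (hk : 3 ≤ k) (ht : 2 ≤ t) (e : ι ≃ (Fin t → Fin k))
    (P : GL ι F) : ¬ omegaGL (⇑Q) ≤ tensorWreathSubgroup k t e P := by
  classical
  intro hle
  let j₀ : Fin k := ⟨0, by omega⟩
  let a₀ : Fin t → Fin k := fun _ => j₀
  let T : Finset (Fin t → Fin k) := insert a₀
    (((Finset.univ : Finset (Fin t)) ×ˢ (Finset.univ.erase j₀)).image fun p => Function.update a₀ p.1 p.2)
  have hT : T.card ≤ 1 + t * (k - 1) := by
    refine (Finset.card_insert_le _ _).trans ?_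
    rw [add_comm]
    refine Nat.add_le_add le_rfl (Finset.card_image_le.trans ?_)
    simp [Finset.card_product]
  have hS : (T.image e.symm).card + 4 ≤ Fintype.card ι := by
    rw [Finset.card_image_of_injective _ e.symm.injective, Fintype.card_congr e, Fintype.card_fun,
      Fintype.card_fin, Fintype.card_fin]
    have := pow_ge_wreath k t hk ht
    omega
  obtain ⟨f, hf0, hfS, hf⟩ := exists_move_coord hQ h7 P (T.image e.symm) (s := e.symm a₀)
    (Finset.mem_image_of_mem _ (Finset.mem_insert_self _ _)) hS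
  obtain ⟨g, hg, hgv⟩ := hf 1
  obtain ⟨h, ⟨m, hm, rfl⟩, rfl⟩ := hle hg
  rw [show (MulAut.conj P).toMonoidHom ((glReindex e.symm).toMonoidHom m) =
    P * glReindex e.symm m * P⁻¹ from rfl, conj_inv_mulVec, one_smul,
    show (Pi.single (e.symm a₀) 1 : ι → F) = (Pi.single a₀ 1 : _ → F) ∘ e from
      funext fun x => by simp [Pi.single_apply, Equiv.eq_symm_apply],
    glReindex_symm_mulVec] at hgv
  have hpure : IsPureVec (Pi.single a₀ (1 : F)) := by
    refine ⟨fun i j => if j = j₀ then 1 else 0, fun a => ?_⟩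
    rw [Finset.prod_ite_zero, Pi.single_apply, Finset.prod_const_one]
    convert if_congr (⟨fun h i _ => congrFun h i, fun h => funext fun i => h i (Finset.mem_univ i)⟩ :
      a = a₀ ↔ ∀ i ∈ Finset.univ, a i = j₀) (rfl : (1 : F) = 1) (rfl : (0 : F) = 0)
  have himg : (m : Matrix (Fin t → Fin k) (Fin t → Fin k) F) *ᵥ Pi.single a₀ 1 ∈ {x | IsPureVec x} := by
    exact (tensorWreathStandard_le_pure k t hm _).2 hpure
  obtain ⟨xs, hxs⟩ := himg
  have hval : ∀ a, ∏ i, xs i (a i) = (if a = a₀ then 1 else 0) + f (e.symm a) := fun a => by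
    have := congrFun hgv (e.symm a)
    rw [Function.comp_apply, Equiv.apply_symm_apply, hxs] at this
    simpa [Pi.single_apply] using this
  have h00 := hval a₀
  rw [if_pos rfl, hfS _ (Finset.mem_image_of_mem _ (Finset.mem_insert_self _ _)), add_zero] at h00
  have hne : ∀ i, xs i j₀ ≠ 0 := fun i =>
    (Finset.prod_ne_zero_iff.1 (by rw [h00]; exact one_ne_zero)) i (Finset.mem_univ i)
  have hz : ∀ i j, j ≠ j₀ → xs i j = 0 := by
    intro i j hj
    have hne' : Function.update a₀ i j ≠ a₀ := fun h => hj (by simpa [a₀] using congrFun h i)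
    have hval' := hval (Function.update a₀ i j)
    rw [if_neg hne', hfS _ (Finset.mem_image_of_mem _ (Finset.mem_insert_of_mem
      (Finset.mem_image.2 ⟨(i, j), by simp [hj], rfl⟩))), add_zero] at hval'
    obtain ⟨l, -, hl⟩ := Finset.prod_eq_zero_iff.1 hval'
    by_cases hli : l = i
    · subst hli; rwa [Function.update_self] at hl
    · rw [Function.update_of_ne hli] at hl; exact absurd hl (hne l)
  refine hf0 (funext fun x => ?_)
  obtain ⟨a, rfl⟩ := e.symm.surjective x
  by_cases ha : a = a₀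
  · subst ha; exact hfS _ (Finset.mem_image_of_mem _ (Finset.mem_insert_self _ _))
  · obtain ⟨i, hi⟩ := Function.ne_iff.1 ha
    have := hval a
    rw [if_neg ha, zero_add, Finset.prod_eq_zero (Finset.mem_univ i) (hz i (a i) hi)] at this
    exact this.symm

end CfsgLib.Aschbacher
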