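import Cfsg.Agent.Lib.Aschbacher.OrthType
import Cfsg.Agent.Lib.Aschbacher.OrthNotLe

/-!
Reducible maximal subgroups of `Ω` in even dimension.
-/

set_option autoImplicit false
set_option linter.unusedSectionVars false

namespace CfsgLib.Aschbacher.Orth

open Cfsg.Geo Matrix CfsgLib.Classical CfsgLib.Geom
open QuadraticMap (polar)
open scoped MatrixGroups

variable {ι : Type} [Fintype ι] [DecidableEq ι] {F : Type*} [Field F] [Fintype F]
variable {Q : QuadraticForm F (ι → F)}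

omit [Fintype ι] [DecidableEq ι] in
theorem card_eq_three_of_odd (hodd : Odd (Fintype.card F)) (h : Fintype.card F ≤ 3) : Fintype.card F = 3 := by
  have := Fintype.one_lt_card (α := F)
  obtain ⟨a, ha⟩ := hodd
  omega

variable (hQ : ∀ x, (∀ y, polar Q x y = 0) → x = 0)
include hQ

theorem even_reducible {m : ℕ} (hm : Fintype.card ι = 2 * m) (h4 : 4 ≤ m) {H : Subgroup (GL ι F)}
    (hH : IsMaximalIn (omegaGL (⇑Q)) H) {W₀ : Submodule F (ι → F)} (h0 : W₀ ≠ ⊥) (h1 : W₀ ≠ ⊤)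
    (hW₀ : H ≤ subspaceStabilizer W₀) :
    (∃ W : Submodule F (ι → F), W ≠ ⊥ ∧ IsTotallySingularQuad (⇑Q) W ∧
      (IsPlusTypeOn (⇑Q) ⊤ → Module.finrank F W + 1 ≠ m) ∧ H = subspaceStabilizer W ⊓ omegaGL (⇑Q)) ∨
    (Odd (Fintype.card F) ∧ ∃ W : Submodule F (ι → F), W ≠ ⊥ ∧ W ≠ ⊤ ∧ Odd (Module.finrank F W) ∧
      IsNondegenerateOn (polar (⇑Q)) W ∧ H = subspaceStabilizer W ⊓ omegaGL (⇑Q)) ∨
    (∃ (W : Submodule F (ι → F)) (k : ℕ), Module.finrank F W = 2 * k ∧ 1 ≤ k ∧ 2 * k ≤ m ∧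
      IsNondegenerateOn (polar (⇑Q)) W ∧
      ¬ (Fintype.card F ≤ 3 ∧ Module.finrank F W = 2 ∧ IsPlusTypeOn (⇑Q) W) ∧
      H = subspaceStabilizer W ⊓ omegaGL (⇑Q)) ∨
    (¬ Odd (Fintype.card F) ∧ ∃ v : ι → F, Q v ≠ 0 ∧
      H = subspaceStabilizer (Submodule.span F {v}) ⊓ omegaGL (⇑Q)) := by
  have hiso : ∀ g ∈ H, ∀ x, Q ((g : Matrix ι ι F) *ᵥ x) = Q x := fun g hg => omega_isometry (hH.1.le hg)
  have key : ∀ U : Submodule F (ι → F), U ≠ ⊥ → U ≠ ⊤ → H ≤ subspaceStabilizer U →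
      H = subspaceStabilizer U ⊓ omegaGL (⇑Q) := fun U a b c =>
    maximal_eq hH c (omega_not_le_subspaceStabilizer hQ (by omega) a b)
  have htop : ∀ U : Submodule F (ι → F), Module.finrank F U < 2 * m → U ≠ ⊤ := fun U h e => by
    rw [e, finrank_top, Module.finrank_fintype_fun_eq_card, hm] at h; omega
  have hline : ∀ v, Q v ≠ 0 → H ≤ subspaceStabilizer (Submodule.span F {v}) →
      ((Odd (Fintype.card F) ∧ ∃ W : Submodule F (ι → F), W ≠ ⊥ ∧ W ≠ ⊤ ∧ Odd (Module.finrank F W) ∧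
        IsNondegenerateOn (polar (⇑Q)) W ∧ H = subspaceStabilizer W ⊓ omegaGL (⇑Q)) ∨
      (¬ Odd (Fintype.card F) ∧ ∃ v : ι → F, Q v ≠ 0 ∧
        H = subspaceStabilizer (Submodule.span F {v}) ⊓ omegaGL (⇑Q))) := by
    intro v hv hle
    have hv0 : v ≠ 0 := fun h => hv (by rw [h, map_zero])
    have hb : Submodule.span F {v} ≠ ⊥ := by simpa using hv0
    have ht := htop (Submodule.span F {v}) (by rw [finrank_span_singleton hv0]; omega)
    by_cases hq : Odd (Fintype.card F)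
    · exact Or.inl ⟨hq, _, hb, ht, by rw [finrank_span_singleton hv0]; exact odd_one,
        nondegenerateOn_span_singleton (two_ne_zero_of_odd hq) hv, key _ hb ht hle⟩
    · exact Or.inr ⟨hq, v, hv, key _ hb ht hle⟩
  rcases reducible_cases hQ hiso h0 h1 hW₀ with ⟨W, hW, hts, hle⟩ | ⟨W, hW, hWt, hnd, hle⟩ | ⟨h2, v, hv, hle⟩
  · have hd : Module.finrank F W ≤ m := finrank_ts_le Q (polarBilin_nondegenerate hQ)
      (by rw [Module.finrank_fintype_fun_eq_card, hm]) hts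
    refine Or.inl ?_
    by_cases hsub : IsPlusTypeOn (⇑Q) ⊤ ∧ Module.finrank F W + 1 = m
    swap
    · exact ⟨W, hW, hts, fun hp he => hsub ⟨hp, he⟩, key _ hW (htop W (by omega)) hle⟩
    obtain ⟨U, hU, hUts, hUle⟩ := exists_maxTS_above hQ (by omega) hm hsub.1 hsub.2 hts
    exact ⟨U, fun h => by rw [h, finrank_bot] at hU; omega, hUts, fun _ => by omega,
      key _ (fun h => by rw [h, finrank_bot] at hU; omega) (htop U (by omega)) ((le_inf hle hH.1.le).trans hUle)⟩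
  · rcases Nat.even_or_odd (Module.finrank F W) with he | ho
    swap
    · refine Or.inr (Or.inl ⟨?_, W, hW, hWt, ho, hnd, key _ hW hWt hle⟩)
      by_contra hq
      exact Nat.not_even_iff_odd.2 ho (even_finrank_of_nondegenerateOn (two_eq_zero_of_not_odd hq) hnd)
    obtain ⟨U, hU0, hU1, hUnd, hUle, hUe, hUm⟩ : ∃ U : Submodule F (ι → F), U ≠ ⊥ ∧ U ≠ ⊤ ∧
        IsNondegenerateOn (polar (⇑Q)) U ∧ H ≤ subspaceStabilizer U ∧ Even (Module.finrank F U) ∧
        Module.finrank F U ≤ m := by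
      obtain ⟨p0, p1, pnd, ple, psum⟩ := perp_data hQ hiso hW hWt hnd hle
      rw [hm] at psum
      by_cases hs : Module.finrank F W ≤ m
      · exact ⟨W, hW, hWt, hnd, hle, he, hs⟩
      · obtain ⟨a, ha⟩ := he
        exact ⟨_, p0, p1, pnd, ple, ⟨m - a, by omega⟩, by omega⟩
    obtain ⟨k, hk⟩ := hUe
    have hk1 : 1 ≤ k := by
      by_contra h
      exact hU0 (Submodule.finrank_eq_zero.1 (by omega))
    by_cases hplane : Fintype.card F ≤ 3 ∧ Module.finrank F U = 2 ∧ IsPlusTypeOn (⇑Q) U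
    swap
    · exact Or.inr (Or.inr (Or.inl ⟨U, k, by omega, hk1, by omega, hUnd, hplane, key _ hU0 hU1 hUle⟩))
    obtain ⟨v, hv, hvle⟩ := exists_line_of_plus_plane hplane.1 hiso hplane.2.1 hUnd hplane.2.2 hUle
    rcases hline v hv hvle with h | h
    · exact Or.inr (Or.inl h)
    · exact Or.inr (Or.inr (Or.inr h))
  · rcases hline v hv hle with h | h
    · exact Or.inr (Or.inl h)
    · exact Or.inr (Or.inr (Or.inr h))

end CfsgLib.Aschbacher.Orth
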