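import Cfsg.Agent.Lib.Aschbacher.OrthReducible
import Cfsg.Agent.Lib.Aschbacher.OrthAdj
import Cfsg.Agent.Lib.Geom.MaxTS

/-!
In characteristic two a quadratic form which is the square of a linear form on an invariant spanning set vanishes there.
-/

set_option autoImplicit false
set_option linter.unusedSectionVars false

namespace CfsgLib.Aschbacher.Orth

open Cfsg.Geo Matrix CfsgLib.Classical CfsgLib.Geom
open QuadraticMap (polar)
open scoped MatrixGroups

variable {ι : Type} [Fintype ι] [DecidableEq ι] {F : Type*} [Field F] [Fintype F]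
variable {Q : QuadraticForm F (ι → F)}

theorem spanning_null (h2 : (2 : F) = 0) (hn : 2 ≤ Fintype.card ι) {G : Subgroup (GL ι F)}
    (hirr : ActsIrreducibly (matrixSet G)) (hG : G ≤ quadSimilarityGroup (⇑Q)) {S : Set (ι → F)}
    (hS : Submodule.span F S = ⊤) (hinv : ∀ g ∈ G, ∀ s ∈ S, (g : Matrix ι ι F) *ᵥ s ∈ S)
    (ℓ : (ι → F) →ₗ[F] F) (hℓ : ∀ s ∈ S, Q s = ℓ s * ℓ s) : ∀ s ∈ S, Q s = 0 := by
  have hker : ∀ g ∈ G, ∀ v, ℓ v = 0 → ℓ ((g : Matrix ι ι F) *ᵥ v) = 0 := by
    intro g hg
    obtain ⟨c, hc⟩ := hG hg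
    obtain ⟨a, ha⟩ := isSquare_of_two_eq_zero h2 (c : F)
    have heq : ℓ.comp (Matrix.toLin' (g : Matrix ι ι F)) = a • ℓ := LinearMap.ext_on hS fun s hs => by
      simp only [LinearMap.comp_apply, Matrix.toLin'_apply, LinearMap.smul_apply, smul_eq_mul]
      have h := hc s
      rw [hℓ _ (hinv g hg s hs), hℓ s hs, ha] at h
      have h' : (ℓ ((g : Matrix ι ι F) *ᵥ s) - a * ℓ s) * (ℓ ((g : Matrix ι ι F) *ᵥ s) - a * ℓ s) = 0 := by
        linear_combination h + (a * ℓ s * (a * ℓ s) - a * ℓ s * ℓ ((g : Matrix ι ι F) *ᵥ s)) * h2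
      exact sub_eq_zero.1 (mul_self_eq_zero.1 h')
    intro v hv
    have := LinearMap.congr_fun heq v
    rw [LinearMap.comp_apply, Matrix.toLin'_apply, LinearMap.smul_apply, hv, smul_zero] at this
    exact this
  rcases hirr (LinearMap.ker ℓ) (by
      rintro _ ⟨g, hg, rfl⟩ _ ⟨v, hv, rfl⟩
      rw [Matrix.toLin'_apply]
      exact hker g hg v hv) with h | h
  · exfalso
    have h1 := LinearMap.finrank_range_add_finrank_ker ℓ
    rw [h, finrank_bot, Module.finrank_fintype_fun_eq_card] at h1
    have h3 := (LinearMap.range ℓ).finrank_le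
    rw [Module.finrank_self] at h3
    omega
  · intro s hs
    rw [hℓ s hs, LinearMap.congr_fun (LinearMap.ker_eq_top.1 h) s, LinearMap.zero_apply, mul_zero]

/-- The span of singular pairwise orthogonal vectors is totally singular. -/
theorem totallySingular_span {S : Set (ι → F)} (h : ∀ s ∈ S, Q s = 0) (h' : ∀ s ∈ S, ∀ t ∈ S, polar Q s t = 0) :
    IsTotallySingularQuad (⇑Q) (Submodule.span F S) := by
  intro w hw
  have key : ∀ x ∈ Submodule.span F S, ∀ y ∈ Submodule.span F S, polar Q x y = 0 := fun x hx y hy => by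
    have := LinearMap.BilinMap.apply_apply_mem_of_mem_span (⊥ : Submodule F F) S S
      (QuadraticMap.polarBilin Q) (fun s hs t ht => by simpa using h' s hs t ht) x y hx hy
    simpa using this
  induction hw using Submodule.span_induction with
  | mem x hx => exact h x hx
  | zero => exact map_zero Q
  | add x y hx hy a b => rw [QuadraticMap.map_add Q, a, b, key x hx y hy]; simp
  | smul c x _ a => rw [QuadraticMap.map_smul, a, smul_zero]

end CfsgLib.Aschbacher.Orth
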