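import Cfsg.Agent.Lib.Aschbacher.OrthType
import Cfsg.Agent.Lib.Aschbacher.OrthForms
import Cfsg.Agent.Lib.Aschbacher.Realise
import Cfsg.Agent.Lib.Aschbacher.OrthPureNull
import Cfsg.Agent.Lib.Geom.OmegaMax
import Mathlib.FieldTheory.Finite.GaloisField
import Mathlib.FieldTheory.Perfect

/-!
Subfield members for orthogonal groups in every characteristic: a realisable socle gives a rational multiple of the
quadratic form, and a form rational over a subfield of index two has plus type.
-/

set_option autoImplicit false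
set_option linter.unusedSectionVars false

namespace CfsgLib.Aschbacher.Orth

open Cfsg.Geo Matrix CfsgLib.Classical CfsgLib.MaxSub
open QuadraticMap (polar)
open scoped MatrixGroups

variable {ι : Type} [Fintype ι] [DecidableEq ι] {F : Type*} [Field F]

theorem isNondegenerateQuadraticForm_of_sep {Q : QuadraticForm F (ι → F)}
    (hQ : ∀ x, (∀ y, polar Q x y = 0) → x = 0) : IsNondegenerateQuadraticForm (⇑Q) := by
  refine ⟨fun c v => by rw [QuadraticMap.map_smul, smul_eq_mul, sq], ⟨fun x y v => QuadraticMap.polar_add_left _ x y v,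
    fun c x v => by rw [QuadraticMap.polar_smul_left, smul_eq_mul], fun v x y => QuadraticMap.polar_add_right _ v x y,
    fun c v x => by rw [QuadraticMap.polar_smul_right, smul_eq_mul]⟩, fun v hv => ?_⟩
  obtain ⟨y, hy⟩ : ∃ y, polar Q v y ≠ 0 := by
    by_contra hno
    push Not at hno
    exact hv (hQ v hno)
  exact ⟨⟨y, by rwa [QuadraticMap.polar_comm]⟩, ⟨y, hy⟩⟩

/-- Vectors independent over a subfield stay independent. -/
theorem linearIndependent_coe {F₁ : Subfield F} {κ : Type*} [Fintype κ] {b : κ → ι → F₁}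
    (hb : LinearIndependent F₁ b) : LinearIndependent F fun k => ((↑) : F₁ → F) ∘ b k := by
  classical
  rw [Fintype.linearIndependent_iff] at hb ⊢
  intro c hc k
  by_contra hk
  obtain ⟨φ, hφ⟩ : ∃ φ : Module.Dual F₁ F, φ (c k) ≠ 0 := by
    by_contra hno
    push Not at hno
    exact hk ((Module.forall_dual_apply_eq_zero_iff F₁ (c k)).1 hno)
  refine hφ (hb (fun j => φ (c j)) (funext fun i => ?_) k)
  have h := congrArg φ (congrFun hc i)
  simp only [Finset.sum_apply, Pi.smul_apply, Function.comp_apply, smul_eq_mul, map_sum, Pi.zero_apply,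
    map_zero] at h ⊢
  refine Eq.trans (Finset.sum_congr rfl fun j _ => ?_) h
  rw [mul_comm (c j) _, show ((b j i : F₁) : F) * c j = b j i • c j from rfl, map_smul, smul_eq_mul, mul_comm]

/-- A quadratic polynomial over a subfield of index two has a root. -/
theorem exists_root_index_two [Finite F] {F₁ : Subfield F} (h : Module.finrank F₁ F = 2) {a b c : F₁} (ha : a ≠ 0) :
    ∃ z : F, (a : F) * z ^ 2 + (b : F) * z + (c : F) = 0 := by
  open Polynomial in
  let g : F₁[X] := C a * X ^ 2 + C b * X + C c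
  have hg : g.natDegree = 2 := Polynomial.natDegree_quadratic ha
  have hz : ∀ z : F, Polynomial.aeval z g = (a : F) * z ^ 2 + (b : F) * z + (c : F) := fun z => by
    simp [g]; rfl
  by_cases hirr : Irreducible g
  · have : Fact (Irreducible g) := ⟨hirr⟩
    have hfr : Module.finrank F₁ (AdjoinRoot g) = 2 := by
      rw [(AdjoinRoot.powerBasis hirr.ne_zero).finrank, AdjoinRoot.powerBasis_dim, hg]
    have : FiniteDimensional F₁ (AdjoinRoot g) := (AdjoinRoot.powerBasis hirr.ne_zero).finite
    have : Finite (AdjoinRoot g) := Module.finite_of_finite F₁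
    obtain ⟨f⟩ := FiniteField.nonempty_algHom_of_finrank_dvd (F := F₁) (K := AdjoinRoot g) (L := F)
      (by rw [hfr, h])
    exact ⟨f (AdjoinRoot.root g), by
      rw [← hz, Polynomial.aeval_algHom_apply, AdjoinRoot.aeval_eq, AdjoinRoot.mk_self, map_zero]⟩
  · rw [Polynomial.irreducible_iff_roots_eq_zero_of_degree_le_three hg.ge (hg.le.trans (by norm_num))] at hirr
    obtain ⟨z, hz'⟩ := Multiset.exists_mem_of_ne_zero hirr
    refine ⟨(z : F), ?_⟩
    rw [← hz, show ((z : F₁) : F) = algebraMap F₁ F z from rfl, Polynomial.aeval_algebraMap_apply,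
      Polynomial.coe_aeval_eq_eval, (Polynomial.mem_roots'.1 hz').2, map_zero]

variable [Fintype F] {Q : QuadraticForm F (ι → F)} (hQ : ∀ x, (∀ y, polar Q x y = 0) → x = 0)
include hQ

/-- A form rational over a subfield of index two has plus type. -/
theorem plus_of_quadratic_subfield {m : ℕ} (hm : Fintype.card ι = 2 * m) (hm1 : 1 ≤ m) {F₁ : Subfield F}
    (hcard : Fintype.card F = Nat.card F₁ ^ 2) {P' : GL ι F} {ζ : F} (hζ : ζ ≠ 0)
    (hrat : IsQuadFormRationalStructure (fun v => ζ * Q v) F₁ P') : IsPlusTypeOn (⇑Q) ⊤ := by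
  classical
  let j : (ι → F₁) → (ι → F) := fun u => (P' : Matrix ι ι F) *ᵥ (((↑) : F₁ → F) ∘ u)
  have jadd : ∀ u v, j (u + v) = j u + j v := fun u v => by
    show (P' : Matrix ι ι F) *ᵥ _ = _ + _
    rw [← mulVec_add]; rfl
  have jsmul : ∀ (c : F₁) u, j (c • u) = (c : F) • j u := fun c u => by
    show (P' : Matrix ι ι F) *ᵥ _ = (c : F) • _
    rw [← mulVec_smul]; rfl
  have hpol : ∀ u v, ζ * polar Q (j u) (j v) ∈ F₁ := fun u v => by
    have h : ∀ w, ζ * Q (j w) ∈ F₁ := fun w => hrat _ fun i => SetLike.coe_mem _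
    simp only [QuadraticMap.polar, ← jadd, mul_sub]
    exact sub_mem (sub_mem (h _) (h _)) (h _)
  let R : QuadraticForm F₁ (ι → F₁) := QuadraticMap.ofPolar
    (fun u => ⟨ζ * Q (j u), hrat _ fun i => SetLike.coe_mem _⟩)
    (fun c u => Subtype.ext (by
      show ζ * Q (j (c • u)) = ((c * c : F₁) : F) * (ζ * Q (j u))
      rw [jsmul, QuadraticMap.map_smul, smul_eq_mul]; push_cast; ring))
    (fun x y z => Subtype.ext (by
      have h := congrArg (ζ * ·) (QuadraticMap.polar_add_left Q (j x) (j y) (j z))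
      simp only [QuadraticMap.polar, jadd, mul_sub, mul_add] at h ⊢
      push_cast
      exact h))
    (fun c x y => Subtype.ext (by
      have h := congrArg (ζ * ·) (QuadraticMap.polar_smul_left Q (c : F) (j x) (j y))
      simp only [QuadraticMap.polar, jadd, jsmul, smul_eq_mul, mul_sub] at h ⊢
      push_cast
      rw [h]; ring))
  have hR : ∀ u, ((R u : F₁) : F) = ζ * Q (j u) := fun u => rfl
  have hRp : ∀ u v, ((polar R u v : F₁) : F) = ζ * polar Q (j u) (j v) := fun u v => by
    simp only [QuadraticMap.polar, mul_sub, AddSubgroupClass.coe_sub, hR, jadd]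
  let cj' : ι → (ι → F₁) := fun i => Pi.single i 1
  have hjb : ∀ i, j (cj' i) = (P' : Matrix ι ι F) *ᵥ Pi.single i 1 := fun i => by
    show (P' : Matrix ι ι F) *ᵥ _ = _
    congr 1
    funext k
    simp only [cj', Function.comp_apply, Pi.single_apply]
    split <;> rfl
  have hsep : ∀ x, (∀ y, polar R x y = 0) → x = 0 := fun x hx => by
    have h0 : j x = 0 := hQ _ fun w => by
      obtain ⟨u, rfl⟩ : ∃ u, (P' : Matrix ι ι F) *ᵥ u = w :=
        ⟨((P'⁻¹ : GL ι F) : Matrix ι ι F) *ᵥ w, by rw [mulVec_mulVec, ← Units.val_mul, mul_inv_cancel,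
          Units.val_one, one_mulVec]⟩
      have hl : (fun v => polar Q (j x) ((P' : Matrix ι ι F) *ᵥ v)) = fun _ => 0 := by
        let L : (ι → F) →ₗ[F] F := (Q.polarBilin (j x)).comp (Matrix.toLin' (P' : Matrix ι ι F))
        have hL : L = 0 := by
          refine (Pi.basisFun F ι).ext fun i => ?_
          have h := congrArg ((↑) : F₁ → F) (hx (cj' i))
          rw [hRp, hjb] at h
          simp only [L, LinearMap.comp_apply, Pi.basisFun_apply, Matrix.toLin'_apply,
            QuadraticMap.polarBilin_apply_apply, LinearMap.zero_apply]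
          exact (mul_eq_zero.1 h).resolve_left hζ
        funext v
        exact LinearMap.congr_fun hL v
      exact congrFun hl u
    have h1 := Matrix.mulVec_injective_iff_isUnit.2 P'.isUnit
      (show (P' : Matrix ι ι F) *ᵥ (((↑) : F₁ → F) ∘ x) = (P' : Matrix ι ι F) *ᵥ 0 by rw [mulVec_zero]; exact h0)
    exact funext fun i => Subtype.ext (congrFun h1 i)
  have hd : Module.finrank F₁ (ι → F₁) = 2 * m := by rw [Module.finrank_fintype_fun_eq_card, hm]
  have hND : IsoSemi.ND R.polarBilin ⊤ := fun u _ h => hsep u fun v => h v Submodule.mem_top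
  obtain ⟨W, -, hW, hWd⟩ := IsoOrth.exists_ts hsep hND (m - 1) (Or.inr (by rw [finrank_top, hd]; omega))
  have hperp := IsoSemi.finrank_inf_perp (IsoOrth.geom hsep) hND (le_top : W ≤ ⊤)
  rw [top_inf_eq, finrank_top, hd, hWd] at hperp
  obtain ⟨C, hC⟩ := W.exists_isCompl
  obtain ⟨Y, hY⟩ : ∃ Y, Y = IsoSemi.perp R.polarBilin W ⊓ C := ⟨_, rfl⟩
  have hWp : W ≤ IsoSemi.perp R.polarBilin W := IsoSemi.ti_iff_le_perp.1 (IsoOrth.ti_of_ts hW)
  have hsup : W ⊔ Y = IsoSemi.perp R.polarBilin W := by
    rw [hY, inf_comm _ C, ← sup_inf_assoc_of_le C hWp, hC.sup_eq_top, top_inf_eq]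
  have hWY : Disjoint W Y := hC.disjoint.mono_right (hY ▸ inf_le_right)
  have h1 := Submodule.finrank_sup_add_finrank_inf_eq W Y
  rw [hsup, hWY.eq_bot, finrank_bot, hWd] at h1
  let bW := Module.finBasisOfFinrankEq F₁ W hWd
  let bY := Module.finBasisOfFinrankEq F₁ Y (n := 2) (by omega)
  let v : Fin (m - 1) ⊕ Fin 2 → ι → F₁ := Sum.elim (fun k => (bW k : ι → F₁)) fun k => (bY k : ι → F₁)
  have hv : LinearIndependent F₁ v := by
    refine (bW.linearIndependent.map' W.subtype W.ker_subtype).sum_type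
      (bY.linearIndependent.map' Y.subtype Y.ker_subtype) (hWY.mono ?_ ?_) <;>
    · rw [Submodule.span_le]; rintro _ ⟨k, rfl⟩; exact SetLike.coe_mem _
  have hvF := linearIndependent_coe hv
  have hli : LinearIndependent F fun k => j (v k) :=
    hvF.map' (Matrix.toLin' (P' : Matrix ι ι F)) (LinearMap.ker_eq_bot.2 fun x y h => by
      simp only [Matrix.toLin'_apply] at h
      exact Matrix.mulVec_injective_iff_isUnit.2 P'.isUnit h)
  have hfr : Module.finrank F₁ F = 2 := by
    have h := Module.card_eq_pow_finrank (K := F₁) (V := F)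
    rw [hcard, Nat.card_eq_fintype_card] at h
    exact (Nat.pow_right_injective Fintype.one_lt_card h).symm
  set f₁ := j (v (Sum.inr 0)) with hf₁
  set f₂ := j (v (Sum.inr 1)) with hf₂
  have hYp : ∀ k, ∀ w ∈ W, polar R w (bY k : ι → F₁) = 0 := fun k w hw =>
    (hY ▸ (bY k).2 : (bY k : ι → F₁) ∈ IsoSemi.perp R.polarBilin W ⊓ C).1 w hw
  have hperpF : ∀ k (i : Fin (m - 1)), polar Q (j (v (Sum.inl i))) (j (v (Sum.inr k))) = 0 := fun k i => by
    have h := congrArg ((↑) : F₁ → F) (hYp k _ (bW i).2)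
    rw [hRp] at h
    exact (mul_eq_zero.1 h).resolve_left hζ
  obtain ⟨c, d, hcd, hw0⟩ : ∃ c d : F, (c ≠ 0 ∨ d ≠ 0) ∧ Q (c • f₁ + d • f₂) = 0 := by
    by_cases ha : R (v (Sum.inr 0)) = 0
    · refine ⟨1, 0, Or.inl one_ne_zero, ?_⟩
      have h := congrArg ((↑) : F₁ → F) ha
      rw [hR] at h
      rw [one_smul, zero_smul, add_zero, hf₁]
      exact (mul_eq_zero.1 h).resolve_left hζ
    · obtain ⟨z, hz⟩ := exists_root_index_two hfr (b := polar R (v (Sum.inr 0)) (v (Sum.inr 1)))
        (c := R (v (Sum.inr 1))) ha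
      refine ⟨z, 1, Or.inr one_ne_zero, ?_⟩
      rw [hR, hR, hRp, ← hf₁, ← hf₂] at hz
      have : ζ * Q (z • f₁ + (1 : F) • f₂) = 0 := by
        rw [QuadraticMap.map_add Q, one_smul, QuadraticMap.map_smul, QuadraticMap.polar_smul_left, smul_eq_mul,
          smul_eq_mul, ← hz]
        ring
      exact (mul_eq_zero.1 this).resolve_left hζ
  set w := c • f₁ + d • f₂ with hw
  let S : Fin (m - 1) ⊕ Unit → ι → F := Sum.elim (fun i => j (v (Sum.inl i))) fun _ => w
  have hS : LinearIndependent F S := by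
    rw [Fintype.linearIndependent_iff] at hli ⊢
    intro g hg k
    have h := hli (Sum.elim (fun i => g (Sum.inl i)) ![g (Sum.inr ()) * c, g (Sum.inr ()) * d]) (by
      rw [← hg]
      simp only [Fintype.sum_sum_type, Sum.elim_inl, Sum.elim_inr, S, Fin.sum_univ_two, Matrix.cons_val_zero,
        Matrix.cons_val_one, Fintype.univ_ofSubsingleton, Finset.sum_singleton, hw, hf₁, hf₂]
      module)
    rcases k with i | u
    · exact h (Sum.inl i)
    · rcases hcd with hc | hd
      · exact (mul_eq_zero.1 (h (Sum.inr 0))).resolve_right hc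
      · exact (mul_eq_zero.1 (h (Sum.inr 1))).resolve_right hd
  refine ⟨Submodule.span F (Set.range S), le_top, totallySingular_span (Q := Q) ?_ ?_, ?_⟩
  · rintro _ ⟨k | k, rfl⟩
    · have h := congrArg ((↑) : F₁ → F) (hW _ (bW k).2)
      rw [hR] at h
      exact (mul_eq_zero.1 h).resolve_left hζ
    · exact hw0
  · have hWW : ∀ a b, polar Q (j (v (Sum.inl a))) (j (v (Sum.inl b))) = 0 := fun a b => by
      have h := congrArg ((↑) : F₁ → F) (hWp (bW b).2 _ (bW a).2)
      rw [QuadraticMap.polarBilin_apply_apply, hRp] at h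
      exact (mul_eq_zero.1 h).resolve_left hζ
    have hWw : ∀ a, polar Q (j (v (Sum.inl a))) w = 0 := fun a => by
      rw [hw, QuadraticMap.polar_add_right, QuadraticMap.polar_smul_right, QuadraticMap.polar_smul_right,
        hperpF, hperpF, smul_zero, smul_zero, add_zero]
    rintro _ ⟨a | a, rfl⟩ _ ⟨b | b, rfl⟩
    · exact hWW a b
    · exact hWw a
    · show polar Q w (j (v (Sum.inl b))) = 0
      rw [QuadraticMap.polar_comm]; exact hWw b
    · show polar Q w w = 0
      rw [QuadraticMap.polar_self, hw0, smul_zero]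
  · rw [finrank_span_eq_card hS, finrank_top, Module.finrank_fintype_fun_eq_card, hm, Fintype.card_sum,
      Fintype.card_fin, Fintype.card_unit]
    omega

/-- A realisable socle gives a subfield on which a multiple of the form is rational. -/
theorem subfield_of_realisable (hn : 2 ≤ Fintype.card ι) {G P : Subgroup (GL ι F)} (hP : IsSimpleData G P)
    (hfix : FixesQuadForm (matrixSet P) (⇑Q)) {F₀ : Subfield F} (h₀ : F₀ ≠ ⊤)
    (hreal : RealisableOver F₀ (matrixSet P)) :
    ∃ (F₁ : Subfield F) (r : ℕ) (P' : GL ι F) (ζ : F), r.Prime ∧ Fintype.card F = Nat.card F₁ ^ r ∧ ζ ≠ 0 ∧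
      IsQuadFormRationalStructure (fun v => ζ * Q v) F₁ P' ∧ G ≤ subfieldSubgroup F₁ P' := by
  classical
  have : Nonempty ι := Fintype.card_pos_iff.1 (by omega)
  obtain ⟨F₁, r, P', -, hr, hcard, hle, hent⟩ := le_subfield_of_realisable hP.normal hP.alg_top h₀ hreal
  have hent' : ∀ x ∈ P, ∀ i j, ((P'⁻¹ * x * P' : GL ι F) : Matrix ι ι F) i j ∈ F₁ := fun x hx i j => by
    have h := hent x hx i j
    rwa [cj_apply, inv_inv, ← Units.val_mul, ← Units.val_mul] at h
  obtain ⟨ζ, hζ, hpol⟩ := OrthForms.exists_rational_polar hP.absIrred.2 (isNondegenerateQuadraticForm_of_sep hQ) hfix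
    (F₁ := F₁) (P' := P') hent'
  refine ⟨F₁, r, P', ζ, hr, hcard, hζ, ?_, hle⟩
  obtain ⟨j, hj⟩ : ∃ j : (ι → F) →ₗ[F] (ι → F), j = Matrix.toLin' (P' : Matrix ι ι F) := ⟨_, rfl⟩
  have hp : ∀ u v : ι → F, (∀ i, u i ∈ F₁) → (∀ i, v i ∈ F₁) → ζ * polar Q (j u) (j v) ∈ F₁ := fun u v hu hv => by
    rw [hj, Matrix.toLin'_apply, Matrix.toLin'_apply]; exact hpol u v hu hv
  suffices h : ∀ u : ι → F, (∀ i, u i ∈ F₁) → ζ * Q (j u) ∈ F₁ from fun u hu => by
    have := h u hu; rwa [hj, Matrix.toLin'_apply] at this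
  by_cases h2 : (2 : F) = 0
  swap
  · intro u hu
    have h := hp u u hu hu
    rw [QuadraticMap.polar_self, two_smul, ← two_mul] at h
    have e : ζ * Q (j u) = (2 : F)⁻¹ * (ζ * (2 * Q (j u))) := by field_simp
    rw [e]
    exact mul_mem (F₁.inv_mem (ofNat_mem F₁ 2)) h
  have : CharP F 2 := CharTwo.of_one_ne_zero_of_two_eq_zero one_ne_zero h2
  set q₁ := Nat.card F₁
  -- the Frobenius map of the subfield
  obtain ⟨p, hchar⟩ := CharP.exists F₁
  have hp2 : p = 2 := CharP.eq F₁ hchar (CharP.subring F 2 F₁.toSubring)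
  subst hp2
  obtain ⟨e, -, hq⟩ := FiniteField.card F₁ 2
  rw [← Nat.card_eq_fintype_card] at hq
  let g : F → F := fun x => x ^ q₁ - x
  have hgadd : ∀ x y, g (x + y) = g x + g y := fun x y => by
    show (x + y) ^ q₁ - _ = _
    simp only [g]
    rw [show q₁ = 2 ^ (e : ℕ) from hq, add_pow_char_pow]; ring
  have hgmul : ∀ c ∈ F₁, ∀ x, g (c * x) = c * g x := fun c hc x => by
    have h : c ^ q₁ = c := by
      have := congrArg ((↑) : F₁ → F) (FiniteField.pow_card (⟨c, hc⟩ : F₁))
      rw [← Nat.card_eq_fintype_card, SubmonoidClass.coe_pow] at this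
      exact this
    show (c * x) ^ q₁ - c * x = _
    rw [mul_pow, h]; ring
  have hg0 : ∀ x, g x = 0 → x ∈ F₁ := fun x hx => by
    by_contra hxn
    have hfin : Fintype F₁ := Fintype.ofFinite _
    let s : Finset F := insert x ((Finset.univ : Finset F₁).image (↑))
    have hs : s.card = q₁ + 1 := by
      rw [Finset.card_insert_of_notMem (by simpa using hxn), Finset.card_image_of_injective _ Subtype.coe_injective,
        Finset.card_univ, ← Nat.card_eq_fintype_card]
    let P₀ : Polynomial F := Polynomial.X ^ q₁ - Polynomial.X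
    have h1q : 1 < q₁ := Finite.one_lt_card
    have hP0 : P₀ ≠ 0 := FiniteField.X_pow_card_sub_X_ne_zero F h1q
    have hsub : s ⊆ P₀.roots.toFinset := fun y hy => by
      rw [Multiset.mem_toFinset, Polynomial.mem_roots hP0]
      simp only [P₀, Polynomial.IsRoot, Polynomial.eval_sub, Polynomial.eval_pow, Polynomial.eval_X]
      rcases Finset.mem_insert.1 hy with rfl | hy
      · exact hx
      · obtain ⟨c, -, rfl⟩ := Finset.mem_image.1 hy
        have := hgmul c c.2 1
        simp only [g, mul_one, one_pow, sub_self, mul_zero] at this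
        exact this
    have h1 := (Finset.card_le_card hsub).trans ((Multiset.toFinset_card_le _).trans (Polynomial.card_roots' _))
    rw [FiniteField.X_pow_card_sub_X_natDegree_eq F h1q, hs] at h1
    omega
  let t : ι → F := fun i => g (ζ * Q (j (Pi.single i 1)))
  have hexp : ∀ u : ι → F, (∀ i, u i ∈ F₁) → g (ζ * Q (j u)) = ∑ i, u i * u i * t i := by
    intro u hu
    suffices h : ∀ s : Finset ι, g (ζ * Q (j (∑ i ∈ s, u i • Pi.single i 1))) = ∑ i ∈ s, u i * u i * t i by
      have := h Finset.univ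
      rwa [← pi_eq_sum_univ' u] at this
    intro s
    induction s using Finset.induction_on with
    | empty => simp only [Finset.sum_empty, map_zero, mul_zero, g]; rw [zero_pow (Nat.card_pos (α := F₁)).ne', sub_zero]
    | insert a s has ih =>
      rw [Finset.sum_insert has, Finset.sum_insert has, map_add, QuadraticMap.map_add Q, mul_add, mul_add,
        hgadd, hgadd, ih, map_smul j, QuadraticMap.map_smul, smul_eq_mul]
      have h1 : g (ζ * polar Q (u a • j (Pi.single a 1)) (j (∑ i ∈ s, u i • Pi.single i 1))) = 0 := by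
        rw [← map_smul]
        set x := ζ * polar Q (j (u a • Pi.single a 1)) (j (∑ i ∈ s, u i • Pi.single i 1)) with hxdef
        have hx : x ∈ F₁ := by
          refine hp _ _ (fun i => ?_) fun i => ?_
          · rw [Pi.smul_apply, smul_eq_mul, Pi.single_apply]
            split
            · rw [mul_one]; exact hu a
            · rw [mul_zero]; exact zero_mem _
          · rw [Finset.sum_apply]
            refine sum_mem fun k _ => ?_
            rw [Pi.smul_apply, smul_eq_mul, Pi.single_apply]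
            split
            · rw [mul_one]; exact hu k
            · rw [mul_zero]; exact zero_mem _
        have := hgmul x hx 1
        simp only [g, mul_one, one_pow, sub_self, mul_zero] at this
        exact this
      rw [h1, add_zero, show ζ * (u a * u a * Q (j (Pi.single a 1))) = u a * u a * (ζ * Q (j (Pi.single a 1))) by ring,
        hgmul _ (mul_mem (hu a) (hu a))]
  have hsq : ∀ x : F, ∃ s, x = s * s := fun x => CfsgLib.Geom.isSquare_of_two_eq_zero h2 x
  choose sq hsq using hsq
  set s : ι → F := fun i => sq (t i) with hs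
  have hψ : ∀ u : ι → F, (∀ i, u i ∈ F₁) → (s ⬝ᵥ u) * (s ⬝ᵥ u) = g (ζ * Q (j u)) := fun u hu => by
    rw [hexp u hu, ← pow_two, dotProduct, sum_pow_char 2]
    refine Finset.sum_congr rfl fun i _ => ?_
    rw [mul_pow, pow_two, pow_two, ← hsq]; ring
  have hs0 : s = 0 := by
    by_contra hsne
    let W : Submodule F (ι → F) :=
      { carrier := {w | s ⬝ᵥ (((P'⁻¹ : GL ι F) : Matrix ι ι F) *ᵥ w) = 0}
        zero_mem' := by simp
        add_mem' := fun {a b} ha hb => by
          simp only [Set.mem_ofPred_eq, mulVec_add, dotProduct_add] at ha hb ⊢; rw [ha, hb, add_zero]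
        smul_mem' := fun c a ha => by
          simp only [Set.mem_ofPred_eq, mulVec_smul, dotProduct_smul] at ha ⊢; rw [ha, smul_zero] }
    have hinv : ∀ x ∈ P, ∀ v ∈ W, (x : Matrix ι ι F) *ᵥ v ∈ W := by
      intro x hx v hv
      set y := ((P'⁻¹ * x * P' : GL ι F) : Matrix ι ι F) with hy
      have hys : s ᵥ* y = s := by
        funext k
        have hk : ∀ i, (Pi.single k (1 : F) : ι → F) i ∈ F₁ := fun i => by
          rw [Pi.single_apply]; split
          exacts [one_mem _, zero_mem _]
        have hcol : ∀ i, (y *ᵥ Pi.single k 1) i ∈ F₁ := fun i => by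
          rw [mulVec_single_one]; exact hent' x hx i k
        have h1 := hψ _ hcol
        have h3 : Q (j (y *ᵥ Pi.single k 1)) = Q (j (Pi.single k 1)) := by
          rw [hj, Matrix.toLin'_apply, Matrix.toLin'_apply, mulVec_mulVec, hy, ← Units.val_mul,
            show P' * (P'⁻¹ * x * P') = x * P' by group, Units.val_mul, ← mulVec_mulVec]
          exact hfix _ ⟨x, hx, rfl⟩ _
        rw [h3, ← hψ _ hk, dotProduct_mulVec] at h1
        have h4 : (s ᵥ* y ⬝ᵥ Pi.single k 1) = s ⬝ᵥ Pi.single k 1 := by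
          have h5 : (s ᵥ* y ⬝ᵥ Pi.single k 1 - s ⬝ᵥ Pi.single k 1) *
              (s ᵥ* y ⬝ᵥ Pi.single k 1 - s ⬝ᵥ Pi.single k 1) = 0 := by
            linear_combination h1 + ((s ⬝ᵥ Pi.single k 1) * (s ⬝ᵥ Pi.single k 1) -
              (s ᵥ* y ⬝ᵥ Pi.single k 1) * (s ⬝ᵥ Pi.single k 1)) * h2
          exact sub_eq_zero.1 (mul_self_eq_zero.1 h5)
        simpa using h4
      show s ⬝ᵥ _ = 0
      have e : ((P'⁻¹ : GL ι F) : Matrix ι ι F) *ᵥ ((x : Matrix ι ι F) *ᵥ v) =
          y *ᵥ (((P'⁻¹ : GL ι F) : Matrix ι ι F) *ᵥ v) := by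
        rw [mulVec_mulVec, mulVec_mulVec, hy, ← Units.val_mul, ← Units.val_mul, mul_inv_cancel_right]
      rw [e, dotProduct_mulVec, hys]
      exact hv
    have hW := hP.absIrred.1 W (by
      rintro _ ⟨x, hx, rfl⟩ _ ⟨v, hv, rfl⟩
      rw [Matrix.toLin'_apply]
      exact hinv x hx v hv)
    obtain ⟨i, hi⟩ := Function.ne_iff.1 hsne
    rcases hW with hbot | htop
    · obtain ⟨k, hk⟩ : ∃ k, k ≠ i := Fintype.exists_ne_of_one_lt_card (by omega) i
      let u : ι → F := s k • Pi.single i 1 - s i • Pi.single k 1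
      have hu : (P' : Matrix ι ι F) *ᵥ u ∈ W := by
        show s ⬝ᵥ _ = 0
        rw [mulVec_mulVec, ← Units.val_mul, inv_mul_cancel, Units.val_one, one_mulVec]
        simp only [u, dotProduct_sub, dotProduct_smul, dotProduct_single, mul_one, smul_eq_mul]
        ring
      rw [hbot, Submodule.mem_bot] at hu
      have h0 := Matrix.mulVec_injective_iff_isUnit.2 P'.isUnit
        (show (P' : Matrix ι ι F) *ᵥ u = (P' : Matrix ι ι F) *ᵥ 0 by rw [mulVec_zero]; exact hu)
      have := congrFun h0 k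
      simp [u, hk] at this
      exact hi this
    · have h1 : (P' : Matrix ι ι F) *ᵥ Pi.single i 1 ∈ W := htop ▸ Submodule.mem_top
      change s ⬝ᵥ _ = 0 at h1
      rw [mulVec_mulVec, ← Units.val_mul, inv_mul_cancel, Units.val_one, one_mulVec, dotProduct_single,
        mul_one] at h1
      exact hi h1
  intro u hu
  apply hg0
  rw [← hψ u hu, hs0, zero_dotProduct, mul_zero]

end CfsgLib.Aschbacher.Orth
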