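import Cfsg.Agent.Lib.Aschbacher.OrthAdj
import Cfsg.Agent.Lib.Aschbacher.Centre

/-!
A field in the centre of an adjoint-closed algebra: in odd dimension a self-adjoint subfield of odd prime degree
properly dividing the dimension.
-/

set_option autoImplicit false
set_option linter.unusedSectionVars false

namespace CfsgLib.Aschbacher.Orth

open Cfsg.Geo Matrix
open QuadraticMap (polar)
open scoped MatrixGroups

variable {ι : Type} [Fintype ι] [DecidableEq ι] {F : Type*} [Field F] [Fintype F]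

theorem isField_of_subalgebra [Nonempty ι] {K : Subalgebra F (Matrix ι ι F)}
    (hcomm : ∀ x ∈ K, ∀ y ∈ K, x * y = y * x) (hinv : ∀ x ∈ K, x ≠ 0 → ∃ y ∈ K, x * y = 1) : IsField K :=
  { exists_pair_ne := ⟨0, 1, fun h => zero_ne_one (α := Matrix ι ι F) (congrArg Subtype.val h)⟩
    mul_comm := fun a b => Subtype.ext (hcomm a a.2 b b.2)
    mul_inv_cancel := fun {a} ha => by
      obtain ⟨y, hy, h⟩ := hinv a a.2 fun h => ha (Subtype.ext h)
      exact ⟨⟨y, hy⟩, Subtype.ext h⟩ }

/-- The degree of a field of matrices divides the dimension. -/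
theorem finrank_dvd_card [Nonempty ι] {K : Subalgebra F (Matrix ι ι F)}
    (hcomm : ∀ x ∈ K, ∀ y ∈ K, x * y = y * x) (hinv : ∀ x ∈ K, x ≠ 0 → ∃ y ∈ K, x * y = 1) :
    Module.finrank F K ∣ Fintype.card ι := by
  let _ : Field K := (isField_of_subalgebra hcomm hinv).toField
  let _ : Module K (ι → F) :=
    { smul := fun k v => (k : Matrix ι ι F) *ᵥ v
      one_smul := fun v => one_mulVec v
      mul_smul := fun a b v => (mulVec_mulVec v _ _).symm
      smul_zero := fun a => mulVec_zero _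
      smul_add := fun a u v => mulVec_add _ u v
      add_smul := fun a b v => add_mulVec _ _ v
      zero_smul := fun v => zero_mulVec v }
  have : IsScalarTower F K (ι → F) := ⟨fun c k v => smul_mulVec c (k : Matrix ι ι F) v⟩
  have : Module.Free K (ι → F) := Module.Free.of_divisionRing K (ι → F)
  exact ⟨Module.finrank K (ι → F),
    (Module.finrank_fintype_fun_eq_card F).symm.trans (Module.finrank_mul_finrank F K (ι → F)).symm⟩

/-- A field of full degree is its own centraliser. -/
theorem mem_of_commute_field [Nonempty ι] {K : Subalgebra F (Matrix ι ι F)}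
    (hK : IsFieldSubalgebra (Fintype.card ι) K) {y : Matrix ι ι F} (hy : ∀ k ∈ K, y * k = k * y) : y ∈ K := by
  obtain ⟨i⟩ := (inferInstance : Nonempty ι)
  set v : ι → F := Pi.single i 1 with hv
  let L : K →ₗ[F] (ι → F) :=
    { toFun := fun k => (k : Matrix ι ι F) *ᵥ v
      map_add' := fun a b => by rw [Subalgebra.coe_add, add_mulVec]
      map_smul' := fun c a => by rw [Subalgebra.coe_smul, smul_mulVec, RingHom.id_apply] }
  have hinj : Function.Injective L := by
    rw [← LinearMap.ker_eq_bot, LinearMap.ker_eq_bot']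
    intro k hk
    by_contra h0
    obtain ⟨y', hy', hky⟩ := hK.inv k k.2 fun e => h0 (Subtype.ext e)
    have h1 : ((k : Matrix ι ι F) * y') *ᵥ v = 0 := by
      rw [hK.comm k k.2 y' hy', ← mulVec_mulVec, show (k : Matrix ι ι F) *ᵥ v = 0 from hk, mulVec_zero]
    rw [hky, one_mulVec] at h1
    simpa [hv] using congrFun h1 i
  have hsurj : Function.Surjective L :=
    (LinearMap.injective_iff_surjective_of_finrank_eq_finrank
      (by rw [hK.finrank_eq, Module.finrank_fintype_fun_eq_card])).1 hinj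
  obtain ⟨k, hk⟩ := hsurj (y *ᵥ v)
  suffices y = k by rw [this]; exact k.2
  refine Matrix.ext_of_mulVec_single fun j => ?_
  obtain ⟨k', hk'⟩ := hsurj (Pi.single j 1)
  change (k' : Matrix ι ι F) *ᵥ v = _ at hk'
  change (k : Matrix ι ι F) *ᵥ v = _ at hk
  rw [← hk', mulVec_mulVec, mulVec_mulVec, hy k' k'.2, hK.comm k k.2 k' k'.2, ← mulVec_mulVec, ← mulVec_mulVec, hk]

variable {Q : QuadraticForm F (ι → F)} (hQ : ∀ x, (∀ y, polar Q x y = 0) → x = 0)
include hQ

theorem adjQ_pow (A : Matrix ι ι F) (k : ℕ) : adjQ Q (A ^ k) = adjQ Q A ^ k := by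
  induction k with
  | zero => simp [adjQ_one hQ]
  | succ k ih => rw [pow_succ, adjQ_mul hQ, ih, pow_succ']

/-- A field of odd degree closed under the adjoint is self-adjoint. -/
theorem adjQ_eq_self_of_odd [Nonempty ι] {r : ℕ} {K : Subalgebra F (Matrix ι ι F)} (hK : IsFieldSubalgebra r K)
    (hr : Odd r) (hadj : ∀ x ∈ K, adjQ Q x ∈ K) : ∀ x ∈ K, adjQ Q x = x := by
  let _ : Field K := (isField_of_subalgebra hK.comm hK.inv).toField
  have : Module.Finite F K := Module.Finite.of_finite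
  let τ : K ≃ₐ[F] K :=
    { toFun := fun x => ⟨adjQ Q x, hadj x x.2⟩
      invFun := fun x => ⟨adjQ Q x, hadj x x.2⟩
      left_inv := fun x => Subtype.ext (adjQ_adjQ hQ _)
      right_inv := fun x => Subtype.ext (adjQ_adjQ hQ _)
      map_mul' := fun x y => Subtype.ext (by
        show adjQ Q ((x : Matrix ι ι F) * y) = adjQ Q x * adjQ Q y
        rw [adjQ_mul hQ, hK.comm _ (hadj _ y.2) _ (hadj _ x.2)])
      map_add' := fun x y => Subtype.ext (adjQ_add _ _)
      commutes' := fun c => Subtype.ext (by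
        show adjQ Q (algebraMap F (Matrix ι ι F) c) = algebraMap F (Matrix ι ι F) c
        rw [Algebra.algebraMap_eq_smul_one, adjQ_smul, adjQ_one hQ]) }
  have h2 : τ ^ 2 = 1 := AlgEquiv.ext fun x => Subtype.ext (adjQ_adjQ hQ _)
  have hc : Nat.card (K ≃ₐ[F] K) = r := by rw [IsGalois.card_aut_eq_finrank, hK.finrank_eq]
  have h1 : orderOf τ ∣ Nat.gcd 2 r :=
    Nat.dvd_gcd (orderOf_dvd_of_pow_eq_one h2) (hc ▸ orderOf_dvd_natCard τ)
  rw [Nat.coprime_two_left.2 hr, Nat.dvd_one, orderOf_eq_one_iff] at h1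
  intro x hx
  exact congrArg (fun e : K ≃ₐ[F] K => (e ⟨x, hx⟩ : Matrix ι ι F)) h1

/-- The field case in odd dimension. -/
theorem exists_selfAdjoint_field [Nonempty ι] (hn : Odd (Fintype.card ι)) {G L : Subgroup (GL ι F)}
    (hG : G ≤ similarityGroup (polar (⇑Q))) (hLG : L ≤ G) (hL : Normalized G L)
    (hinv : ∀ x ∈ centreOf (alg L), x ≠ 0 → ∃ y ∈ centreOf (alg L), x * y = 1)
    (hdim : 1 < Module.finrank F (centreOf (alg L))) :
    ∃ (r : ℕ) (K : Subalgebra F (Matrix ι ι F)), r.Prime ∧ Fintype.card ι ≠ r ∧ IsFieldSubalgebra r K ∧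
      IsSelfAdjointFor (polar (⇑Q)) K ∧ G ≤ subalgebraNormalizer K := by
  have hcomm : ∀ x ∈ centreOf (alg L), ∀ y ∈ centreOf (alg L), x * y = y * x :=
    fun x hx y hy => commute_centreOf hx hy.1
  have hr : (Module.finrank F (centreOf (alg L))).minFac.Prime := Nat.minFac_prime (by omega)
  obtain ⟨K, hKs, hK, hGK⟩ := exists_prime_subfield hcomm hinv (inv_centreOf (inv_alg hL)) hdim hr
    (Nat.minFac_dvd _)
  set r := (Module.finrank F (centreOf (alg L))).minFac
  have hKsub : ∀ x ∈ K, x ∈ centreOf (alg L) := fun x hx => by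
    rw [← SetLike.mem_coe, hKs] at hx; exact hx.1
  have hodd : Odd r := Odd.of_dvd_nat hn ((Nat.minFac_dvd _).trans (finrank_dvd_card hcomm hinv))
  have hadj : ∀ x ∈ K, adjQ Q x ∈ K := by
    intro x hx
    rw [← SetLike.mem_coe, hKs] at hx ⊢
    exact ⟨adjQ_mem_centre hQ (hLG.trans hG) hx.1, by rw [← adjQ_pow hQ, hx.2]⟩
  have hself := adjQ_eq_self_of_odd hQ hK hodd hadj
  refine ⟨r, K, hr, fun hcr => ?_, hK, fun k hk u v => by rw [polar_mulVec_left hQ, hself k hk], hGK⟩
  have hscal : ∀ g ∈ L, ∃ c : F, (g : Matrix ι ι F) = c • (1 : Matrix ι ι F) := by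
    intro g hg
    have hgK : (g : Matrix ι ι F) ∈ K := mem_of_commute_field (hcr ▸ hK) fun k hk =>
      (commute_centreOf (hKsub k hk) (coe_mem_alg hg)).symm
    obtain ⟨c, -, hc⟩ := adjQ_of_similitude hQ (hG (hLG hg))
    rw [hself _ hgK] at hc
    have hsq : (g : Matrix ι ι F) * (g : Matrix ι ι F) = c • 1 := by
      nth_rewrite 2 [hc]
      rw [Matrix.mul_smul, ← Units.val_mul, mul_inv_cancel, Units.val_one]
    have hd := congrArg Matrix.det hsq
    rw [det_mul, det_smul, det_one, mul_one] at hd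
    obtain ⟨m, hm⟩ := hn
    rw [hm] at hd
    have hc0 : c ≠ 0 := by
      rintro rfl
      rw [zero_smul] at hsq
      exact (g.isUnit.mul g.isUnit).ne_zero hsq
    set s := (g : Matrix ι ι F).det / c ^ m with hs
    have hs2 : s * s = c := by
      rw [hs, div_mul_div_comm, hd, pow_succ, two_mul, pow_add]
      field_simp
    have hprod : ((g : Matrix ι ι F) - s • 1) * ((g : Matrix ι ι F) + s • 1) = 0 := by
      simp only [sub_mul, mul_add, Matrix.smul_mul, Matrix.mul_smul, one_mul, mul_one, smul_smul, hsq, hs2]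
      module
    by_cases h0 : (g : Matrix ι ι F) - s • 1 = 0
    · exact ⟨s, sub_eq_zero.1 h0⟩
    · obtain ⟨y, hy, hy'⟩ := hK.inv _ (K.sub_mem hgK (K.smul_mem (one_mem K) s)) h0
      have h3 := congrArg (y * ·) hprod
      rw [← mul_assoc, mul_eq_one_comm.1 hy', one_mul, mul_zero] at h3
      exact ⟨-s, by rw [neg_smul]; exact eq_neg_of_add_eq_zero_left h3⟩
  have hbot : alg L ≤ ⊥ := by
    refine Algebra.adjoin_le ?_
    rintro _ ⟨g, hg, rfl⟩
    obtain ⟨c, hc⟩ := hscal g hg
    exact Algebra.mem_bot.2 ⟨c, (Algebra.algebraMap_eq_smul_one c).trans hc.symm⟩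
  have hle : centreOf (alg L) ≤ ⊥ := le_trans inf_le_left hbot
  have := Submodule.finrank_mono (R := F) (Subalgebra.toSubmodule.monotone hle)
  rw [Subalgebra.finrank_toSubmodule, Subalgebra.finrank_toSubmodule, Subalgebra.finrank_bot] at this
  omega

end CfsgLib.Aschbacher.Orth
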