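import Cfsg.Agent.Lib.Aschbacher.OrthOddMain
import Cfsg.Agent.Lib.Aschbacher.OrthNotLe

/-!
Maximal subgroups of `Ω` in odd dimension: each is the intersection with `Ω` of a member of a geometric class, in the
shapes used by the lists, or lies in the residual class.
-/

set_option autoImplicit false
set_option linter.unusedSectionVars false

namespace CfsgLib.Aschbacher.Orth

open Cfsg.Geo Matrix CfsgLib.Classical
open QuadraticMap (polar)
open scoped MatrixGroups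

variable {F : Type*} [Field F] [Fintype F] {m : ℕ}

theorem card_eq_of_decomposition {ι : Type} [Fintype ι] [DecidableEq ι] {t k : ℕ}
    {D : Fin t → Submodule F (ι → F)} (hD : IsMDecomposition k D) : t * k = Fintype.card ι := by
  have h := DirectSum.isInternal_submodule_of_iSupIndep_of_iSup_eq_top hD.indep hD.iSup_eq_top
  have h' := (LinearEquiv.ofBijective (DirectSum.coeLinearMap D) h).finrank_eq
  rw [Module.finrank_directSum, Finset.sum_congr rfl fun i _ => hD.finrank_eq i, Finset.sum_const,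
    Finset.card_univ, Fintype.card_fin, smul_eq_mul, Module.finrank_fintype_fun_eq_card] at h'
  exact h'

/-- A non-degenerate subspace kept by a maximal subgroup: the even-dimensional shape of the lists. -/
theorem even_member (hodd : Odd (Fintype.card F)) (hm : 3 ≤ m) {H : Subgroup (GL (Unit ⊕ (Fin m ⊕ Fin m)) F)}
    (hH : IsMaximalIn (omegaGL (Cfsg.quadFormOdd m F)) H)
    {W : Submodule F (Unit ⊕ (Fin m ⊕ Fin m) → F)} (h0 : W ≠ ⊥) (h1 : W ≠ ⊤)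
    (hnd : IsNondegenerateOn (polar (Cfsg.quadFormOdd m F)) W) (hW : H ≤ subspaceStabilizer W) :
    ∃ U : Submodule F (Unit ⊕ (Fin m ⊕ Fin m) → F), U ≠ ⊥ ∧ Even (Module.finrank F U) ∧
      IsNondegenerateOn (polar (Cfsg.quadFormOdd m F)) U ∧
      ¬ (Fintype.card F = 3 ∧ Module.finrank F U = 2 ∧ IsPlusTypeOn (Cfsg.quadFormOdd m F) U) ∧
      H = subspaceStabilizer U ⊓ omegaGL (Cfsg.quadFormOdd m F) := by
  rw [← qfOdd_coe] at hH hnd ⊢
  have h2 : (2 : F) ≠ 0 := two_ne_zero_of_odd hodd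
  have hQ : ∀ x, (∀ y, polar (qfOdd m F) x y = 0) → x = 0 := qfOdd_sep h2 m
  have hcard : Fintype.card (Unit ⊕ (Fin m ⊕ Fin m)) = 2 * m + 1 := by simp; omega
  have hiso : ∀ g ∈ H, ∀ x, qfOdd m F ((g : Matrix (Unit ⊕ (Fin m ⊕ Fin m)) (Unit ⊕ (Fin m ⊕ Fin m)) F) *ᵥ x) =
      qfOdd m F x := fun g hg => omega_isometry (hH.1.le hg)
  have key : ∀ U : Submodule F (Unit ⊕ (Fin m ⊕ Fin m) → F), U ≠ ⊥ → U ≠ ⊤ → H ≤ subspaceStabilizer U →
      H = subspaceStabilizer U ⊓ omegaGL (⇑(qfOdd m F)) := fun U a b c =>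
    maximal_eq hH c (omega_not_le_subspaceStabilizer hQ (by omega) a b)
  obtain ⟨U, hU0, hU1, hUnd, hUle, hev⟩ : ∃ U : Submodule F (Unit ⊕ (Fin m ⊕ Fin m) → F), U ≠ ⊥ ∧ U ≠ ⊤ ∧
      IsNondegenerateOn (polar (⇑(qfOdd m F))) U ∧ H ≤ subspaceStabilizer U ∧ Even (Module.finrank F U) := by
    obtain ⟨p0, p1, pnd, ple, psum⟩ := perp_data hQ hiso h0 h1 hnd hW
    rcases Nat.even_or_odd (Module.finrank F W) with he | ⟨a, ha⟩
    · exact ⟨W, h0, h1, hnd, hW, he⟩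
    · exact ⟨_, p0, p1, pnd, ple, m - a, by omega⟩
  by_cases hplus : Fintype.card F = 3 ∧ Module.finrank F U = 2 ∧ IsPlusTypeOn (⇑(qfOdd m F)) U
  swap
  · exact ⟨U, hU0, hev, hUnd, hplus, key U hU0 hU1 hUle⟩
  obtain ⟨hq, hd, hp⟩ := hplus
  obtain ⟨v, hv, hvle⟩ := exists_line_of_plus_plane hq.le hiso hd hUnd hp hUle
  have hv0 : v ≠ 0 := fun h => hv (by rw [h, map_zero])
  have hne : Submodule.span F {v} ≠ ⊥ := by simpa using hv0
  have hnt : Submodule.span F {v} ≠ ⊤ := fun h => by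
    have := congrArg (fun X : Submodule F (Unit ⊕ (Fin m ⊕ Fin m) → F) => Module.finrank F X) h
    simp only [finrank_top, Module.finrank_fintype_fun_eq_card, finrank_span_singleton hv0, hcard] at this
    omega
  obtain ⟨p0, p1, pnd, ple, psum⟩ := perp_data hQ hiso hne hnt (nondegenerateOn_span_singleton h2 hv) hvle
  rw [finrank_span_singleton hv0, hcard] at psum
  exact ⟨_, p0, ⟨m, by omega⟩, pnd, fun h => by omega, key _ p0 p1 ple⟩

/-- The shapes of maximal subgroups in odd dimension. -/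
theorem odd_shapes (hodd : Odd (Fintype.card F)) (hm : 3 ≤ m) {H : Subgroup (GL (Unit ⊕ (Fin m ⊕ Fin m)) F)}
    (hH : IsMaximalIn (omegaGL (Cfsg.quadFormOdd m F)) H) :
    (∃ W : Submodule F (Unit ⊕ (Fin m ⊕ Fin m) → F), W ≠ ⊥ ∧ IsTotallySingularQuad (Cfsg.quadFormOdd m F) W ∧
      H = subspaceStabilizer W ⊓ omegaGL (Cfsg.quadFormOdd m F)) ∨
    (∃ W : Submodule F (Unit ⊕ (Fin m ⊕ Fin m) → F), W ≠ ⊥ ∧ Even (Module.finrank F W) ∧
      IsNondegenerateOn (polar (Cfsg.quadFormOdd m F)) W ∧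
      ¬ (Fintype.card F = 3 ∧ Module.finrank F W = 2 ∧ IsPlusTypeOn (Cfsg.quadFormOdd m F) W) ∧
      H = subspaceStabilizer W ⊓ omegaGL (Cfsg.quadFormOdd m F)) ∨
    ((Fintype.card F).Prime ∧ ∃ D : Fin (2 * m + 1) → Submodule F (Unit ⊕ (Fin m ⊕ Fin m) → F),
      IsOrthogonalMDecomposition (Cfsg.quadFormOdd m F) 1 D ∧
      H = decompositionStabilizer D ⊓ omegaGL (Cfsg.quadFormOdd m F)) ∨
    (∃ (t k : ℕ) (D : Fin t → Submodule F (Unit ⊕ (Fin m ⊕ Fin m) → F)), t * k = 2 * m + 1 ∧ 2 ≤ t ∧ 1 < k ∧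
      IsOrthogonalMDecomposition (Cfsg.quadFormOdd m F) k D ∧
      H = decompositionStabilizer D ⊓ omegaGL (Cfsg.quadFormOdd m F)) ∨
    (∃ (r : ℕ) (K : Subalgebra F (Matrix (Unit ⊕ (Fin m ⊕ Fin m)) (Unit ⊕ (Fin m ⊕ Fin m)) F)), r.Prime ∧
      r ∣ 2 * m + 1 ∧ 2 * m + 1 ≠ r ∧ IsFieldSubalgebra r K ∧
      IsSelfAdjointFor (polar (Cfsg.quadFormOdd m F)) K ∧
      H = subalgebraNormalizer K ⊓ omegaGL (Cfsg.quadFormOdd m F)) ∨
    (∃ (F₀ : Subfield F) (r : ℕ) (P : GL (Unit ⊕ (Fin m ⊕ Fin m)) F), r.Prime ∧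
      Fintype.card F = Nat.card F₀ ^ r ∧ IsQuadFormRationalStructure (Cfsg.quadFormOdd m F) F₀ P ∧
      H = subfieldSubgroup F₀ P ⊓ omegaGL (Cfsg.quadFormOdd m F)) ∨
    (∃ (n₁ n₂ : ℕ) (e : (Unit ⊕ (Fin m ⊕ Fin m)) ≃ Fin n₁ × Fin n₂) (P : GL (Unit ⊕ (Fin m ⊕ Fin m)) F)
      (f₁ : (Fin n₁ → F) → (Fin n₁ → F) → F) (f₂ : (Fin n₂ → F) → (Fin n₂ → F) → F),
      n₁ * n₂ = 2 * m + 1 ∧ 3 ≤ n₁ ∧ n₁ < n₂ ∧ IsSymmetricForm f₁ ∧ IsSymmetricForm f₂ ∧
      IsTensorFormStructure id (polar (Cfsg.quadFormOdd m F)) f₁ f₂ e P ∧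
      H = tensorProductSubgroup n₁ n₂ e P ⊓ omegaGL (Cfsg.quadFormOdd m F)) ∨
    (∃ (k t : ℕ) (e : (Unit ⊕ (Fin m ⊕ Fin m)) ≃ (Fin t → Fin k)) (P : GL (Unit ⊕ (Fin m ⊕ Fin m)) F)
      (f₁ : (Fin k → F) → (Fin k → F) → F), k ^ t = 2 * m + 1 ∧ 3 ≤ k ∧ 2 ≤ t ∧
      ¬ (Fintype.card F = 3 ∧ k = 3) ∧ IsSymmetricForm f₁ ∧
      IsTensorPowerFormStructure id (polar (Cfsg.quadFormOdd m F)) f₁ e P ∧
      H = tensorWreathSubgroup k t e P ⊓ omegaGL (Cfsg.quadFormOdd m F)) ∨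
    InOrthogonalResidualClass H := by
  have h2 : (2 : F) ≠ 0 := two_ne_zero_of_odd hodd
  have hQ : ∀ x, (∀ y, polar (qfOdd m F) x y = 0) → x = 0 := qfOdd_sep h2 m
  have hcard : Fintype.card (Unit ⊕ (Fin m ⊕ Fin m)) = 2 * m + 1 := by simp; omega
  have h7 : 7 ≤ Fintype.card (Unit ⊕ (Fin m ⊕ Fin m)) := by omega
  have hiso : ∀ g ∈ H, ∀ x, Cfsg.quadFormOdd m F
      ((g : Matrix (Unit ⊕ (Fin m ⊕ Fin m)) (Unit ⊕ (Fin m ⊕ Fin m)) F) *ᵥ x) = Cfsg.quadFormOdd m F x := by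
    intro g hg
    have h := hH.1.le hg
    rw [← qfOdd_coe] at h ⊢
    exact omega_isometry h
  have hc : (⇑(qfOdd m F)) = Cfsg.quadFormOdd m F := qfOdd_coe m
  rcases odd_structure hodd (by omega) hiso with ⟨M, hM, hle⟩ | hres
  swap
  · exact Or.inr (Or.inr (Or.inr (Or.inr (Or.inr (Or.inr (Or.inr (Or.inr hres)))))))
  rcases hM with ⟨W, h0, hts, rfl⟩ | ⟨W, h0, h1, hnd, rfl⟩ | ⟨t, k, D, hk, hD, rfl⟩ | ⟨t, D, hq, hD, rfl⟩ |
    ⟨r, K, hr, hne, hK, hself, rfl⟩ | ⟨n₁, n₂, e, P, f₁, f₂, h1, h12, hf₁, hf₂, hs, rfl⟩ |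
    ⟨F₀, r, P, hr, hcF, hP, rfl⟩ | ⟨k, t, e, P, f₁, hk, ht, h33, hf₁, hs, rfl⟩
  · have h1 : W ≠ ⊤ := fun h => by
      have := hts (Pi.single (Sum.inl ()) 1) (h ▸ Submodule.mem_top)
      simp [Cfsg.quadFormOdd] at this
    exact Or.inl ⟨W, h0, hts, maximal_eq hH (hle.trans inf_le_left)
      (hc ▸ omega_not_le_subspaceStabilizer hQ h7 h0 h1)⟩
  · exact Or.inr (Or.inl (even_member hodd hm hH h0 h1 hnd (hle.trans inf_le_left)))
  · have ht := card_eq_of_decomposition hD.decomp.decomp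
    rw [hcard] at ht
    exact Or.inr (Or.inr (Or.inr (Or.inl ⟨t, k, D, ht, hD.decomp.decomp.two_le, hk, hD,
      maximal_eq hH (hle.trans inf_le_left) (hc ▸ omega_not_le_decompositionStabilizer hQ h7 hD.decomp.decomp)⟩)))
  · have ht := card_eq_of_decomposition hD.decomp.decomp
    rw [hcard, mul_one] at ht
    subst ht
    exact Or.inr (Or.inr (Or.inl ⟨hq, D, hD,
      maximal_eq hH (hle.trans inf_le_left) (hc ▸ omega_not_le_decompositionStabilizer hQ h7 hD.decomp.decomp)⟩))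
  · have hdvd : r ∣ 2 * m + 1 := hK.finrank_eq ▸ hcard ▸ finrank_dvd_card hK.comm hK.inv
    exact Or.inr (Or.inr (Or.inr (Or.inr (Or.inl ⟨r, K, hr, hdvd, hne, hK, hself,
      maximal_eq hH (hle.trans inf_le_left) (hc ▸ omega_not_le_subalgebraNormalizer hQ h7 hr.two_le hK)⟩))))
  · have hn : n₁ * n₂ = 2 * m + 1 := by rw [← hcard, Fintype.card_congr e]; simp
    exact Or.inr (Or.inr (Or.inr (Or.inr (Or.inr (Or.inr (Or.inl ⟨n₁, n₂, e, P, f₁, f₂, hn, h1, h12, hf₁, hf₂, hs,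
      maximal_eq hH (hle.trans inf_le_left) (hc ▸ omega_not_le_tensorProductSubgroup hQ h7 h1 h12 e P)⟩))))))
  · have hF₀ : F₀ ≠ ⊤ := fun h => by
      rw [h, Nat.card_congr Subfield.topEquiv.toEquiv, Nat.card_eq_fintype_card] at hcF
      exact absurd (Nat.pow_right_injective (Fintype.one_lt_card : 1 < Fintype.card F)
        (hcF.symm.trans (pow_one _).symm)) hr.one_lt.ne'
    exact Or.inr (Or.inr (Or.inr (Or.inr (Or.inr (Or.inl ⟨F₀, r, P, hr, hcF, hP,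
      maximal_eq hH (hle.trans inf_le_left) (hc ▸ omega_not_le_subfieldSubgroup hQ h7 hF₀ P)⟩)))))
  · have hn : k ^ t = 2 * m + 1 := by rw [← hcard, Fintype.card_congr e]; simp
    exact Or.inr (Or.inr (Or.inr (Or.inr (Or.inr (Or.inr (Or.inr (Or.inl ⟨k, t, e, P, f₁, hn, hk, ht, h33, hf₁, hs,
      maximal_eq hH (hle.trans inf_le_left) (hc ▸ omega_not_le_tensorWreathSubgroup hQ h7 hk ht e P)⟩)))))))

end CfsgLib.Aschbacher.Orth
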