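import Cfsg.Agent.Lib.Aschbacher.OrthMove
import Cfsg.Agent.Lib.MaxSub.OmegaElem

set_option autoImplicit false
set_option linter.unusedSectionVars false

/-!
Subgroups of an orthogonal group keeping a subspace: a totally singular, a non-degenerate, or, in characteristic two,
a non-singular invariant line.
-/

namespace CfsgLib.Aschbacher

open CfsgLib.Classical CfsgLib.Geom CfsgLib.MaxSub Cfsg.Geo Matrix
open QuadraticMap (polar)
open scoped MatrixGroups

variable {F : Type*} [Field F] [Fintype F] {ι : Type} [Fintype ι] [DecidableEq ι]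
variable {Q : QuadraticForm F (ι → F)}

theorem nondegenerateOn_iff {W : Submodule F (ι → F)} :
    IsNondegenerateOn (polar (⇑Q)) W ↔ IsoSemi.ND (QuadraticMap.polarBilin Q) W := by
  refine ⟨fun h u hu h0 => ?_, fun h w hw hw0 => ?_⟩
  · by_contra hne
    obtain ⟨x, hx, hxu⟩ := (h u hu hne).2
    exact hxu (h0 x hx)
  · have hex : ∃ x ∈ W, polar Q w x ≠ 0 := by
      by_contra hno
      push Not at hno
      exact hw0 (h w hw hno)
    obtain ⟨x, hx, hxw⟩ := hex
    exact ⟨⟨x, hx, by rwa [QuadraticMap.polar_comm]⟩, ⟨x, hx, hxw⟩⟩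

theorem two_eq_zero_of_not_odd (h : ¬ Odd (Fintype.card F)) : (2 : F) = 0 := by
  by_contra h2
  refine h ?_
  rw [Nat.odd_iff]
  exact FiniteField.odd_card_of_char_ne_two fun hc => h2 (by
    have : CharP F 2 := ringChar.eq_iff.1 hc
    exact_mod_cast CharP.cast_eq_zero F 2)

variable (hQ : ∀ x, (∀ y, polar Q x y = 0) → x = 0)
include hQ

/-- The three kinds of invariant subspaces. -/
theorem reducible_cases {H : Subgroup (GL ι F)} (hH : ∀ g ∈ H, ∀ x, Q ((g : Matrix ι ι F) *ᵥ x) = Q x)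
    {W₀ : Submodule F (ι → F)} (h0 : W₀ ≠ ⊥) (h1 : W₀ ≠ ⊤) (hW₀ : H ≤ subspaceStabilizer W₀) :
    (∃ W : Submodule F (ι → F), W ≠ ⊥ ∧ IsTotallySingularQuad (⇑Q) W ∧ H ≤ subspaceStabilizer W) ∨
    (∃ W : Submodule F (ι → F), W ≠ ⊥ ∧ W ≠ ⊤ ∧ IsNondegenerateOn (polar (⇑Q)) W ∧ H ≤ subspaceStabilizer W) ∨
    ((2 : F) = 0 ∧ ∃ v, Q v ≠ 0 ∧ H ≤ subspaceStabilizer (Submodule.span F {v})) := by
  by_cases hR : W₀ ⊓ polPerp Q W₀ = ⊥
  · refine Or.inr (Or.inl ⟨W₀, h0, h1, nondegenerateOn_iff.2 ?_, hW₀⟩)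
    exact (IsoSemi.nd_iff (geom_polarBilin hQ)).2 hR
  set R := W₀ ⊓ polPerp Q W₀
  have hRinv : H ≤ subspaceStabilizer R := fun g hg => mem_subspaceStabilizer_of_maps fun x hx =>
    ⟨maps_of_mem_subspaceStabilizer (hW₀ hg) hx.1,
      maps_of_mem_subspaceStabilizer (mem_stabilizer_polPerp (hH g hg) (hW₀ hg)) hx.2⟩
  have hpol : ∀ u ∈ R, ∀ v ∈ R, polar Q u v = 0 := fun u hu v hv => hv.2 u hu.1
  by_cases h2 : (2 : F) = 0
  swap
  · refine Or.inl ⟨R, hR, fun w hw => ?_, hRinv⟩
    have := hpol w hw w hw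
    rw [polar_self_two, mul_eq_zero] at this
    exact this.resolve_left h2
  by_cases hz : ∃ x ∈ R, x ≠ 0 ∧ Q x = 0
  · have hadd : ∀ {x y : ι → F}, x ∈ R ∧ Q x = 0 → y ∈ R ∧ Q y = 0 → x + y ∈ R ∧ Q (x + y) = 0 := by
      rintro x y ⟨hx, hQx⟩ ⟨hy, hQy⟩
      refine ⟨add_mem hx hy, ?_⟩
      have := hpol x hx y hy
      rwa [QuadraticMap.polar, hQx, hQy, sub_zero, sub_zero] at this
    let R₀ : Submodule F (ι → F) :=
      { carrier := {x | x ∈ R ∧ Q x = 0}
        add_mem' := hadd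
        zero_mem' := ⟨zero_mem _, map_zero Q⟩
        smul_mem' := fun c x hx => ⟨R.smul_mem c hx.1, by rw [quad_smul, hx.2, mul_zero]⟩ }
    refine Or.inl ⟨R₀, ?_, fun w hw => hw.2, fun g hg => mem_subspaceStabilizer_of_maps fun x hx =>
      ⟨maps_of_mem_subspaceStabilizer (hRinv hg) hx.1, (hH g hg x).trans hx.2⟩⟩
    obtain ⟨x, hx, hx0, hQx⟩ := hz
    exact fun h => hx0 ((Submodule.eq_bot_iff _).1 h x ⟨hx, hQx⟩)
  push Not at hz
  obtain ⟨v, hv, hv0⟩ := R.exists_mem_ne_zero_of_ne_bot hR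
  have hRv : R = Submodule.span F {v} := by
    refine le_antisymm (fun a ha => ?_) ((Submodule.span_singleton_le_iff_mem v R).2 hv)
    obtain ⟨r, hr⟩ := isSquare_of_two_eq_zero h2 (Q a / Q v)
    have hQ0 : Q (a + r • v) = 0 := by
      have hp := hpol a ha (r • v) (R.smul_mem r hv)
      rw [QuadraticMap.polar, sub_eq_zero, sub_eq_iff_eq_add] at hp
      rw [hp, quad_smul]
      have : Q a = r ^ 2 * Q v := by
        rw [sq, ← hr, div_mul_cancel₀]; exact hz v hv hv0
      rw [this]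
      linear_combination r ^ 2 * Q v * h2
    by_cases he : a + r • v = 0
    · rw [eq_neg_of_add_eq_zero_left he]
      exact neg_mem (Submodule.smul_mem _ _ (Submodule.mem_span_singleton_self v))
    · exact absurd hQ0 (hz _ (add_mem ha (R.smul_mem r hv)) he)
  exact Or.inr (Or.inr ⟨h2, v, hz v hv hv0, hRv ▸ hRinv⟩)

theorem nondegenerateOn_polPerp {W : Submodule F (ι → F)} (hW : IsNondegenerateOn (polar (⇑Q)) W) :
    IsNondegenerateOn (polar (⇑Q)) (polPerp Q W) :=
  nondegenerateOn_iff.2 (IsoSemi.nd_perp (geom_polarBilin hQ) (nondegenerateOn_iff.1 hW))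

/-- The orthogonal of a proper non-degenerate subspace is again one, with the same stabiliser. -/
theorem perp_data {H : Subgroup (GL ι F)} (hH : ∀ g ∈ H, ∀ x, Q ((g : Matrix ι ι F) *ᵥ x) = Q x)
    {W : Submodule F (ι → F)} (h0 : W ≠ ⊥) (h1 : W ≠ ⊤) (hnd : IsNondegenerateOn (polar (⇑Q)) W)
    (hW : H ≤ subspaceStabilizer W) :
    polPerp Q W ≠ ⊥ ∧ polPerp Q W ≠ ⊤ ∧ IsNondegenerateOn (polar (⇑Q)) (polPerp Q W) ∧
      H ≤ subspaceStabilizer (polPerp Q W) ∧
      Module.finrank F (polPerp Q W) + Module.finrank F W = Fintype.card ι := by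
  have hd := finrank_polPerp hQ W
  have hlt : Module.finrank F W < Fintype.card ι := by
    rw [← Module.finrank_fintype_fun_eq_card F]; exact Submodule.finrank_lt h1
  have hpos : 0 < Module.finrank F W :=
    Nat.pos_of_ne_zero fun h => h0 (Submodule.finrank_eq_zero.1 h)
  refine ⟨fun h => ?_, fun h => ?_, nondegenerateOn_polPerp hQ hnd,
    fun g hg => mem_stabilizer_polPerp (hH g hg) (hW hg), hd⟩
  · rw [h, finrank_bot] at hd; omega
  · rw [h, finrank_top, Module.finrank_fintype_fun_eq_card] at hd; omega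

omit hQ in
/-- In characteristic two non-degenerate subspaces have even dimension. -/
theorem even_finrank_of_nondegenerateOn (h2 : (2 : F) = 0) {W : Submodule F (ι → F)}
    (hW : IsNondegenerateOn (polar (⇑Q)) W) : Even (Module.finrank F W) := by
  refine OmegaElem.even_finrank_of_alt ((QuadraticMap.polarBilin Q).compl₁₂ W.subtype W.subtype) (fun w => ?_) (fun x hx => ?_)
  · show polar Q (w : ι → F) (w : ι → F) = 0
    rw [polar_self_two, h2, zero_mul]
  · exact Subtype.ext (nondegenerateOn_iff.1 hW x.1 x.2 fun y hy => hx ⟨y, hy⟩)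

omit hQ in
/-- A non-singular vector spans a non-degenerate line in odd characteristic. -/
theorem nondegenerateOn_span_singleton (h2 : (2 : F) ≠ 0) {v : ι → F} (hv : Q v ≠ 0) :
    IsNondegenerateOn (polar (⇑Q)) (Submodule.span F {v}) := by
  intro w hw hw0
  obtain ⟨a, rfl⟩ := Submodule.mem_span_singleton.1 hw
  have ha : a ≠ 0 := fun h => hw0 (by rw [h, zero_smul])
  have key : polar Q (a • v) v ≠ 0 := by
    rw [QuadraticMap.polar_smul_left, polar_self_two, smul_eq_mul]
    exact mul_ne_zero ha (mul_ne_zero h2 hv)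
  exact ⟨⟨v, Submodule.mem_span_singleton_self v, by rwa [QuadraticMap.polar_comm]⟩,
    ⟨v, Submodule.mem_span_singleton_self v, key⟩⟩

omit hQ in
/-- For `|F| ≤ 3` the stabiliser of a hyperbolic plane fixes a non-singular line. -/
theorem exists_line_of_plus_plane (hq : Fintype.card F ≤ 3) {H : Subgroup (GL ι F)}
    (hH : ∀ g ∈ H, ∀ x, Q ((g : Matrix ι ι F) *ᵥ x) = Q x) {W : Submodule F (ι → F)}
    (hd : Module.finrank F W = 2) (hnd : IsNondegenerateOn (polar (⇑Q)) W) (hplus : IsPlusTypeOn (⇑Q) W)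
    (hW : H ≤ subspaceStabilizer W) :
    ∃ v, Q v ≠ 0 ∧ H ≤ subspaceStabilizer (Submodule.span F {v}) := by
  obtain ⟨U, hUW, hUQ, hUd⟩ := hplus
  obtain ⟨u, hu, hu0⟩ := U.exists_mem_ne_zero_of_ne_bot (fun h => by rw [h, finrank_bot] at hUd; omega)
  have hQu : Q u = 0 := hUQ u hu
  obtain ⟨z, hz, huz⟩ := (hnd u (hUW hu) hu0).2
  set p := polar Q u z with hp
  set w := z - (Q z / p) • u with hw
  have hwW : w ∈ W := sub_mem hz (W.smul_mem _ (hUW hu))
  have huu : polar Q u u = 0 := by rw [polar_self_two, hQu, mul_zero]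
  have huw : polar Q u w = p := by
    rw [hw, QuadraticMap.polar_sub_right, QuadraticMap.polar_smul_right, huu, smul_zero, sub_zero]
  have hQw : Q w = 0 := by
    rw [hw, sub_eq_add_neg, ← neg_smul, quad_map_add_smul, hQu, QuadraticMap.polar_comm, ← hp]
    field_simp
    ring
  have hspan : Submodule.span F {u, w} = W := by
    refine Submodule.eq_of_le_of_finrank_eq ?_ ?_
    · rw [Submodule.span_le]; intro x hx
      rcases hx with rfl | rfl
      exacts [hUW hu, hwW]
    · have hli : LinearIndependent F ![u, w] := by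
        rw [LinearIndependent.pair_iff' hu0]
        intro a ha
        rw [← ha, QuadraticMap.polar_smul_right, huu, smul_zero] at huw
        exact huz huw.symm
      rw [hd, ← Matrix.range_cons_cons_empty u w ![], finrank_span_eq_card hli, Fintype.card_fin]
  have hv : ∀ a b : F, Q (a • u + b • w) = a * b * p := fun a b => by
    rw [quad_map_add_smul, quad_smul, hQu, hQw, QuadraticMap.polar_smul_left, huw, smul_eq_mul]
    ring
  refine ⟨u + p⁻¹ • w, ?_, fun g hg => mem_subspaceStabilizer_of_maps fun x hx => ?_⟩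
  · have := hv 1 p⁻¹
    rw [one_smul, one_mul, inv_mul_cancel₀ huz] at this
    rw [this]; exact one_ne_zero
  have hvW : u + p⁻¹ • w ∈ W := add_mem (hUW hu) (W.smul_mem _ hwW)
  obtain ⟨c, rfl⟩ := Submodule.mem_span_singleton.1 hx
  have him := maps_of_mem_subspaceStabilizer (hW hg) hvW
  rw [← hspan, Submodule.mem_span_pair] at him
  obtain ⟨a, b, hab⟩ := him
  rw [mulVec_smul, ← hab]
  refine Submodule.smul_mem _ _ (Submodule.mem_span_singleton.2 ⟨a, ?_⟩)
  have hval : a * b * p = 1 := by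
    rw [← hv, hab, hH g hg]
    have := hv 1 p⁻¹
    rwa [one_smul, one_mul, inv_mul_cancel₀ huz] at this
  have ha : a ≠ 0 := by rintro rfl; simp at hval
  have ha2 : a * a = 1 := by
    have h := FiniteField.pow_card_sub_one_eq_one a ha
    have h2 : 1 < Fintype.card F := Fintype.one_lt_card
    rcases (by omega : Fintype.card F - 1 = 1 ∨ Fintype.card F - 1 = 2) with he | he
    · rw [he, pow_one] at h; rw [h, one_mul]
    · rwa [he, sq] at h
  rw [smul_add, smul_smul]
  congr 2
  field_simp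
  linear_combination (-a) * hval + (b * p) * ha2

end CfsgLib.Aschbacher
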