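import Cfsg.Agent.Lib.Aschbacher.OrthDecomp
import Cfsg.Agent.Lib.Aschbacher.OrthReducible

/-!
A transitive system of idempotents paired by the adjoint: totally singular members, a totally singular half, and the
orthogonal decomposition into the sums of the pairs.
-/

set_option autoImplicit false
set_option linter.unusedSectionVars false

namespace CfsgLib.Aschbacher.Orth

open Cfsg.Geo Matrix CfsgLib.Classical CfsgLib.Geom
open QuadraticMap (polar)
open scoped MatrixGroups

variable {ι : Type} [Fintype ι] [DecidableEq ι] {F : Type*} [Field F] [Fintype F]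
variable {Q : QuadraticForm F (ι → F)} (hQ : ∀ x, (∀ y, polar Q x y = 0) → x = 0)
include hQ

/-- Self-adjoint idempotents give an orthogonal decomposition, any algebra. -/
theorem orthDecomp_of_fixed {H : Subgroup (GL ι F)}
    (hH : ∀ g ∈ H, ∀ x, Q ((g : Matrix ι ι F) *ᵥ x) = Q x) {A : Subalgebra F (Matrix ι ι F)} {t : ℕ}
    {E : Fin t → Matrix ι ι F} (hE : IsIdemSystem (H ⊔ scalars ι F) A E) (hfix : ∀ i, adjQ Q (E i) = E i) :
    ∃ m, IsOrthogonalMDecomposition (⇑Q) m (idemSpace E) ∧ H ≤ decompositionStabilizer (idemSpace E) := by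
  obtain ⟨m, hm⟩ := hE.isMDecomposition
  refine ⟨m, ⟨⟨hm, fun i w hw hw0 => ?_, fun i j hij u hu v hv => ?_⟩, fun i j => ?_⟩,
    le_sup_left.trans hE.le_stabilizer⟩
  · obtain ⟨x, hx⟩ : ∃ x, polar Q w x ≠ 0 := by
      by_contra hno
      push Not at hno
      exact hw0 (hQ w hno)
    have hx' : polar Q w (E i *ᵥ x) ≠ 0 := by
      have h := polar_mulVec_left hQ (E i) w x
      rw [hfix, (mem_idemSpace hE.idem).1 hw] at h
      rwa [← h]
    have hm' : E i *ᵥ x ∈ idemSpace E i := ⟨x, Matrix.toLin'_apply _ _⟩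
    exact ⟨⟨_, hm', by rwa [QuadraticMap.polar_comm]⟩, ⟨_, hm', hx'⟩⟩
  · rw [← (mem_idemSpace hE.idem).1 hu, polar_mulVec_left hQ, hfix, ← (mem_idemSpace hE.idem).1 hv,
      mulVec_mulVec, hE.orth i j hij, zero_mulVec, QuadraticMap.polar_zero_right]
  · obtain ⟨g, hg, hgij⟩ := hE.trans i j
    obtain ⟨h, hh, z, hz, rfl⟩ := Subgroup.mem_sup_of_normal_right.1 hg
    have hz' : cj z (E i) = E i := by
      obtain ⟨c, hc⟩ := (mem_scalars_iff z).1 hz
      rw [cj_eq_self_iff, hc]
      exact (Commute.one_left _).smul_left _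
    rw [cj_mul, hz'] at hgij
    have hmap : (idemSpace E i).map (Matrix.toLin' (h : Matrix ι ι F)) = idemSpace E j := by
      unfold idemSpace
      rw [map_range_toLin', hgij]
    have hinj : Function.Injective (Matrix.toLin' (h : Matrix ι ι F)) := fun a b e => by
      have := congrArg (((h⁻¹ : GL ι F) : Matrix ι ι F) *ᵥ ·) e
      simpa [mulVec_mulVec, ← Units.val_mul] using this
    refine ⟨(Submodule.equivMapOfInjective _ hinj _).trans (LinearEquiv.ofEq _ _ hmap), fun w => ?_⟩
    show Q ((h : Matrix ι ι F) *ᵥ (w : ι → F)) = _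
    exact hH h hh _

/-- A member paired with another one by the adjoint is totally singular. -/
theorem paired_singular {G L : Subgroup (GL ι F)} (hG : G ≤ quadSimilarityGroup (⇑Q)) (hLG : L ≤ G) {t : ℕ}
    {E : Fin t → Matrix ι ι F} (hE : IsIdemSystem G (alg L) E) {i j : Fin t} (hij : adjQ Q (E i) = E j)
    (hne : i ≠ j) : IsTotallySingularQuad (⇑Q) (idemSpace E i) := by
  intro w hw
  have hfix : ∀ x ∈ idemSpace E i, E i *ᵥ x = x := fun x hx => (mem_idemSpace hE.idem).1 hx
  have hpol : ∀ x ∈ idemSpace E i, ∀ y ∈ idemSpace E i, polar Q x y = 0 := fun x hx y hy => by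
    rw [← hfix x hx, polar_mulVec_left hQ, hij, ← hfix y hy, mulVec_mulVec, hE.orth j i (Ne.symm hne),
      zero_mulVec, QuadraticMap.polar_zero_right]
  by_cases h2 : (2 : F) = 0
  swap
  · have := hpol w hw w hw
    rw [polar_self_two, mul_eq_zero] at this
    exact this.resolve_left h2
  have main : ∀ y ∈ alg L, (∀ x ∈ idemSpace E i, y *ᵥ x ∈ idemSpace E i ∧ adjQ Q y *ᵥ x ∈ idemSpace E i) ∧
      ∃ a : F, Q (y *ᵥ w) = a * a * Q w ∧ Q (adjQ Q y *ᵥ w) = a * a * Q w ∧
        ∀ x ∈ idemSpace E i, Q (y *ᵥ x) = a * a * Q x ∧ Q (adjQ Q y *ᵥ x) = a * a * Q x := by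
    have hmem : ∀ y ∈ alg L, ∀ x ∈ idemSpace E i, y *ᵥ x ∈ idemSpace E i := fun y hy x hx => by
      rw [mem_idemSpace hE.idem, mulVec_mulVec, hE.central i y hy, ← mulVec_mulVec, hfix x hx]
    have hmem' : ∀ y ∈ alg L, ∀ x ∈ idemSpace E i, adjQ Q y *ᵥ x ∈ idemSpace E i := fun y hy =>
      hmem _ (adjQ_mem_alg hQ ((hLG.trans hG).trans quadSimilarityGroup_le_similarityGroup) hy)
    intro y hy
    refine ⟨fun x hx => ⟨hmem y hy x hx, hmem' y hy x hx⟩, ?_⟩
    suffices h : ∃ a : F, ∀ x ∈ idemSpace E i, Q (y *ᵥ x) = a * a * Q x ∧ Q (adjQ Q y *ᵥ x) = a * a * Q x by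
      obtain ⟨a, ha⟩ := h
      exact ⟨a, (ha w hw).1, (ha w hw).2, ha⟩
    induction hy using Algebra.adjoin_induction with
    | mem y hy =>
      obtain ⟨g, hg, rfl⟩ := hy
      obtain ⟨c, hc⟩ := (hLG.trans hG) hg
      obtain ⟨d, hd0, hd⟩ := adjQ_of_similitude hQ (quadSimilarityGroup_le_similarityGroup ((hLG.trans hG) hg))
      obtain ⟨a, ha⟩ := isSquare_of_two_eq_zero h2 (c : F)
      refine ⟨a, fun x hx => ⟨by rw [hc, ha], ?_⟩⟩
      have hdc : d = c := by
        have hex : ∃ u v : ι → F, polar Q u v ≠ 0 := by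
          by_contra hno
          push Not at hno
          exact hE.ne_zero i (Matrix.ext_of_mulVec_single fun k => by
            rw [zero_mulVec]; exact hQ _ fun v => hno _ v)
        obtain ⟨u, v, huv⟩ := hex
        have h1 : polar Q ((g : Matrix ι ι F) *ᵥ u) ((g : Matrix ι ι F) *ᵥ v) = d * polar Q u v := by
          rw [polar_mulVec_left hQ, hd, smul_mulVec, mulVec_mulVec, ← Units.val_mul, inv_mul_cancel, Units.val_one,
            one_mulVec, QuadraticMap.polar_smul_right, smul_eq_mul]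
        refine mul_right_cancel₀ huv ?_
        rw [← h1]
        simp only [QuadraticMap.polar, ← mulVec_add, hc]
        ring
      have h3 := hc (((g⁻¹ : GL ι F) : Matrix ι ι F) *ᵥ x)
      rw [mulVec_mulVec, ← Units.val_mul, mul_inv_cancel, Units.val_one, one_mulVec] at h3
      rw [hd, smul_mulVec, QuadraticMap.map_smul, smul_eq_mul, hdc, h3, ← ha]
      ring
    | algebraMap c =>
      refine ⟨c, fun x _ => ?_⟩
      rw [Algebra.algebraMap_eq_smul_one, adjQ_smul, adjQ_one hQ, smul_mulVec, one_mulVec, QuadraticMap.map_smul,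
        smul_eq_mul]
      exact ⟨rfl, rfl⟩
    | add y z hy hz ihy ihz =>
      obtain ⟨a, ha⟩ := ihy
      obtain ⟨b, hb⟩ := ihz
      refine ⟨a + b, fun x hx => ?_⟩
      rw [adjQ_add, add_mulVec, add_mulVec, QuadraticMap.map_add Q, QuadraticMap.map_add Q,
        hpol _ (hmem y hy x hx) _ (hmem z hz x hx), hpol _ (hmem' y hy x hx) _ (hmem' z hz x hx), (ha x hx).1,
        (hb x hx).1, (ha x hx).2, (hb x hx).2]
      constructor <;> linear_combination -(a * b * Q x) * h2
    | mul y z hy hz ihy ihz =>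
      obtain ⟨a, ha⟩ := ihy
      obtain ⟨b, hb⟩ := ihz
      refine ⟨a * b, fun x hx => ⟨?_, ?_⟩⟩
      · rw [← mulVec_mulVec, (ha _ (hmem z hz x hx)).1, (hb x hx).1]; ring
      · rw [adjQ_mul hQ, ← mulVec_mulVec, (hb _ (hmem' y hy x hx)).2, (ha x hx).2]; ring
  obtain ⟨-, a, h1, h2', -⟩ := main (E i) (hE.mem i)
  have hj0 : E j *ᵥ w = 0 := by rw [← hfix w hw, mulVec_mulVec, hE.orth j i (Ne.symm hne), zero_mulVec]
  rw [hfix w hw] at h1
  rw [hij, hj0, map_zero, ← h1] at h2'
  exact h2'.symm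

/-- A fixed-point-free adjoint pairing forces plus type. -/
theorem plusType_of_paired {G L : Subgroup (GL ι F)} (hG : G ≤ quadSimilarityGroup (⇑Q)) (hLG : L ≤ G) {t : ℕ}
    {E : Fin t → Matrix ι ι F} (hE : IsIdemSystem G (alg L) E) {π : Equiv.Perm (Fin t)}
    (hπ : ∀ i, adjQ Q (E i) = E (π i)) (hππ : ∀ i, π (π i) = i) (hno : ∀ i, π i ≠ i) :
    IsPlusTypeOn (⇑Q) ⊤ := by
  classical
  let S : Finset (Fin t) := Finset.univ.filter fun i => i < π i
  have hts : ∀ i, IsTotallySingularQuad (⇑Q) (idemSpace E i) := fun i =>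
    paired_singular hQ hG hLG hE (hπ i) (hno i).symm
  let P : Finset (Fin t) → Matrix ι ι F := fun T => ∑ i ∈ T, E i
  have hsing : ∀ T : Finset (Fin t), (∀ i ∈ T, ∀ j ∈ T, π i ≠ j) → ∀ v, Q (P T *ᵥ v) = 0 := by
    intro T
    induction T using Finset.induction_on with
    | empty => intro _ v; simp [P]
    | insert a T ha ih =>
      intro hT v
      have hPT := ih (fun i hi j hj => hT i (Finset.mem_insert_of_mem hi) j (Finset.mem_insert_of_mem hj)) v
      have hp : polar Q (E a *ᵥ v) (P T *ᵥ v) = 0 := by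
        rw [polar_mulVec_left hQ, hπ, mulVec_mulVec, Finset.mul_sum, Finset.sum_eq_zero fun j hj =>
          hE.orth (π a) j (hT a (Finset.mem_insert_self a T) j (Finset.mem_insert_of_mem hj)), zero_mulVec,
          QuadraticMap.polar_zero_right]
      simp only [P, Finset.sum_insert ha, add_mulVec] at hp ⊢
      rw [QuadraticMap.map_add Q, hts a _ ⟨v, Matrix.toLin'_apply _ _⟩, hPT, hp]
      simp
  have hS : ∀ i, i ∈ S ↔ π i ∉ S := fun i => by
    have := hno i
    simp only [S, Finset.mem_filter, Finset.mem_univ, true_and, hππ]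
    constructor
    · intro h h'; exact lt_asymm h h'
    · intro h; rcases lt_trichotomy i (π i) with h' | h' | h'
      · exact h'
      · exact absurd h'.symm this
      · exact absurd h' h
  have hA : ∀ i ∈ S, ∀ j ∈ S, π i ≠ j := fun i hi j hj h => (hS i).1 hi (h ▸ hj)
  have hB : ∀ i ∈ Sᶜ, ∀ j ∈ Sᶜ, π i ≠ j := fun i hi j hj h => by
    rw [Finset.mem_compl, hS i, not_not] at hi
    rw [Finset.mem_compl] at hj
    exact hj (h ▸ hi)
  let U := LinearMap.range (Matrix.toLin' (P S))
  let U' := LinearMap.range (Matrix.toLin' (P Sᶜ))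
  have hU : ∀ x ∈ U, Q x = 0 := by rintro _ ⟨v, rfl⟩; rw [Matrix.toLin'_apply]; exact hsing S hA v
  have hU' : ∀ x ∈ U', Q x = 0 := by rintro _ ⟨v, rfl⟩; rw [Matrix.toLin'_apply]; exact hsing _ hB v
  have hsup : U ⊔ U' = ⊤ := Submodule.eq_top_iff'.2 fun v => Submodule.mem_sup.2
    ⟨_, ⟨v, rfl⟩, _, ⟨v, rfl⟩, by
      rw [Matrix.toLin'_apply, Matrix.toLin'_apply, ← add_mulVec, Finset.sum_add_sum_compl, hE.sum_one, one_mulVec]⟩
  have hd := Submodule.finrank_sup_add_finrank_inf_eq U U'
  rw [hsup, finrank_top] at hd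
  have hle : ∀ X : Submodule F (ι → F), (∀ x ∈ X, Q x = 0) → 2 * Module.finrank F X ≤ Fintype.card ι := fun X hX => by
    have hXp : X ≤ polPerp Q X := fun x hx => mem_polPerp.2 fun y hy => by
      simp [QuadraticMap.polar, hX _ hy, hX _ hx, hX _ (X.add_mem hy hx)]
    have h1 := Submodule.finrank_mono hXp
    have h2 := finrank_polPerp hQ X
    omega
  have h1 := hle U hU
  have h2 := hle U' hU'
  have h3 := Module.finrank_fintype_fun_eq_card (R := F) (η := ι)
  exact ⟨U, le_top, hU, by rw [finrank_top]; omega⟩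

/-- The sums of the pairs form an orthogonal decomposition with members of plus type. -/
theorem decomp_of_paired {H : Subgroup (GL ι F)} (hH : ∀ g ∈ H, ∀ x, Q ((g : Matrix ι ι F) *ᵥ x) = Q x)
    {L : Subgroup (GL ι F)} (hLG : L ≤ H ⊔ scalars ι F) {t : ℕ} {E : Fin t → Matrix ι ι F}
    (hE : IsIdemSystem (H ⊔ scalars ι F) (alg L) E) {π : Equiv.Perm (Fin t)}
    (hπ : ∀ i, adjQ Q (E i) = E (π i)) (hππ : ∀ i, π (π i) = i) (hno : ∀ i, π i ≠ i) {s : ℕ} (hs : t = 2 * s)
    (hs2 : 2 ≤ s) :
    ∃ (k : ℕ) (D : Fin s → Submodule F (ι → F)), IsOrthogonalMDecomposition (⇑Q) k D ∧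
      (∀ j, IsPlusTypeOn (⇑Q) (D j)) ∧ H ≤ decompositionStabilizer D := by
  classical
  have hG : H ⊔ scalars ι F ≤ quadSimilarityGroup (⇑Q) := sup_scalars_le hH
  let R : Finset (Fin t) := Finset.univ.filter fun i => i < π i
  have hR : ∀ i, i ∈ R ↔ π i ∉ R := fun i => by
    have := hno i
    simp only [R, Finset.mem_filter, Finset.mem_univ, true_and, hππ]
    constructor
    · intro h h'; exact lt_asymm h h'
    · intro h; rcases lt_trichotomy i (π i) with h' | h' | h'
      · exact h'
      · exact absurd h'.symm this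
      · exact absurd h' h
  have hcompl : Rᶜ = R.map π.toEmbedding := by
    ext i
    rw [Finset.mem_compl, Finset.mem_map_equiv, ← Equiv.symm_apply_apply π i]
    constructor
    · intro h
      have h' : π i ∈ R := by_contra fun hn => h (by simpa using (hR i).2 hn)
      simpa [show π.symm i = π i from π.symm_apply_eq.2 (hππ i).symm] using h'
    · intro h h'
      rw [show π.symm (π.symm (π i)) = π i by rw [π.symm_apply_apply]; exact π.symm_apply_eq.2 (hππ i).symm] at h
      exact (hR i).1 (by simpa using h') h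
  have hcard : R.card = s := by
    have h := Finset.card_add_card_compl R
    rw [hcompl, Finset.card_map, Fintype.card_fin] at h
    omega
  let r : Fin s → Fin t := fun j => (R.equivFinOfCardEq hcard).symm j
  have hrR : ∀ j, r j ∈ R := fun j => ((R.equivFinOfCardEq hcard).symm j).2
  have hrinj : Function.Injective r := fun a b h => (R.equivFinOfCardEq hcard).symm.injective (Subtype.ext h)
  have hcov : ∀ i, ∃ j, i = r j ∨ i = π (r j) := fun i => by
    by_cases h : i ∈ R
    · exact ⟨R.equivFinOfCardEq hcard ⟨i, h⟩, Or.inl (by simp [r])⟩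
    · refine ⟨R.equivFinOfCardEq hcard ⟨π i, ?_⟩, Or.inr (by simp [r, hππ])⟩
      by_contra hn
      exact h ((hR i).2 hn)
  let E' : Fin s → Matrix ι ι F := fun j => E (r j) + E (π (r j))
  have hrr : ∀ a b, r a ≠ π (r b) := fun a b h => (hR _).1 (hrR b) (h ▸ hrR a)
  have horth' : ∀ a b, a ≠ b → E' a * E' b = 0 := fun a b hab => by
    have h1 := hrinj.ne hab
    simp only [E', add_mul, mul_add, hE.orth _ _ h1, hE.orth _ _ (hrr a b), hE.orth _ _ (hrr b a).symm,
      hE.orth _ _ (π.injective.ne h1), add_zero]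
  have hidem' : ∀ a, E' a * E' a = E' a := fun a => by
    simp only [E', add_mul, mul_add, hE.idem, hE.orth _ _ (hrr a a), hE.orth _ _ (hrr a a).symm, add_zero, zero_add]
  have hadj' : ∀ a, adjQ Q (E' a) = E' a := fun a => by
    simp only [E', adjQ_add, hπ, hππ]; exact add_comm _ _
  have hperm' : ∀ g ∈ H ⊔ scalars ι F, ∃ σ : Fin s → Fin s, ∀ a, cj g (E' a) = E' (σ a) := fun g hg => by
    have key : ∀ a, ∃ b, cj g (E' a) = E' b := fun a => by
      obtain ⟨p, hp⟩ := hE.perm g hg
      have hp2 : cj g (E (π (r a))) = E (π (p (r a))) := by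
        rw [← hπ, ← adjQ_cj hQ ((hG.trans quadSimilarityGroup_le_similarityGroup) hg), hp, hπ]
      obtain ⟨b, hb⟩ := hcov (p (r a))
      refine ⟨b, ?_⟩
      simp only [E']
      rw [map_add, hp2, hp]
      rcases hb with hb | hb
      · rw [hb]
      · rw [hb, hππ]; exact add_comm _ _
    choose σ hσ using key
    exact ⟨σ, hσ⟩
  have hne' : ∀ a, E' a ≠ 0 := fun a h => hE.ne_zero (r a) (by
    have h1 := congrArg (E (r a) * ·) h
    simpa [E', mul_add, hE.idem, hE.orth _ _ (hrr a a)] using h1)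
  let A : Subalgebra F (Matrix ι ι F) := Algebra.adjoin F (Set.range E')
  have hdiag : ∀ y ∈ A, ∀ a, ∃ c : F, y * E' a = c • E' a ∧ E' a * y = c • E' a := fun y hy => by
    induction hy using Algebra.adjoin_induction with
    | mem y hy =>
      obtain ⟨b, rfl⟩ := hy
      intro a
      by_cases h : b = a
      · subst h; exact ⟨1, by rw [hidem', one_smul], by rw [hidem', one_smul]⟩
      · exact ⟨0, by rw [horth' b a h, zero_smul], by rw [horth' a b (Ne.symm h), zero_smul]⟩
    | algebraMap c => exact fun a => ⟨c, by simp [Algebra.algebraMap_eq_smul_one]⟩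
    | add y z _ _ hy hz =>
      intro a
      obtain ⟨c, h1, h2⟩ := hy a
      obtain ⟨d, h3, h4⟩ := hz a
      exact ⟨c + d, by rw [add_mul, h1, h3, add_smul], by rw [mul_add, h2, h4, add_smul]⟩
    | mul y z _ _ hy hz =>
      intro a
      obtain ⟨c, h1, h2⟩ := hy a
      obtain ⟨d, h3, h4⟩ := hz a
      exact ⟨c * d, by rw [mul_assoc, h3, Matrix.mul_smul, h1, smul_smul, mul_comm],
        by rw [← mul_assoc, h2, Matrix.smul_mul, h4, smul_smul]⟩
  have hsum' : ∑ a, E' a = 1 := by
    rw [← hE.sum_one, ← Finset.sum_add_sum_compl R, hcompl, Finset.sum_map, ← Finset.sum_add_distrib,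
      ← Finset.sum_attach R]
    exact Fintype.sum_equiv (R.equivFinOfCardEq hcard).symm _ _ fun j => rfl
  have hE' : IsIdemSystem (H ⊔ scalars ι F) A E' :=
    { two_le := hs2
      mem := fun a => Algebra.subset_adjoin ⟨a, rfl⟩
      central := fun a y hy => by
        obtain ⟨c, h1, h2⟩ := hdiag y hy a
        rw [h1, h2]
      idem := hidem'
      ne_zero := hne'
      orth := horth'
      sum_one := hsum'
      minimal := fun a f hf _ hff => by
        obtain ⟨c, h1, -⟩ := hdiag f hf a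
        have h3 : (c * c) • E' a = c • E' a := by
          rw [← h1]
          conv_rhs => rw [← hff]
          rw [mul_assoc, h1, Matrix.mul_smul, h1, smul_smul]
        have hc : c * c = c := smul_left_injective _ (hne' a) h3
        rcases eq_or_ne c 0 with h0 | h0
        · exact Or.inl (by rw [h1, h0, zero_smul])
        · exact Or.inr (by rw [h1, mul_left_cancel₀ h0 (hc.trans (mul_one c).symm), one_smul])
      perm := fun g hg => by
        obtain ⟨σ, hσ⟩ := hperm' g hg
        refine ⟨Equiv.ofBijective σ (Finite.injective_iff_bijective.1 fun a b h => ?_), hσ⟩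
        by_contra hab
        have h1 : cj g (E' a) = cj g (E' b) := by rw [hσ, hσ, h]
        have h2 := (cj g).injective h1
        exact hne' a (by rw [← hidem' a]; nth_rewrite 2 [h2]; exact horth' a b hab)
      trans := fun a b => by
        obtain ⟨g, hg, hgab⟩ := hE.trans (r a) (r b)
        refine ⟨g, hg, ?_⟩
        have h2 : cj g (E (π (r a))) = E (π (r b)) := by
          rw [← hπ, ← adjQ_cj hQ ((hG.trans quadSimilarityGroup_le_similarityGroup) hg), hgab, hπ]
        simp only [E', map_add, hgab, h2] }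
  obtain ⟨k, hD, hle⟩ := orthDecomp_of_fixed hQ hH hE' hadj'
  obtain ⟨k₀, hk₀⟩ := hE.isMDecomposition
  refine ⟨k, _, hD, fun j => ?_, hle⟩
  have hsub : ∀ i, (i = r j ∨ i = π (r j)) → idemSpace E i ≤ idemSpace E' j := by
    intro i hi v hv
    rw [mem_idemSpace hidem']
    rw [mem_idemSpace hE.idem] at hv
    rw [← hv, mulVec_mulVec]
    rcases hi with rfl | rfl
    · simp only [E', add_mul, hE.idem, hE.orth _ _ (hrr j j).symm, add_zero]
    · simp only [E', add_mul, hE.idem, hE.orth _ _ (hrr j j), zero_add]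
  refine ⟨idemSpace E (r j), hsub _ (Or.inl rfl), paired_singular hQ hG hLG hE (hπ _) (hno _).symm, ?_⟩
  have hk : s * k = t * k₀ := by rw [card_of_mdecomp hD.decomp.decomp, card_of_mdecomp hk₀]
  rw [hk₀.finrank_eq, hD.decomp.decomp.finrank_eq]
  have h3 : s * k = s * (2 * k₀) := by rw [hk, hs]; ring
  exact (Nat.eq_of_mul_eq_mul_left (by omega) h3).symm
where
  card_of_mdecomp {t k : ℕ} {D : Fin t → Submodule F (ι → F)} (hD : IsMDecomposition k D) :
      t * k = Fintype.card ι := by
    have h := DirectSum.isInternal_submodule_of_iSupIndep_of_iSup_eq_top hD.indep hD.iSup_eq_top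
    have h' := (LinearEquiv.ofBijective (DirectSum.coeLinearMap D) h).finrank_eq
    rw [Module.finrank_directSum, Finset.sum_congr rfl fun i _ => hD.finrank_eq i, Finset.sum_const,
      Finset.card_univ, Fintype.card_fin, smul_eq_mul, Module.finrank_fintype_fun_eq_card] at h'
    exact h'

end CfsgLib.Aschbacher.Orth
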