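import Cfsg.Agent.Lib.Aschbacher.OrthDisc
import Cfsg.Agent.Lib.Aschbacher.Forms

/-!
A group of similitudes with scalar commutators and full matrix algebra: the quadratic form has plus type when half the
dimension is even and the characteristic is odd.
-/

set_option autoImplicit false
set_option linter.unusedSectionVars false

namespace CfsgLib.Aschbacher.Orth

open Cfsg.Geo Matrix CfsgLib.Classical CfsgLib.Geom
open QuadraticMap (polar)
open scoped MatrixGroups

variable {ι : Type} [Fintype ι] [DecidableEq ι] {F : Type*} [Field F] [Fintype F]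
variable {Q : QuadraticForm F (ι → F)}

theorem isSquare_mul_of_not {a b : F} (ha : ¬ IsSquare a) (hb : ¬ IsSquare b) : IsSquare (a * b) := by
  classical
  rcases eq_or_ne a 0 with rfl | ha0
  · simp
  rcases eq_or_ne b 0 with rfl | hb0
  · simp
  rw [← quadraticChar_one_iff_isSquare (mul_ne_zero ha0 hb0), map_mul]
  have hF : ringChar F ≠ 2 := fun h => ha (FiniteField.isSquare_of_char_two h a)
  rw [quadraticChar_neg_one_iff_not_isSquare.2 ha, quadraticChar_neg_one_iff_not_isSquare.2 hb]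
  rfl

omit [Fintype F] in
theorem eq_smul_of_mul_scalar {w v : GL ι F} {c : F} (h : ((w * v : GL ι F) : Matrix ι ι F) = c • 1) :
    (w : Matrix ι ι F) = c • ((v⁻¹ : GL ι F) : Matrix ι ι F) := by
  calc (w : Matrix ι ι F) = ((w * v : GL ι F) : Matrix ι ι F) * ((v⁻¹ : GL ι F) : Matrix ι ι F) := by
        rw [← Units.val_mul, mul_inv_cancel_right]
    _ = _ := by rw [h, Matrix.smul_mul, one_mul]

variable (hQ : ∀ x, (∀ y, polar Q x y = 0) → x = 0)
include hQ

set_option maxHeartbeats 1000000 in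
/-- The symplectic-type case has plus type. -/
theorem plusType_of_scalar_commutators (h2 : (2 : F) ≠ 0) {m : ℕ} (hm : Fintype.card ι = 2 * m) (hm2 : 2 ≤ m)
    (hev : Even m) {R : Subgroup (GL ι F)} (hR : R ≤ similarityGroup (polar (⇑Q)))
    (hcomm : ∀ x ∈ R, ∀ y ∈ R, x * y * x⁻¹ * y⁻¹ ∈ scalars ι F) (halg : alg R = ⊤) :
    IsPlusTypeOn (⇑Q) ⊤ := by
  classical
  have : Nonempty ι := Fintype.card_pos_iff.1 (by omega)
  obtain ⟨i₀⟩ := id this
  obtain ⟨u₀, v₀, huv⟩ : ∃ u v : ι → F, polar Q u v ≠ 0 := by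
    by_contra hno
    push Not at hno
    exact (Pi.single_ne_zero_iff (i := i₀).2 (one_ne_zero : (1 : F) ≠ 0)) (hQ _ fun y => hno _ y)
  have hinj : ∀ {a b : F}, a • (1 : Matrix ι ι F) = b • 1 → a = b := fun h => by
    simpa using congrFun (congrFun h i₀) i₀
  -- commutation up to sign
  have hsign : ∀ x ∈ R, ∀ y ∈ R, ((x : Matrix ι ι F) * (y : Matrix ι ι F) = (y : Matrix ι ι F) * (x : Matrix ι ι F)) ∨
      ((x : Matrix ι ι F) * (y : Matrix ι ι F) = -((y : Matrix ι ι F) * (x : Matrix ι ι F))) := by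
    intro x hx y hy
    obtain ⟨c, hc⟩ := (mem_scalars_iff _).1 (hcomm x hx y hy)
    have hxy : (x : Matrix ι ι F) * (y : Matrix ι ι F) = (c : F) • ((y : Matrix ι ι F) * (x : Matrix ι ι F)) := by
      rw [← Units.val_mul, ← Units.val_mul, ← one_mul ((y * x : GL ι F) : Matrix ι ι F), ← Matrix.smul_mul, ← hc,
        ← Units.val_mul]
      congr 1
      group
    obtain ⟨a, ha⟩ := hR hx
    obtain ⟨b, hb⟩ := hR hy
    have key : (c : F) * (c : F) = 1 := by
      have h1 : polar Q ((x : Matrix ι ι F) *ᵥ ((y : Matrix ι ι F) *ᵥ u₀))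
          ((x : Matrix ι ι F) *ᵥ ((y : Matrix ι ι F) *ᵥ v₀)) = a * (b * polar Q u₀ v₀) := by rw [ha, hb]
      rw [mulVec_mulVec, mulVec_mulVec, hxy, smul_mulVec, smul_mulVec, QuadraticMap.polar_smul_left,
        QuadraticMap.polar_smul_right, ← mulVec_mulVec, ← mulVec_mulVec, hb, ha, smul_eq_mul, smul_eq_mul] at h1
      have hab : (a : F) * (b * polar Q u₀ v₀) ≠ 0 := mul_ne_zero a.ne_zero (mul_ne_zero b.ne_zero huv)
      refine mul_right_cancel₀ hab ?_
      linear_combination h1
    rcases mul_self_eq_one_iff.1 key with h | h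
    · exact Or.inl (by rw [hxy, h, one_smul])
    · exact Or.inr (by rw [hxy, h, neg_one_smul])
  -- squares are scalar
  have hsq : ∀ x ∈ R, ∃ l : F, l ≠ 0 ∧ (x : Matrix ι ι F) * (x : Matrix ι ι F) = l • 1 := by
    intro x hx
    have hc : ∀ y ∈ R, Commute ((x : Matrix ι ι F) * (x : Matrix ι ι F)) (y : Matrix ι ι F) := fun y hy => by
      rcases hsign x hx y hy with h | h
      · exact (Commute.mul_left h h)
      · show _ = _
        rw [mul_assoc, h, mul_neg, ← mul_assoc, h, neg_mul, neg_neg, mul_assoc]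
    obtain ⟨l, hl⟩ := scalar_of_commute halg fun y hy => (hc y hy).symm
    refine ⟨l, fun h0 => ?_, hl⟩
    rw [h0, zero_smul] at hl
    exact (x.isUnit.mul x.isUnit).ne_zero hl
  -- a non-central element with square square
  let Cen : GL ι F → Prop := fun x => ∀ y ∈ R, (x : Matrix ι ι F) * (y : Matrix ι ι F) = (y : Matrix ι ι F) * x
  have hsmallspan : ∀ s : Finset (Matrix ι ι F), s.card ≤ 4 →
      (∀ w ∈ R, (w : Matrix ι ι F) ∈ Submodule.span F (s : Set (Matrix ι ι F))) → False := by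
    intro s hs h
    have hle : Subalgebra.toSubmodule (alg R) ≤ Submodule.span F (s : Set (Matrix ι ι F)) := by
      rw [alg, Algebra.adjoin_eq_span, Submodule.span_le]
      intro z hz
      have hz' : z ∈ matrixSet R := by
        induction hz using Submonoid.closure_induction with
        | mem z hz => exact hz
        | one => exact ⟨1, R.one_mem, rfl⟩
        | mul a b _ _ ha hb =>
          obtain ⟨a, ha, rfl⟩ := ha
          obtain ⟨b, hb, rfl⟩ := hb
          exact ⟨a * b, R.mul_mem ha hb, rfl⟩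
      obtain ⟨w, hw, rfl⟩ := hz'
      exact h w hw
    have h1 := Submodule.finrank_mono hle
    rw [halg, Algebra.top_toSubmodule, finrank_top, Module.finrank_matrix, Module.finrank_self, mul_one, hm] at h1
    have h2 := (finrank_span_finset_le_card (R := F) s).trans hs
    nlinarith [h1.trans h2]
  obtain ⟨x₁, hx₁, hx₁c⟩ : ∃ x ∈ R, ¬ Cen x := by
    by_contra hall
    push Not at hall
    refine hsmallspan {1} (by simp) fun w hw => ?_
    obtain ⟨c, hc⟩ := scalar_of_commute halg (y := (w : Matrix ι ι F)) fun y hy => (hall w hw y hy).symm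
    rw [hc]
    exact Submodule.smul_mem _ _ (Submodule.subset_span (by simp))
  obtain ⟨x, hx, hxc, s, hs0, hxs⟩ : ∃ x ∈ R, ¬ Cen x ∧ ∃ s : F, s ≠ 0 ∧
      (x : Matrix ι ι F) * (x : Matrix ι ι F) = (s * s) • 1 := by
    by_contra hno
    push Not at hno
    have hns : ∀ x ∈ R, ¬ Cen x → ∀ l : F, (x : Matrix ι ι F) * (x : Matrix ι ι F) = l • 1 → ¬ IsSquare l := by
      rintro x hx hxc l hl ⟨s, rfl⟩
      refine hno x hx hxc s (fun h0 => ?_) hl
      rw [h0, mul_zero, zero_smul] at hl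
      exact (x.isUnit.mul x.isUnit).ne_zero hl
    obtain ⟨y, hy, hxy⟩ : ∃ y ∈ R, (x₁ : Matrix ι ι F) * (y : Matrix ι ι F) = -((y : Matrix ι ι F) * x₁) := by
      simp only [Cen, not_forall] at hx₁c
      obtain ⟨y, hy, h⟩ := hx₁c
      exact ⟨y, hy, (hsign x₁ hx₁ y hy).resolve_left h⟩
    obtain ⟨z, hz, hzc, hzx, hzy⟩ : ∃ z ∈ R, ¬ Cen z ∧
        (z : Matrix ι ι F) * (x₁ : Matrix ι ι F) = (x₁ : Matrix ι ι F) * z ∧
        (z : Matrix ι ι F) * (y : Matrix ι ι F) = (y : Matrix ι ι F) * z := by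
      by_contra hnz
      push Not at hnz
      refine hsmallspan {1, (((x₁⁻¹ : GL ι F)) : Matrix ι ι F), (((y⁻¹ : GL ι F)) : Matrix ι ι F),
        ((((x₁ * y)⁻¹ : GL ι F)) : Matrix ι ι F)} Finset.card_le_four fun w hw => ?_
      have hfin : ∀ v ∈ R, (v : Matrix ι ι F) * x₁ = (x₁ : Matrix ι ι F) * v →
          (v : Matrix ι ι F) * y = (y : Matrix ι ι F) * v → ∃ c : F, (v : Matrix ι ι F) = c • 1 := by
        intro v hv h1 h2'
        refine scalar_of_commute halg fun t ht => ?_
        by_contra hne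
        exact hnz v hv (fun hcen => hne (hcen t ht).symm) h1 h2'
      have hmem : ∀ v ∈ R, (∃ c : F, ((w * v : GL ι F) : Matrix ι ι F) = c • 1) →
          ((v⁻¹ : GL ι F) : Matrix ι ι F) ∈ ({1, (((x₁⁻¹ : GL ι F)) : Matrix ι ι F),
            (((y⁻¹ : GL ι F)) : Matrix ι ι F), ((((x₁ * y)⁻¹ : GL ι F)) : Matrix ι ι F)} : Finset (Matrix ι ι F)) →
          (w : Matrix ι ι F) ∈ Submodule.span F (({1, (((x₁⁻¹ : GL ι F)) : Matrix ι ι F),
            (((y⁻¹ : GL ι F)) : Matrix ι ι F),
            ((((x₁ * y)⁻¹ : GL ι F)) : Matrix ι ι F)} : Finset (Matrix ι ι F)) : Set (Matrix ι ι F)) := by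
        rintro v - ⟨c, hc⟩ hv
        rw [eq_smul_of_mul_scalar hc]
        exact Submodule.smul_mem _ _ (Submodule.subset_span hv)
      have hyx : (y : Matrix ι ι F) * x₁ = -((x₁ : Matrix ι ι F) * y) := by rw [hxy, neg_neg]
      rcases hsign w hw x₁ hx₁ with h1 | h1 <;> rcases hsign w hw y hy with h3 | h3
      · obtain ⟨c, hc⟩ := hfin w hw h1 h3
        exact hmem 1 R.one_mem ⟨c, by rw [mul_one]; exact hc⟩ (by simp)
      · refine hmem x₁ hx₁ (hfin _ (R.mul_mem hw hx₁) ?_ ?_) (by simp)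
        · rw [Units.val_mul, ← mul_assoc, h1]
        · rw [Units.val_mul, mul_assoc, hxy, mul_neg, ← mul_assoc, h3, neg_mul, neg_neg, mul_assoc]
      · refine hmem y hy (hfin _ (R.mul_mem hw hy) ?_ ?_) (by simp)
        · rw [Units.val_mul, mul_assoc, hyx, mul_neg, ← mul_assoc, h1, neg_mul, neg_neg, mul_assoc]
        · rw [Units.val_mul, ← mul_assoc, h3]
      · refine hmem (x₁ * y) (R.mul_mem hx₁ hy) (hfin _ (R.mul_mem hw (R.mul_mem hx₁ hy)) ?_ ?_) (by simp)
        · simp only [Units.val_mul]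
          calc (w : Matrix ι ι F) * ((x₁ : Matrix ι ι F) * y) * x₁
              = (w : Matrix ι ι F) * ((x₁ : Matrix ι ι F) * ((y : Matrix ι ι F) * x₁)) := by simp only [mul_assoc]
            _ = -(((w : Matrix ι ι F) * x₁) * ((x₁ : Matrix ι ι F) * y)) := by
                simp only [hyx, mul_neg, mul_assoc]
            _ = (x₁ : Matrix ι ι F) * ((w : Matrix ι ι F) * ((x₁ : Matrix ι ι F) * y)) := by
                rw [h1, neg_mul, neg_neg, mul_assoc]
        · simp only [Units.val_mul]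
          have h3' : (y : Matrix ι ι F) * (w : Matrix ι ι F) = -((w : Matrix ι ι F) * y) := by rw [h3, neg_neg]
          calc (w : Matrix ι ι F) * ((x₁ : Matrix ι ι F) * y) * y
              = (w : Matrix ι ι F) * (((x₁ : Matrix ι ι F) * y) * y) := mul_assoc _ _ _
            _ = -((w : Matrix ι ι F) * (((y : Matrix ι ι F) * x₁) * y)) := by
                simp only [hyx, neg_mul, mul_neg, neg_neg]
            _ = ((y : Matrix ι ι F) * w) * ((x₁ : Matrix ι ι F) * y) := by
                simp only [h3', neg_mul, mul_assoc]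
            _ = _ := mul_assoc _ _ _
    obtain ⟨l₁, hl₁0, hl₁⟩ := hsq x₁ hx₁
    obtain ⟨l₂, -, hl₂⟩ := hsq z hz
    have hxz : ¬ Cen (x₁ * z) := fun hcen => by
      have h := hcen y hy
      rw [Units.val_mul, mul_assoc, hzy, ← mul_assoc, hxy, neg_mul, mul_assoc] at h
      have h0 : (2 : F) • ((y : Matrix ι ι F) * ((x₁ : Matrix ι ι F) * (z : Matrix ι ι F))) = 0 := by
        rw [two_smul]
        exact neg_eq_iff_add_eq_zero.1 h
      exact ((y.isUnit.mul (x₁.isUnit.mul z.isUnit)).ne_zero) ((smul_eq_zero.1 h0).resolve_left h2)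
    refine hns _ (R.mul_mem hx₁ hz) hxz (l₁ * l₂) ?_ (isSquare_mul_of_not (hns x₁ hx₁ hx₁c l₁ hl₁) (hns z hz hzc l₂ hl₂))
    rw [Units.val_mul, mul_assoc, ← mul_assoc (z : Matrix ι ι F), hzx, mul_assoc, hl₂, ← mul_assoc, hl₁,
      Matrix.smul_mul, one_mul, smul_smul]
  obtain ⟨y, hy, hxy⟩ : ∃ y ∈ R, (x : Matrix ι ι F) * (y : Matrix ι ι F) = -((y : Matrix ι ι F) * x) := by
    simp only [Cen, not_forall] at hxc
    obtain ⟨y, hy, h⟩ := hxc
    exact ⟨y, hy, (hsign x hx y hy).resolve_left h⟩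
  obtain ⟨μ, hμ⟩ := hR hx
  obtain ⟨ν, hν⟩ := hR hy
  -- the eigenspaces
  let W : Submodule F (ι → F) := LinearMap.ker (Matrix.toLin' ((x : Matrix ι ι F) - s • 1))
  let W' : Submodule F (ι → F) := LinearMap.ker (Matrix.toLin' ((x : Matrix ι ι F) + s • 1))
  have hW : ∀ u, u ∈ W ↔ (x : Matrix ι ι F) *ᵥ u = s • u := fun u => by
    show Matrix.toLin' _ u = 0 ↔ _
    rw [Matrix.toLin'_apply, sub_mulVec, smul_mulVec, one_mulVec, sub_eq_zero]
  have hW' : ∀ u, u ∈ W' ↔ (x : Matrix ι ι F) *ᵥ u = -(s • u) := fun u => by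
    show Matrix.toLin' _ u = 0 ↔ _
    rw [Matrix.toLin'_apply, add_mulVec, smul_mulVec, one_mulVec, eq_neg_iff_add_eq_zero]
  have h2s : (2 : F) * s ≠ 0 := mul_ne_zero h2 hs0
  have hcompl : IsCompl W W' := by
    refine ⟨disjoint_iff.2 ((Submodule.eq_bot_iff _).2 fun u hu => ?_), codisjoint_iff.2 (top_unique fun u _ => ?_)⟩
    · have e := ((hW u).1 hu.1).symm.trans ((hW' u).1 hu.2)
      have : ((2 : F) * s) • u = 0 := by rw [mul_smul, two_smul]; exact eq_neg_iff_add_eq_zero.1 e
      exact (smul_eq_zero.1 this).resolve_left h2s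
    · refine Submodule.mem_sup.2 ⟨((2 : F) * s)⁻¹ • (s • u + (x : Matrix ι ι F) *ᵥ u), (hW _).2 ?_,
        ((2 : F) * s)⁻¹ • (s • u - (x : Matrix ι ι F) *ᵥ u), (hW' _).2 ?_, ?_⟩
      · rw [mulVec_smul, mulVec_add, mulVec_smul, mulVec_mulVec, hxs, smul_mulVec, one_mulVec]
        module
      · rw [mulVec_smul, mulVec_sub, mulVec_smul, mulVec_mulVec, hxs, smul_mulVec, one_mulVec]
        module
      · rw [← smul_add, add_add_sub_cancel, ← add_smul, ← two_mul, smul_smul, inv_mul_cancel₀ h2s, one_smul]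
  have hyW : ∀ u ∈ W, (y : Matrix ι ι F) *ᵥ u ∈ W' := fun u hu => (hW' _).2 (by
    rw [mulVec_mulVec, hxy, neg_mulVec, ← mulVec_mulVec, (hW u).1 hu, mulVec_smul])
  have hyW' : ∀ u ∈ W', (y : Matrix ι ι F) *ᵥ u ∈ W := fun u hu => (hW _).2 (by
    rw [mulVec_mulVec, hxy, neg_mulVec, ← mulVec_mulVec, (hW' u).1 hu, mulVec_neg, mulVec_smul, neg_neg])
  have hyinj : Function.Injective ((y : Matrix ι ι F) *ᵥ ·) := Matrix.mulVec_injective_iff_isUnit.2 y.isUnit
  let f : W →ₗ[F] W' := LinearMap.codRestrict W' ((Matrix.toLin' (y : Matrix ι ι F)).comp W.subtype) fun u => by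
    simpa using hyW u u.2
  let f' : W' →ₗ[F] W := LinearMap.codRestrict W ((Matrix.toLin' (y : Matrix ι ι F)).comp W'.subtype) fun u => by
    simpa using hyW' u u.2
  have hf : Function.Injective f := fun a b h => Subtype.ext (hyinj (by simpa [f] using congrArg Subtype.val h))
  have hf' : Function.Injective f' := fun a b h => Subtype.ext (hyinj (by simpa [f'] using congrArg Subtype.val h))
  have hdim : Module.finrank F W = m ∧ Module.finrank F W' = m := by
    have h1 := LinearMap.finrank_le_finrank_of_injective hf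
    have h3 := LinearMap.finrank_le_finrank_of_injective hf'
    have h4 := Submodule.finrank_add_eq_of_isCompl hcompl
    rw [Module.finrank_fintype_fun_eq_card, hm] at h4
    omega
  have hμ2 : (μ : F) * μ = s * s * (s * s) := by
    have h := hμ ((x : Matrix ι ι F) *ᵥ u₀) ((x : Matrix ι ι F) *ᵥ v₀)
    rw [hμ u₀ v₀, mulVec_mulVec, mulVec_mulVec, hxs, smul_mulVec, smul_mulVec, one_mulVec, one_mulVec,
      QuadraticMap.polar_smul_left, QuadraticMap.polar_smul_right, smul_eq_mul, smul_eq_mul] at h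
    refine mul_right_cancel₀ huv ?_
    linear_combination -h
  rcases mul_self_eq_mul_self_iff.1 hμ2 with hμs | hμs
  swap
  · refine ⟨W, le_top, fun u hu => ?_, by rw [finrank_top, Module.finrank_fintype_fun_eq_card, hm, hdim.1]⟩
    have h := hμ u u
    rw [(hW u).1 hu, QuadraticMap.polar_smul_left, QuadraticMap.polar_smul_right, hμs, polar_self_two, smul_eq_mul,
      smul_eq_mul] at h
    have h' : (2 : F) * ((s * s) * (2 * Q u)) = 0 := by linear_combination h
    simpa [h2, hs0] using h'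
  · have horth : ∀ u ∈ W, ∀ v ∈ W', polar Q u v = 0 := fun u hu v hv => by
      have h := hμ u v
      rw [(hW u).1 hu, (hW' v).1 hv, QuadraticMap.polar_smul_left, ← neg_smul, QuadraticMap.polar_smul_right, hμs,
        smul_eq_mul, smul_eq_mul] at h
      have h' : (2 : F) * ((s * s) * polar Q u v) = 0 := by linear_combination -h
      simpa [h2, hs0] using h'
    let e : W ≃ₗ[F] W' := LinearEquiv.ofInjectiveOfFinrankEq f hf (hdim.1.trans hdim.2.symm)
    let bW := Module.finBasisOfFinrankEq F W hdim.1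
    let c : Module.Basis (Fin m ⊕ Fin m) F (ι → F) :=
      (bW.prod (bW.map e)).map (Submodule.prodEquivOfIsCompl W W' hcompl)
    let A := LinearMap.toMatrix₂ bW bW (Q.comp W.subtype).polarBilin
    have he : ∀ u : W, ((e u : W') : ι → F) = (y : Matrix ι ι F) *ᵥ (u : ι → F) := fun u => by
      show (Matrix.toLin' (y : Matrix ι ι F)) (u : ι → F) = _
      exact Matrix.toLin'_apply _ _
    have hM : LinearMap.toMatrix₂ c c Q.polarBilin = Matrix.fromBlocks A 0 0 ((ν : F) • A) := by
      ext p q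
      rcases p with i | i <;> rcases q with j | j <;>
        simp only [LinearMap.toMatrix₂_apply, QuadraticMap.polarBilin_apply_apply]
      · simp [c, A, LinearMap.toMatrix₂_apply, QuadraticMap.polar]
      · simpa [c] using horth _ (bW i).2 _ (e (bW j)).2
      · rw [QuadraticMap.polar_comm]
        simpa [c] using horth _ (bW j).2 _ (e (bW i)).2
      · simp only [c, Module.Basis.map_apply, Module.Basis.prod_apply_inr_fst, Module.Basis.prod_apply_inr_snd,
          Submodule.coe_prodEquivOfIsCompl', Matrix.fromBlocks_apply₂₂, Matrix.smul_apply, smul_eq_mul]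
        simp only [Submodule.coe_zero, zero_add, he, hν]
        simp [A, LinearMap.toMatrix₂_apply, QuadraticMap.polar]
    obtain ⟨t, ht, hdet⟩ := det_basis hQ c
    rw [hM, Matrix.det_fromBlocks_zero₁₂, Matrix.det_smul, Fintype.card_fin] at hdet
    refine (plusType_iff_of_square hQ h2 hm ((isSquare_iff_of_sq_mul hdet ht).1 ?_)).2 (Or.inl hev)
    obtain ⟨j, hj⟩ := hev
    exact ⟨(ν : F) ^ j * A.det, by rw [show (ν : F) ^ m = (ν : F) ^ j * (ν : F) ^ j by rw [← pow_add, ← hj]]; ring⟩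

end CfsgLib.Aschbacher.Orth
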