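import Cfsg.Agent.Lib.Aschbacher.OrthReducible
import Cfsg.Agent.Lib.Aschbacher.OrthAdj
import Cfsg.Agent.Lib.MaxSub.IsoType
import Cfsg.Agent.Lib.Geom.PlusType
import Cfsg.Agent.Lib.Geom.MaxTS
import Cfsg.Agent.Lib.KnownC.OrthSpinor

/-!
Plus and minus type for subspaces of an orthogonal space in the vocabulary of the maximal subgroup lists.
-/

set_option autoImplicit false
set_option linter.unusedSectionVars false

namespace CfsgLib.Aschbacher.Orth

open Cfsg.Geo Matrix CfsgLib.Classical CfsgLib.Geom CfsgLib.MaxSub CfsgLib.KnownC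
open QuadraticMap (polar)
open scoped MatrixGroups

variable {ι : Type} [Fintype ι] [DecidableEq ι] {F : Type*} [Field F] [Fintype F]
variable {Q : QuadraticForm F (ι → F)}

theorem plusType_iff_hasHalf {W : Submodule F (ι → F)} : IsPlusTypeOn (⇑Q) W ↔ IsoType.HasHalf Q W :=
  ⟨fun ⟨U, h, hts, hd⟩ => ⟨U, h, hts, hd⟩, fun ⟨U, h, hts, hd⟩ => ⟨U, h, hts, hd⟩⟩

theorem AreIsometricFor.symm' {W W' : Submodule F (ι → F)} (h : AreIsometricFor (⇑Q) W W') :
    AreIsometricFor (⇑Q) W' W := by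
  obtain ⟨e, he⟩ := h
  exact ⟨e.symm, fun w => by rw [← he (e.symm w), e.apply_symm_apply]⟩

/-- Isometric subspaces have the same type. -/
theorem plusType_of_isometric {W W' : Submodule F (ι → F)} (h : AreIsometricFor (⇑Q) W W')
    (hp : IsPlusTypeOn (⇑Q) W) : IsPlusTypeOn (⇑Q) W' := by
  obtain ⟨e, he⟩ := h
  obtain ⟨U, hUW, hts, hd⟩ := hp
  refine ⟨((U.comap W.subtype).map e.toLinearMap).map W'.subtype, Submodule.map_subtype_le W' _, ?_, ?_⟩
  · rintro _ ⟨_, ⟨x, hx, rfl⟩, rfl⟩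
    show Q ((e x : W') : ι → F) = 0
    rw [he]
    exact hts _ hx
  · rw [← (Submodule.equivMapOfInjective W'.subtype W'.injective_subtype _).finrank_eq, LinearEquiv.finrank_map_eq,
      (Submodule.comapSubtypeEquivOfLe hUW).finrank_eq, ← e.finrank_eq, hd]

/-- Subspaces of the same even dimension and the same type are isometric. -/
theorem areIsometricFor_of_type {W W' : Submodule F (ι → F)} (hW : IsNondegenerateOn (polar (⇑Q)) W)
    (hW' : IsNondegenerateOn (polar (⇑Q)) W') {k : ℕ} (hk : Module.finrank F W = 2 * k)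
    (hk' : Module.finrank F W' = 2 * k) (h : IsPlusTypeOn (⇑Q) W ↔ IsPlusTypeOn (⇑Q) W') :
    AreIsometricFor (⇑Q) W W' := by
  rw [plusType_iff_hasHalf, plusType_iff_hasHalf,
    ← IsoType.isPlus_comp_iff (nondegenerateOn_iff.1 hW) hk,
    ← IsoType.isPlus_comp_iff (nondegenerateOn_iff.1 hW') hk'] at h
  rcases OrthType.dichotomy _ (IsoType.sep_comp (nondegenerateOn_iff.1 hW)) hk with hp | ⟨l, rfl, hm⟩
  · obtain ⟨e', he'⟩ := h.1 hp
    obtain ⟨e, he⟩ := hp
    refine ⟨e.symm.trans e', fun w => ?_⟩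
    have h1 := he' (e.symm w)
    have h2 := he (e.symm w)
    rw [e.apply_symm_apply] at h2
    exact h1.trans h2.symm
  · obtain ⟨a, b, hab⟩ := exists_anisotropic_binary (F := F)
    rcases OrthType.dichotomy _ (IsoType.sep_comp (nondegenerateOn_iff.1 hW')) hk' with hp' | ⟨l', hl, hm'⟩
    · exact absurd (h.2 hp') (OrthType.not_plus_of_minus hab (hm a b hab))
    · obtain rfl : l = l' := by omega
      obtain ⟨e, he⟩ := hm a b hab
      obtain ⟨e', he'⟩ := hm' a b hab
      refine ⟨e.symm.trans e', fun w => ?_⟩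
      have h1 := he' (e.symm w)
      have h2 := he (e.symm w)
      rw [e.apply_symm_apply] at h2
      exact h1.trans h2.symm

variable (hQ : ∀ x, (∀ y, polar Q x y = 0) → x = 0)
include hQ

/-- The type of an orthogonal sum. -/
theorem plusType_sup_iff {E R : Submodule F (ι → F)} (hE : IsNondegenerateOn (polar (⇑Q)) E)
    (hR : IsNondegenerateOn (polar (⇑Q)) R) (hER : AreOrthogonalFor (polar (⇑Q)) E R) {k₁ k₂ : ℕ}
    (hk₁ : Module.finrank F E = 2 * k₁) (hk₂ : Module.finrank F R = 2 * k₂) :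
    IsPlusTypeOn (⇑Q) (E ⊔ R) ↔ (IsPlusTypeOn (⇑Q) E ↔ IsPlusTypeOn (⇑Q) R) := by
  simp only [plusType_iff_hasHalf]
  exact IsoType.hasHalf_sum_iff hQ (nondegenerateOn_iff.1 hE) (nondegenerateOn_iff.1 hR)
    (fun r hr e he => hER e he r hr) hk₁ hk₂

theorem sup_polPerp_eq_top {W : Submodule F (ι → F)} (hW : IsNondegenerateOn (polar (⇑Q)) W) :
    W ⊔ polPerp Q W = ⊤ := by
  refine Submodule.eq_top_of_finrank_eq ?_
  have hb : W ⊓ polPerp Q W = ⊥ := (IsoSemi.nd_iff (geom_polarBilin hQ)).1 (nondegenerateOn_iff.1 hW)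
  have h := Submodule.finrank_sup_add_finrank_inf_eq W (polPerp Q W)
  rw [hb, finrank_bot] at h
  have := finrank_polPerp hQ W
  rw [Module.finrank_fintype_fun_eq_card]
  omega

/-- The whole space against a subspace and its orthogonal. -/
theorem plusType_top_iff {W : Submodule F (ι → F)} (hW : IsNondegenerateOn (polar (⇑Q)) W) {m k : ℕ}
    (hm : Fintype.card ι = 2 * m) (hk : Module.finrank F W = 2 * k) :
    IsPlusTypeOn (⇑Q) ⊤ ↔ (IsPlusTypeOn (⇑Q) W ↔ IsPlusTypeOn (⇑Q) (polPerp Q W)) := by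
  have := finrank_polPerp hQ W
  rw [← sup_polPerp_eq_top hQ hW]
  exact plusType_sup_iff hQ hW (nondegenerateOn_polPerp hQ hW) (fun u hu v hv => hv u hu) hk
    (k₂ := m - k) (by omega)

/-- Two orthogonal isometric parts of even dimension make the type plus. -/
theorem plusType_of_isometric_pair {E R : Submodule F (ι → F)} (hE : IsNondegenerateOn (polar (⇑Q)) E)
    (hR : IsNondegenerateOn (polar (⇑Q)) R) (hER : AreOrthogonalFor (polar (⇑Q)) E R) (htop : E ⊔ R = ⊤)
    (hev : Even (Module.finrank F E)) (hiso : AreIsometricFor (⇑Q) E R) : IsPlusTypeOn (⇑Q) ⊤ := by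
  obtain ⟨k, hk⟩ := hev
  obtain ⟨e, -⟩ := id hiso
  rw [← htop]
  exact (plusType_sup_iff hQ hE hR hER (k₁ := k) (k₂ := k) (by omega) (by rw [← e.finrank_eq]; omega)).2
    ⟨plusType_of_isometric hiso, plusType_of_isometric (AreIsometricFor.symm' hiso)⟩

theorem toMatrix_polarBilin_eq_gramQ :
    LinearMap.toMatrix₂ (Pi.basisFun F ι) (Pi.basisFun F ι) Q.polarBilin = gramQ Q := by
  ext i j
  simp [LinearMap.toMatrix₂_apply, gramQ, gramMatrix]

/-- Plus type and the discriminant in odd characteristic. -/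
theorem plusType_iff_square (h2 : (2 : F) ≠ 0) {m : ℕ} (hm : Fintype.card ι = 2 * m) :
    IsPlusTypeOn (⇑Q) ⊤ ↔ IsSquare ((-1 : F) ^ m * (gramQ Q).det) := by
  have hdim : Module.finrank F (ι → F) = 2 * m := by rw [Module.finrank_fintype_fun_eq_card, hm]
  constructor
  · rintro ⟨U, -, hts, hd⟩
    rw [finrank_top, hdim] at hd
    rw [← toMatrix_polarBilin_eq_gramQ hQ]
    exact isSquare_of_totallySingular Q hdim U (by omega) hts (Pi.basisFun F ι)
  · intro h
    rw [← toMatrix_polarBilin_eq_gramQ hQ] at h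
    obtain ⟨U, hd, hts⟩ := exists_totallySingular Q h2 hQ hdim (Pi.basisFun F ι) h
    exact ⟨U, le_top, hts, by rw [finrank_top, hdim, hd]⟩

theorem polarBilin_nondegenerate : Q.polarBilin.Nondegenerate :=
  ⟨fun x hx => hQ x hx, fun y hy => hQ y fun x => by rw [QuadraticMap.polar_comm]; exact hy x⟩

/-- Elements of `Ω` keep the class of a maximal totally singular subspace. -/
theorem omega_parity (h6 : 6 ≤ Fintype.card ι) {m : ℕ} (hm : Fintype.card ι = 2 * m) {U : Submodule F (ι → F)}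
    (hU : Module.finrank F U = m) (hts : IsTotallySingularQuad (⇑Q) U) {g : GL ι F} (hg : g ∈ omegaGL (⇑Q)) :
    Even (m - Module.finrank F (U ⊓ U.map (Matrix.toLin' (g : Matrix ι ι F)) : Submodule F (ι → F))) := by
  obtain ⟨g', hg', rfl⟩ := hg
  have hex : (∃ t : F, t ≠ 0 ∧ t ≠ 1) ∨ Module.finrank F (ι → F) ≠ 4 :=
    Or.inr (by rw [Module.finrank_fintype_fun_eq_card]; omega)
  rw [SetLike.mem_coe, omega_eq_ker_spinorHom Q hQ hex, MonoidHom.mem_ker] at hg'
  exact (spinorHom_fst_iff_parity (splitCtx_of_sep hQ hm ⟨hU, hts⟩ (by omega)) hQ hex g').1 (by rw [hg']; rfl)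

theorem mem_stabilizer_of_map_eq {W : Submodule F (ι → F)} {g : GL ι F}
    (h : W.map (Matrix.toLin' (g : Matrix ι ι F)) = W) : g ∈ subspaceStabilizer W :=
  CfsgLib.MaxSub.mem_subspaceStabilizer_of_maps fun x hx =>
    h.le ⟨x, hx, Matrix.toLin'_apply _ _⟩

omit hQ in
theorem map_finrank (g : GL ι F) (W : Submodule F (ι → F)) :
    Module.finrank F (W.map (Matrix.toLin' (g : Matrix ι ι F))) = Module.finrank F W :=
  (Submodule.equivMapOfInjective _ (fun x y h => by
    simp only [Matrix.toLin'_apply] at h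
    exact Matrix.mulVec_injective_iff_isUnit.2 g.isUnit h) W).finrank_eq.symm

omit hQ in
theorem map_eq_of_mem_stabilizer {W : Submodule F (ι → F)} {g : GL ι F} (h : g ∈ subspaceStabilizer W) :
    W.map (Matrix.toLin' (g : Matrix ι ι F)) = W := by
  refine Submodule.eq_of_le_of_finrank_eq ?_ (map_finrank g W)
  rintro _ ⟨x, hx, rfl⟩
  rw [Matrix.toLin'_apply]
  exact CfsgLib.MaxSub.maps_of_mem_subspaceStabilizer h hx

/-- In plus type the stabiliser in `Ω` of a totally singular subspace of codimension one in the maximal ones keeps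
each maximal one above it. -/
theorem exists_maxTS_above (h6 : 6 ≤ Fintype.card ι) {m : ℕ} (hm : Fintype.card ι = 2 * m)
    (hplus : IsPlusTypeOn (⇑Q) ⊤) {W : Submodule F (ι → F)} (hW : Module.finrank F W + 1 = m)
    (hts : IsTotallySingularQuad (⇑Q) W) :
    ∃ U : Submodule F (ι → F), Module.finrank F U = m ∧ IsTotallySingularQuad (⇑Q) U ∧
      subspaceStabilizer W ⊓ omegaGL (⇑Q) ≤ subspaceStabilizer U := by
  have hdim : Module.finrank F (ι → F) = 2 * m := by rw [Module.finrank_fintype_fun_eq_card, hm]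
  have hnd := polarBilin_nondegenerate hQ
  obtain ⟨U₀, -, hts₀, hd₀⟩ := hplus
  rw [finrank_top, hdim] at hd₀
  obtain ⟨U, X, hU, hX, hWU, hWX, hne⟩ := exists_two_above Q hnd hdim hW hts (U := U₀) ⟨by omega, hts₀⟩
  refine ⟨U, hU.1, hU.2, fun g hg => mem_stabilizer_of_map_eq hQ ?_⟩
  have hiso := omega_isometry hg.2
  have hgU : IsMaxTS Q m (U.map (Matrix.toLin' (g : Matrix ι ι F))) := by
    refine ⟨(map_finrank g U).trans hU.1, ?_⟩
    rintro _ ⟨x, hx, rfl⟩
    rw [Matrix.toLin'_apply, hiso]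
    exact hU.2 x hx
  refine (eq_or_eq_of_above Q hnd hdim hW hU hX hne hWU hWX hgU
    ((map_eq_of_mem_stabilizer hg.1).ge.trans (Submodule.map_mono hWU))).resolve_right fun h => ?_
  have hpar := omega_parity hQ h6 hm hU.1 hU.2 hg.2
  rw [h] at hpar
  have h1 : W ≤ U ⊓ X := le_inf hWU hWX
  have h2 : U ⊓ X ≠ U := fun e =>
    hne (Submodule.eq_of_le_of_finrank_eq (inf_eq_left.1 e) (hU.1.trans hX.1.symm))
  have h3 := Submodule.finrank_mono h1
  have h4 := Submodule.finrank_lt_finrank_of_lt (lt_of_le_of_ne inf_le_left h2 : U ⊓ X < U)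
  have h5 := hU.1
  obtain ⟨j, hj⟩ := hpar
  omega

/-- Complementary maximal totally singular subspaces of odd dimension are not exchanged by `Ω`. -/
theorem omega_not_exchange (h6 : 6 ≤ Fintype.card ι) {m : ℕ} (hm : Fintype.card ι = 2 * m) (ho : Odd m)
    {U U' : Submodule F (ι → F)} (hU : Module.finrank F U = m) (hts : IsTotallySingularQuad (⇑Q) U)
    (hd : U ⊓ U' = ⊥) {g : GL ι F} (hg : g ∈ omegaGL (⇑Q)) :
    U.map (Matrix.toLin' (g : Matrix ι ι F)) ≠ U' := by
  intro h
  have hpar := omega_parity hQ h6 hm hU hts hg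
  rw [h, hd, finrank_bot, Nat.sub_zero] at hpar
  exact Nat.not_even_iff_odd.2 ho hpar

end CfsgLib.Aschbacher.Orth
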