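import Cfsg.Agent.Lib.Aschbacher.OrthFieldLift
import Cfsg.Agent.Lib.Aschbacher.OrthField
import Cfsg.Agent.Lib.Aschbacher.OrthType
import Cfsg.Agent.Lib.KnownA.AltRank

/-!
Quadratic subfields of the matrix algebra closed under the adjoint of a quadratic form.
-/

set_option autoImplicit false
set_option linter.unusedSectionVars false

namespace CfsgLib.Aschbacher.Orth

open Cfsg.Geo Matrix CfsgLib.Classical CfsgLib.Geom
open QuadraticMap (polar)
open scoped MatrixGroups

variable {ι : Type} [Fintype ι] [DecidableEq ι] {F : Type*} [Field F] [Fintype F]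
variable {Q : QuadraticForm F (ι → F)}

omit [Fintype F] in
theorem smul_one_injective [Nonempty ι] {a b : F} (h : a • (1 : Matrix ι ι F) = b • 1) : a = b := by
  obtain ⟨i⟩ := (inferInstance : Nonempty ι)
  simpa using congrFun (congrFun h i) i

omit [Fintype F] in
theorem even_finrank_of_stable [Nonempty ι] [Finite F] {K : Subalgebra F (Matrix ι ι F)} (hK : IsFieldSubalgebra 2 K)
    {S : Submodule F (ι → F)} (h : ∀ k ∈ K, ∀ v ∈ S, k *ᵥ v ∈ S) : Even (Module.finrank F S) := by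
  let _ : Fintype F := Fintype.ofFinite F
  let _ : Field K := (isField_of_subalgebra hK.comm hK.inv).toField
  let _ : Module K (ι → F) :=
    { smul := fun k v => (k : Matrix ι ι F) *ᵥ v
      one_smul := fun v => one_mulVec v
      mul_smul := fun a b v => (mulVec_mulVec v _ _).symm
      smul_zero := fun a => mulVec_zero _
      smul_add := fun a u v => mulVec_add _ u v
      add_smul := fun a b v => add_mulVec _ _ v
      zero_smul := fun v => zero_mulVec v }
  have : IsScalarTower F K (ι → F) := ⟨fun c k v => smul_mulVec c (k : Matrix ι ι F) v⟩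
  let S' : Submodule K (ι → F) :=
    { carrier := S, zero_mem' := S.zero_mem, add_mem' := S.add_mem, smul_mem' := fun k v hv => h k k.2 v hv }
  have e : S'.restrictScalars F = S := SetLike.ext fun _ => Iff.rfl
  have : Module.Free K S' := Module.Free.of_divisionRing K S'
  have h2 := Module.finrank_mul_finrank F K S'
  rw [hK.finrank_eq] at h2
  rw [← e]
  exact ⟨Module.finrank K S', by rw [← two_mul]; exact h2.symm⟩

variable (hQ : ∀ x, (∀ y, polar Q x y = 0) → x = 0)
include hQ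

theorem isSelfAdjointFor_iff {K : Subalgebra F (Matrix ι ι F)} :
    IsSelfAdjointFor (polar (⇑Q)) K ↔ ∀ k ∈ K, adjQ Q k = k := by
  refine ⟨fun h k hk => Matrix.ext_of_mulVec_single fun i => eq_of_forall_polar hQ fun u => ?_,
    fun h k hk u v => by rw [polar_mulVec_left hQ, h k hk]⟩
  rw [← polar_mulVec_left hQ, h k hk]

theorem isAdjointClosedFor_of {K : Subalgebra F (Matrix ι ι F)} (h : ∀ k ∈ K, adjQ Q k ∈ K) :
    IsAdjointClosedFor (polar (⇑Q)) K :=
  fun k hk => ⟨_, h k hk, fun u v => polar_mulVec_left hQ k u v⟩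

/-- In characteristic two a self-adjoint field has even codegree. -/
theorem even_codegree_of_selfAdjoint [Nonempty ι] (h2 : (2 : F) = 0) {r : ℕ} {K : Subalgebra F (Matrix ι ι F)}
    (hK : IsFieldSubalgebra r K) (hs : ∀ k ∈ K, adjQ Q k = k) : ∃ d, Fintype.card ι = r * (2 * d) := by
  let _ : Field K := (isField_of_subalgebra hK.comm hK.inv).toField
  let _ : Module K (ι → F) :=
    { smul := fun k v => (k : Matrix ι ι F) *ᵥ v
      one_smul := fun v => one_mulVec v
      mul_smul := fun a b v => (mulVec_mulVec v _ _).symm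
      smul_zero := fun a => mulVec_zero _
      smul_add := fun a u v => mulVec_add _ u v
      add_smul := fun a b v => add_mulVec _ _ v
      zero_smul := fun v => zero_mulVec v }
  have : IsScalarTower F K (ι → F) := ⟨fun c k v => smul_mulVec c (k : Matrix ι ι F) v⟩
  have : FiniteDimensional F K := Module.Finite.of_finite
  have : Module.Free K (ι → F) := Module.Free.of_divisionRing K (ι → F)
  obtain ⟨d, hd⟩ := Lift.even_finrank_of_two_eq_zero (K := K) Q
    (fun k x y => by show polar Q ((k : Matrix ι ι F) *ᵥ x) y = _; rw [polar_mulVec_left hQ, hs k k.2]; rfl) h2 hQ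
  refine ⟨d, ?_⟩
  have h := Module.finrank_mul_finrank F K (ι → F)
  rw [hK.finrank_eq, hd, Module.finrank_fintype_fun_eq_card] at h
  rw [← h, two_mul]

/-- A quadratic field with a non-trivial adjoint. -/
theorem exists_theta [Nonempty ι] {K : Subalgebra F (Matrix ι ι F)} (hK : IsFieldSubalgebra 2 K)
    (hadj : ∀ k ∈ K, adjQ Q k ∈ K) (hns : ¬ ∀ k ∈ K, adjQ Q k = k) :
    (∀ k ∈ K, adjQ Q k = k → ∃ c : F, k = c • (1 : Matrix ι ι F)) ∧
      ∃ θ ∈ K, adjQ Q θ = 1 - θ ∧ (∀ k ∈ K, ∃ a b : F, k = a • 1 + b • θ) ∧ ¬ ∃ c : F, θ = c • (1 : Matrix ι ι F) := by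
  push Not at hns
  obtain ⟨k₀, hk₀, hne⟩ := hns
  have hk0s : ¬ ∃ c : F, k₀ = c • (1 : Matrix ι ι F) := by
    rintro ⟨c, rfl⟩; exact hne (by rw [adjQ_smul, adjQ_one hQ])
  have basis : ∀ {x : Matrix ι ι F}, x ∈ K → (¬ ∃ c : F, x = c • (1 : Matrix ι ι F)) →
      ∀ k ∈ K, ∃ a b : F, k = a • 1 + b • x := by
    intro x hx hxs k hk
    have hli : LinearIndependent F ![(1 : Matrix ι ι F), x] := by
      rw [LinearIndependent.pair_iff' one_ne_zero]
      exact fun a ha => hxs ⟨a, ha.symm⟩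
    have hsp : Submodule.span F {(1 : Matrix ι ι F), x} = Subalgebra.toSubmodule K := by
      refine Submodule.eq_of_le_of_finrank_eq (Submodule.span_le.2 ?_) ?_
      · intro y hy
        rcases hy with rfl | rfl
        exacts [one_mem K, hx]
      · rw [Subalgebra.finrank_toSubmodule, hK.finrank_eq, ← Matrix.range_cons_cons_empty (1 : Matrix ι ι F) x ![],
          finrank_span_eq_card hli, Fintype.card_fin]
    have hk' : k ∈ Submodule.span F {(1 : Matrix ι ι F), x} := hsp ▸ hk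
    obtain ⟨a, b, hab⟩ := Submodule.mem_span_pair.1 hk'
    exact ⟨a, b, hab.symm⟩
  have hfix : ∀ k ∈ K, adjQ Q k = k → ∃ c : F, k = c • (1 : Matrix ι ι F) := by
    intro k hk hkf
    by_contra hks
    obtain ⟨a, b, hab⟩ := basis hk hks k₀ hk₀
    exact hne (by rw [hab, adjQ_add, adjQ_smul, adjQ_smul, adjQ_one hQ, hkf])
  refine ⟨hfix, ?_⟩
  obtain ⟨t, ht⟩ := hfix (k₀ + adjQ Q k₀) (K.add_mem hk₀ (hadj _ hk₀)) (by
    rw [adjQ_add, adjQ_adjQ hQ, add_comm])
  obtain ⟨θ, hθ, hθa, hθs⟩ : ∃ θ ∈ K, adjQ Q θ = 1 - θ ∧ ¬ ∃ c : F, θ = c • (1 : Matrix ι ι F) := by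
    by_cases ht0 : t = 0
    · rw [ht0, zero_smul, add_eq_zero_iff_eq_neg] at ht
      have h' : adjQ Q k₀ = -k₀ := (neg_eq_iff_eq_neg.2 ht).symm
      have h2 : (2 : F) ≠ 0 := fun h => hne (by
        rw [h']; ext i j
        simp only [Matrix.neg_apply]
        linear_combination (-k₀ i j) * h)
      refine ⟨(2 : F)⁻¹ • 1 + k₀, K.add_mem (K.smul_mem (one_mem K) _) hk₀, ?_, ?_⟩
      · rw [adjQ_add, adjQ_smul, adjQ_one hQ, h']
        have hh : (1 : Matrix ι ι F) = (2 : F)⁻¹ • 1 + (2 : F)⁻¹ • 1 := by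
          rw [← add_smul, show (2 : F)⁻¹ + (2 : F)⁻¹ = 1 by field_simp; norm_num, one_smul]
        nth_rewrite 2 [hh]
        abel
      · rintro ⟨c, hc⟩
        exact hk0s ⟨c - (2 : F)⁻¹, by rw [sub_smul, ← hc]; abel⟩
    · refine ⟨t⁻¹ • k₀, K.smul_mem hk₀ _, ?_, ?_⟩
      · rw [adjQ_smul, eq_sub_iff_add_eq, ← smul_add, add_comm, ht, smul_smul, inv_mul_cancel₀ ht0, one_smul]
      · rintro ⟨c, hc⟩
        exact hk0s ⟨t * c, by rw [mul_smul, ← hc, smul_smul, mul_inv_cancel₀ ht0, one_smul]⟩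
  exact ⟨θ, hθ, hθa, basis hθ hθs, hθs⟩

/-- The norm of a quadratic field with a non-trivial adjoint. -/
theorem adj_mul_self_scalar [Nonempty ι] {K : Subalgebra F (Matrix ι ι F)} (hK : IsFieldSubalgebra 2 K)
    (hadj : ∀ k ∈ K, adjQ Q k ∈ K) (hns : ¬ ∀ k ∈ K, adjQ Q k = k) {k : Matrix ι ι F} (hk : k ∈ K) :
    ∃ c : F, adjQ Q k * k = c • (1 : Matrix ι ι F) :=
  (exists_theta hQ hK hadj hns).1 _ (K.mul_mem (hadj k hk) hk) (by
    rw [adjQ_mul hQ, adjQ_adjQ hQ])

/-- For an irreducible group the form is the norm form of the quadratic field. -/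
theorem quad_eq_polar_theta [Nonempty ι] (hn : 2 ≤ Fintype.card ι) {H : Subgroup (GL ι F)}
    (hH : ∀ g ∈ H, ∀ x, Q ((g : Matrix ι ι F) *ᵥ x) = Q x) (hirr : ActsIrreducibly (matrixSet H))
    {K : Subalgebra F (Matrix ι ι F)} (hK : IsFieldSubalgebra 2 K) (hadj : ∀ k ∈ K, adjQ Q k ∈ K)
    (hns : ¬ ∀ k ∈ K, adjQ Q k = k) (hle : H ≤ subalgebraNormalizer K) {θ : Matrix ι ι F} (hθ : θ ∈ K)
    (hθa : adjQ Q θ = 1 - θ) (v : ι → F) : Q v = polar Q v (θ *ᵥ v) := by
  obtain ⟨hfix, -⟩ := exists_theta hQ hK hadj hns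
  have hflip : ∀ u w, polar Q u (θ *ᵥ w) + polar Q w (θ *ᵥ u) = polar Q u w := fun u w => by
    rw [QuadraticMap.polar_comm _ w (θ *ᵥ u), polar_mulVec_left hQ, ← QuadraticMap.polar_add_right,
      ← add_mulVec, hθa, add_sub_cancel, one_mulVec]
  let d : (ι → F) → F := fun v => Q v - polar Q v (θ *ᵥ v)
  suffices hd : ∀ v, d v = 0 from sub_eq_zero.1 (hd v)
  have hadd : ∀ u w, d (u + w) = d u + d w := fun u w => by
    simp only [d, QuadraticMap.map_add Q, mulVec_add, QuadraticMap.polar_add_left, QuadraticMap.polar_add_right]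
    linear_combination -(hflip u w)
  have hsm : ∀ (c : F) (w : ι → F), d (c • w) = c * c * d w := fun c w => by
    simp only [d, QuadraticMap.map_smul, mulVec_smul, QuadraticMap.polar_smul_left, QuadraticMap.polar_smul_right,
      smul_eq_mul]
    ring
  by_cases h2 : (2 : F) = 0
  swap
  · intro w
    have h := hadd w w
    rw [← two_smul F w, hsm] at h
    exact (mul_eq_zero.1 (show (2 : F) * d w = 0 by linear_combination h)).resolve_left h2
  have hinv : ∀ g ∈ H, ∀ w, d ((g : Matrix ι ι F) *ᵥ w) = d w := fun g hg w => by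
    have hgs : g ∈ similarityGroup (polar (⇑Q)) := ⟨1, fun u v => by
      rw [Units.val_one, one_mul]; simp only [QuadraticMap.polar, ← mulVec_add, hH g hg]⟩
    set θ' := cj g⁻¹ θ with hθ'
    have hmem : θ' ∈ K := by
      have h := (hle (H.inv_mem hg) θ).1 hθ
      rwa [hθ', cj_apply]
    have hθ'a : adjQ Q θ' = 1 - θ' := by
      rw [hθ', adjQ_cj hQ (inv_mem hgs), hθa, map_sub, map_one]
    obtain ⟨c, hc⟩ := hfix (θ' - θ) (K.sub_mem hmem hθ) (by
      rw [sub_eq_add_neg, adjQ_add, ← neg_one_smul F θ, adjQ_smul, hθ'a, hθa]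
      ext i j
      simp only [Matrix.add_apply, Matrix.sub_apply, Matrix.smul_apply, smul_eq_mul]
      linear_combination (θ i j - θ' i j) * h2)
    have e : θ *ᵥ ((g : Matrix ι ι F) *ᵥ w) = (g : Matrix ι ι F) *ᵥ (θ' *ᵥ w) := by
      rw [hθ', cj_apply, mulVec_mulVec, mulVec_mulVec, inv_inv]
      congr 1
      rw [← mul_assoc, ← mul_assoc, ← Units.val_mul, mul_inv_cancel, Units.val_one, one_mul]
    have e2 : polar Q ((g : Matrix ι ι F) *ᵥ w) ((g : Matrix ι ι F) *ᵥ (θ' *ᵥ w)) = polar Q w (θ' *ᵥ w) := by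
      simp only [QuadraticMap.polar, ← mulVec_add, hH g hg]
    simp only [d]
    rw [e, e2, hH g hg, eq_add_of_sub_eq hc, add_mulVec, smul_mulVec, one_mulVec, QuadraticMap.polar_add_right,
      QuadraticMap.polar_smul_right, polar_self_two, h2, zero_mul, smul_zero, zero_add]
  let Z : Submodule F (ι → F) :=
    { carrier := {w | d w = 0}
      zero_mem' := by simp [d]
      add_mem' := fun {u w} hu hw => by show d _ = 0; rw [hadd, hu, hw, add_zero]
      smul_mem' := fun c w hw => by show d _ = 0; rw [hsm, hw, mul_zero] }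
  rcases hirr Z (by
      rintro _ ⟨g, hg, rfl⟩ _ ⟨w, hw, rfl⟩
      rw [Matrix.toLin'_apply]
      show d _ = 0
      rw [hinv g hg]; exact hw) with hb | hb
  · exfalso
    have hz : ∀ w, d w = 0 → w = 0 := fun w hw => (Submodule.eq_bot_iff Z).1 hb w hw
    obtain ⟨i, j, hij⟩ := Fintype.one_lt_card_iff.1 hn
    set u : ι → F := Pi.single i 1 with hu
    set w : ι → F := Pi.single j 1 with hw
    have hu0 : u ≠ 0 := fun h => by simpa [hu] using congrFun h i
    have hw0 : d w ≠ 0 := fun h => by simpa [hw] using congrFun (hz w h) j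
    obtain ⟨s, hs⟩ := isSquare_of_two_eq_zero h2 (d u / d w)
    have h0 : d (u + s • w) = 0 := by
      rw [hadd, hsm, ← hs, div_mul_cancel₀ _ hw0]
      linear_combination d u * h2
    have := congrFun (hz _ h0) i
    simp [hu, hw, hij] at this
  · exact fun w => (show w ∈ Z from hb ▸ Submodule.mem_top)

/-- The field acts by similarities. -/
theorem field_similarities [Nonempty ι] (hn : 2 ≤ Fintype.card ι) {H : Subgroup (GL ι F)}
    (hH : ∀ g ∈ H, ∀ x, Q ((g : Matrix ι ι F) *ᵥ x) = Q x) (hirr : ActsIrreducibly (matrixSet H))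
    {K : Subalgebra F (Matrix ι ι F)} (hK : IsFieldSubalgebra 2 K) (hadj : ∀ k ∈ K, adjQ Q k ∈ K)
    (hns : ¬ ∀ k ∈ K, adjQ Q k = k) (hle : H ≤ subalgebraNormalizer K) :
    ∀ k ∈ K, ∃ c : F, ∀ v, Q (k *ᵥ v) = c * Q v := by
  obtain ⟨-, θ, hθ, hθa, -, -⟩ := exists_theta hQ hK hadj hns
  intro k hk
  obtain ⟨c, hc⟩ := adj_mul_self_scalar hQ hK hadj hns hk
  refine ⟨c, fun v => ?_⟩
  rw [quad_eq_polar_theta hQ hn hH hirr hK hadj hns hle hθ hθa,
    quad_eq_polar_theta hQ hn hH hirr hK hadj hns hle hθ hθa v, polar_mulVec_left hQ, mulVec_mulVec, mulVec_mulVec,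
    mul_assoc (adjQ Q k) θ k, hK.comm θ hθ k hk, ← mul_assoc, hc, Matrix.smul_mul, one_mul, smul_mulVec,
    QuadraticMap.polar_smul_right, smul_eq_mul]

/-- A norm form of plus type lives in dimension a multiple of four. -/
theorem even_half_of_unitary [Nonempty ι] {m : ℕ} (hm : Fintype.card ι = 2 * m)
    {K : Subalgebra F (Matrix ι ι F)} (hK : IsFieldSubalgebra 2 K) (hadj : ∀ k ∈ K, adjQ Q k ∈ K)
    (hns : ¬ ∀ k ∈ K, adjQ Q k = k) {θ : Matrix ι ι F} (hθ : θ ∈ K) (hθa : adjQ Q θ = 1 - θ)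
    (hθs : ¬ ∃ c : F, θ = c • (1 : Matrix ι ι F)) (hform : ∀ v, Q v = polar Q v (θ *ᵥ v))
    (hplus : IsPlusTypeOn (⇑Q) ⊤) : Even m := by
  obtain ⟨U, -, hts, hd⟩ := hplus
  have hdim : Module.finrank F (ι → F) = 2 * m := by rw [Module.finrank_fintype_fun_eq_card, hm]
  rw [finrank_top, hdim] at hd
  have hUm : Module.finrank F U = m := by omega
  have hperp := tsPerp_maxTS Q (polarBilin_nondegenerate hQ) hdim (U := U) ⟨hUm, hts⟩
  have hUU : ∀ x ∈ U, ∀ y ∈ U, polar Q x y = 0 := fun x hx y hy => polar_eq_zero_of_ts Q hts hx hy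
  let β : U →ₗ[F] U →ₗ[F] F :=
    (QuadraticMap.polarBilin Q).compl₁₂ U.subtype ((Matrix.toLin' θ).comp U.subtype)
  have hβ : ∀ u w : U, β u w = polar Q (u : ι → F) (θ *ᵥ (w : ι → F)) := fun u w => by
    simp [β, LinearMap.compl₁₂_apply]
  have hrange := CfsgLib.KnownA.even_finrank_range_of_alt β fun u => by rw [hβ, ← hform, hts _ u.2]
  have hker : ∀ u : U, u ∈ LinearMap.ker β ↔ θ *ᵥ (u : ι → F) ∈ U := fun u => by
    have hval : ∀ w : U, β u w = -polar Q (θ *ᵥ (u : ι → F)) (w : ι → F) := fun w => by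
      rw [hβ, polar_mulVec_left hQ, hθa, sub_mulVec, one_mulVec,
        QuadraticMap.polar_sub_right, hUU _ u.2 _ w.2, zero_sub, neg_neg]
    rw [LinearMap.mem_ker]
    constructor
    · intro h
      refine hperp.le (mem_tsPerp.2 fun s hs => ?_)
      have := LinearMap.congr_fun h ⟨s, hs⟩
      rw [hval, LinearMap.zero_apply, neg_eq_zero, QuadraticMap.polar_comm] at this
      exact this
    · intro h
      ext w
      rw [hval, hUU _ h _ w.2, neg_zero, LinearMap.zero_apply]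
  obtain ⟨hfix, -⟩ := exists_theta hQ hK hadj hns
  obtain ⟨c, hc⟩ := hfix (θ - θ * θ) (K.sub_mem hθ (K.mul_mem hθ hθ)) (by
    rw [sub_eq_add_neg, adjQ_add, ← neg_one_smul F (θ * θ), adjQ_smul, adjQ_mul hQ, hθa]
    simp only [sub_mul, mul_sub, one_mul, mul_one, smul_sub, neg_one_smul]
    abel)
  have hθθ : θ * θ = θ - c • 1 := by rw [← hc]; abel
  have hspan := (exists_theta hQ hK hadj hns).2
  have hgen : ∀ k ∈ K, ∃ x y : F, k = x • 1 + y • θ := by
    intro k hk
    obtain ⟨θ', hθ', hθ'a, hb', -⟩ := hspan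
    obtain ⟨x, y, hxy⟩ := hb' θ hθ
    have hy : y ≠ 0 := fun h => hθs ⟨x, by rw [hxy, h, zero_smul, add_zero]⟩
    obtain ⟨u, w, huw⟩ := hb' k hk
    refine ⟨u - w / y * x, w / y, ?_⟩
    rw [huw, hxy, smul_add, smul_smul, smul_smul, div_mul_cancel₀ _ hy, sub_smul]
    abel
  have hev : Even (Module.finrank F (LinearMap.ker β)) := by
    rw [(Submodule.equivMapOfInjective U.subtype U.injective_subtype (LinearMap.ker β)).finrank_eq]
    refine even_finrank_of_stable hK fun k hk v hv => ?_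
    obtain ⟨u, hu, rfl⟩ := hv
    obtain ⟨x, y, rfl⟩ := hgen k hk
    have h1 := (hker u).1 hu
    have h2 : θ *ᵥ (θ *ᵥ (u : ι → F)) ∈ U := by
      rw [mulVec_mulVec, hθθ, sub_mulVec, smul_mulVec, one_mulVec]
      exact U.sub_mem h1 (U.smul_mem c u.2)
    refine ⟨⟨x • (u : ι → F) + y • (θ *ᵥ (u : ι → F)), U.add_mem (U.smul_mem x u.2) (U.smul_mem y h1)⟩,
      (hker _).2 ?_, ?_⟩
    · show θ *ᵥ (x • (u : ι → F) + y • (θ *ᵥ (u : ι → F))) ∈ U
      rw [mulVec_add, mulVec_smul, mulVec_smul]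
      exact U.add_mem (U.smul_mem x h1) (U.smul_mem y h2)
    · simp [add_mulVec, smul_mulVec]
  have h := LinearMap.finrank_range_add_finrank_ker β
  rw [hUm] at h
  rw [← h]
  exact hrange.add hev

end CfsgLib.Aschbacher.Orth
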