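import Cfsg.Agent.Lib.Aschbacher.OrthTensorEven
import Cfsg.Agent.Lib.Aschbacher.OrthFieldTwo

/-!
The tensor case with a two-dimensional factor: a totally singular half or a skew operator.
-/

set_option autoImplicit false
set_option linter.unusedSectionVars false

namespace CfsgLib.Aschbacher.Orth

open Cfsg.Geo Matrix CfsgLib.Classical CfsgLib.Geom
open QuadraticMap (polar)
open scoped MatrixGroups Kronecker

variable {ι : Type} [Fintype ι] [DecidableEq ι] {F : Type*} [Field F] [Fintype F]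
variable {d k : ℕ}

omit [Fintype F] in
theorem dot_self_eq_zero {n : Type} [Fintype n] {a : Matrix n n F} (hs : aᵀ = -a)
    (hd : ∀ i, a i i = 0) (x : n → F) : x ⬝ᵥ (a *ᵥ x) = 0 := by
  classical
  simp only [dotProduct, mulVec, Finset.mul_sum]
  rw [← Finset.sum_product']
  refine Finset.sum_involution (fun p _ => (p.2, p.1)) (fun p _ => ?_) (fun p _ hne h => ?_) (fun p _ => by simp)
    (fun p _ => rfl)
  · have h1 := congrFun (congrFun hs p.1) p.2
    rw [transpose_apply, Matrix.neg_apply] at h1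
    show x p.1 * (a p.1 p.2 * x p.2) + x p.2 * (a p.2 p.1 * x p.1) = 0
    rw [h1]; ring
  · refine hne ?_
    have e : p.2 = p.1 := congrArg Prod.fst h
    rw [e, hd, zero_mul, mul_zero]

omit [Fintype F] in
theorem transpose_eq_neg_of_alt {n : Type} [Fintype n] [DecidableEq n] {a : Matrix n n F}
    (h : ∀ x, x ⬝ᵥ (a *ᵥ x) = 0) : aᵀ = -a := by
  ext i j
  have h1 := h (Pi.single i 1 + Pi.single j 1)
  have h2 := h (Pi.single i 1)
  have h3 := h (Pi.single j 1)
  simp only [mulVec_add, add_dotProduct, dotProduct_add, single_dotProduct, one_mul, mulVec_single_one,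
    Matrix.col_apply] at h1 h2 h3
  rw [transpose_apply, Matrix.neg_apply]
  linear_combination h1 - h2 - h3

theorem formOfGram_symplectic {n : Type} [Fintype n] [DecidableEq n] {G : Matrix n n F}
    (h : ∀ x, x ⬝ᵥ (G *ᵥ x) = 0) (hu : IsUnit G) :
    IsSymplecticForm (formOfGram id G) ∧ gramMatrix (formOfGram id G) = G := by
  have hs := transpose_eq_neg_of_alt h
  have hskew : ∀ u v, formOfGram id G u v = -formOfGram id G v u := fun u v => by
    rw [formOfGram_id, formOfGram_id, dotProduct_mulVec, ← mulVec_transpose, hs, neg_mulVec, neg_dotProduct,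
      dotProduct_comm]
  refine ⟨⟨⟨fun x y v => ?_, fun c x v => ?_, fun v x y => ?_, fun c v x => ?_⟩, hskew, fun v => ?_, fun v hv => ?_⟩, ?_⟩
  · simp only [formOfGram_id, add_dotProduct]
  · simp only [formOfGram_id, smul_dotProduct, smul_eq_mul]
  · simp only [formOfGram_id, mulVec_add, dotProduct_add]
  · simp only [formOfGram_id, mulVec_smul, dotProduct_smul, smul_eq_mul]
  · rw [formOfGram_id, h]
  · have h1 : G *ᵥ v ≠ 0 := fun h => hv (Matrix.mulVec_injective_iff_isUnit.2 hu (h.trans (mulVec_zero G).symm))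
    obtain ⟨i, hi⟩ := Function.ne_iff.1 h1
    have h2 : formOfGram id G (Pi.single i 1) v ≠ 0 := by
      rw [formOfGram_id, single_dotProduct, one_mul]; exact hi
    exact ⟨⟨_, h2⟩, ⟨Pi.single i 1, by rw [hskew, neg_ne_zero]; exact h2⟩⟩
  · ext a b
    show formOfGram id G (Pi.single a 1) (Pi.single b 1) = G a b
    simp [formOfGram_id]

variable {Q : QuadraticForm F (ι → F)}

theorem tensorFormStructure_of {e : ι ≃ Fin d × Fin k} {P : GL ι F} {a : Matrix (Fin d) (Fin d) F}
    {b : Matrix (Fin k) (Fin k) F} (hAB : coordGram Q e P = a ⊗ₖ b) {f₁ : (Fin d → F) → (Fin d → F) → F}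
    {f₂ : (Fin k → F) → (Fin k → F) → F} (h₁ : gramMatrix f₁ = a) (h₂ : gramMatrix f₂ = b) :
    IsTensorFormStructure id (polar (⇑Q)) f₁ f₂ e P :=
  ⟨1, one_ne_zero, fun x y => by rw [coordGram_apply, hAB, h₁, h₂, formOfGram_id, one_mul]⟩

variable (hQ : ∀ x, (∀ y, polar Q x y = 0) → x = 0)
include hQ

/-- The factors are both alternating or both symmetric in odd characteristic. -/
theorem tensor_dichotomy {G L : Subgroup (GL ι F)} (hG : G ≤ quadSimilarityGroup (⇑Q)) (hLG : L ≤ G)
    (hirr : ActsIrreducibly (matrixSet G)) (e : ι ≃ Fin d × Fin k) (P : GL ι F) (hd : 2 ≤ d) (hk : 2 ≤ k)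
    (hA : (alg L : Set (Matrix ι ι F)) = Set.range (leftFactor e P)) (hle : G ≤ tensorProductSubgroup d k e P) :
    ∃ (a : Matrix (Fin d) (Fin d) F) (b : Matrix (Fin k) (Fin k) F), IsUnit a ∧ IsUnit b ∧
      coordGram Q e P = a ⊗ₖ b ∧
      (((∀ x, x ⬝ᵥ (a *ᵥ x) = 0) ∧ ∀ y, y ⬝ᵥ (b *ᵥ y) = 0) ∨ ((2 : F) ≠ 0 ∧ aᵀ = a ∧ bᵀ = b)) := by
  have : NeZero d := ⟨by omega⟩
  have : NeZero k := ⟨by omega⟩
  obtain ⟨a, b, hau, hbu, hAB⟩ := coordGram_kronecker hQ e P (fun x => by
    have hx : leftFactor e P x ∈ (alg L : Set _) := hA ▸ ⟨x, rfl⟩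
    have h := adjQ_mem_alg hQ ((hLG.trans hG).trans quadSimilarityGroup_le_similarityGroup) hx
    rw [← SetLike.mem_coe, hA] at h
    obtain ⟨x', hx'⟩ := h
    exact ⟨x', hx'.symm⟩)
  obtain ⟨ε, hε, hat, hbt⟩ := sign_of_kronecker hau hbu (by rw [← hAB, coordGram_symm])
  refine ⟨a, b, hau, hbu, hAB, ?_⟩
  by_cases h2 : (2 : F) = 0
  · left
    have hneg : ∀ x : F, -x = x := fun x => by linear_combination (-x) * h2
    have hε1 : ε = 1 := by
      rcases mul_self_eq_one_iff.1 hε with h | h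
      · exact h
      · rw [h, hneg]
    rw [hε1, one_smul] at hat hbt
    have hna : -a = a := Matrix.ext fun i j => hneg _
    have hnb : -b = b := Matrix.ext fun i j => hneg _
    have hle' : G ≤ tensorProductSubgroup k d (e.trans (Equiv.prodComm _ _)) P :=
      hle.trans (tensorProductSubgroup_le_swap e P)
    exact ⟨dot_self_eq_zero (hat.trans hna.symm) (diag_left_eq_zero e P hAB hau hbu hG hle hirr h2 hd hat),
      dot_self_eq_zero (hbt.trans hnb.symm) (diag_left_eq_zero _ P (coordGram_swap e P hAB) hbu hau hG hle' hirr h2 hk hbt)⟩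
  rcases mul_self_eq_one_iff.1 hε with h | h
  · rw [h, one_smul] at hat hbt; exact Or.inr ⟨h2, hat, hbt⟩
  · rw [h, neg_one_smul] at hat hbt
    refine Or.inl ⟨dot_self_eq_zero hat fun i => ?_, dot_self_eq_zero hbt fun i => ?_⟩
    · have h1 := congrFun (congrFun hat i) i
      rw [transpose_apply, Matrix.neg_apply] at h1
      exact (mul_eq_zero.1 (show (2 : F) * a i i = 0 by linear_combination h1)).resolve_left h2
    · have h1 := congrFun (congrFun hbt i) i
      rw [transpose_apply, Matrix.neg_apply] at h1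
      exact (mul_eq_zero.1 (show (2 : F) * b i i = 0 by linear_combination h1)).resolve_left h2

/-- A two-dimensional factor with a form vanishing on pure tensors gives plus type. -/
theorem plusType_of_pure_null (e : ι ≃ Fin 2 × Fin k) (P : GL ι F) (h : ∀ x y, Q (pureVec e P x y) = 0) :
    IsPlusTypeOn (⇑Q) ⊤ := by
  let f : (Fin k → F) →ₗ[F] (ι → F) :=
    { toFun := fun y => pureVec e P (Pi.single 0 1) y
      map_add' := fun y y' => by
        simp only [pureVec, ← mulVec_add]; congr 1; funext i; simp [mul_add]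
      map_smul' := fun c y => by
        simp only [pureVec, RingHom.id_apply, ← mulVec_smul]; congr 1; funext i; simp [mul_left_comm] }
  have hinj : Function.Injective f := fun y y' hyy => by
    funext j
    have h1 := congrFun (Matrix.mulVec_injective_iff_isUnit.2 P.isUnit hyy) (e.symm (0, j))
    simpa using h1
  refine ⟨LinearMap.range f, le_top, ?_, ?_⟩
  · rintro _ ⟨y, rfl⟩; exact h _ _
  · rw [LinearMap.finrank_range_of_inj hinj, finrank_top, Module.finrank_fintype_fun_eq_card,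
      Module.finrank_fintype_fun_eq_card, Fintype.card_congr e]
    simp

/-- A symmetric two-dimensional factor gives a skew operator. -/
theorem skew_of_sym_two [NeZero k] {G : Subgroup (GL ι F)} (hG : G ≤ quadSimilarityGroup (⇑Q))
    (e : ι ≃ Fin 2 × Fin k) (P : GL ι F) {a : Matrix (Fin 2) (Fin 2) F} {b : Matrix (Fin k) (Fin k) F}
    (hau : IsUnit a) (hbu : IsUnit b) (hAB : coordGram Q e P = a ⊗ₖ b) (has : aᵀ = a)
    (hle : G ≤ tensorProductSubgroup 2 k e P) :
    ∃ (z : Matrix ι ι F) (δ : F), adjQ Q z = -z ∧ z * z = δ • 1 ∧ δ ≠ 0 ∧ ∀ g ∈ G, ∃ μ : F, cj g z = μ • z := by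
  set J : Matrix (Fin 2) (Fin 2) F := !![0, 1; -1, 0] with hJ
  have hJJ : J * J = -1 := by ext i j; fin_cases i <;> fin_cases j <;> simp [hJ, Matrix.mul_apply, Fin.sum_univ_two]
  have hMJ : ∀ M : Matrix (Fin 2) (Fin 2) F, Mᵀ * J * M = M.det • J := fun M => by
    ext i j
    fin_cases i <;> fin_cases j <;>
      simp [hJ, Matrix.mul_apply, Fin.sum_univ_two, Matrix.det_fin_two] <;> ring
  have hd : a.det ≠ 0 := ((Matrix.isUnit_iff_isUnit_det _).1 hau).ne_zero
  have hia : a * a⁻¹ = 1 := Matrix.mul_nonsing_inv _ (isUnit_iff_ne_zero.2 hd)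
  have hai : a⁻¹ * a = 1 := Matrix.nonsing_inv_mul _ (isUnit_iff_ne_zero.2 hd)
  have hais : a⁻¹ᵀ = a⁻¹ := by rw [transpose_nonsing_inv, has]
  have hdi : (a⁻¹).det ≠ 0 := by
    intro h0
    have := congrArg Matrix.det hai
    rw [det_mul, h0, zero_mul, det_one] at this
    exact zero_ne_one this
  set z₀ := a⁻¹ * J with hz₀
  have hz2 : z₀ * z₀ = (-(a⁻¹).det) • 1 := by
    have h := hMJ a⁻¹
    rw [hais] at h
    rw [hz₀, show a⁻¹ * J * (a⁻¹ * J) = (a⁻¹ * J * a⁻¹) * J by simp only [mul_assoc], h, smul_mul, hJJ, smul_neg,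
      neg_smul]
  refine ⟨leftFactor e P z₀, -(a⁻¹).det, ?_, ?_, neg_ne_zero.2 hdi, fun g hg => ?_⟩
  · refine Matrix.ext_of_mulVec_single fun i => eq_of_forall_polar hQ fun u => ?_
    rw [← polar_mulVec_left hQ, neg_mulVec, ← QuadraticMap.polarBilin_apply_apply, ← QuadraticMap.polarBilin_apply_apply,
      map_neg, QuadraticMap.polarBilin_apply_apply, QuadraticMap.polarBilin_apply_apply]
    obtain ⟨X, rfl⟩ := exists_coords e P u
    obtain ⟨Y, hY⟩ := exists_coords e P (Pi.single i 1)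
    rw [← hY, leftFactor_mulVec, leftFactor_mulVec, coordGram_apply, coordGram_apply, hAB]
    set A := z₀ ⊗ₖ (1 : Matrix (Fin k) (Fin k) F) with hA
    have hkey : Aᵀ * (a ⊗ₖ b) = -((a ⊗ₖ b) * A) := by
      rw [hA, ← Matrix.kroneckerMap_transpose, ← Matrix.mul_kronecker_mul, ← Matrix.mul_kronecker_mul, transpose_one,
        one_mul, mul_one, show a * z₀ = J by rw [hz₀, ← mul_assoc, hia, one_mul],
        show z₀ᵀ * a = -J by
          rw [hz₀, transpose_mul, hais, mul_assoc, hai, mul_one]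
          ext i j; fin_cases i <;> fin_cases j <;> simp [hJ]]
      ext p q
      simp
    rw [show (A *ᵥ X) ⬝ᵥ ((a ⊗ₖ b) *ᵥ Y) = X ⬝ᵥ ((Aᵀ * (a ⊗ₖ b)) *ᵥ Y) by
      rw [← mulVec_mulVec, dotProduct_mulVec X Aᵀ, vecMul_transpose], hkey, neg_mulVec, dotProduct_neg,
      mulVec_mulVec]
  · have h : leftFactor e P z₀ * leftFactor e P z₀ = leftFactor e P (z₀ * z₀) := by
      rw [leftFactor_eq, leftFactor_eq, ← map_mul, ← map_mul, ← Matrix.mul_kronecker_mul, one_mul]
    rw [h, hz2, leftFactor_eq, Matrix.smul_kronecker, Matrix.one_kronecker_one, map_smul, map_one, map_smul, map_one]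
  · obtain ⟨u, w, p, r, hp, -, hu, -, huw, -⟩ :=
      tensor_factors e P hAB hau hbu (hle hg) (quadSimilarityGroup_le_similarityGroup (hG hg))
    refine ⟨p / (u : Matrix (Fin 2) (Fin 2) F).det, ?_⟩
    set U := (u : Matrix (Fin 2) (Fin 2) F) with hU
    have hUd : U.det ≠ 0 := ((Matrix.isUnit_iff_isUnit_det _).1 u.isUnit).ne_zero
    have hcomm : U * z₀ = (p / U.det) • (z₀ * U) := by
      have h1 := hMJ U
      have h2 : (Uᵀ * a) * (U * z₀) = (p / U.det) • ((Uᵀ * a) * (z₀ * U)) := by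
        rw [← mul_assoc, hu, smul_mul, hz₀, ← mul_assoc a, hia, one_mul,
          show Uᵀ * a * (a⁻¹ * J * U) = Uᵀ * J * U by simp only [← mul_assoc, Matrix.mul_assoc Uᵀ a, hia, mul_one],
          h1, smul_smul, div_mul_cancel₀ _ hUd]
      have hunit : IsUnit (Uᵀ * a) :=
        ((Matrix.isUnit_transpose (A := U)).2 u.isUnit).mul hau
      rw [← Matrix.mul_smul] at h2
      exact hunit.mul_left_cancel h2
    have hmain : (g : Matrix ι ι F) * leftFactor e P z₀ = (p / U.det) • (leftFactor e P z₀ * (g : Matrix ι ι F)) := by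
      refine Matrix.ext_of_mulVec_single fun i => ?_
      obtain ⟨X, hX⟩ := exists_coords e P (Pi.single i 1)
      rw [← hX, smul_mulVec, ← mulVec_mulVec, ← mulVec_mulVec, leftFactor_mulVec, huw, huw, leftFactor_mulVec,
        ← mulVec_smul, mulVec_mulVec X, mulVec_mulVec X, ← Matrix.mul_kronecker_mul, ← Matrix.mul_kronecker_mul,
        hcomm, one_mul, mul_one, Matrix.smul_kronecker, smul_mulVec]
      rfl
    rw [cj_apply, hmain, smul_mul, mul_assoc, ← Units.val_mul, mul_inv_cancel, Units.val_one, mul_one]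

end CfsgLib.Aschbacher.Orth
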