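import Cfsg.Agent.Lib.Aschbacher.OrthWreath
import Cfsg.Agent.Lib.Aschbacher.OrthDisc
import Cfsg.Agent.Lib.Aschbacher.OrthPureNull

/-!
A tensor cube of planes carrying the polar form: the quadratic form has plus type, in every characteristic.
-/

set_option autoImplicit false
set_option linter.unusedSectionVars false

namespace CfsgLib.Aschbacher.Orth

open Cfsg.Geo Matrix CfsgLib.Classical CfsgLib.Geom
open QuadraticMap (polar)
open scoped MatrixGroups Kronecker

variable {ι : Type} [Fintype ι] [DecidableEq ι] {F : Type*} [Field F] [Fintype F]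

/-- The coordinate vector of a family of factor vectors. -/
def pureCoord {d t : ℕ} (x : Fin t → Fin d → F) : (Fin t → Fin d) → F := fun p => ∏ i, x i (p i)

theorem pureMat_mulVec_coord {d t : ℕ} (u : Fin t → Matrix (Fin d) (Fin d) F) (x : Fin t → Fin d → F) :
    pureMat u *ᵥ pureCoord x = pureCoord fun i => u i *ᵥ x i := by
  ext p
  simp only [mulVec, dotProduct, pureMat, Matrix.of_apply, pureCoord, ← Finset.prod_mul_distrib]
  rw [Fintype.prod_sum]

theorem dotProduct_coord {d t : ℕ} (x y : Fin t → Fin d → F) :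
    pureCoord x ⬝ᵥ pureCoord y = ∏ i, x i ⬝ᵥ y i := by
  simp only [dotProduct, pureCoord, ← Finset.prod_mul_distrib]
  rw [Fintype.prod_sum]

theorem pureCoord_single {d t : ℕ} (p : Fin t → Fin d) :
    pureCoord (fun i => (Pi.single (p i) 1 : Fin d → F)) = Pi.single p 1 := by
  ext q
  rcases eq_or_ne q p with rfl | h
  · simp [pureCoord]
  · obtain ⟨i, hi⟩ := Function.ne_iff.1 h
    rw [Pi.single_eq_of_ne h, pureCoord]
    exact Finset.prod_eq_zero (Finset.mem_univ i) (Pi.single_eq_of_ne hi _)

theorem pureCoord_update {d t : ℕ} (x : Fin t → Fin d → F) (i : Fin t) (v : Fin d → F) (p : Fin t → Fin d) :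
    pureCoord (Function.update x i v) p = v (p i) * ∏ j ∈ Finset.univ.erase i, x j (p j) := by
  rw [pureCoord, ← Finset.mul_prod_erase _ _ (Finset.mem_univ i), Function.update_self]
  congr 1
  exact Finset.prod_congr rfl fun j hj => by rw [Function.update_of_ne (Finset.ne_of_mem_erase hj)]

theorem pureCoord_update_add {d t : ℕ} (x : Fin t → Fin d → F) (i : Fin t) (v w : Fin d → F) :
    pureCoord (Function.update x i (v + w)) =
      pureCoord (Function.update x i v) + pureCoord (Function.update x i w) := by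
  ext p
  simp [pureCoord_update, add_mul]

theorem pureCoord_update_smul {d t : ℕ} (x : Fin t → Fin d → F) (i : Fin t) (c : F) (v : Fin d → F) :
    pureCoord (Function.update x i (c • v)) = c • pureCoord (Function.update x i v) := by
  ext p
  simp [pureCoord_update, mul_assoc]

/-- In characteristic two a symmetric matrix has a diagonal quadratic form. -/
theorem dot_self_eq_sum {n : Type} [Fintype n] [DecidableEq n] (h2 : (2 : F) = 0) {a : Matrix n n F}
    (ha : aᵀ = a) (x : n → F) : x ⬝ᵥ (a *ᵥ x) = ∑ i, x i * x i * a i i := by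
  let f : (n → F) →+ F :=
    { toFun := fun x => x ⬝ᵥ (a *ᵥ x)
      map_zero' := by simp
      map_add' := fun u v => by
        have hs : v ⬝ᵥ (a *ᵥ u) = u ⬝ᵥ (a *ᵥ v) := by
          rw [dotProduct_mulVec, ← mulVec_transpose, ha, dotProduct_comm]
        rw [mulVec_add, add_dotProduct, dotProduct_add, dotProduct_add, hs]
        linear_combination (u ⬝ᵥ (a *ᵥ v)) * h2 }
  calc x ⬝ᵥ (a *ᵥ x) = f (∑ i, Pi.single i (x i)) := by rw [Finset.univ_sum_single]; rfl
    _ = ∑ i, f (Pi.single i (x i)) := map_sum f _ _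
    _ = _ := Finset.sum_congr rfl fun i _ => by
        show Pi.single i (x i) ⬝ᵥ (a *ᵥ Pi.single i (x i)) = _
        simp [mulVec_single, single_dotProduct]
        ring

theorem det_pure_three {a : Fin 3 → Matrix (Fin 2) (Fin 2) F} : IsSquare (pureMat a).det := by
  let ε : (Fin 3 → Fin 2) ≃ Fin 2 × (Fin 2 × Fin 2) :=
    { toFun := fun p => (p 0, p 1, p 2)
      invFun := fun q => ![q.1, q.2.1, q.2.2]
      left_inv := fun p => by ext i; fin_cases i <;> rfl
      right_inv := fun q => rfl }
  have h : (Matrix.reindex ε ε (pureMat a)) = a 0 ⊗ₖ (a 1 ⊗ₖ a 2) := by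
    ext p q
    simp only [Matrix.reindex_apply, Matrix.submatrix_apply, pureMat, Matrix.of_apply, Fin.prod_univ_three,
      Matrix.kroneckerMap_apply]
    exact mul_assoc _ _ _
  rw [← Matrix.det_reindex_self ε, h, Matrix.det_kronecker, Matrix.det_kronecker]
  simp only [Fintype.card_prod, Fintype.card_fin]
  exact ⟨(a 0).det ^ 2 * ((a 1).det ^ 2 * (a 2).det ^ 2), by ring⟩

variable {Q : QuadraticForm F (ι → F)} (hQ : ∀ x, (∀ y, polar Q x y = 0) → x = 0)
include hQ

set_option maxHeartbeats 1000000 in
/-- A tensor cube of planes has plus type. -/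
theorem plusType_of_wreath_eight {G : Subgroup (GL ι F)} (hirr : ActsIrreducibly (matrixSet G))
    (hG : G ≤ quadSimilarityGroup (⇑Q)) (e : ι ≃ (Fin 3 → Fin 2)) (P : GL ι F)
    (hle : G ≤ tensorWreathSubgroup 2 3 e P) {c : F} (hc : c ≠ 0) {a : Fin 3 → Matrix (Fin 2) (Fin 2) F}
    (hau : ∀ i, IsUnit (a i)) (hA : coordGram Q e P = c • pureMat a) : IsPlusTypeOn (⇑Q) ⊤ := by
  classical
  have hn : Fintype.card ι = 2 * 4 := by rw [Fintype.card_congr e]; rfl
  by_cases h2 : (2 : F) = 0
  swap
  · refine (plusType_iff_of_square hQ h2 hn ?_).2 (Or.inl ⟨2, rfl⟩)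
    have h := congrArg Matrix.det hA
    rw [coordGram, Matrix.det_reindex_self, det_mul, det_mul, det_transpose, det_smul] at h
    have hP : (P : Matrix ι ι F).det ≠ 0 := ((Matrix.isUnit_iff_isUnit_det _).1 P.isUnit).ne_zero
    refine (isSquare_sq_mul_iff hP).1 ?_
    rw [show (P : Matrix ι ι F).det * (P : Matrix ι ι F).det * (gramQ Q).det =
      (P : Matrix ι ι F).det * (gramQ Q).det * (P : Matrix ι ι F).det by ring, h]
    exact IsSquare.mul ⟨c ^ 4, by rw [← pow_add]; rfl⟩ det_pure_three
  -- the factors are symmetric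
  have hsym : ∀ i, (a i)ᵀ = a i := by
    intro i
    have h := coordGram_symm (Q := Q) e P
    rw [hA, transpose_smul] at h
    have h' : (pureMat a)ᵀ = pureMat a := smul_right_injective _ hc h
    have hne : ∀ j, ∃ k l, a j k l ≠ 0 := fun j => by
      by_contra hno
      push Not at hno
      exact ((Matrix.isUnit_iff_isUnit_det (a j)).1 (hau j)).ne_zero (det_eq_zero_of_row_eq_zero 0 (hno _))
    choose p q hpq using hne
    have hu : ∏ j ∈ Finset.univ.erase i, a j (p j) (q j) ≠ 0 := Finset.prod_ne_zero_iff.2 fun j _ => hpq j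
    have key : ∀ k l, a i k l * ∏ j ∈ Finset.univ.erase i, a j (p j) (q j) =
        a i l k * ∏ j ∈ Finset.univ.erase i, a j (q j) (p j) := fun k l => by
      have h1 := congrFun (congrFun h' (Function.update q i l)) (Function.update p i k)
      simp only [pureMat, transpose_apply, Matrix.of_apply] at h1
      rw [← Finset.mul_prod_erase _ _ (Finset.mem_univ i), ← Finset.mul_prod_erase _ _ (Finset.mem_univ i),
        Function.update_self, Function.update_self] at h1
      refine Eq.trans ?_ (h1.trans ?_) <;> congr 1 <;>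
        exact Finset.prod_congr rfl fun j hj => by
          rw [Function.update_of_ne (Finset.ne_of_mem_erase hj), Function.update_of_ne (Finset.ne_of_mem_erase hj)]
    ext k l
    rw [transpose_apply]
    have e1 := key k l
    have e2 := key l k
    set u := ∏ j ∈ Finset.univ.erase i, a j (p j) (q j)
    set w := ∏ j ∈ Finset.univ.erase i, a j (q j) (p j)
    by_cases h0 : a i l k = 0
    · rw [h0, zero_mul] at e1
      rw [h0]
      exact ((mul_eq_zero.1 e1).resolve_right hu).symm
    · have h3 : (u - w) * (u + w) * a i l k = 0 := by linear_combination u * e2 + w * e1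
      rcases mul_eq_zero.1 ((mul_eq_zero.1 h3).resolve_right h0) with huw | huw
      · rw [sub_eq_zero] at huw
        exact (mul_right_cancel₀ hu (e1.trans (by rw [huw]))).symm
      · have : u = w := by linear_combination huw - w * h2
        exact (mul_right_cancel₀ hu (e1.trans (by rw [this]))).symm
  -- pure vectors
  let vec : (Fin 3 → Fin 2 → F) → ι → F := fun x => (P : Matrix ι ι F) *ᵥ (pureCoord x ∘ e)
  have hpol : ∀ x y, polar Q (vec x) (vec y) = c * ∏ i, x i ⬝ᵥ (a i *ᵥ y i) := fun x y => by
    rw [coordGram_apply, hA, smul_mulVec, dotProduct_smul, pureMat_mulVec_coord, dotProduct_coord, smul_eq_mul]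
  have hact : ∀ g ∈ G, ∃ (σ : Equiv.Perm (Fin 3)) (u : Fin 3 → GL (Fin 2) F), ∀ x,
      (g : Matrix ι ι F) *ᵥ vec x = vec fun i => ((u (σ.symm i) : Matrix (Fin 2) (Fin 2) F) *ᵥ x (σ.symm i)) := by
    intro g hg
    obtain ⟨_, ⟨z, hz, rfl⟩, rfl⟩ := hle hg
    obtain ⟨σ, u, hu⟩ := exists_factorisation hz
    refine ⟨σ, u, fun x => ?_⟩
    show (P * glReindex e.symm z * P⁻¹ : GL ι F).1 *ᵥ ((P : Matrix ι ι F) *ᵥ _) = _
    rw [mulVec_mulVec, ← Units.val_mul, inv_mul_cancel_right, Units.val_mul, ← mulVec_mulVec]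
    show (P : Matrix ι ι F) *ᵥ _ = (P : Matrix ι ι F) *ᵥ _
    congr 1
    have hperm : ∀ w : (Fin 3 → Fin 2) → F, (permMat σ : Matrix (Fin 3 → Fin 2) (Fin 3 → Fin 2) F) *ᵥ w =
        fun p => w (p ∘ σ) := fun w => by
      ext p
      simp [mulVec, dotProduct, permMat, eq_comm]
    have hz' : (z : Matrix (Fin 3 → Fin 2) (Fin 3 → Fin 2) F) *ᵥ pureCoord x =
        pureCoord fun i => ((u (σ.symm i) : Matrix (Fin 2) (Fin 2) F) *ᵥ x (σ.symm i)) := by
      rw [hu, ← mulVec_mulVec, pureMat_mulVec_coord, hperm]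
      funext p
      simp only [pureCoord, Function.comp_apply]
      exact Fintype.prod_equiv σ _ _ fun i => by simp
    rw [← hz']
    ext j
    simp [glReindex, mulVec, dotProduct]
    exact (Equiv.sum_comp e (fun q => (z : Matrix (Fin 3 → Fin 2) (Fin 3 → Fin 2) F) (e j) q * pureCoord x q)).symm ▸
      rfl
  -- the isotropic factors
  obtain ⟨r, hr⟩ : ∃ r : Fin 3 → Fin 2 → F, ∀ i k, a i k k = r i k * r i k :=
    ⟨fun i k => (isSquare_of_two_eq_zero h2 (a i k k)).choose,
      fun i k => (isSquare_of_two_eq_zero h2 (a i k k)).choose_spec⟩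
  have hiso : ∀ i v, v ⬝ᵥ (a i *ᵥ v) = 0 ↔ v ⬝ᵥ r i = 0 := fun i v => by
    rw [dot_self_eq_sum h2 (hsym i), dotProduct, ← mul_self_eq_zero (a := ∑ k, v k * r i k), Fin.sum_univ_two,
      Fin.sum_univ_two, hr, hr]
    refine Iff.of_eq (congrArg (· = 0) ?_)
    linear_combination -(v 0 * r i 0 * (v 1 * r i 1)) * h2
  let S : Set (ι → F) := vec '' {x | ∀ i, x i ⬝ᵥ (a i *ᵥ x i) = 0}
  have hSinv : ∀ g ∈ G, ∀ s ∈ S, (g : Matrix ι ι F) *ᵥ s ∈ S := by
    rintro g hg _ ⟨x, hx, rfl⟩
    obtain ⟨σ, u, hu⟩ := hact g hg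
    refine ⟨_, ?_, (hu x).symm⟩
    obtain ⟨μ, hμ⟩ := (hG.trans quadSimilarityGroup_le_similarityGroup) hg
    intro i
    obtain ⟨k, rfl⟩ := σ.surjective i
    simp only [Equiv.symm_apply_apply]
    have hb : ∀ j, ∃ y y' : Fin 2 → F, y ⬝ᵥ (a j *ᵥ y') ≠ 0 := fun j => by
      by_contra hno
      push Not at hno
      refine ((Matrix.isUnit_iff_isUnit_det (a j)).1 (hau j)).ne_zero (det_eq_zero_of_row_eq_zero 0 fun l => ?_)
      have := hno (Pi.single 0 1) (Pi.single l 1)
      simpa using this
    choose y y' hy using hb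
    have hw : ∀ j, ∃ w w' : Fin 2 → F, ((u j : Matrix (Fin 2) (Fin 2) F) *ᵥ w) ⬝ᵥ
        (a (σ j) *ᵥ ((u j : Matrix (Fin 2) (Fin 2) F) *ᵥ w')) ≠ 0 := fun j =>
      ⟨((u j)⁻¹ : GL (Fin 2) F).1 *ᵥ y (σ j), ((u j)⁻¹ : GL (Fin 2) F).1 *ᵥ y' (σ j), by
        have hc' : ∀ v : Fin 2 → F, (u j : Matrix (Fin 2) (Fin 2) F) *ᵥ (((u j)⁻¹ : GL (Fin 2) F).1 *ᵥ v) = v :=
          fun v => by rw [mulVec_mulVec, ← Units.val_mul, mul_inv_cancel, Units.val_one, one_mulVec]
        rw [hc', hc']
        exact hy (σ j)⟩
    choose w w' hww using hw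
    by_contra hne
    have h := hμ (vec (Function.update w k (x k))) (vec (Function.update w' k (x k)))
    rw [hu, hu, hpol, hpol] at h
    have hR : ∏ i, Function.update w k (x k) i ⬝ᵥ (a i *ᵥ Function.update w' k (x k) i) = 0 :=
      Finset.prod_eq_zero (Finset.mem_univ k) (by rw [Function.update_self, Function.update_self]; exact hx k)
    rw [hR, mul_zero, mul_zero] at h
    refine (mul_eq_zero.1 h).elim hc fun h0 => ?_
    obtain ⟨i, -, hi⟩ := Finset.prod_eq_zero_iff.1 h0
    obtain ⟨j, rfl⟩ := σ.surjective i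
    simp only [Equiv.symm_apply_apply] at hi
    rcases eq_or_ne j k with rfl | hjk
    · rw [Function.update_self, Function.update_self] at hi
      exact hne hi
    · rw [Function.update_of_ne hjk, Function.update_of_ne hjk] at hi
      exact hww j hi
  have hvec0 : ∀ x, vec x = 0 → ∃ i, x i = 0 := fun x hx => by
    have h : pureCoord x ∘ e = 0 := Matrix.mulVec_injective_iff_isUnit.2 P.isUnit (by simpa [vec] using hx)
    by_contra hno
    push Not at hno
    choose q hq using fun i => Function.ne_iff.1 (hno i)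
    have := congrFun h (e.symm q)
    simp only [Function.comp_apply, Equiv.apply_symm_apply, Pi.zero_apply, pureCoord] at this
    obtain ⟨i, -, hi⟩ := Finset.prod_eq_zero_iff.1 this
    exact hq i hi
  have hker : ∀ i, ∃ v : Fin 2 → F, v ≠ 0 ∧ v ⬝ᵥ r i = 0 := fun i => by
    by_cases h0 : r i = 0
    · exact ⟨Pi.single 0 1, by simp, by rw [h0, dotProduct_zero]⟩
    · refine ⟨![r i 1, -r i 0], fun h => h0 ?_, by simp [dotProduct, Fin.sum_univ_two]; ring⟩
      have a1 := congrFun h 0
      have a2 := congrFun h 1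
      simp at a1 a2
      ext k
      fin_cases k <;> simp [a1, a2]
  have hW : Submodule.span F S = ⊤ := by
    refine (hirr (Submodule.span F S) ?_).resolve_left fun hbot => ?_
    · rintro _ ⟨g, hg, rfl⟩ _ ⟨v, hv, rfl⟩
      rw [Matrix.toLin'_apply]
      induction hv using Submodule.span_induction with
      | mem v hv => exact Submodule.subset_span (hSinv g hg v hv)
      | zero => simp
      | add v w _ _ hv hw => rw [mulVec_add]; exact add_mem hv hw
      | smul b v _ hv => rw [mulVec_smul]; exact Submodule.smul_mem _ _ hv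
    · choose v hv0 hv using hker
      obtain ⟨i, hi⟩ := hvec0 v (by
        rw [← Submodule.mem_bot F, ← hbot]
        exact Submodule.subset_span ⟨v, fun i => (hiso i _).2 (hv i), rfl⟩)
      exact hv0 i hi
  have hall : ∀ i v, v ⬝ᵥ (a i *ᵥ v) = 0 := by
    intro i v
    rw [hiso]
    by_contra hne
    let φ : Matrix (Fin 2) (Fin 2) F := Matrix.of fun _ l => r i l
    let M : Matrix ι ι F := (P : Matrix ι ι F) *
      (Matrix.reindex e.symm e.symm (pureMat (Function.update (fun _ => (1 : Matrix (Fin 2) (Fin 2) F)) i φ))) *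
      ((P⁻¹ : GL ι F) : Matrix ι ι F)
    have hM : ∀ x, M *ᵥ vec x = vec (Function.update x i (φ *ᵥ x i)) := fun x => by
      show (_ * _ * _) *ᵥ (_ *ᵥ _) = _ *ᵥ _
      rw [mulVec_mulVec, mul_assoc, ← Units.val_mul, inv_mul_cancel, Units.val_one, mul_one, ← mulVec_mulVec]
      congr 1
      rw [Matrix.reindex_apply, Matrix.submatrix_mulVec_equiv, Equiv.symm_symm, Function.comp_assoc,
        Equiv.self_comp_symm, Function.comp_id, pureMat_mulVec_coord]
      congr 2
      funext j
      rcases eq_or_ne j i with rfl | hj <;> simp [*]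
    have hz : ∀ s ∈ Submodule.span F S, M *ᵥ s = 0 := by
      intro s hs
      induction hs using Submodule.span_induction with
      | mem s hs =>
        obtain ⟨x, hx, rfl⟩ := hs
        rw [hM]
        have h0 : φ *ᵥ x i = 0 := funext fun _ => by
          have := (hiso i _).1 (hx i)
          rw [dotProduct_comm] at this
          exact this
        have : pureCoord (Function.update x i (φ *ᵥ x i)) = 0 := funext fun p => by
          rw [pureCoord_update, h0, Pi.zero_apply, zero_mul, Pi.zero_apply]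
        show (P : Matrix ι ι F) *ᵥ (_ ∘ e) = 0
        rw [this, Pi.zero_comp, mulVec_zero]
      | zero => exact mulVec_zero _
      | add v w _ _ hv hw => rw [mulVec_add, hv, hw, add_zero]
      | smul b v _ hv => rw [mulVec_smul, hv, smul_zero]
    have h := hz (vec (Function.update (fun _ => Pi.single 0 1) i v)) (hW ▸ Submodule.mem_top)
    rw [hM, Function.update_idem, Function.update_self] at h
    obtain ⟨j, hj⟩ := hvec0 _ h
    rcases eq_or_ne j i with rfl | hji
    · rw [Function.update_self] at hj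
      refine hne ?_
      have := congrFun hj 0
      rw [dotProduct_comm]
      exact this
    · rw [Function.update_of_ne hji] at hj
      simpa using congrFun hj 0
  -- the quadratic form on pure vectors
  obtain ⟨s, hs⟩ : ∃ s : (Fin 3 → Fin 2) → F, ∀ p, Q (vec fun i => Pi.single (p i) 1) = s p * s p :=
    ⟨fun p => (isSquare_of_two_eq_zero h2 _).choose, fun p => (isSquare_of_two_eq_zero h2 _).choose_spec⟩
  let ℓ : (ι → F) →ₗ[F] F :=
    { toFun := fun z => ∑ p, s p * (((P⁻¹ : GL ι F) : Matrix ι ι F) *ᵥ z) (e.symm p)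
      map_add' := fun z w => by simp [mulVec_add, mul_add, Finset.sum_add_distrib]
      map_smul' := fun b z => by simp [mulVec_smul, Finset.mul_sum, mul_left_comm] }
  have hℓ : ∀ x, ℓ (vec x) = ∑ p, s p * pureCoord x p := fun x => by
    show ∑ p, s p * (((P⁻¹ : GL ι F) : Matrix ι ι F) *ᵥ ((P : Matrix ι ι F) *ᵥ _)) (e.symm p) = _
    rw [mulVec_mulVec, ← Units.val_mul, inv_mul_cancel, Units.val_one, one_mulVec]
    simp
  have hDeq : ∀ x, Q (vec x) = ℓ (vec x) * ℓ (vec x) := by
    suffices h : ∀ (T : Finset (Fin 3)) x, (∀ i ∉ T, ∃ k, x i = Pi.single k 1) → Q (vec x) = ℓ (vec x) * ℓ (vec x) by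
      exact fun x => h Finset.univ x fun i hi => absurd (Finset.mem_univ i) hi
    intro T
    induction T using Finset.induction with
    | empty =>
      intro x hx
      choose p hp using fun i => hx i (Finset.notMem_empty i)
      have hxp : x = fun i => Pi.single (p i) 1 := funext hp
      rw [hℓ, hxp, hs, pureCoord_single]
      simp [Pi.single_apply]
    | insert i T hiT ih =>
      intro x hx
      have hsplit : x i = x i 0 • (Pi.single 0 1 : Fin 2 → F) + x i 1 • Pi.single 1 1 := by
        ext k; fin_cases k <;> simp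
      have hk : ∀ k : Fin 2, Q (vec (Function.update x i (Pi.single k 1))) =
          ℓ (vec (Function.update x i (Pi.single k 1))) * ℓ (vec (Function.update x i (Pi.single k 1))) :=
        fun k => ih _ fun j hj => by
          rcases eq_or_ne j i with rfl | hji
          · exact ⟨k, Function.update_self _ _ _⟩
          · rw [Function.update_of_ne hji]
            exact hx j (by simp [hji, hj])
      have hvx : vec x = x i 0 • vec (Function.update x i (Pi.single 0 1)) +
          x i 1 • vec (Function.update x i (Pi.single 1 1)) := by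
        conv_lhs => rw [← Function.update_eq_self i x, hsplit]
        show (P : Matrix ι ι F) *ᵥ _ = _ • ((P : Matrix ι ι F) *ᵥ _) + _ • ((P : Matrix ι ι F) *ᵥ _)
        rw [pureCoord_update_add, pureCoord_update_smul, pureCoord_update_smul, ← mulVec_smul, ← mulVec_smul,
          ← mulVec_add]
        rfl
      have hp0 : polar Q (vec (Function.update x i (Pi.single 0 1))) (vec (Function.update x i (Pi.single 1 1))) = 0 := by
        rw [hpol]
        refine mul_eq_zero_of_right _ ?_
        obtain ⟨j, hj⟩ : ∃ j, j ≠ i := ⟨i + 1, by fin_cases i <;> decide⟩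
        refine Finset.prod_eq_zero (Finset.mem_univ j) ?_
        rw [Function.update_of_ne hj, Function.update_of_ne hj]
        exact hall j _
      rw [hvx, QuadraticMap.map_add Q, QuadraticMap.map_smul, QuadraticMap.map_smul, QuadraticMap.polar_smul_left,
        QuadraticMap.polar_smul_right, hp0, hk, hk, map_add, map_smul, map_smul]
      simp only [smul_eq_mul]
      linear_combination -(x i 0 * ℓ (vec (Function.update x i (Pi.single 0 1))) *
        (x i 1 * ℓ (vec (Function.update x i (Pi.single 1 1))))) * h2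
  have hnull : ∀ s ∈ S, Q s = 0 := spanning_null h2 (by omega) hirr hG hW hSinv ℓ (by
    rintro _ ⟨x, -, rfl⟩; exact hDeq x)
  -- the half
  let p : {p : Fin 3 → Fin 2 // p 0 = 0} → ι → F := fun p => vec fun i => Pi.single (p.1 i) 1
  have hp : ∀ q, p q = (P : Matrix ι ι F) *ᵥ (Pi.single (e.symm q.1) 1) := fun q => by
    show (P : Matrix ι ι F) *ᵥ (_ ∘ e) = _
    rw [pureCoord_single]
    congr 1
    ext j
    simp [Pi.single_apply, Equiv.eq_symm_apply]
  have hli : LinearIndependent F p := by
    have : p = (Matrix.toLin' (P : Matrix ι ι F)) ∘ fun q => (Pi.basisFun F ι) (e.symm q.1) := funext fun q => by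
      rw [hp, Function.comp_apply, Matrix.toLin'_apply, Pi.basisFun_apply]
    rw [this]
    exact (((Pi.basisFun F ι).linearIndependent).comp _ (e.symm.injective.comp Subtype.val_injective)).map'
      _ (LinearMap.ker_eq_bot.2 fun x y h => Matrix.mulVec_injective_iff_isUnit.2 P.isUnit (by simpa using h))
  refine ⟨Submodule.span F (Set.range p), le_top, totallySingular_span ?_ ?_, ?_⟩
  · rintro _ ⟨q, rfl⟩
    exact hnull _ ⟨_, fun i => hall i _, rfl⟩
  · rintro _ ⟨q, rfl⟩ _ ⟨q', rfl⟩
    rw [hpol]
    refine mul_eq_zero_of_right _ (Finset.prod_eq_zero (Finset.mem_univ 0) ?_)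
    rw [q.2, q'.2]
    exact hall 0 _
  · rw [finrank_span_eq_card hli, finrank_top, Module.finrank_fintype_fun_eq_card, hn,
      show Fintype.card {p : Fin 3 → Fin 2 // p 0 = 0} = 4 from rfl]

end CfsgLib.Aschbacher.Orth
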