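import Cfsg.Agent.Lib.Aschbacher.Main
import Cfsg.Agent.Lib.Aschbacher.Forms
import Cfsg.Agent.Lib.Aschbacher.Realise
import Cfsg.Agent.Lib.Aschbacher.OrthEvenReducible
import Cfsg.Agent.Lib.Aschbacher.OrthPaired
import Cfsg.Agent.Lib.Aschbacher.OrthField
import Cfsg.Agent.Lib.Aschbacher.OrthTensorTwo
import Cfsg.Agent.Lib.Aschbacher.OrthWreathEight
import Cfsg.Agent.Lib.Aschbacher.OrthSymp
import Cfsg.Agent.Lib.Aschbacher.OrthEvenSubfield
import Cfsg.Agent.Lib.Aschbacher.OrthEvenFrame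
import Cfsg.Agent.Lib.Aschbacher.OrthOddLists

/-!
Maximal subgroups of `Ω` in dimensions 8, 10 and 12: the geometric shapes from which the lists are assembled.
-/

set_option autoImplicit false
set_option linter.unusedSectionVars false

namespace CfsgLib.Aschbacher.Orth

open Cfsg.Geo Matrix CfsgLib.Classical
open QuadraticMap (polar)
open scoped MatrixGroups Kronecker

variable {ι : Type} [Fintype ι] [DecidableEq ι] {F : Type*} [Field F] [Fintype F]

/-- The possible shapes of a maximal subgroup of `Ω` in even dimension. -/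
inductive EvenShape (Q : QuadraticForm F (ι → F)) (m : ℕ) (H : Subgroup (GL ι F)) : Prop
  | ts (W : Submodule F (ι → F)) (h0 : W ≠ ⊥) (hts : IsTotallySingularQuad (⇑Q) W)
      (hd : IsPlusTypeOn (⇑Q) ⊤ → Module.finrank F W + 1 ≠ m)
      (hH : H = subspaceStabilizer W ⊓ omegaGL (⇑Q))
  | oddSpace (hq : Odd (Fintype.card F)) (W : Submodule F (ι → F)) (h0 : W ≠ ⊥) (h1 : W ≠ ⊤)
      (ho : Odd (Module.finrank F W)) (hnd : IsNondegenerateOn (polar (⇑Q)) W)
      (hH : H = subspaceStabilizer W ⊓ omegaGL (⇑Q))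
  | evenSpace (W : Submodule F (ι → F)) (k : ℕ) (hk : Module.finrank F W = 2 * k) (h1 : 1 ≤ k) (hkm : 2 * k ≤ m)
      (hnd : IsNondegenerateOn (polar (⇑Q)) W)
      (hplane : ¬ (Fintype.card F ≤ 3 ∧ Module.finrank F W = 2 ∧ IsPlusTypeOn (⇑Q) W))
      (hH : H = subspaceStabilizer W ⊓ omegaGL (⇑Q))
  | point (hq : ¬ Odd (Fintype.card F)) (v : ι → F) (hv : Q v ≠ 0)
      (hH : H = subspaceStabilizer (Submodule.span F {v}) ⊓ omegaGL (⇑Q))
  | orth (t k : ℕ) (htk : t * k = 2 * m) (D : Fin t → Submodule F (ι → F))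
      (hD : IsOrthogonalMDecomposition (⇑Q) k D) (hprime : k = 1 → (Fintype.card F).Prime ∧ Odd (Fintype.card F))
      (hirr : ActsIrreducibly (matrixSet H)) (hH : H = decompositionStabilizer D ⊓ omegaGL (⇑Q))
  | tsPair (D : Fin 2 → Submodule F (ι → F)) (hD : IsMDecomposition m D)
      (hts : ∀ i, IsTotallySingularQuad (⇑Q) (D i)) (hplus : IsPlusTypeOn (⇑Q) ⊤)
      (hirr : ActsIrreducibly (matrixSet H)) (hH : H = decompositionStabilizer D ⊓ omegaGL (⇑Q))
  | field (r : ℕ) (hr : r.Prime) (hdvd : r ∣ 2 * m) (K : Subalgebra F (Matrix ι ι F))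
      (hK : IsFieldSubalgebra r K) (hadj : ∀ x ∈ K, adjQ Q x ∈ K) (hirr : ActsIrreducibly (matrixSet H))
      (hH : H = subalgebraNormalizer K ⊓ omegaGL (⇑Q))
  | tensorAlt (d k : ℕ) (hd : 2 ≤ d) (hdk : d ≤ k) (hn : d * k = 2 * m) (e : ι ≃ Fin d × Fin k) (P : GL ι F)
      (a : Matrix (Fin d) (Fin d) F) (b : Matrix (Fin k) (Fin k) F) (hau : IsUnit a) (hbu : IsUnit b)
      (hAB : coordGram Q e P = a ⊗ₖ b) (haa : ∀ x, x ⬝ᵥ (a *ᵥ x) = 0) (hbb : ∀ y, y ⬝ᵥ (b *ᵥ y) = 0)
      (hpure : ∀ x y, Q (pureVec e P x y) = 0) (hirr : ActsIrreducibly (matrixSet H))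
      (hle : H ≤ tensorProductSubgroup d k e P)
  | tensorSym (h2 : (2 : F) ≠ 0) (d k : ℕ) (hd : 2 ≤ d) (hdk : d ≤ k) (hn : d * k = 2 * m)
      (e : ι ≃ Fin d × Fin k) (P : GL ι F)
      (a : Matrix (Fin d) (Fin d) F) (b : Matrix (Fin k) (Fin k) F) (hau : IsUnit a) (hbu : IsUnit b)
      (hAB : coordGram Q e P = a ⊗ₖ b) (has : aᵀ = a) (hbs : bᵀ = b) (hirr : ActsIrreducibly (matrixSet H))
      (hle : H ≤ tensorProductSubgroup d k e P)
  | eightPlus (hm : m = 4) (hplus : IsPlusTypeOn (⇑Q) ⊤)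
  | subfield (F₀ : Subfield F) (r : ℕ) (P : GL ι F) (ζ : F) (hr : r.Prime)
      (hcard : Fintype.card F = Nat.card F₀ ^ r) (hζ : ζ ≠ 0)
      (hrat : IsQuadFormRationalStructure (fun v => ζ * Q v) F₀ P)
      (hH : H = subfieldSubgroup F₀ P ⊓ omegaGL (⇑Q))
  | residual (h : InOrthogonalResidualClass H)

variable {Q : QuadraticForm F (ι → F)} (hQ : ∀ x, (∀ y, polar Q x y = 0) → x = 0)
include hQ

/-- A rational structure over a proper subfield gives the subfield shape. -/
theorem subfield_shape {m : ℕ} (h7 : 7 ≤ Fintype.card ι) {H : Subgroup (GL ι F)}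
    (hH : IsMaximalIn (omegaGL (⇑Q)) H) {F₀ : Subfield F} {r : ℕ} (hr : r.Prime)
    (hcard : Fintype.card F = Nat.card F₀ ^ r) {P : GL ι F} {ζ : F} (hζ : ζ ≠ 0)
    (hrat : IsQuadFormRationalStructure (fun v => ζ * Q v) F₀ P) (hle : H ≤ subfieldSubgroup F₀ P) :
    EvenShape Q m H := by
  have hF₀ : F₀ ≠ ⊤ := fun h => by
    rw [h, Nat.card_congr Subfield.topEquiv.toEquiv, Nat.card_eq_fintype_card] at hcard
    exact absurd (Nat.pow_right_injective (Fintype.one_lt_card : 1 < Fintype.card F)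
      (hcard.symm.trans (pow_one _).symm)) hr.one_lt.ne'
  exact .subfield F₀ r P ζ hr hcard hζ hrat (maximal_eq hH hle (omega_not_le_subfieldSubgroup hQ h7 hF₀ P))

/-- An orthogonal decomposition kept by an irreducible maximal subgroup. -/
theorem orth_shape {m : ℕ} (hm : Fintype.card ι = 2 * m) (h7 : 7 ≤ Fintype.card ι) {H : Subgroup (GL ι F)}
    (hH : IsMaximalIn (omegaGL (⇑Q)) H) (hirr : ActsIrreducibly (matrixSet H)) {t k : ℕ}
    {D : Fin t → Submodule F (ι → F)} (hD : IsOrthogonalMDecomposition (⇑Q) k D)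
    (hle : H ≤ decompositionStabilizer D) : EvenShape Q m H := by
  have htk : t * k = 2 * m := hm ▸ card_eq_of_decomposition hD.decomp.decomp
  have hEq := maximal_eq hH hle (omega_not_le_decompositionStabilizer hQ h7 hD.decomp.decomp)
  by_cases hk : k = 1
  swap
  · exact .orth t k htk D hD (fun h => absurd h hk) hirr hEq
  subst hk
  have hodd : Odd (Fintype.card F) := by
    by_contra hq
    have := hD.decomp.decomp.two_le
    obtain ⟨a, ha⟩ := even_finrank_of_nondegenerateOn (two_eq_zero_of_not_odd hq)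
      (hD.decomp.nondegenerate ⟨0, by omega⟩)
    rw [hD.decomp.decomp.finrank_eq] at ha
    omega
  by_cases hq : (Fintype.card F).Prime
  · exact .orth t 1 htk D hD (fun _ => ⟨hq, hodd⟩) hirr hEq
  obtain ⟨p, hp⟩ := CharP.exists F
  have : Fact p.Prime := ⟨CharP.char_is_prime F p⟩
  obtain ⟨e, -, hpe⟩ := FiniteField.card F p
  have he : (e : ℕ) ≠ 1 := fun h => hq (by rw [hpe, h, pow_one]; exact Fact.out)
  obtain ⟨F₀, hF₀, -⟩ := exists_subfield_card (F := F) (Q := p) (k := e) (Fact.out : p.Prime).one_lt hpe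
  have hne : F₀ ≠ ⊤ := fun h => by
    rw [h, Nat.card_congr Subfield.topEquiv.toEquiv, Nat.card_eq_fintype_card, hpe] at hF₀
    exact he (Nat.pow_right_injective (Fact.out : p.Prime).two_le (hF₀.trans (pow_one p).symm))
  obtain ⟨F₁, r, -, hr, hc⟩ := exists_prime_index_subfield hne
  obtain ⟨P, ζ, hζ, hrat, hle'⟩ := frame_le_subfield_even (two_ne_zero_of_odd hodd)
    (fun g hg => omega_isometry (hH.1.le hg)) hD hle F₁
  exact subfield_shape hQ h7 hH hr hc hζ hrat hle'

/-- The shapes of the maximal subgroups of `Ω` in dimensions 8, 10 and 12. -/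
theorem even_shapes {m : ℕ} (hm : Fintype.card ι = 2 * m) (h4 : 4 ≤ m) (h6 : m ≤ 6) {H : Subgroup (GL ι F)}
    (hH : IsMaximalIn (omegaGL (⇑Q)) H) : EvenShape Q m H := by
  classical
  have h7 : 7 ≤ Fintype.card ι := by omega
  have : Nonempty ι := Fintype.card_pos_iff.1 (by omega)
  have hH' : ∀ g ∈ H, ∀ x, Q ((g : Matrix ι ι F) *ᵥ x) = Q x := fun g hg => omega_isometry (hH.1.le hg)
  by_cases hirr : ActsIrreducibly (matrixSet H)
  swap
  · simp only [ActsIrreducibly, not_forall, not_or] at hirr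
    obtain ⟨W, hW, h0, h1⟩ := hirr
    rcases even_reducible hQ hm h4 hH h0 h1 (fun g hg => CfsgLib.MaxSub.mem_subspaceStabilizer_of_maps fun x hx =>
        hW _ ⟨g, hg, rfl⟩ ⟨x, hx, Matrix.toLin'_apply _ _⟩) with ⟨U, a, b, c, d⟩ | ⟨hq, U, a, b, c, d, e⟩ |
      ⟨U, k, a, b, c, d, e, f⟩ | ⟨hq, v, a, b⟩
    exacts [.ts U a b c d, .oddSpace hq U a b c d e, .evenSpace U k a b c d e f, .point hq v a b]
  set G := H ⊔ scalars ι F with hGdef
  have hGq : G ≤ quadSimilarityGroup (⇑Q) := sup_scalars_le hH'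
  have hGs : G ≤ similarityGroup (polar (⇑Q)) := hGq.trans quadSimilarityGroup_le_similarityGroup
  have hHG : H ≤ G := le_sup_left
  have hGirr : ActsIrreducibly (matrixSet G) := fun W hW =>
    hirr W fun s hs => hW s (Set.image_mono (fun g hg => hHG hg) hs)
  cases core (by omega) hGirr le_sup_right with
  | decomp L hLG hL t E hE =>
    obtain ⟨π, hπ, hππ, hfix | hno⟩ := adjoint_perm hQ hGs hLG hE
    · obtain ⟨k, hD, hle⟩ := orthDecomp_of_fixed hQ hH' hE (fun i => by rw [hπ i, hfix i])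
      exact orth_shape hQ hm h7 hH hirr hD hle
    have hplus := plusType_of_paired hQ hGq hLG hE hπ hππ hno
    obtain ⟨s, hs⟩ : Even t := by
      by_contra ht
      exact hno ⟨0, by have := hE.two_le; omega⟩
        (perm_fixed_of_odd (Nat.not_even_iff_odd.1 ht) hππ (Or.inr hno) _)
    rw [← two_mul] at hs
    by_cases hs2 : 2 ≤ s
    · obtain ⟨k, D, hD, -, hle⟩ := decomp_of_paired hQ hH' hLG hE hπ hππ hno hs hs2
      exact orth_shape hQ hm h7 hH hirr hD hle
    obtain rfl : t = 2 := by have := hE.two_le; omega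
    obtain ⟨k, hk⟩ := hE.isMDecomposition
    have htk := card_eq_of_decomposition hk
    obtain rfl : k = m := by omega
    have hts : ∀ i, IsTotallySingularQuad (⇑Q) (idemSpace E i) := fun i =>
      paired_singular hQ hGq hLG hE (hπ i) (hno i).symm
    have hle : H ≤ decompositionStabilizer (idemSpace E) := le_sup_left.trans hE.le_stabilizer
    exact .tsPair _ hk hts hplus hirr (maximal_eq hH hle (omega_not_le_decompositionStabilizer hQ h7 hk))
  | field L hLG hL hinv hdim =>
    have hcomm : ∀ x ∈ centreOf (alg L), ∀ y ∈ centreOf (alg L), x * y = y * x :=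
      fun x hx y hy => commute_centreOf hx hy.1
    obtain ⟨r, hr, hre⟩ := Nat.exists_prime_and_dvd (show Module.finrank F (centreOf (alg L)) ≠ 1 by omega)
    obtain ⟨K, hKs, hK, hGK⟩ := exists_prime_subfield hcomm hinv (inv_centreOf (inv_alg hL)) hdim hr hre
    have hadj : ∀ x ∈ K, adjQ Q x ∈ K := by
      intro x hx
      rw [← SetLike.mem_coe, hKs] at hx ⊢
      exact ⟨adjQ_mem_centre hQ (hLG.trans hGs) hx.1, by rw [← adjQ_pow hQ, hx.2]⟩
    exact .field r hr (hm ▸ hre.trans (finrank_dvd_card hcomm hinv)) K hK hadj hirr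
      (maximal_eq hH (hHG.trans hGK) (omega_not_le_subalgebraNormalizer hQ h7 hr.two_le hK))
  | tensor L hLG hL d k e P hd hk hA hle =>
    have : NeZero d := ⟨by omega⟩
    have : NeZero k := ⟨by omega⟩
    have hn : d * k = 2 * m := by rw [← hm, Fintype.card_congr e]; simp
    obtain ⟨a, b, hau, hbu, hAB, hcase⟩ := tensor_dichotomy hQ hGq hLG hGirr e P hd hk hA hle
    rcases le_total d k with hdk | hdk
    · rcases hcase with ⟨haa, hbb⟩ | ⟨h2, has, hbs⟩
      · exact .tensorAlt d k hd hdk hn e P a b hau hbu hAB haa hbb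
          (quad_pureVec_eq_zero e P hAB hau hbu hGq hle hGirr (by omega) haa hbb) hirr (hHG.trans hle)
      · exact .tensorSym h2 d k hd hdk hn e P a b hau hbu hAB has hbs hirr (hHG.trans hle)
    · have hle₂ := hle.trans (tensorProductSubgroup_le_swap e P)
      have hAB₂ := coordGram_swap e P hAB
      rcases hcase with ⟨haa, hbb⟩ | ⟨h2, has, hbs⟩
      · exact .tensorAlt k d hk hdk (by rw [mul_comm, hn]) _ P b a hbu hau hAB₂ hbb haa
          (quad_pureVec_eq_zero _ P hAB₂ hbu hau hGq hle₂ hGirr (by omega) hbb haa) hirr (hHG.trans hle₂)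
      · exact .tensorSym h2 k d hk hdk (by rw [mul_comm, hn]) _ P b a hbu hau hAB₂ hbs has hirr (hHG.trans hle₂)
  | wreath t d L hLG hperm htrans e P ht hd hA hle hperf =>
    have hdt : d ^ t = 2 * m := by rw [← hm, Fintype.card_congr e]; simp
    obtain rfl : m = 4 := by
      have h12 : d ^ t ≤ 12 := by omega
      have hd4 : d ^ 2 ≤ 12 := le_trans (Nat.pow_le_pow_right (by omega) ht) h12
      have ht4 : t ≤ 3 := by
        by_contra h
        have := (Nat.pow_le_pow_left hd t).trans h12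
        have : 2 ^ 4 ≤ 2 ^ t := Nat.pow_le_pow_right (by norm_num) (by omega)
        omega
      have : d ≤ 3 := by nlinarith
      interval_cases t <;> interval_cases d <;> omega
    obtain ⟨rfl, rfl⟩ : d = 2 ∧ t = 3 := by
      have ht4 : t ≤ 3 := by
        by_contra h
        have := Nat.pow_le_pow_left hd t
        have : 2 ^ 4 ≤ 2 ^ t := Nat.pow_le_pow_right (by norm_num) (by omega)
        omega
      have hd4 : d ^ 2 ≤ 8 := le_trans (Nat.pow_le_pow_right (by omega) ht) hdt.le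
      obtain rfl : d = 2 := by nlinarith
      interval_cases t
      · norm_num at hdt
      · exact ⟨rfl, rfl⟩
    obtain ⟨c, a, hc, hau, hM⟩ := coordGram_pure hQ e P (fun i x => by
      have hx : slotFactor e P i x ∈ (alg (L i) : Set _) := (hA i) ▸ ⟨x, rfl⟩
      have h := adjQ_mem_alg hQ ((hLG i).trans hGs) hx
      rw [← SetLike.mem_coe, hA i] at h
      obtain ⟨x', hx'⟩ := h
      exact ⟨x', hx'.symm⟩)
    exact .eightPlus rfl (plusType_of_wreath_eight hQ hGirr hGq e P hle hc hau hM)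
  | sympType r k R hRG hR hdata =>
    have hcard := hdata.card_index
    rw [hm] at hcard
    have hr := hdata.symplecticType.prime
    have hk2 : r = 2 ∧ m = 4 := by
      have h2r : r ^ k = 2 * m := hcard.symm
      have hr2 : r = 2 := by
        have h : 2 ∣ r ^ k := h2r ▸ dvd_mul_right 2 m
        exact ((Nat.prime_dvd_prime_iff_eq Nat.prime_two hr).1 (Nat.prime_two.dvd_of_dvd_pow h)).symm
      subst hr2
      have hk4 : k < 4 := (Nat.pow_lt_pow_iff_right (by norm_num : 1 < 2)).1 (by omega)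
      interval_cases k <;> omega
    obtain ⟨rfl, rfl⟩ := hk2
    exact .eightPlus rfl (plusType_of_scalar_commutators hQ (by simpa using hdata.cast_ne_zero) hm (by norm_num)
      ⟨2, rfl⟩ (hRG.trans hGs) hdata.commutator_scalar hdata.alg_top)
  | almostSimple P hP =>
    have hfix : FixesQuadForm (matrixSet P) (⇑Q) := perfect_fixes (hP.le.trans hGq) hP.perfect
    by_cases hreal : ∃ F₀ : Subfield F, F₀ ≠ ⊤ ∧ RealisableOver F₀ (matrixSet P)
    · obtain ⟨F₀, h₀, hre⟩ := hreal
      obtain ⟨F₁, r, P', ζ, hr, hc, hζ, hrat, hle⟩ := subfield_of_realisable hQ (by omega) hP hfix h₀ hre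
      exact subfield_shape hQ h7 hH hr hc hζ hrat (hHG.trans hle)
    · push Not at hreal
      refine .residual ⟨P, hP.residualCore hreal, ?_⟩
      rintro ⟨σ, f, hf, hfixf⟩
      obtain ⟨F₀, h₀, hre⟩ := OrthForms.realisable_of_unitary hP.absIrred.2
        (isNondegenerateQuadraticForm_of_sep hQ) hfix hf hfixf
      exact hreal F₀ h₀ hre

end CfsgLib.Aschbacher.Orth
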