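import Cfsg.Agent.Lib.Classical.StdQuad
import Cfsg.Agent.Lib.Aschbacher.OrthReducible
import Cfsg.Agent.Lib.MaxSub.OmegaElem

/-!
Lifting a quadratic form along a self-adjoint field: the form is the trace of a quadratic form over the field.
-/

set_option autoImplicit false
set_option linter.unusedSectionVars false

namespace CfsgLib.Aschbacher.Lift

open CfsgLib.Classical CfsgLib.Geom
open QuadraticMap (polar)

variable {F K V : Type*} [Field F] [Fintype F] [Field K] [Algebra F K] [FiniteDimensional F K]
  [AddCommGroup V] [Module F V] [Module K V] [IsScalarTower F K V]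

theorem trace_rep (f : K →ₗ[F] F) : ∃ a : K, ∀ l, Algebra.trace F K (a * l) = f l := by
  refine ⟨((Algebra.traceForm F K).toDual (traceForm_nondegenerate F K)).symm f, fun l => ?_⟩
  exact LinearMap.congr_fun (((Algebra.traceForm F K).toDual (traceForm_nondegenerate F K)).apply_symm_apply f) l

theorem eq_of_trace {a b : K} (h : ∀ l, Algebra.trace F K (a * l) = Algebra.trace F K (b * l)) : a = b :=
  ((Algebra.traceForm F K).toDual (traceForm_nondegenerate F K)).injective (LinearMap.ext h)

theorem exists_sqrt (h2 : (2 : F) = 0) (m : K) : ∃ s : K, m = s * s := by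
  have : Finite K := Module.finite_of_finite F
  let _ : Fintype K := Fintype.ofFinite K
  exact isSquare_of_two_eq_zero (by rw [← map_ofNat (algebraMap F K) 2, h2, map_zero]) m

/-- An element is determined by the trace on squares. -/
theorem eq_of_trace_sq {a b : K} (h : ∀ l, Algebra.trace F K (a * (l * l)) = Algebra.trace F K (b * (l * l))) :
    a = b := by
  refine eq_of_trace (F := F) fun m => ?_
  by_cases h2 : (2 : F) = 0
  · obtain ⟨s, rfl⟩ := exists_sqrt (K := K) h2 m
    exact h s
  · have h1 := h (m + 1)
    have h3 := h m
    have h4 := h 1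
    have e : ∀ x : K, x * ((m + 1) * (m + 1)) = x * (m * m) + (x * m + x * m) + x * (1 * 1) := fun x => by ring
    simp only [e, map_add] at h1
    refine mul_left_cancel₀ h2 ?_
    linear_combination h1 - h3 - h4

variable (Q : QuadraticForm F V) (hself : ∀ (k : K) (x y : V), polar Q (k • x) y = polar Q x (k • y))
include hself

/-- The quadratic form over the field. -/
theorem exists_lift : ∃ Φ : QuadraticForm K V, (∀ v, Algebra.trace F K (Φ v) = Q v) ∧
    ∀ x y l, Algebra.trace F K (polar Φ x y * l) = polar Q x (l • y) := by
  classical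
  have hβ : ∀ x y : V, ∃ b : K, ∀ l, Algebra.trace F K (b * l) = polar Q x (l • y) := fun x y =>
    trace_rep
      { toFun := fun l => polar Q x (l • y)
        map_add' := fun a b => by rw [add_smul, QuadraticMap.polar_add_right]
        map_smul' := fun c a => by rw [smul_assoc, QuadraticMap.polar_smul_right, RingHom.id_apply] }
  choose β hβ using hβ
  have hf : ∀ v : V, ∃ f : K →ₗ[F] F, ∀ l, f (l * l) = Q (l • v) := fun v => by
    by_cases h2 : (2 : F) = 0
    · choose s hs using exists_sqrt (K := K) h2
      have hk2 : (2 : K) = 0 := by rw [← map_ofNat (algebraMap F K) 2, h2, map_zero]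
      have hinj : ∀ a b : K, a * a = b * b → a = b := fun a b h => by
        have h' : (a - b) * (a - b) = 0 := by linear_combination h + (b * b - a * b) * hk2
        exact sub_eq_zero.1 (mul_self_eq_zero.1 h')
      have halt : ∀ (a b : K), polar Q (a • v) (b • v) = 0 := fun a b => by
        rw [hself, smul_smul]
        obtain ⟨c, hc⟩ := exists_sqrt (K := K) h2 (a * b)
        rw [hc, ← smul_smul, ← hself, polar_self_two, h2, zero_mul]
      refine ⟨{ toFun := fun m => Q (s m • v), map_add' := fun a b => ?_, map_smul' := fun c a => ?_ }, fun l => ?_⟩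
      · have e : s (a + b) = s a + s b := hinj _ _ (by rw [← hs]; linear_combination hs a + hs b - s a * s b * hk2)
        rw [e, add_smul, QuadraticMap.map_add Q, halt, add_zero]
      · obtain ⟨d, hd⟩ := isSquare_of_two_eq_zero h2 c
        have e : s (c • a) = algebraMap F K d * s a := hinj _ _ (by
          rw [← hs, Algebra.smul_def, hd, map_mul]
          linear_combination algebraMap F K d * algebraMap F K d * hs a)
        rw [e, ← smul_smul, algebraMap_smul, QuadraticMap.map_smul, RingHom.id_apply, smul_eq_mul, smul_eq_mul, hd]
      · show Q (s (l * l) • v) = _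
        rw [hinj _ _ (hs (l * l)).symm]
    · refine ⟨{ toFun := fun m => polar Q v (m • v) / 2, map_add' := fun a b => ?_, map_smul' := fun c a => ?_ },
        fun l => ?_⟩
      · rw [add_smul, QuadraticMap.polar_add_right, add_div]
      · rw [smul_assoc, QuadraticMap.polar_smul_right, RingHom.id_apply, smul_eq_mul, smul_eq_mul, mul_div_assoc]
      · show polar Q v ((l * l) • v) / 2 = _
        rw [← smul_smul, ← hself, polar_self_two, mul_div_cancel_left₀ _ h2]
  choose f hf using hf
  choose φ hφ using fun v => trace_rep (f v)
  have hsmul : ∀ (k : K) (v : V), φ (k • v) = k * k * φ v := fun k v => eq_of_trace_sq (F := F) fun l => by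
    rw [hφ, hf, show k * k * φ v * (l * l) = φ v * ((l * k) * (l * k)) by ring, hφ, hf, smul_smul]
  have hpol : ∀ x y, polar φ x y = β x y := fun x y => eq_of_trace_sq (F := F) fun l => by
    rw [hβ, ← smul_smul, ← hself]
    simp only [QuadraticMap.polar, sub_mul, map_sub, hφ, hf, smul_add]
  have hsl : ∀ (k : K) (x y : V), β (k • x) y = k * β x y := fun k x y => eq_of_trace (F := F) fun l => by
    rw [hβ, hself, smul_smul, mul_comm k (β x y), mul_assoc, hβ]
  have hal : ∀ x x' y, β (x + x') y = β x y + β x' y := fun x x' y => eq_of_trace (F := F) fun l => by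
    rw [add_mul, map_add, hβ, hβ, hβ, QuadraticMap.polar_add_left]
  let Φ : QuadraticForm K V := QuadraticMap.ofPolar φ (fun k v => by rw [hsmul, smul_eq_mul])
    (fun x x' y => by simp only [hpol, hal]) (fun k x y => by simp only [hpol, hsl, smul_eq_mul])
  refine ⟨Φ, fun v => ?_, fun x y l => ?_⟩
  · have h := hφ v 1
    rw [← mul_one (1 : K), hf, one_smul] at h
    simpa [Φ] using h
  · have e : polar Φ x y = β x y := hpol x y
    rw [e, hβ]

/-- Self-adjointness in characteristic two makes the dimension over the field even. -/
theorem even_finrank_of_two_eq_zero [FiniteDimensional F V] (h2 : (2 : F) = 0)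
    (hQ : ∀ x, (∀ y, polar Q x y = 0) → x = 0) : Even (Module.finrank K V) := by
  obtain ⟨Φ, -, hpol⟩ := exists_lift Q hself
  have : Module.Finite K V := Module.Finite.of_restrictScalars_finite F K V
  have : Finite K := Module.finite_of_finite F
  let _ : Fintype K := Fintype.ofFinite K
  refine MaxSub.OmegaElem.even_finrank_of_alt (QuadraticMap.polarBilin Φ) (fun v => ?_) fun x hx => hQ x fun y => ?_
  · rw [QuadraticMap.polarBilin_apply_apply, polar_self_two, ← map_ofNat (algebraMap F K) 2, h2, map_zero, zero_mul]
  · have h := hx y
    rw [QuadraticMap.polarBilin_apply_apply] at h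
    have := hpol x y 1
    rw [h, zero_mul, map_zero, one_smul] at this
    exact this.symm

end CfsgLib.Aschbacher.Lift
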