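import Cfsg.Agent.Lib.Geom.SiegelFull
import Cfsg.Agent.Lib.Geom.OmegaMax
import Cfsg.Agent.Lib.MaxSub.OrthSing
import Cfsg.Agent.Lib.MaxSub.Sub
import Cfsg.Agent.Lib.MaxSub.IsoPerp

set_option autoImplicit false
set_option linter.unusedSectionVars false

/-!
`Ω` of a non-degenerate quadratic form in dimension at least seven lies in no member of the geometric classes:
Siegel transformations move a vector along a singular line of any subspace of dimension four.
-/

namespace CfsgLib.Aschbacher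

open CfsgLib.Classical CfsgLib.Geom CfsgLib.MaxSub Cfsg.Geo Matrix
open QuadraticMap (polar)
open scoped MatrixGroups

section Abstract

variable {F V : Type*} [Field F] [Finite F] [AddCommGroup V] [Module F V] [FiniteDimensional F V]
variable {Q : QuadraticForm F V} (hQ : ∀ x, (∀ y, polar Q x y = 0) → x = 0) (h5 : 5 ≤ Module.finrank F V)

include hQ h5

/-- A Siegel transformation moving `w` by a multiple of a singular `y` and fixing a given subspace `U`
orthogonal to `y`. -/
theorem exists_move_fix {U : Submodule F V} {w y : V} (hys : Q y = 0) (hyw : polar Q y w = 0)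
    (hyU : ∀ u ∈ U, polar Q y u = 0) (hw : w ∉ U ⊔ Submodule.span F {y}) (c : F) :
    ∃ g ∈ commutator (quadIsoms Q), (∀ u ∈ U, g.1 u = u) ∧ g.1 w = w + c • y := by
  obtain ⟨a, ha, hwa⟩ := exists_perp_pair (σ := RingHom.id F) (QuadraticMap.polarBilin Q) hQ
    (U ⊔ Submodule.span F {y}) hw
  have hwa' : polar Q w a = 1 := hwa
  have hya : polar Q y a = 0 :=
    ha y (Submodule.mem_sup_right (Submodule.mem_span_singleton_self y))
  have hyx : polar Q y ((-c) • a) = 0 := by rw [QuadraticMap.polar_smul_right, hya, smul_zero]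
  refine ⟨siegel Q y ((-c) • a), OrthSub.siegel_mem_commutator hQ h5 _ _, fun u hu => ?_, ?_⟩
  · rw [siegel_apply Q hys hyx, hyU u hu]
    have hua : polar Q u a = 0 := ha u (Submodule.mem_sup_left hu)
    rw [QuadraticMap.polar_smul_left, QuadraticMap.polar_comm Q a u, hua]
    simp
  · rw [siegel_apply Q hys hyx, hyw, QuadraticMap.polar_smul_left, QuadraticMap.polar_comm Q a w, hwa']
    simp [neg_smul]

/-- A vector outside a subspace `C` of dimension at least four can be moved along a line of `C`. -/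
theorem exists_move {C : Submodule F V} (hC : 4 ≤ Module.finrank F C) {v : V} (hv : v ∉ C) :
    ∃ y ∈ C, y ≠ 0 ∧ ∀ c : F, ∃ g ∈ commutator (quadIsoms Q), g.1 v = v + c • y := by
  have h1 := finrank_le_inf_ker C ((QuadraticMap.polarBilin Q).flip v)
  obtain ⟨y, ⟨hyC, hyv⟩, hy0, hys⟩ := exists_singular_in (Q := Q)
    (W := C ⊓ LinearMap.ker ((QuadraticMap.polarBilin Q).flip v)) (by omega)
  refine ⟨y, hyC, hy0, fun c => ?_⟩
  obtain ⟨g, hg, -, hgv⟩ := exists_move_fix hQ h5 (U := ⊥) hys hyv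
    (fun u hu => by rw [(Submodule.mem_bot F).1 hu, QuadraticMap.polar_zero_right])
    (fun h => hv (by
      rw [bot_sup_eq] at h
      exact (Submodule.span_singleton_le_iff_mem y C).2 hyC h)) c
  exact ⟨g, hg, hgv⟩

end Abstract

section GLPart

variable {F : Type*} [Field F] [Fintype F] {ι : Type} [Fintype ι] [DecidableEq ι]
variable {Q : QuadraticForm F (ι → F)}

theorem exists_omega_of_isom {g : quadIsoms Q} (hg : g ∈ commutator (quadIsoms Q)) :
    ∃ h ∈ omegaGL (⇑Q), ∀ x, (h : Matrix ι ι F) *ᵥ x = g.1 x := by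
  refine ⟨isomsToGL Q g, ?_, isomsToGL_mulVec Q g⟩
  rw [omegaGL_eq_map]
  exact Subgroup.mem_map_of_mem _ hg

theorem omega_isometry {g : GL ι F} (hg : g ∈ omegaGL (⇑Q)) (x : ι → F) :
    Q ((g : Matrix ι ι F) *ᵥ x) = Q x := by
  rw [omegaGL_eq_map] at hg
  obtain ⟨k, -, rfl⟩ := hg
  rw [isomsToGL_mulVec]
  exact mem_quadIsoms.1 k.2 x

/-- The orthogonal of a subspace for the polar form. -/
def polPerp (Q : QuadraticForm F (ι → F)) (W : Submodule F (ι → F)) : Submodule F (ι → F) :=
  IsoSemi.perp (QuadraticMap.polarBilin Q) W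

theorem mem_polPerp {W : Submodule F (ι → F)} {x : ι → F} : x ∈ polPerp Q W ↔ ∀ w ∈ W, polar Q w x = 0 := Iff.rfl

theorem mem_stabilizer_polPerp {W : Submodule F (ι → F)} {g : GL ι F}
    (hQg : ∀ x, Q ((g : Matrix ι ι F) *ᵥ x) = Q x) (hW : g ∈ subspaceStabilizer W) :
    g ∈ subspaceStabilizer (polPerp Q W) := by
  refine mem_subspaceStabilizer_of_maps fun x hx w hw => ?_
  obtain ⟨u, rfl⟩ : ∃ u, (g : Matrix ι ι F) *ᵥ u = w :=
    ⟨((g⁻¹ : GL ι F) : Matrix ι ι F) *ᵥ w, by rw [mulVec_mulVec, ← Units.val_mul, mul_inv_cancel, Units.val_one, one_mulVec]⟩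
  show polar Q ((g : Matrix ι ι F) *ᵥ u) ((g : Matrix ι ι F) *ᵥ x) = 0
  have := hx u ((hW u).2 hw)
  simp only [QuadraticMap.polarBilin_apply_apply] at this
  simp only [polar, ← mulVec_add, hQg] at this ⊢
  exact this

variable (hQ : ∀ x, (∀ y, polar Q x y = 0) → x = 0)
include hQ

theorem geom_polarBilin : IsoSemi.Geom (QuadraticMap.polarBilin Q) :=
  ⟨hQ, fun x y h => (QuadraticMap.polar_comm Q y x).trans h⟩

theorem finrank_polPerp (W : Submodule F (ι → F)) :
    Module.finrank F (polPerp Q W) + Module.finrank F W = Fintype.card ι := by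
  rw [← Module.finrank_fintype_fun_eq_card F]
  exact IsoSemi.finrank_perp (geom_polarBilin hQ) W

variable (h7 : 7 ≤ Fintype.card ι)
include h7

theorem exists_move_GL {C : Submodule F (ι → F)} (hC : 4 ≤ Module.finrank F C) {v : ι → F} (hv : v ∉ C) :
    ∃ y ∈ C, y ≠ 0 ∧ ∀ c : F, ∃ g ∈ omegaGL (⇑Q), (g : Matrix ι ι F) *ᵥ v = v + c • y := by
  obtain ⟨y, hyC, hy0, hy⟩ := exists_move hQ (by rw [Module.finrank_fintype_fun_eq_card]; omega) hC hv
  refine ⟨y, hyC, hy0, fun c => ?_⟩
  obtain ⟨g, hg, hgv⟩ := hy c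
  obtain ⟨h, hh, hhv⟩ := exists_omega_of_isom hg
  exact ⟨h, hh, (hhv v).trans hgv⟩

theorem omega_not_le_subspaceStabilizer {W : Submodule F (ι → F)} (h0 : W ≠ ⊥) (h1 : W ≠ ⊤) :
    ¬ omegaGL (⇑Q) ≤ subspaceStabilizer W := by
  have key : ∀ U : Submodule F (ι → F), U ≠ ⊥ → Module.finrank F U + 4 ≤ Fintype.card ι →
      ¬ omegaGL (⇑Q) ≤ subspaceStabilizer U := by
    intro U hU hd hle
    obtain ⟨C, hC⟩ := U.exists_isCompl
    obtain ⟨v, hvU, hv0⟩ := U.exists_mem_ne_zero_of_ne_bot hU
    have hdim := Submodule.finrank_add_eq_of_isCompl hC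
    rw [Module.finrank_fintype_fun_eq_card] at hdim
    obtain ⟨y, hyC, hy0, hy⟩ := exists_move_GL hQ h7 (C := C) (by omega) (v := v)
      (fun h => hv0 ((Submodule.eq_bot_iff _).1 hC.inf_eq_bot v ⟨hvU, h⟩))
    obtain ⟨g, hg, hgv⟩ := hy 1
    have := maps_of_mem_subspaceStabilizer (hle hg) hvU
    rw [hgv, one_smul] at this
    exact hy0 ((Submodule.eq_bot_iff _).1 hC.inf_eq_bot y ⟨by simpa using sub_mem this hvU, hyC⟩)
  intro hle
  by_cases hd : Module.finrank F W + 4 ≤ Fintype.card ι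
  · exact key W h0 hd hle
  · have h2 := finrank_polPerp hQ W
    have h3 : Module.finrank F W < Fintype.card ι := by
      rw [← Module.finrank_fintype_fun_eq_card F]; exact Submodule.finrank_lt h1
    refine key (polPerp Q W) (fun h => ?_) (by omega)
      (fun g hg => mem_stabilizer_polPerp (omega_isometry hg) (hle hg))
    rw [h, finrank_bot] at h2
    omega

theorem omega_not_le_decompositionStabilizer {t k : ℕ} {D : Fin t → Submodule F (ι → F)}
    (hD : IsMDecomposition k D) : ¬ omegaGL (⇑Q) ≤ decompositionStabilizer D := by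
  intro hle
  have ht := hD.two_le
  let i₀ : Fin t := ⟨0, by omega⟩
  let i₁ : Fin t := ⟨1, by omega⟩
  set C := ⨆ j ≠ i₀, D j with hC
  have hinf : D i₀ ⊓ C = ⊥ := disjoint_iff.1 (hD.indep i₀)
  have hsup : D i₀ ⊔ C = ⊤ := by
    rw [eq_top_iff, ← hD.iSup_eq_top, iSup_le_iff]
    intro j
    by_cases h : j = i₀
    · subst h; exact le_sup_left
    · exact le_sup_of_le_right (le_iSup₂_of_le j h le_rfl)
  have hdim := Submodule.finrank_sup_add_finrank_inf_eq (D i₀) C
  rw [hsup, hinf, finrank_top, finrank_bot, Module.finrank_fintype_fun_eq_card, hD.finrank_eq] at hdim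
  have hk : k ≤ Module.finrank F C := by
    rw [← hD.finrank_eq i₁]
    exact Submodule.finrank_mono (le_iSup₂_of_le i₁ (by simp [i₀, i₁]) le_rfl)
  obtain ⟨v, hvD, hv0⟩ := (D i₀).exists_mem_ne_zero_of_ne_bot (fun h => by
    have := hD.finrank_eq i₀; rw [h, finrank_bot] at this; have := hD.pos; omega)
  have hvC : v ∉ C := fun h => hv0 ((Submodule.eq_bot_iff _).1 hinf v ⟨hvD, h⟩)
  obtain ⟨y, hyC, hy0, hy⟩ := exists_move_GL hQ h7 (C := C) (by omega) hvC
  obtain ⟨g, hg, hgv⟩ := hy 1
  obtain ⟨σ, hσ⟩ := hle hg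
  have hmem : v + y ∈ D (σ i₀) := by
    rw [← hσ i₀]
    exact ⟨v, hvD, by rw [Matrix.toLin'_apply, hgv, one_smul]⟩
  by_cases h : σ i₀ = i₀
  · rw [h] at hmem
    exact hy0 ((Submodule.eq_bot_iff _).1 hinf y ⟨by simpa using sub_mem hmem hvD, hyC⟩)
  · have hle' : D (σ i₀) ≤ C := le_iSup₂_of_le (σ i₀) h le_rfl
    exact hvC (by simpa using sub_mem (hle' hmem) hyC)

/-- Only scalars commute with all of `Ω`. -/
theorem omega_commutant {M : Matrix ι ι F} (hM : ∀ g ∈ omegaGL (⇑Q), M * (g : Matrix ι ι F) = (g : Matrix ι ι F) * M) :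
    ∃ c : F, M = c • (1 : Matrix ι ι F) := by
  have key : ∀ v, M *ᵥ v ∈ Submodule.span F {v} := by
    intro v
    by_contra hn
    have hn' : M *ᵥ v ∉ Submodule.span F {v} := hn
    classical
    let S : Finset (ι → F) := {v, M *ᵥ v}
    obtain ⟨C, hC⟩ := (Submodule.span F (S : Set (ι → F))).exists_isCompl
    have hdC := Submodule.finrank_add_eq_of_isCompl hC
    have hdS : Module.finrank F (Submodule.span F (S : Set (ι → F))) ≤ 2 :=
      (finrank_span_finset_le_card S).trans Finset.card_le_two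
    rw [Module.finrank_fintype_fun_eq_card] at hdC
    have hP := finrank_le_finrank_qPerp_add (Q := Q) S
    have hS2 : S.card ≤ 2 := Finset.card_le_two
    have hi := Submodule.finrank_sup_add_finrank_inf_eq C (qPerp Q (S : Set (ι → F)))
    have hle' := Submodule.finrank_le (C ⊔ qPerp Q (S : Set (ι → F)))
    rw [Module.finrank_fintype_fun_eq_card] at hP hle'
    obtain ⟨y, ⟨hyC, hyP⟩, hy0, hys⟩ := exists_singular_in (Q := Q) (W := C ⊓ qPerp Q (S : Set (ι → F))) (by omega)
    have hyv : polar Q y v = 0 := hyP v (by simp [S])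
    have hyw : polar Q y (M *ᵥ v) = 0 := hyP (M *ᵥ v) (by simp [S])
    obtain ⟨g, hg, hgU, hgw⟩ := exists_move_fix hQ (by rw [Module.finrank_fintype_fun_eq_card]; omega)
      (U := Submodule.span F {v}) hys hyw
      (fun u hu => by
        obtain ⟨a, rfl⟩ := Submodule.mem_span_singleton.1 hu
        rw [QuadraticMap.polar_smul_right, hyv, smul_zero])
      (fun h => by
        obtain ⟨u, hu, z, hz, huz⟩ := Submodule.mem_sup.1 h
        obtain ⟨a, rfl⟩ := Submodule.mem_span_singleton.1 hz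
        have h2 : a • y ∈ Submodule.span F (S : Set (ι → F)) := by
          rw [show a • y = M *ᵥ v - u by rw [← huz]; abel]
          refine sub_mem (Submodule.subset_span (by simp [S])) (Submodule.span_mono ?_ hu)
          simp [S]
        have h3 : a • y = 0 := (Submodule.eq_bot_iff _).1 hC.inf_eq_bot _ ⟨h2, C.smul_mem a hyC⟩
        rw [h3, add_zero] at huz
        exact hn' (huz ▸ hu)) 1
    obtain ⟨h, hh, hhv⟩ := exists_omega_of_isom hg
    have h4 : (h : Matrix ι ι F) *ᵥ (M *ᵥ v) = M *ᵥ v := by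
      rw [mulVec_mulVec, ← hM h hh, ← mulVec_mulVec, hhv, hgU v (Submodule.mem_span_singleton_self v)]
    rw [hhv, hgw, one_smul] at h4
    exact hy0 (by simpa using h4)
  choose c hc using fun v => Submodule.mem_span_singleton.1 (key v)
  have : Nonempty ι := Fintype.card_pos_iff.1 (by omega)
  refine ⟨c 1, Matrix.ext fun i j => ?_⟩
  have hij : ∀ a b, M a b = if a = b then c (Pi.single b 1) else 0 := by
    intro a b
    have := congrFun (hc (Pi.single b 1)) a
    simp [Pi.single_apply] at this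
    rw [← this]
  have h1 := congrFun (hc 1) i
  simp only [Pi.smul_apply, Pi.one_apply, smul_eq_mul, mul_one, mulVec, dotProduct] at h1
  rw [hij i j, Matrix.smul_apply, Matrix.one_apply, smul_eq_mul]
  by_cases h : i = j
  · subst h
    rw [if_pos rfl, if_pos rfl, mul_one, h1, Finset.sum_congr rfl fun b _ => hij i b, Finset.sum_ite_eq]
    simp
  · rw [if_neg h, if_neg h, mul_zero]

theorem omega_absolutelyIrreducible : ActsAbsolutelyIrreducibly (matrixSet (omegaGL (⇑Q))) := by
  refine ⟨fun W hW => ?_, fun M hM => omega_commutant hQ h7 fun g hg => hM _ ⟨g, hg, rfl⟩⟩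
  by_contra h
  push Not at h
  refine omega_not_le_subspaceStabilizer hQ h7 h.1 h.2 fun g hg => mem_subspaceStabilizer_of_maps fun x hx => ?_
  exact hW _ ⟨g, hg, rfl⟩ ⟨x, hx, Matrix.toLin'_apply _ _⟩

end GLPart

end CfsgLib.Aschbacher
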