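import Cfsg.Agent.Lib.Aschbacher.OrthCongr
import Cfsg.Agent.Lib.Aschbacher.OrthOddLists
import Cfsg.Agent.Lib.Aschbacher.OrthMove
import Cfsg.Agent.Lib.Aschbacher.OrthReducible

/-!
Over the field with three elements the stabiliser of an orthogonal decomposition into 3-spaces permutes a frame of lines.
-/

set_option autoImplicit false
set_option linter.unusedSectionVars false

namespace CfsgLib.Aschbacher.Orth

open Cfsg.Geo Matrix CfsgLib.Classical
open QuadraticMap (polar)
open scoped MatrixGroups

variable {ι : Type} [Fintype ι] [DecidableEq ι] {F : Type*} [Field F] [Fintype F]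

/-- In the field with three elements a sum of three squares is one only if exactly one of them is non-zero. -/
theorem exists_single_of_sum_sq (hq : Fintype.card F = 3) (x : Fin 3 → F) (hx : ∑ j, x j * x j = 1) :
    ∃ k, x k ≠ 0 ∧ ∀ j, j ≠ k → x j = 0 := by
  have h3 : (3 : F) = 0 := by
    have h := FiniteField.cast_card_eq_zero F
    rw [hq] at h
    exact_mod_cast h
  have hsq : ∀ y : F, y = 0 ∨ y * y = 1 := fun y => by
    by_cases hy : y = 0
    · exact Or.inl hy
    · have h := FiniteField.pow_card_sub_one_eq_one y hy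
      rw [hq, pow_two] at h
      exact Or.inr h
  rw [Fin.sum_univ_three] at hx
  rcases hsq (x 0) with a | a <;> rcases hsq (x 1) with b | b <;> rcases hsq (x 2) with c | c
  · simp [a, b, c] at hx
  · exact ⟨2, fun h => by simp [h] at c, fun j hj => by fin_cases j <;> simp_all⟩
  · exact ⟨1, fun h => by simp [h] at b, fun j hj => by fin_cases j <;> simp_all⟩
  · exact absurd (by rw [b, c, a] at hx; linear_combination hx) (one_ne_zero (α := F))
  · exact ⟨0, fun h => by simp [h] at a, fun j hj => by fin_cases j <;> simp_all⟩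
  · exact absurd (by rw [a, c, b] at hx; linear_combination hx) (one_ne_zero (α := F))
  · exact absurd (by rw [a, b, c] at hx; linear_combination hx) (one_ne_zero (α := F))
  · exact absurd (by rw [a, b, c] at hx; linear_combination h3 - hx) (one_ne_zero (α := F))

/-- The frame refining a decomposition into orthogonal isometric 3-spaces when there are three scalars. -/
theorem exists_frame_of_triples {Q : QuadraticForm F (ι → F)} (hq : Fintype.card F = 3) {t : ℕ}
    {D : Fin t → Submodule F (ι → F)} (hD : IsOrthogonalMDecomposition (⇑Q) 3 D) :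
    ∃ D' : Fin (t * 3) → Submodule F (ι → F), IsOrthogonalMDecomposition (⇑Q) 1 D' ∧
      ∀ g : GL ι F, (∀ x, Q ((g : Matrix ι ι F) *ᵥ x) = Q x) → g ∈ decompositionStabilizer D →
        g ∈ decompositionStabilizer D' := by
  classical
  have h2 : (2 : F) ≠ 0 := two_ne_zero_of_odd (by rw [hq]; decide)
  have h2t := hD.decomp.decomp.two_le
  let i0 : Fin t := ⟨0, by omega⟩
  let b := Module.finBasisOfFinrankEq F (D i0) (hD.decomp.decomp.finrank_eq i0)
  let B := QuadraticMap.polarBilin Q
  have hBsymm : ∀ x y, B x y = B y x := fun x y => by simp [B, QuadraticMap.polar_comm]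
  let G : Matrix (Fin 3) (Fin 3) F := Matrix.of fun i j => B (b i : ι → F) (b j : ι → F)
  have hGt : Gᵀ = G := by ext i j; exact hBsymm _ _
  have hGu : IsUnit G := by
    rw [← Matrix.mulVec_injective_iff_isUnit]
    intro x y hxy
    have h0 : G *ᵥ (x - y) = 0 := by rw [mulVec_sub, hxy, sub_self]
    by_contra hne
    have hw : ((∑ j, (x - y) j • b j : D i0) : ι → F) ≠ 0 := by
      intro h
      have := Fintype.linearIndependent_iff.1 b.linearIndependent _ (Subtype.ext h)
      exact hne (funext fun j => sub_eq_zero.1 (this j))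
    obtain ⟨⟨z, hz, hzne⟩, -⟩ := hD.decomp.nondegenerate i0 _ (Subtype.mem _) hw
    have key : ∀ i, B (b i : ι → F) (((∑ j, (x - y) j • b j : D i0)) : ι → F) = 0 := fun i => by
      refine Eq.trans ?_ (congrFun h0 i)
      rw [Submodule.coe_sum, map_sum]
      simp only [mulVec, dotProduct]
      exact Finset.sum_congr rfl fun j _ => by
        rw [Submodule.coe_smul_of_tower, map_smul, smul_eq_mul, mul_comm]
        rfl
    apply hzne
    change B z _ = 0
    rw [show z = ((∑ i, b.repr ⟨z, hz⟩ i • b i : D i0) : ι → F) by rw [b.sum_repr]]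
    rw [Submodule.coe_sum]
    simp only [Submodule.coe_smul_of_tower, map_sum, map_smul, LinearMap.sum_apply, LinearMap.smul_apply]
    exact Finset.sum_eq_zero fun i _ => by rw [key i, smul_zero]
  obtain ⟨c, hc, C, hC⟩ := exists_congr_scalar h2 (by decide) (G := (1 : Matrix (Fin 3) (Fin 3) F)) (G' := G)
    (transpose_one) hGt isUnit_one hGu
  let w : Fin 3 → D i0 := fun j => ∑ i, (C : Matrix (Fin 3) (Fin 3) F) i j • b i
  have hw : ∀ j k, B (w j : ι → F) (w k) = if j = k then c else 0 := fun j k => by
    have h := congrFun (congrFun hC j) k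
    simp only [mul_apply, transpose_apply, Finset.sum_mul, Matrix.smul_apply, one_apply, smul_eq_mul, mul_ite,
      mul_one, mul_zero, G, Matrix.of_apply] at h
    rw [← h]
    simp only [w, Submodule.coe_sum, Submodule.coe_smul, map_sum, map_smul, LinearMap.sum_apply, LinearMap.smul_apply,
      smul_eq_mul, Finset.mul_sum]
    exact Finset.sum_congr rfl fun i _ => Finset.sum_congr rfl fun l _ => by ring
  choose e he using fun i => hD.isometric i0 i
  let v : Fin t × Fin 3 → (ι → F) := fun p => (e p.1 (w p.2) : D p.1)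
  have hvD : ∀ p, v p ∈ D p.1 := fun p => Subtype.mem _
  have heB : ∀ i (x y : D i0), B (e i x : ι → F) (e i y) = B (x : ι → F) y := fun i x y => by
    simp only [B, QuadraticMap.polarBilin_apply_apply, QuadraticMap.polar, ← Submodule.coe_add, ← map_add, he]
  have hv : ∀ p r, B (v p) (v r) = if p = r then c else 0 := fun p r => by
    obtain ⟨i, j⟩ := p
    obtain ⟨i', k⟩ := r
    by_cases hii : i = i'
    · subst hii
      simp only [v, heB, hw, Prod.mk.injEq, true_and]
    · rw [if_neg fun h => hii (congrArg Prod.fst h)]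
      exact hD.decomp.orthogonal i i' hii _ (hvD (i, j)) _ (hvD (i', k))
  have hself : ∀ p, (2 : F) * Q (v p) = c := fun p => by
    have h := hv p p
    rw [if_pos rfl] at h
    rw [← h]
    simp [B, QuadraticMap.polar_self, two_mul, two_smul]
  have hv0 : ∀ p, v p ≠ 0 := fun p h => hc (by rw [← hself p, h, map_zero, mul_zero])
  have hli : LinearIndependent F v := Fintype.linearIndependent_iff.2 fun g hg p => by
    have h := congrArg (fun z => B z (v p)) hg
    simp only [map_sum, map_smul, LinearMap.sum_apply, LinearMap.smul_apply, smul_eq_mul, hv, mul_ite, mul_zero,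
      Finset.sum_ite_eq', Finset.mem_univ, if_true, map_zero, LinearMap.zero_apply] at h
    exact (mul_eq_zero.1 h).resolve_right hc
  have hcard : Fintype.card (Fin t × Fin 3) = Module.finrank F (ι → F) := by
    rw [Module.finrank_fintype_fun_eq_card, ← card_eq_of_decomposition hD.decomp.decomp]
    simp
  have hspan : Submodule.span F (Set.range v) = ⊤ := hli.span_eq_top_of_card_eq_finrank' hcard
  have hinD : ∀ i, ∀ z ∈ D i, ∃ x : Fin 3 → F, z = ∑ j, x j • v (i, j) := by
    intro i z hz
    have hli' : LinearIndependent F fun j => e i (w j) := by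
      apply LinearIndependent.of_comp (D i).subtype
      exact hli.comp (fun j => (i, j)) fun a b h => congrArg Prod.snd h
    have hs := hli'.span_eq_top_of_card_eq_finrank'
      (by rw [hD.decomp.decomp.finrank_eq i, Fintype.card_fin])
    obtain ⟨x, hx⟩ := Submodule.mem_span_range_iff_exists_fun F |>.1 (hs ▸ Submodule.mem_top : (⟨z, hz⟩ : D i) ∈ _)
    exact ⟨x, by simpa [v] using (congrArg Subtype.val hx).symm⟩
  let eqv : Fin (t * 3) ≃ Fin t × Fin 3 := finProdFinEquiv.symm
  let D' : Fin (t * 3) → Submodule F (ι → F) := fun p => Submodule.span F {v (eqv p)}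
  refine ⟨D', ⟨⟨⟨by omega, one_pos, fun p => finrank_span_singleton (hv0 _), ?_, ?_⟩,
    fun p => nondegenerateOn_span_singleton h2 fun h => hc (by rw [← hself (eqv p), h, mul_zero]), ?_⟩, ?_⟩, ?_⟩
  · exact (hli.comp _ eqv.injective).iSupIndep_span_singleton
  · rw [← Submodule.span_iUnion, ← hspan]
    congr 1
    ext z
    simp only [Set.mem_iUnion, Set.mem_singleton_iff, Set.mem_range]
    exact ⟨fun ⟨p, h⟩ => ⟨eqv p, h.symm⟩, fun ⟨p, h⟩ => ⟨eqv.symm p, by rw [eqv.apply_symm_apply]; exact h.symm⟩⟩
  · intro p r hpr x hx y hy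
    obtain ⟨a, rfl⟩ := Submodule.mem_span_singleton.1 hx
    obtain ⟨a', rfl⟩ := Submodule.mem_span_singleton.1 hy
    change B _ _ = 0
    simp [hv, show eqv p ≠ eqv r from eqv.injective.ne hpr]
  · intro p r
    refine ⟨(LinearEquiv.toSpanNonzeroSingleton F _ _ (hv0 (eqv p))).symm.trans
      (LinearEquiv.toSpanNonzeroSingleton F _ _ (hv0 (eqv r))), fun x => ?_⟩
    obtain ⟨a, rfl⟩ := (LinearEquiv.toSpanNonzeroSingleton F _ _ (hv0 (eqv p))).surjective x
    rw [LinearEquiv.trans_apply, LinearEquiv.symm_apply_apply]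
    simp only [LinearEquiv.toSpanNonzeroSingleton_apply, QuadraticMap.map_smul]
    rw [mul_left_cancel₀ h2 ((hself (eqv p)).trans (hself (eqv r)).symm)]
    exact QuadraticMap.map_smul Q a (v (eqv r))
  · rintro g hg ⟨σ, hσ⟩
    have hinj : Function.Injective fun x => (g : Matrix ι ι F) *ᵥ x :=
      Matrix.mulVec_injective_iff_isUnit.2 g.isUnit
    have key : ∀ p, ∃ r, ∃ a : F, a ≠ 0 ∧ (g : Matrix ι ι F) *ᵥ v p = a • v r := fun p => by
      have hmem : (g : Matrix ι ι F) *ᵥ v p ∈ D (σ p.1) :=
        hσ p.1 ▸ ⟨v p, hvD p, Matrix.toLin'_apply _ _⟩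
      obtain ⟨x, hx⟩ := hinD _ _ hmem
      have hB : B ((g : Matrix ι ι F) *ᵥ v p) ((g : Matrix ι ι F) *ᵥ v p) = c := by
        rw [← hself p, ← hg (v p)]
        simp [B, QuadraticMap.polar_self, two_mul, two_smul]
      rw [hx] at hB
      simp only [map_sum, map_smul, LinearMap.sum_apply, LinearMap.smul_apply, smul_eq_mul, hv, Prod.mk.injEq,
        true_and, mul_ite, mul_zero, Finset.sum_ite_eq', Finset.mem_univ, if_true] at hB
      obtain ⟨k, hk, hk0⟩ := exists_single_of_sum_sq hq x
        (mul_right_cancel₀ hc (by rw [one_mul, Finset.sum_mul]; simpa only [mul_assoc] using hB))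
      refine ⟨(σ p.1, k), x k, hk, ?_⟩
      rw [hx, Finset.sum_eq_single k (fun j _ hj => by rw [hk0 j hj, zero_smul]) (by simp)]
    choose f a ha hf using key
    have hfinj : Function.Injective f := fun p r h => by
      by_contra hne
      have h' : a r • v p = a p • v r := hinj (by simp only [mulVec_smul, hf, h, smul_smul, mul_comm])
      have := congrArg (fun z => B z (v p)) h'
      simp only [map_smul, LinearMap.smul_apply, hv, if_true, if_neg (Ne.symm hne), smul_eq_mul, mul_zero] at this
      exact mul_ne_zero (ha r) hc this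
    let τ : Equiv.Perm (Fin t × Fin 3) := Equiv.ofBijective f (Finite.injective_iff_bijective.1 hfinj)
    refine ⟨(eqv.trans τ).trans eqv.symm, fun p => ?_⟩
    simp only [D', Equiv.trans_apply, Equiv.apply_symm_apply, Submodule.map_span, Set.image_singleton,
      Matrix.toLin'_apply, hf]
    exact Submodule.span_singleton_smul_eq (ha _).isUnit _

end CfsgLib.Aschbacher.Orth
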