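import Cfsg.Agent.Lib.Aschbacher.OrthTensor
import Cfsg.Agent.Lib.Aschbacher.OrthCongr

/-!
A tensor power stabiliser of the polar form in odd dimension: equal factors, and for three-dimensional factors over
three elements a frame.
-/

set_option autoImplicit false
set_option linter.unusedSectionVars false

namespace CfsgLib.Aschbacher.Orth

open Cfsg.Geo Matrix
open QuadraticMap (polar)
open scoped MatrixGroups Kronecker

variable {F : Type*} [Field F] [Fintype F]

section Standard

variable {d t : ℕ}

theorem permMat_mul_permMat (σ τ : Equiv.Perm (Fin t)) :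
    (permMat σ : Matrix (Fin t → Fin d) (Fin t → Fin d) F) * permMat τ = permMat (σ * τ) := by
  ext p q
  rw [permMat_mul_apply]
  simp [permMat, Function.comp_assoc]
  congr

theorem permMat_one : (permMat (1 : Equiv.Perm (Fin t)) : Matrix (Fin t → Fin d) (Fin t → Fin d) F) = 1 := by
  ext p q
  simp [permMat, Matrix.one_apply, eq_comm]

theorem permMat_transpose (σ : Equiv.Perm (Fin t)) :
    (permMat σ : Matrix (Fin t → Fin d) (Fin t → Fin d) F)ᵀ = permMat σ.symm := by
  ext p q
  have h : p = q ∘ σ ↔ q = p ∘ σ.symm :=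
    ⟨fun h => by funext j; simp [h], fun h => by funext j; simp [h]⟩
  simp [permMat, h]

/-- The elements of the standard wreath group: a permutation of factors times a pure tensor. -/
theorem exists_factorisation {g : GL (Fin t → Fin d) F} (hg : g ∈ tensorWreathStandard d t F) :
    ∃ (σ : Equiv.Perm (Fin t)) (a : Fin t → GL (Fin d) F),
      (g : Matrix (Fin t → Fin d) (Fin t → Fin d) F) = permMat σ * pureMat fun i => (a i : Matrix (Fin d) (Fin d) F) := by
  classical
  induction hg using Subgroup.closure_induction with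
  | mem x hx =>
    rcases hx with ⟨gs, hgs⟩ | ⟨σ, hσ⟩
    · refine ⟨1, gs, ?_⟩
      rw [permMat_one, one_mul]
      ext p q
      exact hgs p q
    · refine ⟨σ, fun _ => 1, ?_⟩
      rw [show (fun _ : Fin t => ((1 : GL (Fin d) F) : Matrix (Fin d) (Fin d) F)) = fun _ => 1 from rfl, pureMat_one,
        mul_one]
      ext p q
      simp [permMat, hσ]
  | one => exact ⟨1, fun _ => 1, by simp [permMat_one, pureMat_one]⟩
  | mul x y _ _ hx hy =>
    obtain ⟨σ, a, ha⟩ := hx
    obtain ⟨τ, b, hb⟩ := hy
    refine ⟨σ * τ, fun i => a (τ i) * b i, ?_⟩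
    have h : (pureMat fun i => (a i : Matrix (Fin d) (Fin d) F)) * permMat τ =
        permMat τ * pureMat fun i => (a (τ i) : Matrix (Fin d) (Fin d) F) := by
      rw [← pureMat_mul_permMat τ (fun i => (a (τ i) : Matrix (Fin d) (Fin d) F))]
      simp
    rw [Units.val_mul, ha, hb, mul_assoc (permMat σ : Matrix (Fin t → Fin d) (Fin t → Fin d) F), ← mul_assoc (pureMat _),
      h, mul_assoc (permMat τ : Matrix (Fin t → Fin d) (Fin t → Fin d) F), ← mul_assoc, permMat_mul_permMat,
      pureMat_mul]
    simp only [Units.val_mul]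
  | inv x _ hx =>
    obtain ⟨σ, a, ha⟩ := hx
    refine ⟨σ.symm, fun i => (a (σ.symm i))⁻¹, ?_⟩
    refine Units.inv_eq_of_mul_eq_one_right ?_
    have h : (pureMat fun i => (a i : Matrix (Fin d) (Fin d) F)) * permMat σ.symm =
        permMat σ.symm * pureMat fun i => (a (σ.symm i) : Matrix (Fin d) (Fin d) F) := by
      rw [← pureMat_mul_permMat σ.symm (fun i => (a (σ.symm i) : Matrix (Fin d) (Fin d) F))]
      simp
    rw [ha, mul_assoc, ← mul_assoc (pureMat _), h, ← mul_assoc, ← mul_assoc, permMat_mul_inv, one_mul, pureMat_mul]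
    simp [pureMat_one]

theorem pureMat_transpose (f : Fin t → Matrix (Fin d) (Fin d) F) : (pureMat f)ᵀ = pureMat fun i => (f i)ᵀ := rfl

theorem pureMat_smul_each (c : Fin t → F) (f : Fin t → Matrix (Fin d) (Fin d) F) :
    pureMat (fun i => c i • f i) = (∏ i, c i) • pureMat f := by
  ext p q
  simp [pureMat, Finset.prod_mul_distrib]

/-- A scalar pure tensor has scalar factors. -/
theorem scalar_of_pure_scalar [NeZero d] {b : Fin t → Matrix (Fin d) (Fin d) F} {c : F} (hc : c ≠ 0)
    (h : pureMat b = c • 1) (i : Fin t) : ∃ l : F, b i = l • (1 : Matrix (Fin d) (Fin d) F) := by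
  classical
  have hval : ∀ p q : Fin t → Fin d, ∏ j, b j (p j) (q j) = if p = q then c else 0 := fun p q => by
    have := congrFun (congrFun h p) q
    simpa [pureMat, Matrix.one_apply] using this
  set p₀ : Fin t → Fin d := fun _ => 0
  have hne : ∀ j, b j 0 0 ≠ 0 := fun j => by
    have := hval p₀ p₀
    rw [if_pos rfl] at this
    exact (Finset.prod_ne_zero_iff.1 (by rw [this]; exact hc)) j (Finset.mem_univ j)
  have hrest : ∀ k l : Fin d, ∏ j ∈ Finset.univ.erase i, b j (Function.update p₀ i k j) (Function.update p₀ i l j) =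
      ∏ j ∈ Finset.univ.erase i, b j 0 0 := fun k l => Finset.prod_congr rfl fun j hj => by
    rw [Function.update_of_ne (Finset.ne_of_mem_erase hj), Function.update_of_ne (Finset.ne_of_mem_erase hj)]
  refine ⟨b i 0 0, Matrix.ext fun k l => ?_⟩
  have h1 := hval (Function.update p₀ i k) (Function.update p₀ i l)
  have h2 := hval (Function.update p₀ i 0) (Function.update p₀ i 0)
  rw [← Finset.mul_prod_erase _ _ (Finset.mem_univ i), Function.update_self, Function.update_self, hrest] at h1
  rw [← Finset.mul_prod_erase _ _ (Finset.mem_univ i), Function.update_self, hrest, if_pos rfl] at h2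
  have hr : ∏ j ∈ Finset.univ.erase i, b j 0 0 ≠ 0 := Finset.prod_ne_zero_iff.2 fun j _ => hne j
  rw [Matrix.smul_apply, Matrix.one_apply, smul_eq_mul]
  by_cases hkl : k = l
  · subst hkl
    rw [if_pos rfl] at h1
    rw [if_pos rfl, mul_one]
    exact mul_right_cancel₀ hr (h1.trans h2.symm)
  · rw [if_neg fun e => hkl (by simpa using congrFun e i)] at h1
    rw [if_neg hkl, mul_zero]
    exact (mul_eq_zero.1 h1).resolve_right hr

/-- Over three elements the three-dimensional orthogonal group is monomial. -/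
theorem monomial_of_three (hq : Fintype.card F = 3) {a : Matrix (Fin 3) (Fin 3) F} {c : F} (hc : c ≠ 0)
    (h : aᵀ * a = c • 1) (j : Fin 3) : ∃ k, ∀ l, l ≠ k → a l j = 0 := by
  have hsq : ∀ x : F, x ≠ 0 → x * x = 1 := fun x hx => by
    have := FiniteField.pow_card_sub_one_eq_one x hx
    rwa [hq, show 3 - 1 = 2 from rfl, sq] at this
  have h3 : (3 : F) = 0 := by
    have := Nat.cast_card_eq_zero F
    rw [hq] at this
    simpa using this
  have hc1 : c = 1 := by
    have hd := congrArg Matrix.det h
    rw [det_mul, det_transpose, det_smul, det_one, mul_one, Fintype.card_fin, pow_succ, sq, hsq c hc, one_mul] at hd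
    rw [← hd]
    exact hsq _ fun h0 => hc (by rw [← hd, h0, mul_zero])
  have hj := congrFun (congrFun h j) j
  simp [Matrix.mul_apply, Fin.sum_univ_three, hc1] at hj
  by_contra hno
  push Not at hno
  obtain ⟨l1, h1, n1⟩ := hno 0
  obtain ⟨l2, h2, n2⟩ := hno 1
  obtain ⟨l3, h3', n3⟩ := hno 2
  by_cases e0 : a 0 j = 0 <;> by_cases e1 : a 1 j = 0 <;> by_cases e2 : a 2 j = 0
  · fin_cases l1 <;> simp_all
  · fin_cases l3 <;> simp_all
  · fin_cases l2 <;> simp_all
  · rw [e0, hsq _ e1, hsq _ e2] at hj
    exact one_ne_zero (by linear_combination hj : (1 : F) = 0)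
  · fin_cases l1 <;> simp_all
  · rw [e1, hsq _ e0, hsq _ e2] at hj
    exact one_ne_zero (by linear_combination hj : (1 : F) = 0)
  · rw [e2, hsq _ e0, hsq _ e1] at hj
    exact one_ne_zero (by linear_combination hj : (1 : F) = 0)
  · rw [hsq _ e0, hsq _ e1, hsq _ e2] at hj
    exact one_ne_zero (by linear_combination -hj + h3 : (1 : F) = 0)

end Standard

variable {ι : Type} [Fintype ι] [DecidableEq ι] {Q : QuadraticForm F (ι → F)}

/-- A tensor power structure with symmetric factors gives equal factors or, in the monomial case, a frame. -/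
theorem wreath_cases (h2 : (2 : F) ≠ 0) {d t : ℕ} (hd : Odd d) (ht : 2 ≤ t)
    (hd3 : 3 ≤ d) (e : ι ≃ (Fin t → Fin d)) (P : GL ι F) {c : F} (hc : c ≠ 0) {a : Fin t → Matrix (Fin d) (Fin d) F}
    (hau : ∀ i, IsUnit (a i)) (has : ∀ i, (a i)ᵀ = a i) (hA : coordGram Q e P = c • pureMat a)
    {H : Subgroup (GL ι F)} (hH : ∀ g ∈ H, ∀ x, Q ((g : Matrix ι ι F) *ᵥ x) = Q x)
    (hle : H ≤ tensorWreathSubgroup d t e P) :
    (¬ (Fintype.card F = 3 ∧ d = 3) ∧ ∃ (P' : GL ι F) (f₁ : (Fin d → F) → (Fin d → F) → F), IsSymmetricForm f₁ ∧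
        IsTensorPowerFormStructure id (polar (⇑Q)) f₁ e P' ∧ H ≤ tensorWreathSubgroup d t e P') ∨
      ((Fintype.card F).Prime ∧ ∃ (N : ℕ) (D : Fin N → Submodule F (ι → F)),
        IsOrthogonalMDecomposition (⇑Q) 1 D ∧ H ≤ decompositionStabilizer D) := by
  classical
  have : NeZero d := ⟨by omega⟩
  let G₁ : Matrix (Fin d) (Fin d) F := if Fintype.card F = 3 ∧ d = 3 then 1 else a ⟨0, by omega⟩
  have hG₁ : G₁ᵀ = G₁ ∧ IsUnit G₁ := by
    by_cases h33 : Fintype.card F = 3 ∧ d = 3
    · rw [show G₁ = 1 from if_pos h33]; exact ⟨transpose_one, isUnit_one⟩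
    · rw [show G₁ = a ⟨0, by omega⟩ from if_neg h33]; exact ⟨has _, hau _⟩
  choose l hl B hB using fun i =>
    exists_congr_scalar h2 (by simpa using hd) hG₁.1 (has i) hG₁.2 (hau i)
  let pU : GL (Fin t → Fin d) F :=
    { val := pureMat fun i => (B i : Matrix (Fin d) (Fin d) F)
      inv := pureMat fun i => (((B i)⁻¹ : GL (Fin d) F) : Matrix (Fin d) (Fin d) F)
      val_inv := by rw [pureMat_mul]; simp [pureMat_one]
      inv_val := by rw [pureMat_mul]; simp [pureMat_one] }
  have hpU : pU ∈ tensorWreathStandard d t F := Subgroup.subset_closure (Or.inl ⟨B, fun p q => rfl⟩)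
  set R := (glReindex e.symm : GL (Fin t → Fin d) F ≃* GL ι F) with hR
  set P' := P * R pU with hP'
  set c' := c * ∏ i, l i with hc'
  have hc0 : c' ≠ 0 := mul_ne_zero hc (Finset.prod_ne_zero_iff.2 fun i _ => hl i)
  have hA' : coordGram Q e P' = c' • pureMat fun _ => G₁ := by
    have e1 : coordGram Q e P' = (pU : Matrix (Fin t → Fin d) (Fin t → Fin d) F)ᵀ * coordGram Q e P *
        (pU : Matrix (Fin t → Fin d) (Fin t → Fin d) F) := by
      set M := (P : Matrix ι ι F)ᵀ * gramQ Q * (P : Matrix ι ι F) with hM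
      have : (P' : Matrix ι ι F)ᵀ * gramQ Q * (P' : Matrix ι ι F) =
          ((R pU : GL ι F) : Matrix ι ι F)ᵀ * M * ((R pU : GL ι F) : Matrix ι ι F) := by
        rw [hP', Units.val_mul, transpose_mul, hM]; simp only [mul_assoc]
      rw [coordGram, this, coordGram, ← hM, ← Matrix.coe_reindexAlgEquiv F F, map_mul, map_mul]
      have f1 : Matrix.reindexAlgEquiv F F e ((R pU : GL ι F) : Matrix ι ι F) =
          (pU : Matrix (Fin t → Fin d) (Fin t → Fin d) F) := by ext p q; simp [hR, glReindex]
      have f2 : Matrix.reindexAlgEquiv F F e ((R pU : GL ι F) : Matrix ι ι F)ᵀ =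
          (pU : Matrix (Fin t → Fin d) (Fin t → Fin d) F)ᵀ := by ext p q; simp [hR, glReindex]
      rw [f1, f2]
    rw [e1, hA]
    show (pureMat _)ᵀ * _ * pureMat _ = _
    rw [pureMat_transpose, Matrix.mul_smul, Matrix.smul_mul, pureMat_mul, pureMat_mul]
    simp only [hB, pureMat_smul_each]
    rw [smul_smul, hc']
  have hle' : H ≤ tensorWreathSubgroup d t e P' := by
    intro g hg
    obtain ⟨y, ⟨x, hx, rfl⟩, rfl⟩ := hle hg
    refine ⟨R (pU⁻¹ * x * pU), ⟨_, mul_mem (mul_mem (inv_mem hpU) hx) hpU, rfl⟩, ?_⟩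
    show P' * R (pU⁻¹ * x * pU) * P'⁻¹ = P * R x * P⁻¹
    rw [hP', map_mul, map_mul, map_inv]
    group
  by_cases h33 : Fintype.card F = 3 ∧ d = 3
  swap
  · obtain ⟨hsym, hgram⟩ := formOfGram_symmetric hG₁.1 hG₁.2
    refine Or.inl ⟨h33, P', formOfGram id G₁, hsym, ⟨c', hc0, fun x y => ?_⟩, hle'⟩
    rw [coordGram_apply, hA', smul_mulVec, dotProduct_smul, smul_eq_mul, hgram]
    congr 1
    simp only [dotProduct, mulVec, Finset.mul_sum, pureMat, Matrix.of_apply, id_eq]
    exact Finset.sum_congr rfl fun p _ => Finset.sum_congr rfl fun q _ => by ring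
  · obtain ⟨hq, rfl⟩ := h33
    have hG1 : G₁ = 1 := if_pos ⟨hq, rfl⟩
    rw [hG1, pureMat_one] at hA'
    refine Or.inr ⟨hq ▸ Nat.prime_three, ?_⟩
    let ε : Fin (Fintype.card ι) ≃ (Fin t → Fin 3) := ((Fintype.equivFin ι).symm).trans e
    let v : (Fin t → Fin 3) → (ι → F) := fun p => (P' : Matrix ι ι F) *ᵥ ((Pi.single p 1 : _ → F) ∘ e)
    have hv : ∀ p q, polar Q (v p) (v q) = if p = q then c' else 0 := fun p q => by
      rw [coordGram_apply, hA', smul_mulVec, one_mulVec, dotProduct_smul, single_dotProduct, one_mul,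
        Pi.single_apply, smul_eq_mul]
      split <;> simp
    have hQv : ∀ p, Q (v p) = c' / 2 := fun p => by
      have := hv p p
      rw [if_pos rfl, CfsgLib.Geom.polar_self_two] at this
      field_simp
      linear_combination this
    have hvne : ∀ p, v p ≠ 0 := fun p h => by
      have := hv p p
      rw [h, QuadraticMap.polar_zero_left, if_pos rfl] at this
      exact hc0 this.symm
    let D : Fin (Fintype.card ι) → Submodule F (ι → F) := fun j => Submodule.span F {v (ε j)}
    have hli : LinearIndependent F fun j => v (ε j) := by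
      rw [Fintype.linearIndependent_iff]
      intro g hg j
      have := congrArg (fun x => polar Q x (v (ε j))) hg
      simp only [QuadraticMap.polar_zero_left] at this
      rw [← QuadraticMap.polarBilin_apply_apply, map_sum, LinearMap.sum_apply] at this
      simp only [LinearMap.map_smul, LinearMap.smul_apply, QuadraticMap.polarBilin_apply_apply, hv,
        ε.injective.eq_iff, smul_eq_mul, mul_ite, mul_zero, Finset.sum_ite_eq', Finset.mem_univ, if_true] at this
      exact (mul_eq_zero.1 this).resolve_right hc0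
    have hcard : 2 ≤ Fintype.card ι := by
      rw [Fintype.card_congr e, Fintype.card_fun, Fintype.card_fin, Fintype.card_fin]
      calc 2 ≤ 3 ^ 1 := by norm_num
        _ ≤ 3 ^ t := Nat.pow_le_pow_right (by norm_num) (by omega)
    refine ⟨_, D, ⟨⟨⟨hcard, one_pos, fun j => finrank_span_singleton (hvne _), ?_, ?_⟩, fun j w hw hw0 => ?_,
      fun i j hij x hx y hy => ?_⟩, fun i j => ?_⟩, fun g hg => ?_⟩
    · exact iSupIndep_def.2 (fun i => (hli.iSupIndep_span_singleton i))
    · rw [← Submodule.span_range_eq_iSup]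
      refine hli.span_eq_top_of_card_eq_finrank' ?_
      rw [Fintype.card_fin, Module.finrank_fintype_fun_eq_card]
    · obtain ⟨r, rfl⟩ := Submodule.mem_span_singleton.1 hw
      have hr : r ≠ 0 := fun h => hw0 (by rw [h, zero_smul])
      have h1 : polar Q (r • v (ε j)) (v (ε j)) ≠ 0 := by
        rw [QuadraticMap.polar_smul_left, hv, if_pos rfl, smul_eq_mul]; exact mul_ne_zero hr hc0
      exact ⟨⟨_, Submodule.mem_span_singleton_self _, by rwa [QuadraticMap.polar_comm]⟩,
        ⟨_, Submodule.mem_span_singleton_self _, h1⟩⟩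
    · obtain ⟨r, rfl⟩ := Submodule.mem_span_singleton.1 hx
      obtain ⟨s, rfl⟩ := Submodule.mem_span_singleton.1 hy
      rw [QuadraticMap.polar_smul_left, QuadraticMap.polar_smul_right, hv,
        if_neg (fun h => hij (ε.injective h)), smul_zero, smul_zero]
    · refine ⟨(LinearEquiv.toSpanNonzeroSingleton F _ _ (hvne (ε i))).symm.trans
        (LinearEquiv.toSpanNonzeroSingleton F _ _ (hvne (ε j))), fun w => ?_⟩
      obtain ⟨r, rfl⟩ := (LinearEquiv.toSpanNonzeroSingleton F _ _ (hvne (ε i))).surjective w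
      simp only [LinearEquiv.trans_apply, LinearEquiv.symm_apply_apply]
      show Q (r • v (ε j)) = Q (r • v (ε i))
      rw [QuadraticMap.map_smul, QuadraticMap.map_smul, hQv, hQv]
    · obtain ⟨y, ⟨x, hx, rfl⟩, hgy⟩ := hle' hg
      obtain ⟨σ, b, hxb⟩ := exists_factorisation hx
      have hgv : ∀ p, (g : Matrix ι ι F) *ᵥ v p =
          (P' : Matrix ι ι F) *ᵥ (((x : Matrix (Fin t → Fin 3) (Fin t → Fin 3) F) *ᵥ Pi.single p 1) ∘ e) := by
        intro p
        rw [← hgy]
        show ((P' * R x * P'⁻¹ : GL ι F) : Matrix ι ι F) *ᵥ _ = _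
        rw [Units.val_mul, Units.val_mul, ← mulVec_mulVec, ← mulVec_mulVec,
          show ((P'⁻¹ : GL ι F) : Matrix ι ι F) *ᵥ v p = (Pi.single p 1 : _ → F) ∘ e by
            simp [v, mulVec_mulVec]]
        congr 1
        show ((x : Matrix _ _ F).submatrix e e) *ᵥ ((Pi.single p 1 : _ → F) ∘ e) = _
        rw [Matrix.submatrix_mulVec_equiv]
        simp [Function.comp_assoc]
      have hxx : (x : Matrix (Fin t → Fin 3) (Fin t → Fin 3) F)ᵀ * (x : Matrix (Fin t → Fin 3) (Fin t → Fin 3) F) = 1 := by
        ext p q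
        have h1 : polar Q ((g : Matrix ι ι F) *ᵥ v p) ((g : Matrix ι ι F) *ᵥ v q) = polar Q (v p) (v q) := by
          simp only [QuadraticMap.polar, ← mulVec_add, hH g hg]
        rw [hgv, hgv, coordGram_apply, hA', smul_mulVec, one_mulVec, dotProduct_smul, hv, smul_eq_mul] at h1
        rw [Matrix.one_apply, Matrix.mul_apply]
        have e2 : ∀ s, (x : Matrix (Fin t → Fin 3) (Fin t → Fin 3) F) *ᵥ Pi.single s 1 =
            fun r => (x : Matrix (Fin t → Fin 3) (Fin t → Fin 3) F) r s := fun s => mulVec_single_one _ _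
        rw [e2, e2] at h1
        refine mul_left_cancel₀ hc0 ?_
        rw [mul_ite, mul_one, mul_zero, ← h1]
        rfl
      rw [hxb, transpose_mul, mul_assoc, ← mul_assoc ((permMat σ : Matrix (Fin t → Fin 3) (Fin t → Fin 3) F)ᵀ),
        permMat_transpose, show permMat σ.symm * permMat σ = (1 : Matrix (Fin t → Fin 3) (Fin t → Fin 3) F) by
          simpa using permMat_mul_inv (F := F) (κ := Fin 3) σ.symm, one_mul, pureMat_transpose, pureMat_mul] at hxx
      have hmono : ∀ i j, ∃ k, ∀ s, s ≠ k → (b i : Matrix (Fin 3) (Fin 3) F) s j = 0 := by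
        intro i j
        obtain ⟨r, hr⟩ := scalar_of_pure_scalar one_ne_zero (hxx.trans (one_smul F _).symm) i
        refine monomial_of_three hq (fun h0 => ?_) hr j
        rw [h0, zero_smul] at hr
        exact (((Matrix.isUnit_transpose _).2 (b i).isUnit).mul (b i).isUnit).ne_zero hr
      choose k hk using hmono
      have hmap : ∀ p, ∃ p', (g : Matrix ι ι F) *ᵥ v p ∈ Submodule.span F {v p'} := by
        intro p
        refine ⟨fun j => k (σ.symm j) (p (σ.symm j)), ?_⟩
        rw [Submodule.mem_span_singleton]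
        refine ⟨∏ i, (b i : Matrix (Fin 3) (Fin 3) F) (k i (p i)) (p i), ?_⟩
        rw [hgv, show v _ = (P' : Matrix ι ι F) *ᵥ _ from rfl, ← mulVec_smul]
        congr 1
        funext s
        simp only [Pi.smul_apply, Function.comp_apply, smul_eq_mul, mulVec_single_one, Matrix.col_apply, hxb,
          permMat_mul_apply, pureMat, Matrix.of_apply, Pi.single_apply]
        by_cases hs : e s = fun j => k (σ.symm j) (p (σ.symm j))
        · rw [if_pos hs, mul_one, hs]
          simp
        · rw [if_neg hs, mul_zero]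
          obtain ⟨j, hj⟩ := Function.ne_iff.1 hs
          refine (Finset.prod_eq_zero (Finset.mem_univ (σ.symm j)) (hk _ _ _ ?_)).symm
          simpa using hj
      choose τ hτ using hmap
      have hinj : Function.Injective (Matrix.toLin' (g : Matrix ι ι F)) := fun a b e => by
        have := congrArg (((g⁻¹ : GL ι F) : Matrix ι ι F) *ᵥ ·) e
        simpa [mulVec_mulVec, ← Units.val_mul] using this
      have hD : ∀ j, (D j).map (Matrix.toLin' (g : Matrix ι ι F)) = D (ε.symm (τ (ε j))) := by
        intro j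
        refine Submodule.eq_of_le_of_finrank_eq ?_ ?_
        · show (Submodule.span F {v (ε j)}).map _ ≤ Submodule.span F {v (ε (ε.symm (τ (ε j))))}
          rw [Submodule.map_span_le, Equiv.apply_symm_apply]
          rintro _ rfl
          rw [Matrix.toLin'_apply]
          exact hτ _
        · rw [← (Submodule.equivMapOfInjective _ hinj _).finrank_eq]
          show Module.finrank F (Submodule.span F {v (ε j)}) = Module.finrank F (Submodule.span F {v (ε _)})
          rw [finrank_span_singleton (hvne _), finrank_span_singleton (hvne _)]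
      have hdist : ∀ i j, D i = D j → i = j := fun i j h => by
        by_contra hne
        have h1 : v (ε i) ∈ D j := h ▸ Submodule.mem_span_singleton_self _
        obtain ⟨r, hr⟩ := Submodule.mem_span_singleton.1 h1
        have := hv (ε i) (ε i)
        nth_rewrite 2 [← hr] at this
        rw [QuadraticMap.polar_smul_right, hv, if_neg (fun h => hne (ε.injective h)), smul_zero, if_pos rfl] at this
        exact hc0 this.symm
      have hσi : Function.Injective fun j => ε.symm (τ (ε j)) := fun i j h => by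
        refine hdist i j (Submodule.map_injective_of_injective hinj ?_)
        rw [hD, hD]
        exact congrArg D h
      exact ⟨Equiv.ofBijective _ (Finite.injective_iff_bijective.1 hσi), hD⟩

end CfsgLib.Aschbacher.Orth
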