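import Cfsg.Agent.Lib.Aschbacher.Main
import Cfsg.Agent.Lib.Aschbacher.Forms
import Cfsg.Agent.Lib.Aschbacher.Realise
import Cfsg.Agent.Lib.Aschbacher.OrthDecomp
import Cfsg.Agent.Lib.Aschbacher.OrthField
import Cfsg.Agent.Lib.Aschbacher.OrthWreath
import Cfsg.Agent.Lib.Aschbacher.OrthOdd
import Cfsg.Agent.Lib.Aschbacher.OrthReducible

/-!
The structure theorem for groups of isometries in odd dimension and odd characteristic.
-/

set_option autoImplicit false
set_option linter.unusedSectionVars false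

namespace CfsgLib.Aschbacher.Orth

open Cfsg.Geo Matrix CfsgLib.Classical
open QuadraticMap (polar)
open scoped MatrixGroups Kronecker

variable {F : Type*} [Field F] [Fintype F] {m : ℕ}

theorem mem_isometryGroup {g : GL (Unit ⊕ (Fin m ⊕ Fin m)) F}
    (h : ∀ x, Cfsg.quadFormOdd m F ((g : Matrix (Unit ⊕ (Fin m ⊕ Fin m)) (Unit ⊕ (Fin m ⊕ Fin m)) F) *ᵥ x) =
      Cfsg.quadFormOdd m F x) : g ∈ Cfsg.isometryGroup F (Cfsg.quadFormOdd m F) :=
  fun u _ => h u

/-- Realisable socle: a subfield member. -/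
theorem member_of_realisable (h2 : (2 : F) ≠ 0) {G P : Subgroup (GL (Unit ⊕ (Fin m ⊕ Fin m)) F)}
    (hP : IsSimpleData G P) (hfix : FixesQuadForm (matrixSet P) (Cfsg.quadFormOdd m F)) {F₀ : Subfield F}
    (h₀ : F₀ ≠ ⊤) (hreal : RealisableOver F₀ (matrixSet P)) :
    ∃ (F₁ : Subfield F) (r : ℕ) (P' : GL (Unit ⊕ (Fin m ⊕ Fin m)) F), r.Prime ∧
      Fintype.card F = Nat.card F₁ ^ r ∧ IsQuadFormRationalStructure (Cfsg.quadFormOdd m F) F₁ P' ∧
      G ≤ subfieldSubgroup F₁ P' := by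
  obtain ⟨F₁, r, P', -, hr, hcard, hle, hent⟩ := le_subfield_of_realisable hP.normal hP.alg_top h₀ hreal
  obtain ⟨ζ, hζ, hrat⟩ := OrthForms.exists_rational_polar hP.absIrred.2 (OrthOdd.quadOdd_nondeg h2) hfix
    (F₁ := F₁) (P' := P') (fun x hx i j => by
      have h := hent x hx i j
      rwa [cj_apply, inv_inv, ← Units.val_mul, ← Units.val_mul] at h)
  obtain ⟨P'', hP'', he⟩ := OrthOdd.exists_rational_scale h2 hζ hrat
  exact ⟨F₁, r, P'', hr, hcard, hP'', he ▸ hle⟩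

/-- The tensor case gives a member. -/
theorem member_of_tensor (h2 : (2 : F) ≠ 0) {G L : Subgroup (GL (Unit ⊕ (Fin m ⊕ Fin m)) F)}
    (hG : G ≤ similarityGroup (polar (⇑(qfOdd m F)))) (hLG : L ≤ G) {d k : ℕ}
    (e : (Unit ⊕ (Fin m ⊕ Fin m)) ≃ Fin d × Fin k) (P : GL (Unit ⊕ (Fin m ⊕ Fin m)) F) (hd : 2 ≤ d) (hk : 2 ≤ k)
    (hA : (alg L : Set (Matrix (Unit ⊕ (Fin m ⊕ Fin m)) (Unit ⊕ (Fin m ⊕ Fin m)) F)) = Set.range (leftFactor e P))
    (hle : G ≤ tensorProductSubgroup d k e P) {H : Subgroup (GL (Unit ⊕ (Fin m ⊕ Fin m)) F)} (hHG : H ≤ G)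
    (hH : ∀ g ∈ H, ∀ x, Cfsg.quadFormOdd m F ((g : Matrix (Unit ⊕ (Fin m ⊕ Fin m)) (Unit ⊕ (Fin m ⊕ Fin m)) F) *ᵥ x) =
      Cfsg.quadFormOdd m F x) :
    ∃ M, InOrthogonalOddClass m F M ∧ H ≤ M := by
  classical
  have hI : H ≤ Cfsg.isometryGroup F (Cfsg.quadFormOdd m F) := fun g hg => mem_isometryGroup (hH g hg)
  rw [← qfOdd_coe] at hH
  have hn : d * k = 2 * m + 1 := by
    have := Fintype.card_congr e; simp at this; omega
  have hodd : Odd (d * k) := ⟨m, hn⟩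
  obtain ⟨hdo, hko⟩ := Nat.odd_mul.1 hodd
  have hd3 : 3 ≤ d := by obtain ⟨j, rfl⟩ := hdo; omega
  have hk3 : 3 ≤ k := by obtain ⟨j, rfl⟩ := hko; omega
  have : NeZero d := ⟨by omega⟩
  have : NeZero k := ⟨by omega⟩
  have hQ : ∀ x, (∀ y, polar (qfOdd m F) x y = 0) → x = 0 := qfOdd_sep h2 m
  obtain ⟨a, b, hau, hbu, hAB⟩ := coordGram_kronecker hQ e P (fun x => by
    have hx : leftFactor e P x ∈ (alg L : Set _) := hA ▸ ⟨x, rfl⟩
    have h := adjQ_mem_alg hQ (hLG.trans hG) hx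
    rw [← SetLike.mem_coe, hA] at h
    obtain ⟨x', hx'⟩ := h
    exact ⟨x', hx'.symm⟩)
  obtain ⟨has, hbs⟩ := symm_of_kronecker hdo hko hau hbu (by rw [← hAB, coordGram_symm])
  obtain ⟨hfa, hga⟩ := formOfGram_symmetric has hau
  obtain ⟨hfb, hgb⟩ := formOfGram_symmetric hbs hbu
  have hstr : IsTensorFormStructure id (polar (⇑(qfOdd m F))) (formOfGram id a) (formOfGram id b) e P :=
    ⟨1, one_ne_zero, fun x y => by rw [coordGram_apply, hAB, hga, hgb, formOfGram_id, one_mul]⟩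
  rw [qfOdd_coe] at hstr
  rcases lt_trichotomy d k with hlt | rfl | hgt
  · exact ⟨_, Or.inr (Or.inr (Or.inr (Or.inr (Or.inr (Or.inl
      ⟨d, k, e, P, _, _, hd3, hlt, hfa, hfb, hstr, rfl⟩))))), le_inf (hHG.trans hle) hI⟩
  · let E := (finTwoArrowEquiv (Fin d))
    let e₂ : (Unit ⊕ (Fin m ⊕ Fin m)) ≃ (Fin 2 → Fin d) := e.trans E.symm
    have hM : coordGram (qfOdd m F) e₂ P = (1 : F) • pureMat ![a, b] := by
      rw [one_smul]
      ext p q
      have h := congrFun (congrFun hAB (E p)) (E q)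
      simp only [coordGram, Matrix.reindex_apply, Matrix.submatrix_apply, e₂, Equiv.symm_trans_apply,
        Equiv.symm_symm, pureMat, Matrix.of_apply, Fin.prod_univ_two, Matrix.cons_val_zero, Matrix.cons_val_one,
        Matrix.kroneckerMap_apply] at h ⊢
      rw [h]
      simp [E, finTwoArrowEquiv]
    have hleW : H ≤ tensorWreathSubgroup d 2 e₂ P := by
      intro g hg
      obtain ⟨y, ⟨x, ⟨u, w, hx⟩, rfl⟩, rfl⟩ := hle (hHG hg)
      refine ⟨_, ⟨Units.map (Matrix.reindexAlgEquiv F F E.symm).toMonoidHom x,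
        Subgroup.subset_closure (Or.inl ⟨![u, w], fun p q => ?_⟩), rfl⟩, ?_⟩
      · show (x : Matrix (Fin d × Fin d) (Fin d × Fin d) F).submatrix _ _ p q = _
        rw [hx]
        simp [E, finTwoArrowEquiv, Fin.prod_univ_two]
      · show P * _ * P⁻¹ = P * _ * P⁻¹
        refine congrArg (fun z => P * z * P⁻¹) (Units.ext ?_)
        ext p q
        simp [glReindex, e₂, E, finTwoArrowEquiv]
    rcases wreath_cases h2 hdo le_rfl hd3 e₂ P one_ne_zero (a := ![a, b])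
      (fun i => by fin_cases i <;> assumption) (fun i => by fin_cases i <;> assumption) hM hH hleW with
      ⟨h33, P', f₁, hf₁, hs, hle'⟩ | ⟨hq, N, D, hD, hle'⟩
    · rw [qfOdd_coe] at hs
      exact ⟨_, Or.inr (Or.inr (Or.inr (Or.inr (Or.inr (Or.inr (Or.inr
        ⟨d, 2, e₂, P', f₁, hd3, le_rfl, h33, hf₁, hs, rfl⟩)))))), le_inf hle' hI⟩
    · rw [qfOdd_coe] at hD
      exact ⟨_, Or.inr (Or.inr (Or.inr (Or.inl ⟨N, D, hq, hD, rfl⟩))), le_inf hle' hI⟩
  · let e₂ : (Unit ⊕ (Fin m ⊕ Fin m)) ≃ Fin k × Fin d := e.trans (Equiv.prodComm _ _)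
    have hstr₂ : IsTensorFormStructure id (polar (⇑(qfOdd m F))) (formOfGram id b) (formOfGram id a) e₂ P := by
      refine ⟨1, one_ne_zero, fun x y => ?_⟩
      rw [coordGram_apply, formOfGram_id, hga, hgb, one_mul]
      congr 2
      ext p q
      have h := congrFun (congrFun hAB (p.2, p.1)) (q.2, q.1)
      simp only [coordGram, Matrix.reindex_apply, Matrix.submatrix_apply, e₂, Equiv.symm_trans_apply,
        Equiv.prodComm_symm, Equiv.prodComm_apply, Matrix.kroneckerMap_apply, Prod.swap] at h ⊢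
      rw [h, mul_comm]
    have hle₂ : H ≤ tensorProductSubgroup k d e₂ P := by
      intro g hg
      obtain ⟨y, ⟨x, ⟨u, w, hx⟩, rfl⟩, rfl⟩ := hle (hHG hg)
      refine ⟨_, ⟨Units.map (Matrix.reindexAlgEquiv F F (Equiv.prodComm _ _)).toMonoidHom x, ⟨w, u, ?_⟩, rfl⟩, ?_⟩
      · ext p q
        show (x : Matrix (Fin d × Fin k) (Fin d × Fin k) F).submatrix _ _ p q = _
        rw [hx]
        simp [mul_comm]
      · show P * _ * P⁻¹ = P * _ * P⁻¹
        refine congrArg (fun z => P * z * P⁻¹) (Units.ext ?_)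
        ext p q
        simp [glReindex, e₂]
    rw [qfOdd_coe] at hstr₂
    exact ⟨_, Or.inr (Or.inr (Or.inr (Or.inr (Or.inr (Or.inl
      ⟨k, d, e₂, P, _, _, hk3, hgt, hfb, hfa, hstr₂, rfl⟩))))), le_inf hle₂ hI⟩

set_option maxHeartbeats 1000000 in
/-- Structure theorem for groups of isometries of the odd-dimensional form. -/
theorem odd_structure (hodd : Odd (Fintype.card F)) (hm : 1 ≤ m) {H : Subgroup (GL (Unit ⊕ (Fin m ⊕ Fin m)) F)}
    (hH : ∀ g ∈ H, ∀ x, Cfsg.quadFormOdd m F ((g : Matrix (Unit ⊕ (Fin m ⊕ Fin m)) (Unit ⊕ (Fin m ⊕ Fin m)) F) *ᵥ x) =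
      Cfsg.quadFormOdd m F x) :
    (∃ M, InOrthogonalOddClass m F M ∧ H ≤ M) ∨ InOrthogonalResidualClass H := by
  classical
  have h2 : (2 : F) ≠ 0 := two_ne_zero_of_odd hodd
  have hQn := OrthOdd.quadOdd_nondeg (m := m) h2
  have hQ : ∀ x, (∀ y, polar (qfOdd m F) x y = 0) → x = 0 := qfOdd_sep h2 m
  have hI : H ≤ Cfsg.isometryGroup F (Cfsg.quadFormOdd m F) := fun g hg => mem_isometryGroup (hH g hg)
  have hcard : Fintype.card (Unit ⊕ (Fin m ⊕ Fin m)) = 2 * m + 1 := by simp; omega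
  have hH' : ∀ g ∈ H, ∀ x, qfOdd m F ((g : Matrix (Unit ⊕ (Fin m ⊕ Fin m)) (Unit ⊕ (Fin m ⊕ Fin m)) F) *ᵥ x) =
      qfOdd m F x := by rw [qfOdd_coe]; exact hH
  by_cases hirr : ActsIrreducibly (matrixSet H)
  swap
  · simp only [ActsIrreducibly, not_forall, not_or] at hirr
    obtain ⟨W, hW, h0, h1⟩ := hirr
    refine Or.inl ?_
    rcases reducible_cases hQ hH' h0 h1 (fun g hg => CfsgLib.MaxSub.mem_subspaceStabilizer_of_maps fun x hx =>
        hW _ ⟨g, hg, rfl⟩ ⟨x, hx, Matrix.toLin'_apply _ _⟩) with ⟨U, hU, hts, hle⟩ | ⟨U, hU, hUt, hnd, hle⟩ | ⟨h20, -⟩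
    · rw [qfOdd_coe] at hts
      exact ⟨_, Or.inl ⟨U, hU, hts, rfl⟩, le_inf hle hI⟩
    · rw [qfOdd_coe] at hnd
      exact ⟨_, Or.inr (Or.inl ⟨U, hU, hUt, hnd, rfl⟩), le_inf hle hI⟩
    · exact absurd h20 h2
  set G := H ⊔ scalars (Unit ⊕ (Fin m ⊕ Fin m)) F with hGdef
  have hGq : G ≤ quadSimilarityGroup (⇑(qfOdd m F)) := sup_scalars_le hH'
  have hGs : G ≤ similarityGroup (polar (⇑(qfOdd m F))) := hGq.trans quadSimilarityGroup_le_similarityGroup
  have hGirr : ActsIrreducibly (matrixSet G) := fun W hW =>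
    hirr W fun s hs => hW s (Set.image_mono (fun g hg => le_sup_left (a := H) hg) hs)
  cases core (by omega) hGirr le_sup_right with
  | decomp L hLG hL t E hE =>
    obtain ⟨π, hπ, hππ, hfix⟩ := adjoint_perm hQ hGs hLG hE
    obtain ⟨k, hk⟩ := hE.isMDecomposition
    have htn : t * k = 2 * m + 1 := by
      have h := DirectSum.isInternal_submodule_of_iSupIndep_of_iSup_eq_top hk.indep hk.iSup_eq_top
      have h' := (LinearEquiv.ofBijective (DirectSum.coeLinearMap (idemSpace E)) h).finrank_eq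
      rw [Module.finrank_directSum, Finset.sum_congr rfl fun i _ => hk.finrank_eq i, Finset.sum_const,
        Finset.card_univ, Fintype.card_fin, smul_eq_mul, Module.finrank_fintype_fun_eq_card, hcard] at h'
      exact h'
    have hall := perm_fixed_of_odd (Nat.odd_mul.1 (htn ▸ odd_two_mul_add_one m)).1 hππ hfix
    obtain ⟨k', hD, hle⟩ := orthDecomp_of_selfAdjoint hQ hH' hE (fun i => by rw [hπ i, hall i])
    rw [qfOdd_coe] at hD
    refine Or.inl ?_
    rcases lt_or_ge 1 k' with h1 | h1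
    · exact ⟨_, Or.inr (Or.inr (Or.inl ⟨t, k', _, h1, hD, rfl⟩)), le_inf hle hI⟩
    · obtain rfl : k' = 1 := le_antisymm h1 hD.decomp.decomp.pos
      by_cases hq : (Fintype.card F).Prime
      · exact ⟨_, Or.inr (Or.inr (Or.inr (Or.inl ⟨t, _, hq, hD, rfl⟩))), le_inf hle hI⟩
      · obtain ⟨p, hp⟩ := CharP.exists F
        have : Fact p.Prime := ⟨CharP.char_is_prime F p⟩
        obtain ⟨e, -, hpe⟩ := FiniteField.card F p
        have he : (e : ℕ) ≠ 1 := fun h => hq (by rw [hpe, h, pow_one]; exact Fact.out)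
        obtain ⟨F₀, hF₀, -⟩ := exists_subfield_card (F := F) (Q := p) (k := e) (Fact.out : p.Prime).one_lt hpe
        have hne : F₀ ≠ ⊤ := fun h => by
          rw [h, Nat.card_congr Subfield.topEquiv.toEquiv, Nat.card_eq_fintype_card, hpe] at hF₀
          exact he (Nat.pow_right_injective (Fact.out : p.Prime).two_le (hF₀.trans (pow_one p).symm))
        obtain ⟨F₁, r, -, hr, hc⟩ := exists_prime_index_subfield hne
        obtain ⟨P, hP, hle'⟩ := OrthOdd.frame_le_subfield h2 hH hD hle F₁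
        exact ⟨_, Or.inr (Or.inr (Or.inr (Or.inr (Or.inr (Or.inr (Or.inl ⟨F₁, r, P, hr, hc, hP, rfl⟩)))))),
          le_inf hle' hI⟩
  | field L hLG hL hinv hdim =>
    obtain ⟨r, K, hr, hne, hK, hself, hle⟩ := exists_selfAdjoint_field hQ (hcard ▸ odd_two_mul_add_one m) hGs hLG hL
      hinv hdim
    rw [qfOdd_coe] at hself
    exact Or.inl ⟨_, Or.inr (Or.inr (Or.inr (Or.inr (Or.inl ⟨r, K, hr, hcard ▸ hne, hK, hself, rfl⟩)))),
      le_inf (le_sup_left.trans hle) hI⟩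
  | tensor L hLG hL d k e P hd hk hA hle =>
    exact Or.inl (member_of_tensor h2 hGs hLG e P hd hk hA hle le_sup_left hH)
  | wreath t d L hLG hperm htrans e P ht hd hA hle hperf =>
    have hdt : d ^ t = 2 * m + 1 := by
      have := Fintype.card_congr e; simp at this; omega
    have hdo : Odd d := (Nat.odd_pow_iff (by omega)).1 (hdt ▸ odd_two_mul_add_one m)
    have hd3 : 3 ≤ d := by obtain ⟨j, rfl⟩ := hdo; omega
    have : NeZero d := ⟨by omega⟩
    obtain ⟨c, a, hc, hau, hM⟩ := coordGram_pure hQ e P (fun i x => by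
      have hx : slotFactor e P i x ∈ (alg (L i) : Set _) := (hA i) ▸ ⟨x, rfl⟩
      have h := adjQ_mem_alg hQ ((hLG i).trans hGs) hx
      rw [← SetLike.mem_coe, hA i] at h
      obtain ⟨x', hx'⟩ := h
      exact ⟨x', hx'.symm⟩)
    have hps : (pureMat a)ᵀ = pureMat a := by
      have h := coordGram_symm (Q := qfOdd m F) e P
      rw [hM, transpose_smul] at h
      exact smul_right_injective _ hc h
    refine Or.inl ?_
    rcases wreath_cases h2 hdo ht hd3 e P hc hau (symm_of_pure hdo hau hps) hM hH' (le_sup_left.trans hle) with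
      ⟨h33, P', f₁, hf₁, hs, hle'⟩ | ⟨hq, N, D, hD, hle'⟩
    · rw [qfOdd_coe] at hs
      exact ⟨_, Or.inr (Or.inr (Or.inr (Or.inr (Or.inr (Or.inr (Or.inr
        ⟨d, t, e, P', f₁, hd3, ht, h33, hf₁, hs, rfl⟩)))))), le_inf hle' hI⟩
    · rw [qfOdd_coe] at hD
      exact ⟨_, Or.inr (Or.inr (Or.inr (Or.inl ⟨N, D, hq, hD, rfl⟩))), le_inf hle' hI⟩
  | sympType r k R hRG hR hdata =>
    exfalso
    have hro : Odd r := (Nat.odd_pow_iff (by have := hdata.one_le; omega)).1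
      (hdata.card_index ▸ hcard ▸ odd_two_mul_add_one m)
    have hcomm : ∀ x ∈ R, ∀ y ∈ R, x * y = y * x := by
      intro x hx y hy
      obtain ⟨c, hc⟩ := (mem_scalars_iff _).1 (hdata.commutator_scalar x hx y hy)
      have hRz : x * y * x⁻¹ * y⁻¹ ∈ R := mul_mem (mul_mem (mul_mem hx hy) (inv_mem hx)) (inv_mem hy)
      have hr1 := congrArg Units.val (hdata.pow_eq_one _ hRz)
      rw [Nat.coprime_two_left.2 hro, mul_one, Units.val_pow_eq_pow_val, hc, smul_pow, one_pow, Units.val_one] at hr1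
      have hcr : (c : F) ^ r = 1 := by
        have h := congrFun (congrFun hr1 (Sum.inl ())) (Sum.inl ())
        simpa using h
      obtain ⟨a, ha⟩ := hGq (hRG hx)
      obtain ⟨b, hb⟩ := hGq (hRG hy)
      obtain ⟨a', ha'⟩ := hGq (hRG (inv_mem hx))
      obtain ⟨b', hb'⟩ := hGq (hRG (inv_mem hy))
      set v : Unit ⊕ (Fin m ⊕ Fin m) → F := Pi.single (Sum.inl ()) 1 with hv
      have hQv : qfOdd m F v = 1 := by
        rw [qfOdd_coe]; simp [hv, Cfsg.quadFormOdd]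
      have key : (c : F) ^ 2 = a * (b * (a' * b')) := by
        have h1 : qfOdd m F (((x * y * x⁻¹ * y⁻¹ : GL (Unit ⊕ (Fin m ⊕ Fin m)) F) :
            Matrix (Unit ⊕ (Fin m ⊕ Fin m)) (Unit ⊕ (Fin m ⊕ Fin m)) F) *ᵥ v) = (c : F) ^ 2 := by
          rw [hc, smul_mulVec, one_mulVec, QuadraticMap.map_smul, hQv, smul_eq_mul, mul_one, sq]
        rw [Units.val_mul, Units.val_mul, Units.val_mul, ← mulVec_mulVec, ← mulVec_mulVec, ← mulVec_mulVec,
          ha, hb, ha', hb', hQv, mul_one] at h1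
        exact h1.symm
      have hinv : ∀ (g : GL (Unit ⊕ (Fin m ⊕ Fin m)) F) (s s' : Fˣ),
          (∀ w, qfOdd m F ((g : Matrix (Unit ⊕ (Fin m ⊕ Fin m)) (Unit ⊕ (Fin m ⊕ Fin m)) F) *ᵥ w) = s * qfOdd m F w) →
          (∀ w, qfOdd m F (((g⁻¹ : GL (Unit ⊕ (Fin m ⊕ Fin m)) F) :
            Matrix (Unit ⊕ (Fin m ⊕ Fin m)) (Unit ⊕ (Fin m ⊕ Fin m)) F) *ᵥ w) = s' * qfOdd m F w) →
          (s : F) * s' = 1 := fun g s s' hs hs' => by
        have h := hs (((g⁻¹ : GL (Unit ⊕ (Fin m ⊕ Fin m)) F) :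
            Matrix (Unit ⊕ (Fin m ⊕ Fin m)) (Unit ⊕ (Fin m ⊕ Fin m)) F) *ᵥ v)
        rw [mulVec_mulVec, ← Units.val_mul, mul_inv_cancel, Units.val_one, one_mulVec, hs', hQv, mul_one] at h
        exact h.symm
      have hc2 : (c : F) ^ 2 = 1 := by
        rw [key]
        linear_combination hinv y b b' hb hb' + ((b : F) * b') * hinv x a a' ha ha'
      obtain ⟨j, hj⟩ := hro
      rw [hj, pow_succ, pow_mul, hc2, one_pow, one_mul] at hcr
      have h1 : x * y * x⁻¹ * y⁻¹ = 1 := Units.ext (by rw [hc, hcr, one_smul]; rfl)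
      calc x * y = x * y * x⁻¹ * y⁻¹ * (y * x) := by group
        _ = y * x := by rw [h1, one_mul]
    have hmat : ∀ A B : Matrix (Unit ⊕ (Fin m ⊕ Fin m)) (Unit ⊕ (Fin m ⊕ Fin m)) F, Commute A B := by
      intro A B
      have hA : A ∈ alg R := hdata.alg_top ▸ Algebra.mem_top
      have hB : B ∈ alg R := hdata.alg_top ▸ Algebra.mem_top
      exact commute_alg (fun x hx => (commute_alg (fun y hy => congrArg Units.val (hcomm y hy x hx)) hB).symm) hA
    have i₀ : Fin m := ⟨0, hm⟩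
    have h := congrFun (congrFun (hmat (Matrix.single (Sum.inl ()) (Sum.inr (Sum.inl i₀)) 1)
      (Matrix.single (Sum.inr (Sum.inl i₀)) (Sum.inl ()) 1)).eq (Sum.inl ())) (Sum.inl ())
    simp [Matrix.mul_apply, Matrix.single_apply] at h
  | almostSimple P hP =>
    have hfixQ : FixesQuadForm (matrixSet P) (Cfsg.quadFormOdd m F) := by
      rw [← qfOdd_coe]; exact perfect_fixes (hP.le.trans hGq) hP.perfect
    by_cases hreal : ∃ F₀ : Subfield F, F₀ ≠ ⊤ ∧ RealisableOver F₀ (matrixSet P)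
    · obtain ⟨F₀, h₀, hre⟩ := hreal
      obtain ⟨F₁, r, P', hr, hc, hP', hle⟩ := member_of_realisable h2 hP hfixQ h₀ hre
      exact Or.inl ⟨_, Or.inr (Or.inr (Or.inr (Or.inr (Or.inr (Or.inr (Or.inl ⟨F₁, r, P', hr, hc, hP', rfl⟩)))))),
        le_inf (le_sup_left.trans hle) hI⟩
    · push Not at hreal
      refine Or.inr ⟨P, hP.residualCore hreal, ?_⟩
      rintro ⟨σ, f, hf, hfix⟩
      obtain ⟨F₀, h₀, hre⟩ := OrthForms.realisable_of_unitary hP.absIrred.2 hQn hfixQ hf hfix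
      exact hreal F₀ h₀ hre

end CfsgLib.Aschbacher.Orth
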