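import Cfsg.Agent.Lib.Aschbacher.OrthFieldTwo
import Cfsg.Agent.Lib.Aschbacher.OrthDecomp

/-!
A skew operator with scalar square, normalised by a group: two totally singular halves or a quadratic field.
-/

set_option autoImplicit false
set_option linter.unusedSectionVars false

namespace CfsgLib.Aschbacher.Orth

open Cfsg.Geo Matrix CfsgLib.Classical CfsgLib.Geom
open QuadraticMap (polar)
open scoped MatrixGroups

variable {ι : Type} [Fintype ι] [DecidableEq ι] {F : Type*} [Field F] [Fintype F]
variable {Q : QuadraticForm F (ι → F)} (hQ : ∀ x, (∀ y, polar Q x y = 0) → x = 0)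
include hQ

omit hQ in
theorem mdecomp_two {A B : Submodule F (ι → F)} (hc : IsCompl A B) {m : ℕ} (hm0 : 0 < m)
    (hA : Module.finrank F A = m) (hB : Module.finrank F B = m) :
    IsMDecomposition m ![A, B] := by
  refine ⟨le_rfl, hm0, fun i => by fin_cases i <;> simpa, ?_, ?_⟩
  · rw [iSupIndep_def]
    intro i
    fin_cases i
    · exact hc.disjoint.mono_right (iSup₂_le fun j hj => by fin_cases j <;> simp_all)
    · exact hc.disjoint.symm.mono_right (iSup₂_le fun j hj => by fin_cases j <;> simp_all)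
  · exact eq_top_iff.2 (hc.sup_eq_top.ge.trans (sup_le (le_iSup ![A, B] 0) (le_iSup ![A, B] 1)))

theorem skew_cases [Nonempty ι] (h2 : (2 : F) ≠ 0) {m : ℕ} (hm : Fintype.card ι = 2 * m) {G : Subgroup (GL ι F)}
    {z : Matrix ι ι F} {δ : F} (hz : adjQ Q z = -z) (hzz : z * z = δ • 1) (hδ : δ ≠ 0)
    (hG : ∀ g ∈ G, ∃ μ : F, cj g z = μ • z) :
    (∃ D : Fin 2 → Submodule F (ι → F), IsMDecomposition m D ∧ (∀ i, IsTotallySingularQuad (⇑Q) (D i)) ∧
        G ≤ decompositionStabilizer D) ∨
      (∃ K : Subalgebra F (Matrix ι ι F), IsFieldSubalgebra 2 K ∧ (∀ k ∈ K, adjQ Q k ∈ K) ∧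
        (¬ ∀ k ∈ K, adjQ Q k = k) ∧ G ≤ subalgebraNormalizer K) := by
  have hm0 : 0 < m := by have := Fintype.card_pos (α := ι); omega
  have hzs : ¬ ∃ c : F, z = c • (1 : Matrix ι ι F) := by
    rintro ⟨c, rfl⟩
    rw [adjQ_smul, adjQ_one hQ, ← neg_smul] at hz
    have hc : c = -c := smul_one_injective hz
    rw [smul_mul_smul_comm, one_mul] at hzz
    refine hδ ?_
    rw [← smul_one_injective hzz, (mul_eq_zero.1 (show (2 : F) * c = 0 by linear_combination hc)).resolve_left h2,
      mul_zero]
  by_cases hsq : IsSquare δ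
  · left
    obtain ⟨s, hs⟩ := hsq
    have hs0 : s ≠ 0 := fun h => hδ (by rw [hs, h, mul_zero])
    let P : F → Matrix ι ι F := fun e => (2 : F)⁻¹ • (1 + (e * s⁻¹) • z)
    have hPadj : ∀ e, adjQ Q (P e) = P (-e) := fun e => by
      simp only [P, adjQ_smul, adjQ_add, adjQ_one hQ, hz, smul_neg, ← neg_smul, neg_mul]
    have hsum : P 1 + P (-1) = 1 := by
      ext i j
      simp only [P, Matrix.add_apply, Matrix.smul_apply, smul_eq_mul]
      field_simp
      ring
    have hPP : P 1 * P (-1) = 0 ∧ P (-1) * P 1 = 0 := by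
      constructor <;>
      · simp only [P, smul_mul_smul_comm, mul_add, add_mul, one_mul, mul_one, Matrix.smul_mul, Matrix.mul_smul, hzz,
          smul_smul]
        ext i j
        simp only [Matrix.add_apply, Matrix.smul_apply, smul_eq_mul, Matrix.zero_apply, hs]
        field_simp
        ring
    let U : F → Submodule F (ι → F) := fun e => LinearMap.range (Matrix.toLin' (P e))
    have hts : ∀ e : F, e = 1 ∨ e = -1 → IsTotallySingularQuad (⇑Q) (U e) := by
      rintro e he _ ⟨v, rfl⟩
      have h0 : P (-e) * P e = 0 := by rcases he with rfl | rfl <;> [exact hPP.2; (rw [neg_neg]; exact hPP.1)]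
      have h : polar Q (P e *ᵥ v) (P e *ᵥ v) = 0 := by
        rw [polar_mulVec_left hQ, hPadj, mulVec_mulVec, h0, zero_mulVec, QuadraticMap.polar_zero_right]
      rw [polar_self_two, mul_eq_zero] at h
      rw [Matrix.toLin'_apply]
      exact h.resolve_left h2
    have hdim : Module.finrank F (ι → F) = 2 * m := by rw [Module.finrank_fintype_fun_eq_card, hm]
    have hle : ∀ e : F, e = 1 ∨ e = -1 → Module.finrank F (U e) ≤ m := fun e he =>
      finrank_ts_le Q (polarBilin_nondegenerate hQ) hdim (hts e he)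
    have hsup : U 1 ⊔ U (-1) = ⊤ := Submodule.eq_top_iff'.2 fun v => Submodule.mem_sup.2
      ⟨_, ⟨v, rfl⟩, _, ⟨v, rfl⟩, by rw [Matrix.toLin'_apply, Matrix.toLin'_apply, ← add_mulVec, hsum, one_mulVec]⟩
    have hd := Submodule.finrank_sup_add_finrank_inf_eq (U 1) (U (-1))
    rw [hsup, finrank_top, hdim] at hd
    have h1 := hle 1 (Or.inl rfl)
    have h1' := hle (-1) (Or.inr rfl)
    have hc : IsCompl (U 1) (U (-1)) :=
      ⟨disjoint_iff.2 (Submodule.finrank_eq_zero.1 (by omega)), codisjoint_iff.2 hsup⟩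
    refine ⟨![U 1, U (-1)], mdecomp_two hc hm0 (by omega) (by omega), fun i => ?_, fun g hg => ?_⟩
    · fin_cases i
      · exact hts 1 (Or.inl rfl)
      · exact hts (-1) (Or.inr rfl)
    obtain ⟨μ, hμ⟩ := hG g hg
    have hμ2 : μ * μ = 1 := by
      have h := congrArg (cj g) hzz
      rw [map_mul, map_smul, map_one, hμ, smul_mul_smul_comm, hzz, smul_smul] at h
      exact mul_right_cancel₀ hδ ((smul_one_injective h).trans (one_mul δ).symm)
    have himg : ∀ e : F, (U e).map (Matrix.toLin' (g : Matrix ι ι F)) = U (e * μ) := fun e => by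
      simp only [U]
      rw [map_range_toLin']
      simp only [P, map_smul, map_add, map_one, hμ, smul_smul, mul_right_comm e]
    rcases mul_self_eq_one_iff.1 hμ2 with rfl | rfl
    · exact ⟨1, fun i => by fin_cases i <;> simp [himg]⟩
    · exact ⟨Equiv.swap 0 1, fun i => by fin_cases i <;> simp [himg]⟩
  right
  let K : Subalgebra F (Matrix ι ι F) :=
    { carrier := {x | ∃ a b : F, x = a • 1 + b • z}
      mul_mem' := by
        rintro _ _ ⟨a, b, rfl⟩ ⟨c, d, rfl⟩
        refine ⟨a * c + b * d * δ, a * d + b * c, ?_⟩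
        simp only [add_mul, mul_add, smul_mul_smul_comm, one_mul, mul_one, hzz, smul_smul]
        module
      one_mem' := ⟨1, 0, by simp⟩
      add_mem' := by
        rintro _ _ ⟨a, b, rfl⟩ ⟨c, d, rfl⟩
        exact ⟨a + c, b + d, by module⟩
      zero_mem' := ⟨0, 0, by simp⟩
      algebraMap_mem' := fun c => ⟨c, 0, by simp [Algebra.algebraMap_eq_smul_one]⟩ }
  have hmemK : ∀ x, x ∈ K ↔ ∃ a b : F, x = a • 1 + b • z := fun x => Iff.rfl
  have hzK : z ∈ K := ⟨0, 1, by simp⟩
  have hadj : ∀ k ∈ K, adjQ Q k ∈ K := by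
    rintro _ ⟨a, b, rfl⟩
    exact ⟨a, -b, by rw [adjQ_add, adjQ_smul, adjQ_smul, adjQ_one hQ, hz]; module⟩
  have hKf : IsFieldSubalgebra 2 K := by
    refine ⟨?_, ?_, ?_⟩
    · rintro _ ⟨a, b, rfl⟩ _ ⟨c, d, rfl⟩
      simp only [add_mul, mul_add, smul_mul_smul_comm, one_mul, mul_one, hzz, smul_smul]
      module
    · rintro _ ⟨a, b, rfl⟩ hne
      have hN : a * a - δ * b * b ≠ 0 := by
        intro h
        by_cases hb : b = 0
        · subst hb
          have ha : a = 0 := mul_self_eq_zero.1 (by linear_combination h)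
          subst ha
          simp at hne
        · exact hsq ⟨a / b, by field_simp; linear_combination -h⟩
      refine ⟨(a / (a * a - δ * b * b)) • 1 + (-b / (a * a - δ * b * b)) • z, ⟨_, _, rfl⟩, ?_⟩
      have hprod : ∀ c d : F, (a • (1 : Matrix ι ι F) + b • z) * (c • 1 + d • z) =
          (a * c + b * d * δ) • 1 + (a * d + b * c) • z := fun c d => by
        simp only [add_mul, mul_add, smul_mul_smul_comm, one_mul, mul_one, hzz, smul_smul]
        module
      rw [hprod]
      have e1 : a * (a / (a * a - δ * b * b)) + b * (-b / (a * a - δ * b * b)) * δ = 1 := by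
        rw [← mul_div_assoc, ← mul_div_assoc, div_mul_eq_mul_div, ← add_div, div_eq_one_iff_eq hN]
        ring
      have e2 : a * (-b / (a * a - δ * b * b)) + b * (a / (a * a - δ * b * b)) = 0 := by ring
      rw [e1, e2, one_smul, zero_smul, add_zero]
    · have hli : LinearIndependent F ![(1 : Matrix ι ι F), z] := by
        rw [LinearIndependent.pair_iff' one_ne_zero]
        exact fun a ha => hzs ⟨a, ha.symm⟩
      have hsp : Submodule.span F {(1 : Matrix ι ι F), z} = Subalgebra.toSubmodule K := by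
        refine le_antisymm (Submodule.span_le.2 ?_) fun x hx => ?_
        · intro y hy
          rcases hy with rfl | rfl
          exacts [one_mem K, hzK]
        · obtain ⟨a, b, rfl⟩ := (hmemK x).1 hx
          exact Submodule.mem_span_pair.2 ⟨a, b, rfl⟩
      rw [← Subalgebra.finrank_toSubmodule, ← hsp, ← Matrix.range_cons_cons_empty (1 : Matrix ι ι F) z ![],
        finrank_span_eq_card hli, Fintype.card_fin]
  refine ⟨K, hKf, hadj, fun h => ?_, le_subalgebraNormalizer fun g hg x hx => ?_⟩
  · have h' : z = -z := (h z hzK).symm.trans hz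
    refine hzs ⟨0, ?_⟩
    rw [zero_smul]
    ext i j
    have hij := congrFun (congrFun h' i) j
    rw [Matrix.neg_apply] at hij
    rw [Matrix.zero_apply]
    exact (mul_eq_zero.1 (show (2 : F) * z i j = 0 by linear_combination hij)).resolve_left h2
  · obtain ⟨a, b, rfl⟩ := hx
    obtain ⟨μ, hμ⟩ := hG g hg
    exact ⟨a, b * μ, by rw [map_add, map_smul, map_smul, map_one, hμ, smul_smul]⟩

end CfsgLib.Aschbacher.Orth
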