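import Cfsg.Agent.Lib.Aschbacher.OrthBinaryField
import Cfsg.Agent.Lib.Aschbacher.OrthSkew
import Cfsg.Agent.Lib.Aschbacher.Centre
import Cfsg.Agent.Lib.Aschbacher.OrthEvenReducible

/-!
A normalised self-adjoint field of odd degree `r` on a space of dimension `2 r`: the group keeps two complementary
totally singular halves or normalises a quadratic field which is not self-adjoint.
-/

set_option autoImplicit false
set_option linter.unusedSectionVars false

namespace CfsgLib.Aschbacher.Orth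

open Cfsg.Geo Matrix CfsgLib.Classical CfsgLib.Geom
open QuadraticMap (polar)
open scoped MatrixGroups

variable {ι : Type} [Fintype ι] [DecidableEq ι] {F : Type*} [Field F] [Fintype F]
variable {Q : QuadraticForm F (ι → F)} (hQ : ∀ x, (∀ y, polar Q x y = 0) → x = 0)
include hQ

set_option maxHeartbeats 1000000 in
theorem binary_field_cases {r : ℕ} (hr : Odd r) (hcard : Fintype.card ι = 2 * r) {H : Subgroup (GL ι F)}
    (hH : ∀ g ∈ H, ∀ x, Q ((g : Matrix ι ι F) *ᵥ x) = Q x) {K : Subalgebra F (Matrix ι ι F)}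
    (hK : IsFieldSubalgebra r K) (hadj : ∀ k ∈ K, adjQ Q k ∈ K) (hle : H ≤ subalgebraNormalizer K) :
    (∃ D : Fin 2 → Submodule F (ι → F), IsMDecomposition r D ∧ (∀ i, IsTotallySingularQuad (⇑Q) (D i)) ∧
        H ≤ decompositionStabilizer D) ∨
      (∃ K₂ : Subalgebra F (Matrix ι ι F), IsFieldSubalgebra 2 K₂ ∧ (∀ k ∈ K₂, adjQ Q k ∈ K₂) ∧
        (¬ ∀ k ∈ K₂, adjQ Q k = k) ∧ H ≤ subalgebraNormalizer K₂) := by
  classical
  have hr0 : 0 < r := hr.pos
  have : Nonempty ι := Fintype.card_pos_iff.1 (by omega)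
  have hs := adjQ_eq_self_of_odd hQ hK hr hadj
  obtain ⟨θ, δ, hδ, hθK, hθa, hθθ, hθn, h4, hQθ, huniq⟩ := exists_theta_binary hQ hK hcard hs
  -- arithmetic of the elements `a + b θ`
  have hmul : ∀ a ∈ K, ∀ b ∈ K, ∀ c ∈ K, ∀ d ∈ K,
      (a + b * θ) * (c + d * θ) = (a * c - b * d * δ) + (a * d + b * c + b * d) * θ := by
    intro a ha b hb c hc d hd
    have h1 : θ * c = c * θ := hθK c hc
    have h2 : θ * (d * θ) = d * θ - d * δ := by rw [← mul_assoc, hθK d hd, mul_assoc, hθθ, mul_sub]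
    rw [add_mul, mul_add, mul_assoc b θ, mul_add, h1, h2, mul_add, mul_sub]
    simp only [add_mul, ← mul_assoc]
    abel
  let L : Subalgebra F (Matrix ι ι F) :=
    { carrier := {x | ∃ a ∈ K, ∃ b ∈ K, x = a + b * θ}
      one_mem' := ⟨1, K.one_mem, 0, K.zero_mem, by simp⟩
      mul_mem' := by
        rintro _ _ ⟨a, ha, b, hb, rfl⟩ ⟨c, hc, d, hd, rfl⟩
        exact ⟨_, K.sub_mem (K.mul_mem ha hc) (K.mul_mem (K.mul_mem hb hd) hδ), _,
          K.add_mem (K.add_mem (K.mul_mem ha hd) (K.mul_mem hb hc)) (K.mul_mem hb hd), hmul a ha b hb c hc d hd⟩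
      zero_mem' := ⟨0, K.zero_mem, 0, K.zero_mem, by simp⟩
      add_mem' := by
        rintro _ _ ⟨a, ha, b, hb, rfl⟩ ⟨c, hc, d, hd, rfl⟩
        exact ⟨a + c, K.add_mem ha hc, b + d, K.add_mem hb hd, by rw [add_mul]; abel⟩
      algebraMap_mem' := fun c => ⟨algebraMap F _ c, K.algebraMap_mem c, 0, K.zero_mem, by simp⟩ }
  have hKL : ∀ k ∈ K, k ∈ L := fun k hk => ⟨k, hk, 0, K.zero_mem, by simp⟩
  have hθL : θ ∈ L := ⟨0, K.zero_mem, 1, K.one_mem, by simp⟩
  have hcomm : ∀ x ∈ L, ∀ y ∈ L, x * y = y * x := by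
    rintro _ ⟨a, ha, b, hb, rfl⟩ _ ⟨c, hc, d, hd, rfl⟩
    rw [hmul a ha b hb c hc d hd, hmul c hc d hd a ha b hb, hK.comm a ha c hc, hK.comm b hb d hd, hK.comm b hb c hc,
      hK.comm a ha d hd, add_comm (d * a)]
  have hinj : ∀ a ∈ K, ∀ b ∈ K, a + b * θ = 0 → a = 0 ∧ b = 0 := by
    intro a ha b hb h
    have hb0 : b = 0 := by
      by_contra hb0
      obtain ⟨y, hy, hby⟩ := hK.inv b hb hb0
      refine hθn ?_
      have h1 : y * (b * θ) = θ := by rw [← mul_assoc, hK.comm y hy b hb, hby, one_mul]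
      rw [← h1, eq_neg_of_add_eq_zero_right h]
      exact K.mul_mem hy (K.neg_mem ha)
    rw [hb0, zero_mul, add_zero] at h
    exact ⟨h, hb0⟩
  have hadjL : ∀ a ∈ K, ∀ b ∈ K, adjQ Q (a + b * θ) = (a + b) + (-b) * θ := by
    intro a ha b hb
    rw [adjQ_add, adjQ_mul hQ, hs a ha, hs b hb, hθa, sub_mul, one_mul, hθK b hb, neg_mul]
    abel
  have hcjK : ∀ g ∈ H, ∀ k ∈ K, cj g k ∈ K := fun g hg k hk => (hle hg k).1 hk
  have hLinv : ∀ g ∈ H, ∀ x ∈ L, cj g x ∈ L := by
    rintro g hg _ ⟨a, ha, b, hb, rfl⟩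
    rw [map_add, map_mul]
    refine L.add_mem (hKL _ (hcjK g hg a ha)) (L.mul_mem (hKL _ (hcjK g hg b hb)) ?_)
    set θ' := cj g θ with hθ'
    obtain ⟨c, hc, d, hd, hcd⟩ := huniq (θ' - θ) (fun k hk => by
        have h1 : θ' * k = k * θ' := by
          have hk' := (hle (inv_mem hg) k).1 hk
          have h := congrArg (cj g) (hθK _ hk')
          have hkk : cj g (((g⁻¹ : GL ι F) : Matrix ι ι F) * k * (((g⁻¹)⁻¹ : GL ι F) : Matrix ι ι F)) = k := by
            simp [cj_apply, mul_assoc]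
          rw [map_mul (cj g) θ, map_mul (cj g) _ θ, hkk] at h
          exact h
        rw [sub_mul, mul_sub, hθK k hk, h1])
      (fun w => by
        have h1 : polar Q w (θ' *ᵥ w) = Q w := by
          set v := ((g⁻¹ : GL ι F) : Matrix ι ι F) *ᵥ w with hv
          have hw : (g : Matrix ι ι F) *ᵥ v = w := by
            rw [hv, mulVec_mulVec, ← Units.val_mul, mul_inv_cancel, Units.val_one, one_mulVec]
          have hp : ∀ x y, polar Q ((g : Matrix ι ι F) *ᵥ x) ((g : Matrix ι ι F) *ᵥ y) = polar Q x y := fun x y => by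
            simp only [QuadraticMap.polar, ← mulVec_add, hH g hg]
          rw [hθ', cj_apply, ← mulVec_mulVec, ← mulVec_mulVec, ← hv, ← hw, hp, ← hQθ, hH g hg]
        rw [sub_mulVec, QuadraticMap.polar_sub_right, h1, ← hQθ, sub_self])
    rw [show θ' = (c + d * θ) + θ by rw [← hcd, sub_add_cancel]]
    exact L.add_mem ⟨c, hc, d, hd, rfl⟩ hθL
  by_cases hinv : ∀ x ∈ L, x ≠ 0 → ∃ y ∈ L, x * y = 1
  · refine Or.inr ?_
    have hfin : Module.finrank F L = r + r := by
      let φ : (K × K) →ₗ[F] L :=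
        { toFun := fun p => ⟨(p.1 : Matrix ι ι F) + (p.2 : Matrix ι ι F) * θ, _, p.1.2, _, p.2.2, rfl⟩
          map_add' := fun p q => Subtype.ext (by simp [add_mul]; abel)
          map_smul' := fun c p => Subtype.ext (by simp [smul_add]) }
      have hφ : Function.Bijective φ := by
        refine ⟨(injective_iff_map_eq_zero φ).2 fun p hp => ?_, fun ⟨_, a, ha, b, hb, rfl⟩ => ⟨(⟨a, ha⟩, ⟨b, hb⟩), rfl⟩⟩
        obtain ⟨h1, h2⟩ := hinj _ p.1.2 _ p.2.2 (congrArg Subtype.val hp)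
        exact Prod.ext (Subtype.ext h1) (Subtype.ext h2)
      rw [← (LinearEquiv.ofBijective φ hφ).finrank_eq, Module.finrank_prod, hK.finrank_eq]
    obtain ⟨K₂, hK₂s, hK₂, hGK⟩ := exists_prime_subfield hcomm hinv (G := H) hLinv (by omega) Nat.prime_two
      ⟨r, by omega⟩
    have hK₂L : ∀ x ∈ K₂, x ∈ L := fun x hx => by
      rw [← SetLike.mem_coe, hK₂s] at hx; exact hx.1
    refine ⟨K₂, hK₂, fun x hx => ?_, fun hall => ?_, hGK⟩
    · rw [← SetLike.mem_coe, hK₂s] at hx ⊢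
      obtain ⟨⟨a, ha, b, hb, hab⟩, hx2⟩ := hx
      refine ⟨⟨a + b, K.add_mem ha hb, -b, K.neg_mem hb, ?_⟩, by rw [← adjQ_pow hQ, hx2]⟩
      rw [hab]; exact hadjL a ha b hb
    -- a fixed element lies in `K`
    have hK₂K : ∀ x ∈ K₂, x ∈ K := by
      intro x hx
      obtain ⟨a, ha, b, hb, rfl⟩ := hK₂L x hx
      have h := hall _ hx
      rw [hadjL a ha b hb] at h
      obtain ⟨h1, h2⟩ := hinj b hb (-b - b) (K.sub_mem (K.neg_mem hb) hb) (by
        rw [sub_mul, ← sub_eq_zero.2 h]; abel)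
      rw [h1, zero_mul, add_zero]
      exact ha
    obtain ⟨i⟩ := (inferInstance : Nonempty ι)
    set v₀ : ι → F := Pi.single i 1 with hv₀
    let ψ : K →ₗ[F] (ι → F) :=
      { toFun := fun k => (k : Matrix ι ι F) *ᵥ v₀
        map_add' := fun a b => add_mulVec _ _ _
        map_smul' := fun c a => smul_mulVec _ _ _ }
    have hψ : Function.Injective ψ := (injective_iff_map_eq_zero ψ).2 fun k hk => by
      by_contra hk0
      obtain ⟨y, hy, hky⟩ := hK.inv k k.2 fun h => hk0 (Subtype.ext h)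
      have h1 : (y * (k : Matrix ι ι F)) *ᵥ v₀ = 0 := by
        rw [← mulVec_mulVec]
        show y *ᵥ ψ k = 0
        rw [hk, mulVec_zero]
      rw [hK.comm y hy k k.2, hky, one_mulVec] at h1
      simpa [hv₀] using congrFun h1 i
    have hev := even_finrank_of_stable hK₂ (S := LinearMap.range ψ) fun k hk v hv => by
      obtain ⟨k', rfl⟩ := hv
      exact ⟨⟨k, hK₂K k hk⟩ * k', (mulVec_mulVec _ _ _).symm⟩
    rw [LinearMap.finrank_range_of_inj hψ, hK.finrank_eq] at hev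
    exact Nat.not_even_iff_odd.2 hr hev
  refine Or.inl ?_
  push Not at hinv
  obtain ⟨_, ⟨a, ha, b, hb, rfl⟩, hx0, hxn⟩ := hinv
  -- a root of `T² - T + δ`
  have hroot : ∀ a ∈ K, ∀ b ∈ K, a + b * θ ≠ 0 → (∀ y ∈ L, (a + b * θ) * y ≠ 1) →
      ∃ b' ∈ K, ∃ s ∈ K, b * b' = 1 ∧ a + b * θ = b * (θ - s) ∧ s * s - s + δ = 0 := by
    intro a ha b hb hx0 hxn
    have hb0 : b ≠ 0 := by
      rintro rfl
      rw [zero_mul, add_zero] at hx0 hxn
      obtain ⟨y, hy, h⟩ := hK.inv a ha hx0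
      exact hxn y (hKL y hy) h
    obtain ⟨b', hb', hbb⟩ := hK.inv b hb hb0
    refine ⟨b', hb', -(b' * a), K.neg_mem (K.mul_mem hb' ha), hbb, ?_, ?_⟩
    · rw [sub_neg_eq_add, mul_add, ← mul_assoc b b', hbb, one_mul, add_comm]
    set n := a * a + a * b + b * b * δ with hn
    have hnK : n ∈ K :=
      K.add_mem (K.add_mem (K.mul_mem ha ha) (K.mul_mem ha hb)) (K.mul_mem (K.mul_mem hb hb) hδ)
    have hprod : (a + b * θ) * ((a + b) + (-b) * θ) = n := by
      rw [hmul a ha b hb (a + b) (K.add_mem ha hb) (-b) (K.neg_mem hb), hn, mul_add, mul_add, hK.comm b hb a ha]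
      simp only [mul_neg, neg_mul]
      rw [show -(a * b) + (a * b + b * b) + -(b * b) = (0 : Matrix ι ι F) by abel, zero_mul, add_zero]
      abel
    have hn0 : n = 0 := by
      by_contra hn0
      obtain ⟨y, hy, hny⟩ := hK.inv n hnK hn0
      refine hxn (((a + b) + (-b) * θ) * y)
        (L.mul_mem ⟨a + b, K.add_mem ha hb, -b, K.neg_mem hb, rfl⟩ (hKL y hy)) ?_
      rw [← mul_assoc, hprod, hny]
    have e1 : b' * a * (b' * a) = b' * b' * (a * a) := by
      rw [mul_assoc b' a, ← mul_assoc a b', hK.comm a ha b' hb', mul_assoc b' a a, ← mul_assoc, ← mul_assoc]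
    have e2 : b' * a = b' * b' * (a * b) := by
      rw [hK.comm a ha b hb, mul_assoc b' b', ← mul_assoc b' b, hK.comm b' hb' b hb, hbb, one_mul]
    have e3 : δ = b' * b' * (b * b * δ) := by
      rw [← mul_assoc (b' * b'), mul_assoc b' b', ← mul_assoc b' b b, hK.comm b' hb' b hb, hbb, one_mul,
        hK.comm b' hb' b hb, hbb, one_mul]
    rw [neg_mul, mul_neg, neg_neg, e1, sub_neg_eq_add]
    conv_lhs => arg 1; arg 2; rw [e2]
    conv_lhs => arg 2; rw [e3]
    rw [← mul_add, ← mul_add, ← hn, hn0, mul_zero]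
  obtain ⟨b', hb', s, hs', -, -, hsδ⟩ := hroot a ha b hb hx0 hxn
  set u := θ - s with hu
  set u' := θ - (1 - s) with hu'
  have hsθ : s * θ = θ * s := (hθK s hs').symm
  have huu : u * u' = 0 := by
    rw [hu, hu', sub_mul, mul_sub, mul_sub, hθθ, mul_sub, mul_one, mul_sub, mul_one, hsθ]
    rw [show θ - δ - (θ - θ * s) - (θ * s - (s - s * s)) = -(s * s - s + δ) by abel, hsδ, neg_zero]
  have hua : adjQ Q u = -u' := by
    rw [hu, sub_eq_add_neg, adjQ_add, ← neg_one_smul F s, adjQ_smul, hs s hs', hθa, hu', neg_one_smul]; abel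
  have hu'a : adjQ Q u' = -u := by
    rw [hu', sub_eq_add_neg, adjQ_add, ← neg_one_smul F (1 - s), adjQ_smul, hs _ (K.sub_mem K.one_mem hs'), hθa,
      hu, neg_one_smul]; abel
  have huL : u ∈ L := L.sub_mem hθL (hKL s hs')
  have hu'L : u' ∈ L := L.sub_mem hθL (hKL _ (K.sub_mem K.one_mem hs'))
  have hu'u : u' * u = 0 := by rw [hcomm u' hu'L u huL, huu]
  let U : Submodule F (ι → F) := LinearMap.range (Matrix.toLin' u)
  let U' : Submodule F (ι → F) := LinearMap.range (Matrix.toLin' u')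
  have hts : ∀ w ∈ L, ∀ w', adjQ Q w = -w' → w' * w = 0 →
      IsTotallySingularQuad (⇑Q) (LinearMap.range (Matrix.toLin' w)) := by
    rintro w hw w' hwa hww _ ⟨x, rfl⟩
    rw [Matrix.toLin'_apply, hQθ, mulVec_mulVec, hcomm θ hθL w hw, polar_mulVec_left hQ, mulVec_mulVec,
      ← mul_assoc, hwa, neg_mul, hww, neg_zero, zero_mul, zero_mulVec, QuadraticMap.polar_zero_right]
  have htsU : IsTotallySingularQuad (⇑Q) U := hts u huL u' hua hu'u
  have htsU' : IsTotallySingularQuad (⇑Q) U' := hts u' hu'L u hu'a huu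
  obtain ⟨y, hy, hdy⟩ := hK.inv (1 - (s + s)) (K.sub_mem K.one_mem (K.add_mem hs' hs')) fun h => h4 (by
    have e : (1 - (s + s)) * (1 - (s + s)) = 1 - (4 : F) • δ + (4 : F) • (s * s - s + δ) := by
      simp only [sub_mul, mul_sub, one_mul, mul_one, add_mul, mul_add,
        show (4 : F) = 1 + 1 + 1 + 1 by norm_num, add_smul, one_smul]
      abel
    rw [h, hsδ, smul_zero, add_zero, mul_zero] at e
    exact e.symm)
  have hsup : U ⊔ U' = ⊤ := by
    refine eq_top_iff.2 fun v _ => Submodule.mem_sup.2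
      ⟨u *ᵥ (y *ᵥ v), ⟨y *ᵥ v, Matrix.toLin'_apply _ _⟩, -(u' *ᵥ (y *ᵥ v)),
        U'.neg_mem ⟨y *ᵥ v, Matrix.toLin'_apply _ _⟩, ?_⟩
    rw [← sub_eq_add_neg, ← sub_mulVec, mulVec_mulVec,
      show u - u' = 1 - (s + s) by rw [hu, hu']; abel, hdy, one_mulVec]
  have hdimU : ∀ X : Submodule F (ι → F), IsTotallySingularQuad (⇑Q) X → Module.finrank F X ≤ r := fun X hX =>
    finrank_ts_le Q (polarBilin_nondegenerate hQ) (by rw [Module.finrank_fintype_fun_eq_card, hcard]) hX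
  have hsum := Submodule.finrank_sup_add_finrank_inf_eq U U'
  rw [hsup, finrank_top, Module.finrank_fintype_fun_eq_card, hcard] at hsum
  have hUd := hdimU U htsU
  have hU'd := hdimU U' htsU'
  have hinf : U ⊓ U' = ⊥ := Submodule.finrank_eq_zero.1 (by omega)
  refine ⟨![U, U'], mdecomp_two (IsCompl.of_eq hinf hsup) hr0 (by omega) (by omega), fun i => ?_, fun g hg => ?_⟩
  · fin_cases i
    exacts [htsU, htsU']
  -- the two halves are permuted
  have himg : ∀ (w w' : Matrix ι ι F), w ∈ L → w' ∈ L → w * w' = 0 → w ≠ 0 → w' ≠ 0 →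
      (LinearMap.range (Matrix.toLin' w)).map (Matrix.toLin' (g : Matrix ι ι F)) ≤ U ∨
      (LinearMap.range (Matrix.toLin' w)).map (Matrix.toLin' (g : Matrix ι ι F)) ≤ U' := by
    intro w w' hw hw' hww hw0 hw'0
    have hz : cj g w * cj g w' = 0 := by rw [← map_mul, hww, map_zero]
    have hg0 : ∀ x, x ≠ 0 → cj g x ≠ 0 := fun x hx h => hx ((cj g).injective (by rw [h, map_zero]))
    obtain ⟨c, hc, d, hd, hcd⟩ := hLinv g hg w hw
    have hx0 : c + d * θ ≠ 0 := hcd ▸ hg0 w hw0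
    obtain ⟨d', hd', t, ht, hdd, hfac, htδ⟩ := hroot c hc d hd hx0 fun y hy h => hg0 w' hw'0 (by
      rw [← one_mul (cj g w'), ← h, hcomm (c + d * θ) ⟨c, hc, d, hd, rfl⟩ y hy, mul_assoc, ← hcd, hz, mul_zero])
    have hts' : t = s ∨ t = 1 - s := by
      by_contra hne
      push Not at hne
      have h0 : (t - s) * (t - (1 - s)) = 0 := by
        calc (t - s) * (t - (1 - s)) = (t * t - t + δ) - (s * s - s + δ) + (t * s - s * t) := by
              simp only [mul_sub, sub_mul, mul_one]; abel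
          _ = 0 := by rw [htδ, hsδ, hK.comm t ht s hs']; abel
      obtain ⟨z, hz', hzz⟩ := hK.inv _ (K.sub_mem ht hs') (sub_ne_zero.2 hne.1)
      apply hne.2
      calc t = (1 : Matrix ι ι F) * (t - (1 - s)) + (1 - s) := by rw [one_mul, sub_add_cancel]
        _ = z * ((t - s) * (t - (1 - s))) + (1 - s) := by
            rw [← mul_assoc, hK.comm z hz' _ (K.sub_mem ht hs'), hzz]
        _ = 1 - s := by rw [h0, mul_zero, zero_add]
    have hgw : ∀ x, (g : Matrix ι ι F) *ᵥ (w *ᵥ x) = (θ - t) *ᵥ (d *ᵥ ((g : Matrix ι ι F) *ᵥ x)) := fun x => by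
      have : cj g w * (g : Matrix ι ι F) = (g : Matrix ι ι F) * w := by simp [cj_apply, mul_assoc]
      rw [mulVec_mulVec, ← this, hcd, hfac, hcomm d (hKL d hd) (θ - t) (L.sub_mem hθL (hKL t ht)), ← mulVec_mulVec,
        ← mulVec_mulVec]
    rcases hts' with rfl | rfl
    · refine Or.inl ?_
      rintro _ ⟨_, ⟨x, rfl⟩, rfl⟩
      rw [Matrix.toLin'_apply, Matrix.toLin'_apply, hgw]
      exact ⟨_, Matrix.toLin'_apply _ _⟩
    · refine Or.inr ?_
      rintro _ ⟨_, ⟨x, rfl⟩, rfl⟩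
      rw [Matrix.toLin'_apply, Matrix.toLin'_apply, hgw]
      exact ⟨_, Matrix.toLin'_apply _ _⟩
  have hu0 : u ≠ 0 := fun h => hθn (by
    rw [hu, sub_eq_zero] at h; rw [h]; exact hs')
  have hu'0 : u' ≠ 0 := fun h => hθn (by
    rw [hu', sub_eq_zero] at h; rw [h]; exact K.sub_mem K.one_mem hs')
  have hd1 : Module.finrank F U = r := by omega
  have hd2 : Module.finrank F U' = r := by omega
  set f := Matrix.toLin' (g : Matrix ι ι F) with hf
  have hcases : ∀ X : Submodule F (ι → F), Module.finrank F X = r → (X.map f ≤ U ∨ X.map f ≤ U') →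
      X.map f = U ∨ X.map f = U' := fun X hX h => by
    rcases h with h | h
    · exact Or.inl (Submodule.eq_of_le_of_finrank_eq h (by rw [hf, map_finrank, hX, hd1]))
    · exact Or.inr (Submodule.eq_of_le_of_finrank_eq h (by rw [hf, map_finrank, hX, hd2]))
  have hfinj : Function.Injective f := fun x z h => by
    simp only [hf, Matrix.toLin'_apply] at h
    exact Matrix.mulVec_injective_iff_isUnit.2 g.isUnit h
  have hne : U.map f ≠ U'.map f := fun h => by
    have h' := Submodule.map_injective_of_injective hfinj h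
    rw [← h', inf_idem] at hinf
    rw [hinf, finrank_bot] at hd1
    omega
  rcases hcases U hd1 (himg u u' huL hu'L huu hu0 hu'0) with hA | hA <;>
    rcases hcases U' hd2 (himg u' u hu'L huL hu'u hu'0 hu0) with hB | hB
  · exact absurd (hA.trans hB.symm) hne
  · exact ⟨1, fun i => by fin_cases i; exacts [hA, hB]⟩
  · exact ⟨Equiv.swap 0 1, fun i => by fin_cases i; exacts [hA, hB]⟩
  · exact absurd (hA.trans hB.symm) hne

end CfsgLib.Aschbacher.Orth
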