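import Cfsg.Agent.Lib.Aschbacher.OrthTenField
import Cfsg.Agent.Lib.Aschbacher.OrthEvenLists

/-!
Dimension ten: splittings into two halves of dimension five, exchanged singular halves and quadratic fields.
-/

set_option autoImplicit false
set_option linter.unusedSectionVars false

namespace CfsgLib.Aschbacher.Orth

open Cfsg.Geo Matrix CfsgLib.Classical CfsgLib.MaxSub
open QuadraticMap (polar)
open scoped MatrixGroups Kronecker

variable {ι : Type} [Fintype ι] [DecidableEq ι] {F : Type*} [Field F] [Fintype F]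
variable {Q : QuadraticForm F (ι → F)} (hQ : ∀ x, (∀ y, polar Q x y = 0) → x = 0)
include hQ

/-- A non-degenerate subspace of half dimension gives two orthogonal halves. -/
theorem halves_of_space {m : ℕ} (hm : Fintype.card ι = 2 * m) (hm1 : 1 ≤ m) (h7 : 7 ≤ Fintype.card ι)
    {H : Subgroup (GL ι F)} (hH : IsMaximalIn (omegaGL (⇑Q)) H) {W : Submodule F (ι → F)}
    (hnd : IsNondegenerateOn (polar (⇑Q)) W) (hd : Module.finrank F W = m) (hle : H ≤ subspaceStabilizer W) :
    ∃ D : Fin 2 → Submodule F (ι → F), IsNondegenerateMDecomposition (polar (⇑Q)) m D ∧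
      ((2 : F) ≠ 0 → (AreIsometricFor (⇑Q) (D 0) (D 1) ↔ IsSquare (gramQ Q).det)) ∧
      H = decompositionStabilizer D ⊓ omegaGL (⇑Q) := by
  have hperp : Module.finrank F (polPerp Q W) = m := by
    have := finrank_polPerp hQ W
    omega
  have hpn := nondegenerateOn_polPerp hQ hnd
  have hcompl : IsCompl W (polPerp Q W) := IsCompl.of_eq
    ((IsoSemi.nd_iff (geom_polarBilin hQ)).1 (nondegenerateOn_iff.1 hnd)) (sup_polPerp_eq_top hQ hnd)
  have horth : AreOrthogonalFor (polar (⇑Q)) W (polPerp Q W) := fun u hu v hv => hv u hu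
  have hD : IsNondegenerateMDecomposition (polar (⇑Q)) m ![W, polPerp Q W] := by
    refine ⟨mdecomp_two hcompl hm1 hd hperp, fun i => ?_, fun i j hij => ?_⟩
    · fin_cases i
      exacts [hnd, hpn]
    · fin_cases i <;> fin_cases j
      exacts [absurd rfl hij, horth,
        fun u hu v hv => (QuadraticMap.polar_comm _ _ _).trans (hu v hv), absurd rfl hij]
  refine ⟨_, hD, fun h2 => isometric_halves_iff hQ h2 hnd hpn horth hcompl hd hperp,
    maximal_eq hH (fun g hg => ⟨1, fun i => ?_⟩) (omega_not_le_decompositionStabilizer hQ h7 hD.decomp)⟩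
  fin_cases i
  · exact map_eq_of_mem_stabilizer (hle hg)
  · exact map_eq_of_mem_stabilizer (mem_stabilizer_polPerp (omega_isometry (hH.1.le hg)) (hle hg))

/-- An irreducible subgroup of `Ω` keeps no pair of totally singular halves of odd dimension. -/
theorem no_singular_pair {m : ℕ} (hm : Fintype.card ι = 2 * m) (ho : Odd m) (h6 : 6 ≤ Fintype.card ι)
    {H : Subgroup (GL ι F)} (hH : H ≤ omegaGL (⇑Q)) (hirr : ActsIrreducibly (matrixSet H))
    {D : Fin 2 → Submodule F (ι → F)} (hD : IsMDecomposition m D) (hts : ∀ i, IsTotallySingularQuad (⇑Q) (D i))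
    (hle : H ≤ decompositionStabilizer D) : False := by
  have hdis : D 0 ⊓ D 1 = ⊥ := disjoint_iff.1 (hD.indep.pairwiseDisjoint (show (0 : Fin 2) ≠ 1 by decide))
  have hfix : ∀ g ∈ H, (D 0).map (Matrix.toLin' (g : Matrix ι ι F)) = D 0 := fun g hg => by
    obtain ⟨σ, hσ⟩ := hle hg
    obtain h | h : σ 0 = 0 ∨ σ 0 = 1 := by omega
    · rw [hσ, h]
    · exact absurd ((hσ 0).trans (by rw [h]))
        (omega_not_exchange hQ h6 hm ho (hD.finrank_eq 0) (hts 0) hdis (hH hg))
  rcases hirr (D 0) (by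
    rintro _ ⟨g, hg, rfl⟩
    exact (hfix g hg).le) with h | h
  · have := hD.finrank_eq 0
    rw [h, finrank_bot] at this
    exact absurd this.symm hD.pos.ne'
  · have := hD.finrank_eq 0
    rw [h, finrank_top, Module.finrank_fintype_fun_eq_card, hm] at this
    have := hD.pos
    omega

/-- In plus type and odd half dimension an adjoint-closed normalised quadratic field is self-adjoint. -/
theorem selfAdjoint_of_plus {m : ℕ} (hm : Fintype.card ι = 2 * m) (ho : Odd m) (hplus : IsPlusTypeOn (⇑Q) ⊤)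
    {H : Subgroup (GL ι F)} (hH : ∀ g ∈ H, ∀ x, Q ((g : Matrix ι ι F) *ᵥ x) = Q x)
    (hirr : ActsIrreducibly (matrixSet H)) {K : Subalgebra F (Matrix ι ι F)} (hK : IsFieldSubalgebra 2 K)
    (hadj : ∀ k ∈ K, adjQ Q k ∈ K) (hle : H ≤ subalgebraNormalizer K) : ∀ k ∈ K, adjQ Q k = k := by
  by_contra hns
  have : Nonempty ι := Fintype.card_pos_iff.1 (by obtain ⟨j, hj⟩ := ho; omega)
  have hn : 2 ≤ Fintype.card ι := by obtain ⟨j, hj⟩ := ho; omega
  obtain ⟨-, θ, hθ, hθa, -, hθs⟩ := exists_theta hQ hK hadj hns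
  exact Nat.not_even_iff_odd.2 ho (even_half_of_unitary hQ hm hK hadj hns hθ hθa hθs
    (quad_eq_polar_theta hQ hn hH hirr hK hadj hns hle hθ hθa) hplus)

end CfsgLib.Aschbacher.Orth
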