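import Cfsg.Agent.Lib.Aschbacher.OrthAdj
import Cfsg.Agent.Lib.Aschbacher.Tensor
import Cfsg.Agent.Lib.Aschbacher.Wreath

/-!
An adjoint-stable tensor factor splits the polar form as a tensor product.
-/

set_option autoImplicit false
set_option linter.unusedSectionVars false

namespace CfsgLib.Aschbacher.Orth

open Cfsg.Geo Matrix
open QuadraticMap (polar)
open scoped MatrixGroups Kronecker

variable {ι : Type} [Fintype ι] [DecidableEq ι] {F : Type*} [Field F] [Fintype F]

/-- The Gram matrix of the polar form in the coordinates given by `P` and `e`. -/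
def coordGram {κ : Type} (Q : QuadraticForm F (ι → F)) (e : ι ≃ κ) (P : GL ι F) : Matrix κ κ F :=
  Matrix.reindex e e ((P : Matrix ι ι F)ᵀ * gramQ Q * (P : Matrix ι ι F))

variable {κ : Type} [Fintype κ] [DecidableEq κ] {Q : QuadraticForm F (ι → F)}

theorem coordGram_apply (e : ι ≃ κ) (P : GL ι F) (x y : κ → F) :
    polar Q ((P : Matrix ι ι F) *ᵥ (x ∘ e)) ((P : Matrix ι ι F) *ᵥ (y ∘ e)) = x ⬝ᵥ (coordGram Q e P *ᵥ y) := by
  rw [mulVec_gram, coordGram, Matrix.reindex_apply, Matrix.submatrix_mulVec_equiv, Equiv.symm_symm]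
  simp only [dotProduct, Function.comp_apply]
  rw [← Equiv.sum_comp e (fun a => x a * _)]
  simp

theorem coordGram_symm (e : ι ≃ κ) (P : GL ι F) : (coordGram Q e P)ᵀ = coordGram Q e P := by
  rw [coordGram, Matrix.transpose_reindex, transpose_mul, transpose_mul, transpose_transpose, gramQ_symm, mul_assoc]

theorem formOfGram_id {n : Type} [Fintype n] (G : Matrix n n F) (x y : n → F) :
    formOfGram id G x y = x ⬝ᵥ (G *ᵥ y) := by
  simp only [formOfGram, id_eq, dotProduct, mulVec, Finset.mul_sum]
  exact Finset.sum_congr rfl fun a _ => Finset.sum_congr rfl fun b _ => by ring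

/-- A symmetric invertible matrix gives a symmetric form with that Gram matrix. -/
theorem formOfGram_symmetric {n : Type} [Fintype n] [DecidableEq n] {G : Matrix n n F} (hs : Gᵀ = G)
    (hu : IsUnit G) : IsSymmetricForm (formOfGram id G) ∧ gramMatrix (formOfGram id G) = G := by
  have hsym : ∀ u v, formOfGram id G u v = formOfGram id G v u := fun u v => by
    rw [formOfGram_id, formOfGram_id, dotProduct_mulVec, ← mulVec_transpose, hs, dotProduct_comm]
  refine ⟨⟨⟨fun x y v => ?_, fun c x v => ?_, fun v x y => ?_, fun c v x => ?_⟩, hsym, fun v hv => ?_⟩, ?_⟩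
  · simp only [formOfGram_id, add_dotProduct]
  · simp only [formOfGram_id, smul_dotProduct, smul_eq_mul]
  · simp only [formOfGram_id, mulVec_add, dotProduct_add]
  · simp only [formOfGram_id, mulVec_smul, dotProduct_smul, smul_eq_mul]
  · have h1 : G *ᵥ v ≠ 0 := fun h => hv (Matrix.mulVec_injective_iff_isUnit.2 hu (h.trans (mulVec_zero G).symm))
    obtain ⟨i, hi⟩ := Function.ne_iff.1 h1
    have h2 : formOfGram id G (Pi.single i 1) v ≠ 0 := by
      rw [formOfGram_id, single_dotProduct, one_mul]; exact hi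
    exact ⟨⟨_, h2⟩, ⟨Pi.single i 1, by rwa [hsym]⟩⟩
  · ext a b
    show formOfGram id G (Pi.single a 1) (Pi.single b 1) = G a b
    simp [formOfGram_id]

/-- A factor of a symmetric product is symmetric, in odd dimension. -/
theorem transpose_eq_of_mul {n : Type} [Fintype n] [DecidableEq n] (hn : Odd (Fintype.card n)) {a : Matrix n n F}
    (ha : IsUnit a) {u w : F} (hu : u ≠ 0) (h : ∀ i j, a i j * u = a j i * w) : aᵀ = a := by
  have h1 : a = (w / u) • aᵀ := by
    ext i j
    have := h i j
    rw [Matrix.smul_apply, transpose_apply, smul_eq_mul]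
    field_simp
    linear_combination this
  set μ := w / u
  have hsq : μ * μ = 1 := by
    have h2 := congrArg Matrix.transpose h1
    rw [transpose_smul, transpose_transpose] at h2
    have h3 : a = (μ * μ) • a := by rw [← smul_smul, ← h2]; exact h1
    obtain ⟨i, j, hij⟩ : ∃ i j, a i j ≠ 0 := by
      obtain ⟨i⟩ : Nonempty n := Fintype.card_pos_iff.1 hn.pos
      by_contra hno
      push Not at hno
      have := ((Matrix.isUnit_iff_isUnit_det a).1 ha).ne_zero
      exact this (det_eq_zero_of_row_eq_zero i (hno i))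
    have h4 := congrFun (congrFun h3 i) j
    rw [Matrix.smul_apply, smul_eq_mul] at h4
    exact (mul_right_cancel₀ hij ((one_mul (a i j)).trans h4)).symm
  have hdet := congrArg Matrix.det h1
  rw [det_smul, det_transpose] at hdet
  obtain ⟨k, hk⟩ := hn
  rw [hk, pow_succ, pow_mul, sq, hsq, one_pow, one_mul] at hdet
  have hμ : μ = 1 := mul_right_cancel₀ ((Matrix.isUnit_iff_isUnit_det a).1 ha).ne_zero (hdet.symm.trans (one_mul _).symm)
  rw [hμ, one_smul] at h1
  exact h1.symm

variable (hQ : ∀ x, (∀ y, polar Q x y = 0) → x = 0)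
include hQ

theorem coordGram_isUnit (e : ι ≃ κ) (P : GL ι F) : IsUnit (coordGram Q e P) := by
  rw [coordGram, ← Matrix.coe_reindexAlgEquiv F F]
  exact ((((Matrix.isUnit_transpose _).2 P.isUnit).mul (gramQ_isUnit hQ)).mul P.isUnit).map _

/-- Transporting an adjoint to coordinates. -/
theorem coordGram_transport (e : ι ≃ κ) (P : GL ι F) {X X' : Matrix κ κ F}
    (h : adjQ Q (cj P (Matrix.reindex e.symm e.symm X)) = cj P (Matrix.reindex e.symm e.symm X')) :
    Xᵀ * coordGram Q e P = coordGram Q e P * X' := by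
  set R := Matrix.reindex e.symm e.symm X with hR
  set R' := Matrix.reindex e.symm e.symm X' with hR'
  set Pm := (P : Matrix ι ι F) with hPm
  set Pi' := ((P⁻¹ : GL ι F) : Matrix ι ι F) with hPi
  rw [adjQ, cj_apply, cj_apply] at h
  have h2 : (Pm * R * Pi')ᵀ * gramQ Q = gramQ Q * (Pm * R' * Pi') := by
    rw [← h, mul_assoc (gramQ Q)⁻¹, ← mul_assoc (gramQ Q), gramQ_mul_inv hQ, one_mul]
  have h1 : Rᵀ * (Pmᵀ * gramQ Q * Pm) = (Pmᵀ * gramQ Q * Pm) * R' := by
    have hP1 : Pi' * Pm = 1 := by rw [hPi, hPm, ← Units.val_mul, inv_mul_cancel, Units.val_one]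
    calc Rᵀ * (Pmᵀ * gramQ Q * Pm) = (Pm * R * (Pi' * Pm))ᵀ * gramQ Q * Pm := by
          rw [hP1, mul_one, transpose_mul]; simp only [mul_assoc]
      _ = Pmᵀ * ((Pm * R * Pi')ᵀ * gramQ Q) * Pm := by
          rw [← mul_assoc (Pm * R), transpose_mul (Pm * R * Pi')]; simp only [mul_assoc]
      _ = Pmᵀ * gramQ Q * Pm * R' * (Pi' * Pm) := by rw [h2]; simp only [mul_assoc]
      _ = _ := by rw [hP1, mul_one]
  generalize hM : Pmᵀ * gramQ Q * Pm = M at h1
  have h3 := congrArg (Matrix.reindexAlgEquiv F F e) h1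
  rw [map_mul, map_mul] at h3
  have e1 : Matrix.reindexAlgEquiv F F e Rᵀ = Xᵀ := by ext i j; simp [hR]
  have e2 : Matrix.reindexAlgEquiv F F e R' = X' := by ext i j; simp [hR']
  rw [e1, e2] at h3
  rw [coordGram, hM]
  exact h3

/-- An adjoint-stable left factor: the form is a Kronecker product. -/
theorem coordGram_kronecker {d m : ℕ} [NeZero d] [NeZero m] (e : ι ≃ Fin d × Fin m) (P : GL ι F)
    (hst : ∀ x, ∃ x', adjQ Q (leftFactor e P x) = leftFactor e P x') :
    ∃ (a : Matrix (Fin d) (Fin d) F) (b : Matrix (Fin m) (Fin m) F),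
      IsUnit a ∧ IsUnit b ∧ coordGram Q e P = a ⊗ₖ b := by
  classical
  have : Nonempty ι := ⟨e.symm (0, 0)⟩
  choose ψ hψ using hst
  have hinj : ∀ x y, leftFactor e P x = leftFactor e P y → x = y := fun x y h => by
    have h1 : Matrix.reindex e.symm e.symm (x ⊗ₖ (1 : Matrix (Fin m) (Fin m) F)) =
        Matrix.reindex e.symm e.symm (y ⊗ₖ (1 : Matrix (Fin m) (Fin m) F)) := (cj P).injective h
    have h2 := (Matrix.reindex e.symm e.symm).injective h1
    ext i j
    have h3 := congrFun (congrFun h2 (i, 0)) (j, 0)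
    simpa [Matrix.kroneckerMap_apply] using h3
  let lf : Matrix (Fin d) (Fin d) F →ₐ[F] Matrix ι ι F :=
    (((cj P).toAlgHom).comp (Matrix.reindexAlgEquiv F F e.symm).toAlgHom).comp
      (AlgHom.ofLinearMap
        { toFun := fun x => x ⊗ₖ (1 : Matrix (Fin m) (Fin m) F)
          map_add' := fun x y => Matrix.add_kronecker x y 1
          map_smul' := fun c x => Matrix.smul_kronecker c x 1 }
        Matrix.one_kronecker_one
        (fun x y => by
          show (x * y) ⊗ₖ _ = (x ⊗ₖ _) * (y ⊗ₖ _)
          rw [← Matrix.mul_kronecker_mul, mul_one]))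
  have hl : ∀ x, lf x = leftFactor e P x := fun x => rfl
  let φ : Matrix (Fin d) (Fin d) F →ₐ[F] Matrix (Fin d) (Fin d) F :=
    AlgHom.ofLinearMap
      { toFun := fun x => (ψ x)ᵀ
        map_add' := fun x y => by
          rw [← transpose_add]
          refine congrArg _ (hinj _ _ ?_)
          rw [← hψ, ← hl, ← hl, map_add, adjQ_add, hl, hl, hψ, hψ, ← hl, ← hl, ← map_add, hl]
        map_smul' := fun c x => by
          rw [RingHom.id_apply, ← transpose_smul]
          refine congrArg _ (hinj _ _ ?_)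
          rw [← hψ, ← hl, ← hl, map_smul, map_smul, adjQ_smul, hl, hl, hψ] }
      (by
        show (ψ 1)ᵀ = 1
        rw [show ψ 1 = 1 from hinj _ _ (by rw [← hψ, ← hl, map_one, adjQ_one hQ]), transpose_one])
      (fun x y => by
        show (ψ (x * y))ᵀ = (ψ x)ᵀ * (ψ y)ᵀ
        rw [← transpose_mul]
        refine congrArg _ (hinj _ _ ?_)
        rw [← hψ, ← hl, ← hl, map_mul, adjQ_mul hQ, hl, hl, hψ, hψ, ← hl, ← hl, ← map_mul, hl])
  obtain ⟨a, ha⟩ := exists_inner_hom φ
  set A := coordGram Q e P
  set a' := (a : Matrix (Fin d) (Fin d) F)ᵀ with ha'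
  set ai := ((a⁻¹ : GL (Fin d) F) : Matrix (Fin d) (Fin d) F)ᵀ with hai
  have haa : a' * ai = 1 := by rw [ha', hai, ← transpose_mul, ← Units.val_mul, inv_mul_cancel, Units.val_one, transpose_one]
  have haa' : ai * a' = 1 := mul_eq_one_comm.1 haa
  have hψ' : ∀ x, ψ x = ai * xᵀ * a' := fun x => by
    have h := congrArg Matrix.transpose (ha x)
    change (ψ x)ᵀᵀ = _ at h
    rw [transpose_transpose, cj_apply, transpose_mul, transpose_mul] at h
    rw [h, ha', hai, mul_assoc]
  obtain ⟨b, hb⟩ := exists_eq_one_kron (A * (ai ⊗ₖ (1 : Matrix (Fin m) (Fin m) F))) (fun x => by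
    have h := coordGram_transport hQ e P (X := xᵀ ⊗ₖ (1 : Matrix (Fin m) (Fin m) F))
      (X' := ψ xᵀ ⊗ₖ 1) (hψ xᵀ)
    rw [hψ', transpose_transpose, ← Matrix.kroneckerMap_transpose, transpose_transpose, transpose_one] at h
    rw [← mul_assoc (x ⊗ₖ (1 : Matrix (Fin m) (Fin m) F)), h, mul_assoc, mul_assoc, ← Matrix.mul_kronecker_mul,
      ← Matrix.mul_kronecker_mul, mul_assoc (ai * x), haa, mul_one, mul_one])
  have hAab : A = a' ⊗ₖ b := by
    calc A = A * (ai ⊗ₖ (1 : Matrix (Fin m) (Fin m) F)) * (a' ⊗ₖ 1) := by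
          rw [mul_assoc, ← Matrix.mul_kronecker_mul, haa', one_mul, Matrix.one_kronecker_one, mul_one]
      _ = _ := by rw [hb, ← Matrix.mul_kronecker_mul, one_mul, mul_one]
  refine ⟨a', b, (Matrix.isUnit_transpose _).2 a.isUnit, ?_, hAab⟩
  have hu := (Matrix.isUnit_iff_isUnit_det _).1 (coordGram_isUnit hQ e P)
  rw [show coordGram Q e P = a' ⊗ₖ b from hAab, Matrix.det_kronecker, IsUnit.mul_iff] at hu
  rw [Matrix.isUnit_iff_isUnit_det]
  exact (isUnit_pow_iff (by simp [NeZero.ne d])).1 hu.2

/-- Adjoint-stable slots: the form is a tensor power. -/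
theorem coordGram_pure {d t : ℕ} [NeZero d] (e : ι ≃ (Fin t → Fin d)) (P : GL ι F)
    (hst : ∀ i x, ∃ x', adjQ Q (slotFactor e P i x) = slotFactor e P i x') :
    ∃ (c : F) (a : Fin t → Matrix (Fin d) (Fin d) F),
      c ≠ 0 ∧ (∀ i, IsUnit (a i)) ∧ coordGram Q e P = c • pureMat a := by
  classical
  have : Nonempty ι := ⟨e.symm fun _ => 0⟩
  have hinj : ∀ i x y, slotFactor e P i x = slotFactor e P i y → x = y := fun i x y h => by
    have h2 := (Matrix.reindex e.symm e.symm).injective ((cj P).injective h)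
    ext k l
    have h3 := congrFun (congrFun h2 (Function.update (fun _ => 0) i k)) (Function.update (fun _ => 0) i l)
    have hc : ∀ j, j ≠ i → Function.update (fun _ : Fin t => (0 : Fin d)) i k j =
        Function.update (fun _ : Fin t => (0 : Fin d)) i l j := fun j hj => by
      rw [Function.update_of_ne hj, Function.update_of_ne hj]
    rw [slot_apply, slot_apply, if_pos hc, if_pos hc] at h3
    simpa using h3
  choose ψ hψ using hst
  have hS : ∀ i, ∃ S : Matrix (Fin d) (Fin d) F →ₐ[F] Matrix ι ι F, ∀ x, S x = slotFactor e P i x := by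
    intro i
    refine ⟨(((cj P).toAlgHom).comp (Matrix.reindexAlgEquiv F F e.symm).toAlgHom).comp
      (AlgHom.ofLinearMap
        { toFun := fun x => pureMat (Function.update (fun _ => (1 : Matrix (Fin d) (Fin d) F)) i x)
          map_add' := fun x y => by
            ext p q
            simp only [slot_apply, Matrix.add_apply]
            split <;> simp
          map_smul' := fun c x => by
            ext p q
            simp only [slot_apply, Matrix.smul_apply, RingHom.id_apply]
            split <;> simp }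
        (by
          show pureMat _ = 1
          rw [Function.update_eq_self]
          exact pureMat_one)
        (fun x y => by
          show pureMat _ = pureMat _ * pureMat _
          rw [pureMat_mul]
          congr 1
          funext j
          rcases eq_or_ne j i with rfl | hj <;> simp [*])), fun x => rfl⟩
  choose S hSx using hS
  have hφ : ∀ i, ∃ φ : Matrix (Fin d) (Fin d) F →ₐ[F] Matrix (Fin d) (Fin d) F, ∀ x, φ x = (ψ i x)ᵀ := by
    intro i
    refine ⟨AlgHom.ofLinearMap
      { toFun := fun x => (ψ i x)ᵀ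
        map_add' := fun x y => by
          rw [← transpose_add]
          refine congrArg _ (hinj i _ _ ?_)
          rw [← hψ, ← hSx, ← hSx, map_add, adjQ_add, hSx, hSx, hψ, hψ, ← hSx, ← hSx, ← map_add, hSx]
        map_smul' := fun c x => by
          rw [RingHom.id_apply, ← transpose_smul]
          refine congrArg _ (hinj i _ _ ?_)
          rw [← hψ, ← hSx, ← hSx, map_smul, map_smul, adjQ_smul, hSx, hSx, hψ] }
      (by
        show (ψ i 1)ᵀ = 1
        rw [show ψ i 1 = 1 from hinj i _ _ (by rw [← hψ, ← hSx, map_one, adjQ_one hQ]), transpose_one])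
      (fun x y => by
        show (ψ i (x * y))ᵀ = (ψ i x)ᵀ * (ψ i y)ᵀ
        rw [← transpose_mul]
        refine congrArg _ (hinj i _ _ ?_)
        rw [← hψ, ← hSx, ← hSx, map_mul, adjQ_mul hQ, hSx, hSx, hψ, hψ, ← hSx, ← hSx, ← map_mul, hSx]),
      fun x => rfl⟩
  choose φ hφx using hφ
  choose u hu using fun i => exists_inner_hom (φ i)
  set A := coordGram Q e P
  let a : Fin t → Matrix (Fin d) (Fin d) F := fun i => (u i : Matrix (Fin d) (Fin d) F)ᵀ
  let ai : Fin t → Matrix (Fin d) (Fin d) F := fun i => (((u i)⁻¹ : GL (Fin d) F) : Matrix (Fin d) (Fin d) F)ᵀ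
  have haa : ∀ i, a i * ai i = 1 := fun i => by
    show _ᵀ * _ᵀ = 1
    rw [← transpose_mul, ← Units.val_mul, inv_mul_cancel, Units.val_one, transpose_one]
  have haa' : ∀ i, ai i * a i = 1 := fun i => mul_eq_one_comm.1 (haa i)
  have hψ' : ∀ i x, ψ i x = ai i * xᵀ * a i := fun i x => by
    have h := congrArg Matrix.transpose (hu i x)
    rw [hφx, transpose_transpose, cj_apply, transpose_mul, transpose_mul] at h
    rw [h, mul_assoc]
  have hpt : ∀ f : Fin t → Matrix (Fin d) (Fin d) F, (pureMat f)ᵀ = pureMat fun i => (f i)ᵀ := fun f => rfl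
  obtain ⟨c, hc⟩ := scalar_of_commute_slots (A * pureMat ai) (fun i x => by
    have hX : (pureMat (Function.update (fun _ => (1 : Matrix (Fin d) (Fin d) F)) i xᵀ))ᵀ =
        pureMat (Function.update (fun _ => 1) i x) := by
      rw [hpt]; congr 1; funext j
      rcases eq_or_ne j i with rfl | hj <;> simp [*]
    have h := coordGram_transport hQ e P (hψ i xᵀ)
    rw [hψ', transpose_transpose, hX] at h
    show _ * _ = _ * _
    rw [← mul_assoc (pureMat (Function.update (fun _ => (1 : Matrix (Fin d) (Fin d) F)) i x)), h, mul_assoc, mul_assoc,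
      pureMat_mul, pureMat_mul]
    congr 2
    funext j
    rcases eq_or_ne j i with rfl | hj
    · simp [mul_assoc, haa]
    · simp [Function.update_of_ne hj])
  have hA : A = c • pureMat a := by
    calc A = A * pureMat ai * pureMat a := by
          rw [mul_assoc, pureMat_mul]
          simp [haa', pureMat_one]
      _ = _ := by rw [hc, Matrix.smul_mul, one_mul]
  refine ⟨c, a, fun h0 => ?_, fun i => (Matrix.isUnit_transpose _).2 (u i).isUnit, hA⟩
  have hu0 := coordGram_isUnit hQ e P
  rw [show coordGram Q e P = c • pureMat a from hA, h0, zero_smul] at hu0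
  exact not_isUnit_zero hu0

omit hQ in
/-- The factors of a symmetric Kronecker product are symmetric, in odd dimensions. -/
theorem symm_of_kronecker {d m : ℕ} (hd : Odd d) (hm : Odd m) {a : Matrix (Fin d) (Fin d) F}
    {b : Matrix (Fin m) (Fin m) F} (ha : IsUnit a) (hb : IsUnit b) (h : (a ⊗ₖ b)ᵀ = a ⊗ₖ b) : aᵀ = a ∧ bᵀ = b := by
  have key : ∀ i k j l, a i j * b k l = a j i * b l k := fun i k j l => by
    have := congrFun (congrFun h (j, l)) (i, k)
    simpa [Matrix.kroneckerMap_apply] using this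
  obtain ⟨k, l, hkl⟩ : ∃ k l, b k l ≠ 0 := by
    by_contra hno
    push Not at hno
    exact ((Matrix.isUnit_iff_isUnit_det b).1 hb).ne_zero
      (det_eq_zero_of_row_eq_zero ⟨0, hm.pos⟩ (hno _))
  obtain ⟨i, j, hij⟩ : ∃ i j, a i j ≠ 0 := by
    by_contra hno
    push Not at hno
    exact ((Matrix.isUnit_iff_isUnit_det a).1 ha).ne_zero
      (det_eq_zero_of_row_eq_zero ⟨0, hd.pos⟩ (hno _))
  exact ⟨transpose_eq_of_mul (by simpa using hd) ha hkl fun i j => key i k j l,
    transpose_eq_of_mul (by simpa using hm) hb (w := a j i) hij fun k l => by linear_combination key i k j l⟩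

omit hQ in
/-- The factors of a symmetric tensor power are symmetric, in odd dimension. -/
theorem symm_of_pure {d t : ℕ} (hd : Odd d) {a : Fin t → Matrix (Fin d) (Fin d) F} (ha : ∀ i, IsUnit (a i))
    (h : (pureMat a)ᵀ = pureMat a) (i : Fin t) : (a i)ᵀ = a i := by
  classical
  have hne : ∀ j, ∃ k l, a j k l ≠ 0 := fun j => by
    by_contra hno
    push Not at hno
    exact ((Matrix.isUnit_iff_isUnit_det (a j)).1 (ha j)).ne_zero
      (det_eq_zero_of_row_eq_zero ⟨0, hd.pos⟩ (hno _))
  choose p q hpq using hne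
  refine transpose_eq_of_mul (by simpa using hd) (ha i)
    (u := ∏ j ∈ Finset.univ.erase i, a j (p j) (q j)) (w := ∏ j ∈ Finset.univ.erase i, a j (q j) (p j))
    (Finset.prod_ne_zero_iff.2 fun j _ => hpq j) fun k l => ?_
  have h1 := congrFun (congrFun h (Function.update q i l)) (Function.update p i k)
  simp only [pureMat, transpose_apply, Matrix.of_apply] at h1
  rw [← Finset.mul_prod_erase _ _ (Finset.mem_univ i), ← Finset.mul_prod_erase _ _ (Finset.mem_univ i),
    Function.update_self, Function.update_self] at h1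
  refine Eq.trans ?_ (h1.trans ?_) <;> congr 1 <;>
    exact Finset.prod_congr rfl fun j hj => by
      rw [Function.update_of_ne (Finset.ne_of_mem_erase hj), Function.update_of_ne (Finset.ne_of_mem_erase hj)]

end CfsgLib.Aschbacher.Orth
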