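import Cfsg.Agent.Lib.Aschbacher.OrthTensor
import Cfsg.Agent.Lib.Aschbacher.OrthNotLe
import Cfsg.Agent.Lib.Aschbacher.OrthPureNull
import Cfsg.Agent.Lib.Aschbacher.OrthSkew

/-!
Tensor factors in even dimension: symmetric or alternating Gram matrices and their consequences.
-/

set_option autoImplicit false
set_option linter.unusedSectionVars false

namespace CfsgLib.Aschbacher.Orth

open Cfsg.Geo Matrix CfsgLib.Classical CfsgLib.Geom
open QuadraticMap (polar)
open scoped MatrixGroups Kronecker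

variable {ι : Type} [Fintype ι] [DecidableEq ι] {F : Type*} [Field F] [Fintype F]
variable {d k : ℕ}

/-- A pure tensor vector in the coordinates `P`, `e`. -/
def pureVec (e : ι ≃ Fin d × Fin k) (P : GL ι F) (x : Fin d → F) (y : Fin k → F) : ι → F :=
  (P : Matrix ι ι F) *ᵥ ((fun p : Fin d × Fin k => x p.1 * y p.2) ∘ e)

omit [Fintype F] in
theorem kronecker_mulVec_pure (u : Matrix (Fin d) (Fin d) F) (w : Matrix (Fin k) (Fin k) F) (x : Fin d → F)
    (y : Fin k → F) :
    (u ⊗ₖ w) *ᵥ (fun p : Fin d × Fin k => x p.1 * y p.2) = fun p => (u *ᵥ x) p.1 * (w *ᵥ y) p.2 := by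
  funext p
  simp only [mulVec, dotProduct, Fintype.sum_prod_type, Matrix.kroneckerMap_apply]
  rw [Finset.sum_mul_sum]
  exact Finset.sum_congr rfl fun i _ => Finset.sum_congr rfl fun j _ => by ring

omit [Fintype F] in
theorem dotProduct_pure (x x' : Fin d → F) (y y' : Fin k → F) :
    (fun p : Fin d × Fin k => x p.1 * y p.2) ⬝ᵥ (fun p => x' p.1 * y' p.2) = (x ⬝ᵥ x') * (y ⬝ᵥ y') := by
  simp only [dotProduct, Fintype.sum_prod_type]
  rw [Finset.sum_mul_sum]
  exact Finset.sum_congr rfl fun i _ => Finset.sum_congr rfl fun j _ => by ring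

theorem tensor_act (e : ι ≃ Fin d × Fin k) (P : GL ι F) {g : GL ι F} (hg : g ∈ tensorProductSubgroup d k e P) :
    ∃ (u : GL (Fin d) F) (w : GL (Fin k) F), ∀ X : Fin d × Fin k → F,
      (g : Matrix ι ι F) *ᵥ ((P : Matrix ι ι F) *ᵥ (X ∘ e)) = (P : Matrix ι ι F) *ᵥ
        ((((u : Matrix (Fin d) (Fin d) F) ⊗ₖ (w : Matrix (Fin k) (Fin k) F)) *ᵥ X) ∘ e) := by
  obtain ⟨y, ⟨x, ⟨u, w, hx⟩, rfl⟩, rfl⟩ := hg
  refine ⟨u, w, fun X => ?_⟩
  rw [show (MulAut.conj P).toMonoidHom ((glReindex e.symm).toMonoidHom x) = P * glReindex e.symm x * P⁻¹ from rfl,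
    mulVec_mulVec, ← Units.val_mul, inv_mul_cancel_right, Units.val_mul, ← mulVec_mulVec, glReindex_symm_mulVec, hx]

theorem leftFactor_mulVec (e : ι ≃ Fin d × Fin k) (P : GL ι F) (z : Matrix (Fin d) (Fin d) F)
    (X : Fin d × Fin k → F) :
    leftFactor e P z *ᵥ ((P : Matrix ι ι F) *ᵥ (X ∘ e)) =
      (P : Matrix ι ι F) *ᵥ (((z ⊗ₖ (1 : Matrix (Fin k) (Fin k) F)) *ᵥ X) ∘ e) := by
  rw [leftFactor, cj_apply, mulVec_mulVec, mul_assoc, ← Units.val_mul, inv_mul_cancel, Units.val_one, mul_one,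
    ← mulVec_mulVec, Matrix.reindex_apply, Matrix.submatrix_mulVec_equiv]
  simp [Function.comp_assoc]

theorem exists_coords (e : ι ≃ Fin d × Fin k) (P : GL ι F) (v : ι → F) :
    ∃ X : Fin d × Fin k → F, (P : Matrix ι ι F) *ᵥ (X ∘ e) = v :=
  ⟨((((P⁻¹ : GL ι F) : Matrix ι ι F) *ᵥ v) ∘ e.symm), by
    rw [Function.comp_assoc, Equiv.symm_comp_self, Function.comp_id, mulVec_mulVec, ← Units.val_mul, mul_inv_cancel,
      Units.val_one, one_mulVec]⟩

theorem span_pureVec_eq_top (e : ι ≃ Fin d × Fin k) (P : GL ι F) :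
    Submodule.span F {v | ∃ x y, v = pureVec e P x y} = ⊤ := by
  refine Submodule.eq_top_iff'.2 fun v => ?_
  obtain ⟨X, rfl⟩ := exists_coords e P v
  rw [show X = ∑ p : Fin d × Fin k, X p • fun q => (Pi.single p.1 1 : Fin d → F) q.1 * (Pi.single p.2 1 : Fin k → F) q.2 by
    funext q
    rw [Finset.sum_apply, Finset.sum_eq_single q]
    · simp
    · intro p _ hp
      rcases not_and_or.1 (fun h : p.1 = q.1 ∧ p.2 = q.2 => hp (Prod.ext h.1 h.2)) with h | h <;>
        simp [Pi.single_eq_of_ne (Ne.symm h)]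
    · simp]
  have hl : ∀ (f : Fin d × Fin k → (Fin d × Fin k → F)), ((∑ p, f p) ∘ e) = ∑ p, (f p ∘ e) := fun f => by
    funext i; simp
  rw [hl, Matrix.mulVec_sum]
  refine Submodule.sum_mem _ fun p _ => ?_
  rw [show ((X p • fun q : Fin d × Fin k => (Pi.single p.1 1 : Fin d → F) q.1 * (Pi.single p.2 1 : Fin k → F) q.2) ∘ e) =
    X p • ((fun q : Fin d × Fin k => (Pi.single p.1 1 : Fin d → F) q.1 * (Pi.single p.2 1 : Fin k → F) q.2) ∘ e) from rfl,
    mulVec_smul]
  exact Submodule.smul_mem _ _ (Submodule.subset_span ⟨_, _, rfl⟩)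

/-- The signs of the factors of a symmetric Kronecker product. -/
theorem sign_of_kronecker [NeZero d] [NeZero k] {a : Matrix (Fin d) (Fin d) F} {b : Matrix (Fin k) (Fin k) F}
    (ha : IsUnit a) (hb : IsUnit b) (h : (a ⊗ₖ b)ᵀ = a ⊗ₖ b) :
    ∃ ε : F, ε * ε = 1 ∧ aᵀ = ε • a ∧ bᵀ = ε • b := by
  have h' : ∀ i j l n, a j i * b n l = a i j * b l n := fun i j l n => congrFun (congrFun h (i, l)) (j, n)
  obtain ⟨i, j, hij⟩ : ∃ i j, a i j ≠ 0 := by
    by_contra hno; push Not at hno
    exact ha.ne_zero (Matrix.ext hno)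
  obtain ⟨l, n, hln⟩ : ∃ l n, b l n ≠ 0 := by
    by_contra hno; push Not at hno
    exact hb.ne_zero (Matrix.ext hno)
  have hji : a j i ≠ 0 := fun h0 => mul_ne_zero hij hln (by rw [← h' i j l n, h0, zero_mul])
  refine ⟨a j i / a i j, ?_, ?_, ?_⟩
  · have e1 := h' i j l n
    have e2 := h' i j n l
    field_simp
    refine mul_right_cancel₀ hln ?_
    linear_combination a j i * e2 + a i j * e1
  · ext p q
    rw [transpose_apply, Matrix.smul_apply, smul_eq_mul, div_mul_eq_mul_div, eq_div_iff hij]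
    have hnl : b n l ≠ 0 := fun h0 => mul_ne_zero hij hln (by rw [← h' i j l n, h0, mul_zero])
    refine mul_right_cancel₀ hnl ?_
    linear_combination a i j * h' p q l n - a p q * h' i j l n
  · ext p q
    rw [transpose_apply, Matrix.smul_apply, smul_eq_mul, div_mul_eq_mul_div, eq_div_iff hij]
    linear_combination h' j i p q

variable {Q : QuadraticForm F (ι → F)}

theorem coordGram_swap (e : ι ≃ Fin d × Fin k) (P : GL ι F) {a : Matrix (Fin d) (Fin d) F}
    {b : Matrix (Fin k) (Fin k) F} (h : coordGram Q e P = a ⊗ₖ b) :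
    coordGram Q (e.trans (Equiv.prodComm _ _)) P = b ⊗ₖ a := by
  ext p q
  have h1 := congrFun (congrFun h (p.2, p.1)) (q.2, q.1)
  simp only [coordGram, Matrix.reindex_apply, Matrix.submatrix_apply, Equiv.symm_trans_apply, Equiv.prodComm_symm,
    Equiv.prodComm_apply, Matrix.kroneckerMap_apply, Prod.swap] at h1 ⊢
  rw [h1, mul_comm]

theorem tensorProductSubgroup_le_swap (e : ι ≃ Fin d × Fin k) (P : GL ι F) :
    tensorProductSubgroup d k e P ≤ tensorProductSubgroup k d (e.trans (Equiv.prodComm _ _)) P := by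
  rintro _ ⟨_, ⟨x, ⟨u, w, hx⟩, rfl⟩, rfl⟩
  refine ⟨_, ⟨glReindex (Equiv.prodComm (Fin d) (Fin k)) x, ⟨w, u, ?_⟩, rfl⟩, ?_⟩
  · ext p q
    show (x : Matrix _ _ F) (p.2, p.1) (q.2, q.1) = _
    rw [hx]; simp [Matrix.kroneckerMap_apply, mul_comm]
  · exact Units.ext rfl

theorem pureVec_swap (e : ι ≃ Fin d × Fin k) (P : GL ι F) (x : Fin d → F) (y : Fin k → F) :
    pureVec (e.trans (Equiv.prodComm _ _)) P y x = pureVec e P x y := by
  simp only [pureVec]
  congr 1
  funext i
  simp [mul_comm]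

section
variable (e : ι ≃ Fin d × Fin k) (P : GL ι F) {a : Matrix (Fin d) (Fin d) F} {b : Matrix (Fin k) (Fin k) F}
  (hAB : coordGram Q e P = a ⊗ₖ b)
include hAB

theorem polar_pureVec (x x' : Fin d → F) (y y' : Fin k → F) :
    polar Q (pureVec e P x y) (pureVec e P x' y') = (x ⬝ᵥ (a *ᵥ x')) * (y ⬝ᵥ (b *ᵥ y')) := by
  rw [pureVec, pureVec, coordGram_apply, hAB, kronecker_mulVec_pure, dotProduct_pure]

variable (ha : IsUnit a) (hb : IsUnit b) [NeZero d] [NeZero k]
include ha hb

theorem tensor_factors {g : GL ι F} (hg : g ∈ tensorProductSubgroup d k e P)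
    (hs : g ∈ similarityGroup (polar (⇑Q))) :
    ∃ (u : GL (Fin d) F) (w : GL (Fin k) F) (p r : F), p ≠ 0 ∧ r ≠ 0 ∧
      (u : Matrix (Fin d) (Fin d) F)ᵀ * a * (u : Matrix (Fin d) (Fin d) F) = p • a ∧
      (w : Matrix (Fin k) (Fin k) F)ᵀ * b * (w : Matrix (Fin k) (Fin k) F) = r • b ∧
      (∀ X : Fin d × Fin k → F, (g : Matrix ι ι F) *ᵥ ((P : Matrix ι ι F) *ᵥ (X ∘ e)) = (P : Matrix ι ι F) *ᵥ
        ((((u : Matrix (Fin d) (Fin d) F) ⊗ₖ (w : Matrix (Fin k) (Fin k) F)) *ᵥ X) ∘ e)) ∧
      ∀ x y, (g : Matrix ι ι F) *ᵥ pureVec e P x y =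
        pureVec e P ((u : Matrix (Fin d) (Fin d) F) *ᵥ x) ((w : Matrix (Fin k) (Fin k) F) *ᵥ y) := by
  obtain ⟨u, w, huw⟩ := tensor_act e P hg
  obtain ⟨c, hc⟩ := hs
  have hpure : ∀ x y, (g : Matrix ι ι F) *ᵥ pureVec e P x y =
      pureVec e P ((u : Matrix (Fin d) (Fin d) F) *ᵥ x) ((w : Matrix (Fin k) (Fin k) F) *ᵥ y) := fun x y => by
    rw [pureVec, huw, kronecker_mulVec_pure, pureVec]
  have key : ∀ i i' j j', ((u : Matrix (Fin d) (Fin d) F)ᵀ * a * (u : Matrix (Fin d) (Fin d) F)) i i' *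
      ((w : Matrix (Fin k) (Fin k) F)ᵀ * b * (w : Matrix (Fin k) (Fin k) F)) j j' = c * (a i i' * b j j') := by
    intro i i' j j'
    have h := hc (pureVec e P (Pi.single i 1) (Pi.single j 1)) (pureVec e P (Pi.single i' 1) (Pi.single j' 1))
    rw [hpure, hpure, polar_pureVec e P hAB, polar_pureVec e P hAB] at h
    simp only [mulVec_single_one, single_dotProduct, one_mul, Matrix.col_apply] at h
    rw [mul_assoc (u : Matrix (Fin d) (Fin d) F)ᵀ, mul_assoc (w : Matrix (Fin k) (Fin k) F)ᵀ]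
    exact h
  obtain ⟨i, i', hi⟩ : ∃ i i', a i i' ≠ 0 := by
    by_contra hno; push Not at hno
    exact ha.ne_zero (Matrix.ext hno)
  obtain ⟨j, j', hj⟩ : ∃ j j', b j j' ≠ 0 := by
    by_contra hno; push Not at hno
    exact hb.ne_zero (Matrix.ext hno)
  set A := (u : Matrix (Fin d) (Fin d) F)ᵀ * a * (u : Matrix (Fin d) (Fin d) F) with hA
  set B := (w : Matrix (Fin k) (Fin k) F)ᵀ * b * (w : Matrix (Fin k) (Fin k) F) with hB
  have h0 := key i i' j j'
  have hAi : A i i' ≠ 0 := fun h => mul_ne_zero c.ne_zero (mul_ne_zero hi hj) (by rw [← h0, h, zero_mul])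
  have hBj : B j j' ≠ 0 := fun h => mul_ne_zero c.ne_zero (mul_ne_zero hi hj) (by rw [← h0, h, mul_zero])
  refine ⟨u, w, c * b j j' / B j j', B j j' / b j j', ?_, div_ne_zero hBj hj, ?_, ?_, huw, hpure⟩
  · exact div_ne_zero (mul_ne_zero c.ne_zero hj) hBj
  · ext x y
    rw [Matrix.smul_apply, smul_eq_mul, div_mul_eq_mul_div, eq_div_iff hBj]
    linear_combination key x y j j'
  · ext x y
    rw [Matrix.smul_apply, smul_eq_mul, div_mul_eq_mul_div, eq_div_iff hj]
    refine mul_left_cancel₀ hAi ?_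
    linear_combination b j j' * key i i' x y - b x y * h0

variable {G : Subgroup (GL ι F)} (hG : G ≤ quadSimilarityGroup (⇑Q)) (hle : G ≤ tensorProductSubgroup d k e P)
  (hirr : ActsIrreducibly (matrixSet G))
include hG hle hirr

/-- In characteristic two the left factor is alternating, the group being irreducible. -/
theorem diag_left_eq_zero (h2 : (2 : F) = 0) (hd : 2 ≤ d) (has : aᵀ = a) (i : Fin d) : a i i = 0 := by
  by_contra hii
  choose s hs using fun j => isSquare_of_two_eq_zero h2 (a j j)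
  have hq : ∀ x : Fin d → F, x ⬝ᵥ (a *ᵥ x) = (∑ j, s j * x j) * (∑ j, s j * x j) := by
    intro x
    simp only [dotProduct, mulVec, Finset.mul_sum, Finset.sum_mul]
    rw [← Finset.sum_product', ← Finset.sum_product']
    have key : ∀ f : Fin d × Fin d → F, (∀ p, f (p.2, p.1) = f p) →
        ∑ p ∈ Finset.univ ×ˢ Finset.univ, f p = ∑ j, f (j, j) := by
      intro f hf
      have hoff : ∑ p ∈ (Finset.univ ×ˢ Finset.univ).filter (fun p : Fin d × Fin d => p.1 ≠ p.2), f p = 0 := by
        refine Finset.sum_involution (fun p _ => (p.2, p.1)) (fun p _ => ?_) (fun p hp _ => ?_) (fun p hp => ?_)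
          (fun p _ => rfl)
        · rw [hf]; linear_combination f p * h2
        · intro h
          exact (Finset.mem_filter.1 hp).2 (congrArg Prod.snd h)
        · simpa [eq_comm] using hp
      rw [← Finset.sum_filter_add_sum_filter_not _ (fun p : Fin d × Fin d => p.1 ≠ p.2), hoff, zero_add]
      refine Finset.sum_nbij' (fun p => p.1) (fun j => (j, j)) (by simp) (by simp) ?_ (by simp) ?_
      · intro p hp; simp at hp; exact Prod.ext rfl hp
      · intro p hp; simp at hp; exact congrArg f (Prod.ext rfl hp.symm)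
    rw [key _ fun p => by
        have h1 := congrFun (congrFun has p.1) p.2
        rw [transpose_apply] at h1
        show x p.2 * (a p.2 p.1 * x p.1) = x p.1 * (a p.1 p.2 * x p.2)
        rw [h1]; ring,
      key _ fun p => by ring]
    exact Finset.sum_congr rfl fun j _ => by rw [hs j]; ring
  let L : (Fin d → F) →ₗ[F] F := ∑ j, s j • LinearMap.proj j
  have hL : ∀ x, L x = ∑ j, s j * x j := fun x => by simp [L]
  have hL0 : L ≠ 0 := fun h => by
    have h1 := LinearMap.congr_fun h (Pi.single i 1)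
    rw [hL, LinearMap.zero_apply, Finset.sum_eq_single i (fun j _ hj => by simp [hj]) (by simp)] at h1
    simp at h1
    exact hii (by rw [hs i, h1, mul_zero])
  let S : Set (ι → F) := {v | ∃ x y, L x = 0 ∧ v = pureVec e P x y}
  rcases hirr (Submodule.span F S) (by
      rintro _ ⟨g, hg, rfl⟩
      rw [Submodule.map_span]
      refine Submodule.span_le.2 ?_
      rintro _ ⟨_, ⟨x, y, hx, rfl⟩, rfl⟩
      obtain ⟨u, w, p, r, hp, hr, hu, -, -, hpure⟩ :=
        tensor_factors e P hAB ha hb (hle hg) (quadSimilarityGroup_le_similarityGroup (hG hg))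
      rw [Matrix.toLin'_apply, hpure]
      refine Submodule.subset_span ⟨_, _, ?_, rfl⟩
      have h1 : (L ((u : Matrix (Fin d) (Fin d) F) *ᵥ x)) * (L ((u : Matrix (Fin d) (Fin d) F) *ᵥ x)) = 0 := by
        have hux : ((u : Matrix (Fin d) (Fin d) F) *ᵥ x) ⬝ᵥ (a *ᵥ ((u : Matrix (Fin d) (Fin d) F) *ᵥ x)) =
            x ⬝ᵥ (((u : Matrix (Fin d) (Fin d) F)ᵀ * a * (u : Matrix (Fin d) (Fin d) F)) *ᵥ x) := by
          rw [← mulVec_mulVec, ← mulVec_mulVec, dotProduct_mulVec x, vecMul_transpose]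
        rw [hL, ← hq, hux, hu, smul_mulVec, dotProduct_smul, hq, ← hL, hx, mul_zero, smul_zero]
      exact mul_self_eq_zero.1 h1) with h | h
  · obtain ⟨x, hx, hx0⟩ : ∃ x, L x = 0 ∧ x ≠ 0 := by
      obtain ⟨x, hx, hx0⟩ := (LinearMap.ker L).exists_mem_ne_zero_of_ne_bot fun hb' => by
        have h1 := LinearMap.finrank_range_add_finrank_ker L
        rw [hb', finrank_bot, Module.finrank_fin_fun] at h1
        have h3 := (LinearMap.range L).finrank_le
        rw [Module.finrank_self] at h3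
        omega
      exact ⟨x, hx, hx0⟩
    obtain ⟨j, hj⟩ := Function.ne_iff.1 hx0
    have hz : pureVec e P x (Pi.single 0 1) = 0 :=
      (Submodule.eq_bot_iff _).1 h _ (Submodule.subset_span ⟨x, _, hx, rfl⟩)
    rw [pureVec] at hz
    have h1 := congrFun (Matrix.mulVec_injective_iff_isUnit.2 P.isUnit (hz.trans (mulVec_zero _).symm)) (e.symm (j, 0))
    simp at h1
    exact hj h1
  · let M : (ι → F) →ₗ[F] F :=
      ∑ j, s j • ((LinearMap.proj (e.symm (j, (0 : Fin k)))).comp (Matrix.toLin' ((P⁻¹ : GL ι F) : Matrix ι ι F)))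
    have hM : ∀ x y, M (pureVec e P x y) = L x * y 0 := fun x y => by
      simp only [M, hL, LinearMap.sum_apply, LinearMap.smul_apply, LinearMap.comp_apply, LinearMap.proj_apply,
        Matrix.toLin'_apply, pureVec, mulVec_mulVec, ← Units.val_mul, inv_mul_cancel, Units.val_one, one_mulVec,
        Function.comp_apply, Equiv.apply_symm_apply, smul_eq_mul, Finset.sum_mul]
      exact Finset.sum_congr rfl fun j _ => by ring
    have hMS : Submodule.span F S ≤ LinearMap.ker M := Submodule.span_le.2 fun v ⟨x, y, hx, hv⟩ => by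
      rw [SetLike.mem_coe, LinearMap.mem_ker, hv, hM, hx, zero_mul]
    rw [h] at hMS
    have h1 := hM (Pi.single i 1) (Pi.single 0 1)
    rw [LinearMap.mem_ker.1 (hMS Submodule.mem_top), Pi.single_eq_same, mul_one, hL,
      Finset.sum_eq_single i (fun j _ hj => by simp [hj]) (by simp), Pi.single_eq_same, mul_one] at h1
    exact hii (by rw [hs i, ← h1, mul_zero])

/-- With alternating factors the form vanishes on pure tensors. -/
theorem quad_pureVec_eq_zero (hn : 2 ≤ Fintype.card ι) (haa : ∀ x, x ⬝ᵥ (a *ᵥ x) = 0) (hbb : ∀ y, y ⬝ᵥ (b *ᵥ y) = 0)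
    (x : Fin d → F) (y : Fin k → F) : Q (pureVec e P x y) = 0 := by
  by_cases h2 : (2 : F) = 0
  swap
  · have h := polar_pureVec e P hAB x x y y
    rw [haa, zero_mul, polar_self_two] at h
    exact (mul_eq_zero.1 h).resolve_left h2
  choose s hs using fun p : Fin d × Fin k => isSquare_of_two_eq_zero h2 (Q (pureVec e P (Pi.single p.1 1) (Pi.single p.2 1)))
  have hsx : ∀ x x' y, Q (pureVec e P (x + x') y) = Q (pureVec e P x y) + Q (pureVec e P x' y) := fun x x' y => by
    have e1 : pureVec e P (x + x') y = pureVec e P x y + pureVec e P x' y := by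
      simp only [pureVec, ← mulVec_add]
      congr 1; funext i; simp [add_mul]
    rw [e1, QuadraticMap.map_add Q, polar_pureVec e P hAB, hbb, mul_zero, add_zero]
  have hsy : ∀ x y y', Q (pureVec e P x (y + y')) = Q (pureVec e P x y) + Q (pureVec e P x y') := fun x y y' => by
    have e1 : pureVec e P x (y + y') = pureVec e P x y + pureVec e P x y' := by
      simp only [pureVec, ← mulVec_add]
      congr 1; funext i; simp [mul_add]
    rw [e1, QuadraticMap.map_add Q, polar_pureVec e P hAB, haa, zero_mul, add_zero]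
  have hcx : ∀ (c : F) x y, Q (pureVec e P (c • x) y) = c * c * Q (pureVec e P x y) := fun c x y => by
    have e1 : pureVec e P (c • x) y = c • pureVec e P x y := by
      simp only [pureVec, ← mulVec_smul]
      congr 1; funext i; simp [mul_assoc]
    rw [e1, QuadraticMap.map_smul, smul_eq_mul]
  have hcy : ∀ (c : F) x y, Q (pureVec e P x (c • y)) = c * c * Q (pureVec e P x y) := fun c x y => by
    have e1 : pureVec e P x (c • y) = c • pureVec e P x y := by
      simp only [pureVec, ← mulVec_smul]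
      congr 1; funext i; simp [mul_left_comm]
    rw [e1, QuadraticMap.map_smul, smul_eq_mul]
  let ℓ : (ι → F) →ₗ[F] F :=
    ∑ p, s p • ((LinearMap.proj (e.symm p)).comp (Matrix.toLin' ((P⁻¹ : GL ι F) : Matrix ι ι F)))
  have hsq : ∀ {κ : Type} (S : Finset κ) (f : κ → F), (∑ p ∈ S, f p) * (∑ p ∈ S, f p) = ∑ p ∈ S, f p * f p := by
    intro κ S f
    induction S using Finset.cons_induction with
    | empty => simp
    | cons c S hc ih => rw [Finset.sum_cons, Finset.sum_cons, ← ih]; linear_combination f c * (∑ p ∈ S, f p) * h2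
  refine spanning_null h2 hn hirr hG (span_pureVec_eq_top e P) (fun g hg v hv => ?_) ℓ (fun v hv => ?_) _ ⟨x, y, rfl⟩
  · obtain ⟨x, y, rfl⟩ := hv
    obtain ⟨u, w, p, r, -, -, -, -, -, hpure⟩ :=
      tensor_factors e P hAB ha hb (hle hg) (quadSimilarityGroup_le_similarityGroup (hG hg))
    exact ⟨_, _, hpure x y⟩
  · obtain ⟨x, y, rfl⟩ := hv
    have hl : ℓ (pureVec e P x y) = ∑ p, s p * (x p.1 * y p.2) := by
      simp only [ℓ, LinearMap.sum_apply, LinearMap.smul_apply, LinearMap.comp_apply, LinearMap.proj_apply,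
        Matrix.toLin'_apply, pureVec, mulVec_mulVec, ← Units.val_mul, inv_mul_cancel, Units.val_one, one_mulVec,
        Function.comp_apply, Equiv.apply_symm_apply, smul_eq_mul]
    have expx : ∀ (S : Finset (Fin d)) y, Q (pureVec e P (∑ i ∈ S, x i • Pi.single i 1) y) =
        ∑ i ∈ S, x i * x i * Q (pureVec e P (Pi.single i 1) y) := by
      intro S y
      induction S using Finset.cons_induction with
      | empty => simp [pureVec, Function.comp_def, ← Pi.zero_def]
      | cons c S hc ih => rw [Finset.sum_cons, Finset.sum_cons, hsx, hcx, ih]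
    have expy : ∀ (S : Finset (Fin k)) i, Q (pureVec e P (Pi.single i 1) (∑ j ∈ S, y j • Pi.single j 1)) =
        ∑ j ∈ S, y j * y j * Q (pureVec e P (Pi.single i 1) (Pi.single j 1)) := by
      intro S i
      induction S using Finset.cons_induction with
      | empty => simp [pureVec, Function.comp_def, ← Pi.zero_def]
      | cons c S hc ih => rw [Finset.sum_cons, Finset.sum_cons, hsy, hcy, ih]
    have hx : x = ∑ i, x i • (Pi.single i 1 : Fin d → F) := pi_eq_sum_univ' x
    have hy : y = ∑ j, y j • (Pi.single j 1 : Fin k → F) := pi_eq_sum_univ' y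
    rw [hl, hsq, Fintype.sum_prod_type]
    conv_lhs => rw [hx, hy]
    rw [expx]
    refine Finset.sum_congr rfl fun i _ => ?_
    rw [expy, Finset.mul_sum]
    exact Finset.sum_congr rfl fun j _ => by rw [hs (i, j)]; ring

end
end CfsgLib.Aschbacher.Orth
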