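import Cfsg.Agent.Lib.Aschbacher.OrthEvenLists

/-!
A symmetric decomposition `3 ⊗ 4` with second factor of plus type refines to an alternating decomposition `2 ⊗ 6`:
a proper similitude of the hyperbolic four-space is a tensor product of two matrices of size two.
-/

set_option autoImplicit false
set_option linter.unusedSectionVars false

namespace CfsgLib.Aschbacher.Orth

open Cfsg.Geo Matrix CfsgLib.Classical
open QuadraticMap (polar)
open scoped MatrixGroups Kronecker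

variable {F : Type*} [Field F] [Fintype F]

/-- The alternating matrix of size two. -/
def altTwo (F : Type*) [Field F] : Matrix (Fin 2) (Fin 2) F := !![0, 1; -1, 0]

/-- The indices of the grid. -/
def gridEquiv : Fin 2 × Fin 2 ≃ Fin 4 := finProdFinEquiv

theorem congr_altTwo (A : Matrix (Fin 2) (Fin 2) F) : Aᵀ * altTwo F * A = A.det • altTwo F := by
  ext i j
  fin_cases i <;> fin_cases j <;>
    simp [altTwo, Matrix.mul_apply, Fin.sum_univ_two, Matrix.det_fin_two] <;> ring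

theorem grid_dot (x y : Fin 2 × Fin 2 → F) : x ⬝ᵥ ((altTwo F ⊗ₖ altTwo F) *ᵥ y) =
    x (0, 0) * y (1, 1) - x (0, 1) * y (1, 0) - x (1, 0) * y (0, 1) + x (1, 1) * y (0, 0) := by
  simp [altTwo, dotProduct, mulVec, Fintype.sum_prod_type, Fin.sum_univ_two, Matrix.kroneckerMap_apply]
  ring

/-- A singular vector of the grid is a product. -/
theorem exists_pure {x : Fin 2 × Fin 2 → F} (h : x (0, 0) * x (1, 1) = x (0, 1) * x (1, 0)) :
    ∃ α β : Fin 2 → F, ∀ i j, x (i, j) = α i * β j := by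
  by_cases h0 : x (0, 0) = 0
  · rw [h0, zero_mul, eq_comm, mul_eq_zero] at h
    rcases h with h | h
    · refine ⟨![0, 1], ![x (1, 0), x (1, 1)], fun i j => ?_⟩
      fin_cases i <;> fin_cases j <;> simp [h0, h]
    · refine ⟨![x (0, 1), x (1, 1)], ![0, 1], fun i j => ?_⟩
      fin_cases i <;> fin_cases j <;> simp [h0, h]
  · refine ⟨![x (0, 0), x (1, 0)], ![1, x (0, 1) / x (0, 0)], fun i j => ?_⟩
    fin_cases i <;> fin_cases j <;> simp [h0]
    · field_simp
    · field_simp; linear_combination h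

/-- A proper similitude of the hyperbolic four-space is a tensor product. -/
theorem grid_proper (h2 : (2 : F) ≠ 0) (w : GL (Fin 2 × Fin 2) F) {r : F}
    (hw : (w : Matrix (Fin 2 × Fin 2) (Fin 2 × Fin 2) F)ᵀ * (altTwo F ⊗ₖ altTwo F) *
      (w : Matrix (Fin 2 × Fin 2) (Fin 2 × Fin 2) F) = r • (altTwo F ⊗ₖ altTwo F))
    (hdet : (w : Matrix (Fin 2 × Fin 2) (Fin 2 × Fin 2) F).det = r * r) :
    ∃ A B : GL (Fin 2) F, (w : Matrix (Fin 2 × Fin 2) (Fin 2 × Fin 2) F) =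
      (A : Matrix (Fin 2) (Fin 2) F) ⊗ₖ (B : Matrix (Fin 2) (Fin 2) F) := by
  set K := altTwo F ⊗ₖ altTwo F with hK
  have hval : ∀ (W : Matrix (Fin 2 × Fin 2) (Fin 2 × Fin 2) F) (s : F), Wᵀ * K * W = s • K → ∀ p q,
      (W *ᵥ Pi.single p 1) ⬝ᵥ (K *ᵥ (W *ᵥ Pi.single q 1)) = s * K p q := fun W s hs p q => by
    rw [← vecMul_transpose, ← dotProduct_mulVec, mulVec_mulVec, mulVec_mulVec, hs]
    simp [mulVec_single_one, single_dotProduct]
  have hK01 : K (0, 0) (1, 1) = 1 := by simp [hK, altTwo, Matrix.kroneckerMap_apply]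
  have hK23 : K (0, 1) (1, 0) = -1 := by simp [hK, altTwo, Matrix.kroneckerMap_apply]
  have hKdiag : ∀ p, K p p = 0 := fun ⟨i, j⟩ => by
    fin_cases i <;> fin_cases j <;> simp [hK, altTwo, Matrix.kroneckerMap_apply]
  have hr : r ≠ 0 := by
    intro h
    rw [h, mul_zero] at hdet
    exact ((Matrix.isUnit_iff_isUnit_det _).1 w.isUnit).ne_zero hdet
  have hsing : ∀ p, ∃ α β : Fin 2 → F, ∀ i j,
      ((w : Matrix (Fin 2 × Fin 2) (Fin 2 × Fin 2) F) *ᵥ Pi.single p 1) (i, j) = α i * β j := fun p => by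
    refine exists_pure ?_
    have h := hval _ _ hw p p
    rw [hKdiag, mul_zero, hK, grid_dot] at h
    refine mul_left_cancel₀ h2 ?_
    linear_combination h
  obtain ⟨α, β, hαβ⟩ := hsing (0, 0)
  obtain ⟨γ, δ, hγδ⟩ := hsing (1, 1)
  set A₀ : Matrix (Fin 2) (Fin 2) F := Matrix.of fun i j => ![α i, γ i] j with hA₀
  set B₀ : Matrix (Fin 2) (Fin 2) F := Matrix.of fun i j => ![β i, δ i] j with hB₀
  have hdd : A₀.det * B₀.det = r := by
    have h := hval _ _ hw (0, 0) (1, 1)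
    rw [hK01, mul_one, hK, grid_dot, hαβ, hαβ, hαβ, hαβ, hγδ, hγδ, hγδ, hγδ] at h
    rw [← h, Matrix.det_fin_two, Matrix.det_fin_two]
    simp [hA₀, hB₀]
    ring
  have hA0 : A₀.det ≠ 0 := fun h => hr (by rw [← hdd, h, zero_mul])
  have hB0 : B₀.det ≠ 0 := fun h => hr (by rw [← hdd, h, mul_zero])
  obtain ⟨A, hA⟩ : IsUnit A₀ := (Matrix.isUnit_iff_isUnit_det _).2 (isUnit_iff_ne_zero.2 hA0)
  obtain ⟨B, hB⟩ : IsUnit B₀ := (Matrix.isUnit_iff_isUnit_det _).2 (isUnit_iff_ne_zero.2 hB0)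
  obtain ⟨W, hWdef⟩ : ∃ W : Matrix (Fin 2 × Fin 2) (Fin 2 × Fin 2) F, W =
    (((A⁻¹ : GL (Fin 2) F) : Matrix (Fin 2) (Fin 2) F) ⊗ₖ ((B⁻¹ : GL (Fin 2) F) : Matrix (Fin 2) (Fin 2) F)) *
      (w : Matrix (Fin 2 × Fin 2) (Fin 2 × Fin 2) F) := ⟨_, rfl⟩
  have hwW : (w : Matrix (Fin 2 × Fin 2) (Fin 2 × Fin 2) F) = (A₀ ⊗ₖ B₀) * W := by
    rw [hWdef, ← mul_assoc, ← Matrix.mul_kronecker_mul, ← hA, ← hB, Units.mul_inv, Units.mul_inv,
      Matrix.one_kronecker_one, one_mul]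
  have hiA : ((A⁻¹ : GL (Fin 2) F) : Matrix (Fin 2) (Fin 2) F).det * A₀.det = 1 := by
    rw [← det_mul, ← hA, Units.inv_mul, det_one]
  have hiB : ((B⁻¹ : GL (Fin 2) F) : Matrix (Fin 2) (Fin 2) F).det * B₀.det = 1 := by
    rw [← det_mul, ← hB, Units.inv_mul, det_one]
  have hWK : Wᵀ * K * W = (1 : F) • K := by
    have hconj : (A₀ ⊗ₖ B₀)ᵀ * K * (A₀ ⊗ₖ B₀) = r • K := by
      rw [hK, ← Matrix.kroneckerMap_transpose, ← Matrix.mul_kronecker_mul, ← Matrix.mul_kronecker_mul, congr_altTwo,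
        congr_altTwo, Matrix.smul_kronecker, Matrix.kronecker_smul, smul_smul, hdd]
    have h1 := hw
    rw [hwW, transpose_mul, mul_assoc Wᵀ, mul_assoc Wᵀ, ← mul_assoc ((A₀ ⊗ₖ B₀)ᵀ * K), hconj, Matrix.smul_mul,
      Matrix.mul_smul, ← mul_assoc] at h1
    rw [one_smul]
    exact smul_right_injective _ hr h1
  have hWdet : W.det = 1 := by
    have h := congrArg Matrix.det hwW
    rw [hdet, det_mul, Matrix.det_kronecker, Fintype.card_fin] at h
    refine mul_left_cancel₀ (mul_ne_zero hr hr) ?_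
    rw [mul_one]
    linear_combination -h - (A₀.det * B₀.det + r) * W.det * hdd
  have he0 : W *ᵥ Pi.single (0, 0) 1 = Pi.single (0, 0) 1 := by
    have hc : (w : Matrix (Fin 2 × Fin 2) (Fin 2 × Fin 2) F) *ᵥ Pi.single (0, 0) 1 =
        (A₀ ⊗ₖ B₀) *ᵥ Pi.single (0, 0) 1 := funext fun ⟨i, j⟩ => by
      rw [hαβ]
      simp [mulVec_single_one, hA₀, hB₀, Matrix.kroneckerMap_apply]
    rw [hWdef, ← mulVec_mulVec, hc, mulVec_mulVec, ← Matrix.mul_kronecker_mul, ← hA, ← hB, Units.inv_mul,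
      Units.inv_mul, Matrix.one_kronecker_one, one_mulVec]
  have he3 : W *ᵥ Pi.single (1, 1) 1 = Pi.single (1, 1) 1 := by
    have hc : (w : Matrix (Fin 2 × Fin 2) (Fin 2 × Fin 2) F) *ᵥ Pi.single (1, 1) 1 =
        (A₀ ⊗ₖ B₀) *ᵥ Pi.single (1, 1) 1 := funext fun ⟨i, j⟩ => by
      rw [hγδ]
      simp [mulVec_single_one, hA₀, hB₀, Matrix.kroneckerMap_apply]
    rw [hWdef, ← mulVec_mulVec, hc, mulVec_mulVec, ← Matrix.mul_kronecker_mul, ← hA, ← hB, Units.inv_mul,
      Units.inv_mul, Matrix.one_kronecker_one, one_mulVec]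
  obtain ⟨x, hx⟩ : ∃ x, W *ᵥ Pi.single (0, 1) 1 = x := ⟨_, rfl⟩
  obtain ⟨y, hy⟩ : ∃ y, W *ᵥ Pi.single (1, 0) 1 = y := ⟨_, rfl⟩
  have hrow : ∀ p, (W *ᵥ Pi.single (0, 0) 1) ⬝ᵥ (K *ᵥ (W *ᵥ Pi.single p 1)) = (W *ᵥ Pi.single p 1) (1, 1) := by
    intro p; rw [he0, hK, grid_dot]; simp
  have hrow' : ∀ p, (W *ᵥ Pi.single (1, 1) 1) ⬝ᵥ (K *ᵥ (W *ᵥ Pi.single p 1)) = (W *ᵥ Pi.single p 1) (0, 0) := by
    intro p; rw [he3, hK, grid_dot]; simp
  have hx11 : x (1, 1) = 0 := by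
    rw [← hx, ← hrow, hval _ _ hWK]; simp [hK, altTwo, Matrix.kroneckerMap_apply]
  have hx00 : x (0, 0) = 0 := by
    rw [← hx, ← hrow', hval _ _ hWK]; simp [hK, altTwo, Matrix.kroneckerMap_apply]
  have hy11 : y (1, 1) = 0 := by
    rw [← hy, ← hrow, hval _ _ hWK]; simp [hK, altTwo, Matrix.kroneckerMap_apply]
  have hy00 : y (0, 0) = 0 := by
    rw [← hy, ← hrow', hval _ _ hWK]; simp [hK, altTwo, Matrix.kroneckerMap_apply]
  have hxx : x (0, 1) * x (1, 0) = 0 := by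
    have h := hval _ _ hWK (0, 1) (0, 1)
    rw [hKdiag, hx, hK, grid_dot, hx00, hx11] at h
    refine mul_left_cancel₀ h2 ?_
    linear_combination -h
  have hyy : y (0, 1) * y (1, 0) = 0 := by
    have h := hval _ _ hWK (1, 0) (1, 0)
    rw [hKdiag, hy, hK, grid_dot, hy00, hy11] at h
    refine mul_left_cancel₀ h2 ?_
    linear_combination -h
  have hxy : x (0, 1) * y (1, 0) + x (1, 0) * y (0, 1) = 1 := by
    have h := hval _ _ hWK (0, 1) (1, 0)
    rw [hK23, hx, hy, hK, grid_dot, hx00, hx11] at h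
    linear_combination -h
  have hentry : ∀ p q, W p q = (W *ᵥ Pi.single q 1) p := fun p q => by rw [mulVec_single_one]; rfl
  rcases mul_eq_zero.1 hxx with hx01 | hx10
  · exfalso
    have hy10 : y (1, 0) = 0 := by
      refine (mul_eq_zero.1 hyy).resolve_left fun h => ?_
      rw [hx01, h, zero_mul, mul_zero, add_zero] at hxy
      exact zero_ne_one hxy
    let σ : Equiv.Perm (Fin 2 × Fin 2) := Equiv.swap (0, 1) (1, 0)
    let dg : Fin 2 × Fin 2 → F := fun p => W p (σ p)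
    have hperm : W.submatrix id σ = Matrix.diagonal dg := by
      have h00 : ∀ p, W p (0, 0) = (Pi.single (0, 0) 1 : _ → F) p := fun p => by rw [hentry, he0]
      have h11 : ∀ p, W p (1, 1) = (Pi.single (1, 1) 1 : _ → F) p := fun p => by rw [hentry, he3]
      have h01 : ∀ p, W p (0, 1) = x p := fun p => by rw [hentry, hx]
      have h10 : ∀ p, W p (1, 0) = y p := fun p => by rw [hentry, hy]
      ext ⟨i, j⟩ ⟨k, l⟩
      fin_cases i <;> fin_cases j <;> fin_cases k <;> fin_cases l <;>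
        simp [σ, dg, Matrix.diagonal, Equiv.swap_apply_def, h00, h11, h01, h10, hx00, hx11, hy00, hy11, hx01, hy10]
    have h := congrArg Matrix.det hperm
    rw [Matrix.det_permute', hWdet, mul_one, Matrix.det_diagonal, Fintype.prod_prod_type, Fin.prod_univ_two,
      Fin.prod_univ_two, Fin.prod_univ_two] at h
    have d00 : dg (0, 0) = 1 := by
      show W (0, 0) (σ (0, 0)) = 1
      rw [show σ (0, 0) = (0, 0) from rfl, hentry, he0, Pi.single_eq_same]
    have d01 : dg (0, 1) = y (0, 1) := by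
      show W (0, 1) (σ (0, 1)) = _
      rw [show σ (0, 1) = (1, 0) from rfl, hentry, hy]
    have d10 : dg (1, 0) = x (1, 0) := by
      show W (1, 0) (σ (1, 0)) = _
      rw [show σ (1, 0) = (0, 1) from rfl, hentry, hx]
    have d11 : dg (1, 1) = 1 := by
      show W (1, 1) (σ (1, 1)) = 1
      rw [show σ (1, 1) = (1, 1) from rfl, hentry, he3, Pi.single_eq_same]
    rw [d00, d01, d10, d11, show Equiv.Perm.sign σ = -1 from Equiv.Perm.sign_swap (by decide)] at h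
    simp at h
    rw [hx01, zero_mul, zero_add] at hxy
    refine h2 ?_
    linear_combination -h - hxy
  · have hy01 : y (0, 1) = 0 := by
      refine (mul_eq_zero.1 hyy).resolve_right fun h => ?_
      rw [hx10, h, zero_mul, mul_zero, zero_add] at hxy
      exact zero_ne_one hxy
    rw [hx10, zero_mul, add_zero] at hxy
    have hs : x (0, 1) ≠ 0 := left_ne_zero_of_mul_eq_one hxy
    have hy' : y (1, 0) = (x (0, 1))⁻¹ := eq_inv_of_mul_eq_one_right hxy
    have hWform : W = (Matrix.diagonal ![1, (x (0, 1))⁻¹]) ⊗ₖ (Matrix.diagonal ![1, x (0, 1)]) := by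
      ext ⟨i, j⟩ ⟨k, l⟩
      fin_cases i <;> fin_cases j <;> fin_cases k <;> fin_cases l <;>
        simp [hentry, he0, he3, hx, hy, hx00, hx11, hy00, hy11, hx10, hy01, hy', Matrix.kroneckerMap_apply,
          Matrix.diagonal, hs]
    obtain ⟨A₁, hA₁⟩ : IsUnit (A₀ * Matrix.diagonal ![1, (x (0, 1))⁻¹]) := by
      refine (Matrix.isUnit_iff_isUnit_det _).2 (isUnit_iff_ne_zero.2 ?_)
      simp [hA0, hs, Fin.prod_univ_two]
    obtain ⟨B₁, hB₁⟩ : IsUnit (B₀ * Matrix.diagonal ![1, x (0, 1)]) := by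
      refine (Matrix.isUnit_iff_isUnit_det _).2 (isUnit_iff_ne_zero.2 ?_)
      simp [hB0, hs, Fin.prod_univ_two]
    exact ⟨A₁, B₁, by rw [hwW, hWform, ← Matrix.mul_kronecker_mul, hA₁, hB₁]⟩

/-- Hyperbolic coordinates for a symmetric matrix of plus type and size four. -/
theorem exists_grid (h2 : (2 : F) ≠ 0) {b : Matrix (Fin 4) (Fin 4) F} (hbu : IsUnit b) (hbs : bᵀ = b)
    (hplus : IsPlusTypeOn (fun v : Fin 4 → F => v ⬝ᵥ (b *ᵥ v)) ⊤) :
    ∃ M : GL (Fin 4) F, (M : Matrix (Fin 4) (Fin 4) F)ᵀ * b * (M : Matrix (Fin 4) (Fin 4) F) =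
      (2 : F)⁻¹ • Matrix.reindex gridEquiv gridEquiv (altTwo F ⊗ₖ altTwo F) := by
  let B : (Fin 4 → F) →ₗ[F] (Fin 4 → F) →ₗ[F] F := Matrix.toLinearMap₂' F b
  let q : QuadraticForm F (Fin 4 → F) := LinearMap.BilinMap.toQuadraticMap B
  have hq : ∀ v, q v = v ⬝ᵥ (b *ᵥ v) := fun v => by
    simp [q, B, LinearMap.BilinMap.toQuadraticMap_apply, Matrix.toLinearMap₂'_apply']
  have hpol : ∀ u v, polar q u v = 2 * (u ⬝ᵥ (b *ᵥ v)) := fun u v => by
    have hsym : v ⬝ᵥ (b *ᵥ u) = u ⬝ᵥ (b *ᵥ v) := by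
      rw [dotProduct_mulVec, ← mulVec_transpose, hbs, dotProduct_comm]
    simp only [QuadraticMap.polar, hq, mulVec_add, dotProduct_add, add_dotProduct, hsym]
    ring
  have hqs : ∀ x, (∀ y, polar q x y = 0) → x = 0 := fun x hx => by
    have h1 : x ᵥ* b = 0 := funext fun j => by
      have := hx (Pi.single j 1)
      rw [hpol, dotProduct_mulVec, dotProduct_single, mul_one] at this
      exact (mul_eq_zero.1 this).resolve_left h2
    exact Matrix.vecMul_injective_iff_isUnit.2 hbu (h1.trans (zero_vecMul b).symm)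
  rw [show (fun v : Fin 4 → F => v ⬝ᵥ (b *ᵥ v)) = ⇑q from (funext hq).symm, plusType_iff_hasHalf] at hplus
  obtain ⟨e, he⟩ := (CfsgLib.MaxSub.IsoType.isPlus_iff_hasHalf q hqs (k := 2) (by simp)).2 hplus
  let v : Fin 2 × Fin 2 → (Fin 2 ⊕ Fin 2 → F) := fun p =>
    if p = (0, 0) then Pi.single (Sum.inl 0) 1 else if p = (1, 1) then Pi.single (Sum.inr 0) 1
    else if p = (0, 1) then Pi.single (Sum.inl 1) 1 else Pi.single (Sum.inr 1) (-1)
  let Mm : Matrix (Fin 4) (Fin 4) F := Matrix.of fun i s => e (v (gridEquiv.symm s)) i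
  have hM : Mmᵀ * b * Mm = (2 : F)⁻¹ • Matrix.reindex gridEquiv gridEquiv (altTwo F ⊗ₖ altTwo F) := by
    ext s t
    have hentry : (Mmᵀ * b * Mm) s t =
        e (v (gridEquiv.symm s)) ⬝ᵥ (b *ᵥ e (v (gridEquiv.symm t))) := by
      rw [mul_assoc]
      rfl
    have hp : polar q (e (v (gridEquiv.symm s))) (e (v (gridEquiv.symm t))) =
        polar (qfPlus 2 F) (v (gridEquiv.symm s)) (v (gridEquiv.symm t)) := by
      simp only [QuadraticMap.polar, ← map_add, he]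
    rw [hpol, ← hentry] at hp
    rw [Matrix.smul_apply, Matrix.reindex_apply, Matrix.submatrix_apply, smul_eq_mul]
    refine mul_left_cancel₀ h2 ?_
    rw [hp, ← mul_assoc, mul_inv_cancel₀ h2, one_mul]
    generalize gridEquiv.symm s = p
    generalize gridEquiv.symm t = r
    obtain ⟨i, j⟩ := p
    obtain ⟨k, l⟩ := r
    fin_cases i <;> fin_cases j <;> fin_cases k <;> fin_cases l <;>
      simp [v, altTwo, QuadraticMap.polar, qfPlus_apply, Cfsg.quadFormPlus, Fin.sum_univ_two, Pi.single_apply,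
        Matrix.kroneckerMap_apply]
  refine ⟨Matrix.GeneralLinearGroup.mkOfDetNeZero Mm fun h => ?_, hM⟩
  have h1 := congrArg Matrix.det hM
  rw [det_mul, det_mul, h, mul_zero, det_smul, Matrix.det_reindex_self, Matrix.det_kronecker] at h1
  simp [altTwo, Matrix.det_fin_two, h2] at h1
  exact pow_ne_zero 4 h2 h1.symm

end CfsgLib.Aschbacher.Orth
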