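import Cfsg.Agent.S5693
import Cfsg.Agent.Lib.Aschbacher.OrthEvenLists

/-!
Small fields: frames of plus planes are not maximal, and blocks of dimension four over two elements split into minus
planes.
-/

set_option autoImplicit false
set_option linter.unusedSectionVars false

namespace CfsgLib.Aschbacher.Orth

open Cfsg.Geo Matrix CfsgLib.Geom CfsgLib.MaxSub
open QuadraticMap (polar)
open scoped MatrixGroups

variable {ι : Type} [Fintype ι] [DecidableEq ι] {F : Type*} [Field F] [Fintype F]

/-- Plus planes over two, four or five elements: the stabiliser of a frame is not maximal. -/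
theorem plus_planes_not_maximal (Q : QuadraticForm F (ι → F)) (hsep : ∀ x, (∀ y, polar Q x y = 0) → x = 0)
    (h5 : 5 ≤ Module.finrank F (ι → F)) {t : ℕ} (ht : 4 ≤ t) {D : Fin t → Submodule F (ι → F)}
    (hnd : IsNondegenerateMDecomposition (polar (⇑Q)) 2 D) (hplus : ∀ i, IsPlusTypeOn (⇑Q) (D i))
    (hq : Fintype.card F = 2 ∨ Fintype.card F = 4 ∨ Fintype.card F = 5) :
    ∃ K : Subgroup (GL ι F), decompositionStabilizer D ⊓ omegaGL (⇑Q) < K ∧ K < omegaGL (⇑Q) := by
  classical
  choose e f he hf hqe hqf hef hco using fun i =>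
    Cfsg.Agent.S5693.plane_coords Q (hnd.decomp.finrank_eq i) (hnd.nondegenerate i) (hplus i)
  have hc := FiniteField.cast_card_eq_zero F
  have hpow : ∀ a : F, a ≠ 0 → a ^ (Fintype.card F - 1) = 1 := fun a ha => FiniteField.pow_card_sub_one_eq_one a ha
  rcases hq with hq | hq | hq
  · rw [hq] at hc
    have h2 : (2 : F) = 0 := by exact_mod_cast hc
    refine Frame.exists_between_latt Q rfl hsep h5 h2 hnd ht e f
      (fun i => ⟨he i, hf i, hqe i, hqf i, hef i⟩) (fun v => v = 0) rfl
      (fun x y hx hy => by rw [hx, hy, add_zero]) (fun x hx => Or.inl hx) 1 one_ne_zero fun i x hx y hy hqx hqy => ?_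
    obtain ⟨s, u, rfl, hQx, hB⟩ := hco i x hx
    obtain ⟨s', u', rfl, hQy, -⟩ := hco i y hy
    rw [hQx] at hqx
    rw [hQy] at hqy
    have h1 : ∀ a b : F, a * b = 1 → a = 1 ∧ b = 1 := fun a b h => by
      have ha := hpow a (left_ne_zero_of_mul_eq_one h)
      have hb := hpow b (right_ne_zero_of_mul_eq_one h)
      rw [hq, pow_one] at ha hb
      exact ⟨ha, hb⟩
    obtain ⟨rfl, rfl⟩ := h1 _ _ hqx
    obtain ⟨rfl, rfl⟩ := h1 _ _ hqy
    rw [hB]
    linear_combination h2
  · rw [hq] at hc
    have h4 : (4 : F) = 0 := by exact_mod_cast hc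
    have h2 : (2 : F) = 0 := (mul_eq_zero.1 (show (2 : F) * 2 = 0 by linear_combination h4)).elim id id
    obtain ⟨ζ, hζ0, hζ1⟩ : ∃ ζ : F, ζ ≠ 0 ∧ ζ ≠ 1 := by
      by_contra hno
      push Not at hno
      have : Fintype.card F ≤ 2 := (Finset.card_le_card (show Finset.univ ⊆ ({0, 1} : Finset F) from fun z _ => by
        rcases eq_or_ne z 0 with rfl | hz
        · simp
        · simp [hno z hz])).trans Finset.card_le_two
      omega
    refine Frame.exists_between_latt Q rfl hsep h5 h2 hnd ht e f
      (fun i => ⟨he i, hf i, hqe i, hqf i, hef i⟩) (fun v => v = 0 ∨ v = 1) (Or.inl rfl) ?_ (fun x hx => hx) ζ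
      (by simp [hζ0, hζ1]) fun i x hx y hy hqx hqy => ?_
    · rintro x y (rfl | rfl) (rfl | rfl)
      · left; rw [add_zero]
      · right; rw [zero_add]
      · right; rw [add_zero]
      · left; linear_combination h2
    obtain ⟨s, u, rfl, hQx, hB⟩ := hco i x hx
    obtain ⟨s', u', rfl, hQy, -⟩ := hco i y hy
    rw [hQx] at hqx
    rw [hQy] at hqy
    rw [hB]
    have hz0 : s * u' ≠ 0 := mul_ne_zero (left_ne_zero_of_mul_eq_one hqx) (right_ne_zero_of_mul_eq_one hqy)
    have hz := hpow _ hz0
    rw [hq] at hz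
    have hinv : u * s' = (s * u') ^ 2 := by
      refine mul_left_cancel₀ hz0 ?_
      linear_combination hqx * (u' * s') + hqy - hz
    rw [hinv]
    generalize s * u' = z at hz ⊢
    by_cases h1 : z = 1
    · left; rw [h1]; linear_combination h2
    · right
      have : (z - 1) * (z ^ 2 + z + 1) = 0 := by linear_combination hz
      linear_combination (mul_eq_zero.1 this).resolve_left (sub_ne_zero.2 h1) - h2
  · rw [hq] at hc
    have h5' : (5 : F) = 0 := by exact_mod_cast hc
    have h2 : (2 : F) ≠ 0 := fun h => one_ne_zero (α := F) (by linear_combination h5' - 2 * h)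
    refine Frame.exists_between Q rfl hsep h5 hnd ht (fun v => v = 1) 1
      (by rw [mul_one]; exact h2) rfl ⟨2, 0, by linear_combination h5'⟩ (fun i => e i + f i) (fun i => e i - f i)
      (fun i => add_mem (he i) (hf i)) (fun i => by
        rw [QuadraticMap.map_add Q, hqe, hqf, hef]; ring) (fun i => ⟨sub_mem (he i) (hf i), ?_, ?_⟩) fun i x hx hqx => ?_
    · intro h
      have h1 : polar Q (e i - f i) (e i) = 0 := by rw [h, QuadraticMap.polar_zero_left]
      rw [QuadraticMap.polar_sub_left, polar_self_two, hqe, QuadraticMap.polar_comm _ (f i) (e i), hef] at h1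
      exact one_ne_zero (α := F) (by linear_combination -h1)
    · rw [QuadraticMap.polar_sub_left, QuadraticMap.polar_add_right, QuadraticMap.polar_add_right, polar_self_two,
        polar_self_two, hqe, hqf, hef, QuadraticMap.polar_comm _ (f i) (e i), hef]
      ring
    obtain ⟨s, u, rfl, hQx, hB⟩ := hco i x hx
    rw [hQx] at hqx
    have h4 := hpow s (left_ne_zero_of_mul_eq_one hqx)
    rw [hq] at h4
    have hb := hB 1 1
    rw [one_smul, one_smul, mul_one, mul_one] at hb
    have h' : (s - 1) * (s + 1) * (s * s + 1) = 0 := by linear_combination h4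
    rcases mul_eq_zero.1 h' with h' | h'
    · rcases mul_eq_zero.1 h' with h' | h'
      · have hs : s = 1 := by linear_combination h'
        subst hs
        rw [one_mul] at hqx
        subst hqx
        right; left
        rw [one_smul, one_smul]
      · have hs : s = -1 := by linear_combination h'
        subst hs
        have hu : u = -1 := by linear_combination -hqx
        subst hu
        right; right
        rw [neg_one_smul, neg_one_smul, neg_add]
    · left
      rw [hb]
      linear_combination u * h' - s * hqx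

/-- Over two elements plus blocks of dimension four split into minus planes. -/
theorem refine_two {Q : QuadraticForm F (ι → F)} (hQ : ∀ x, (∀ y, polar Q x y = 0) → x = 0)
    (hq : Fintype.card F = 2) {D : Fin 3 → Submodule F (ι → F)} (hD : IsOrthogonalMDecomposition (⇑Q) 4 D)
    (hplus : ∀ i, IsPlusTypeOn (⇑Q) (D i)) {H : Subgroup (GL ι F)}
    (hH : ∀ g ∈ H, ∀ x, Q ((g : Matrix ι ι F) *ᵥ x) = Q x) (hle : H ≤ decompositionStabilizer D) :
    ∃ D' : Fin 6 → Submodule F (ι → F), IsOrthogonalMDecomposition (⇑Q) 2 D' ∧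
      (∀ j, ¬ IsPlusTypeOn (⇑Q) (D' j)) ∧ H ≤ decompositionStabilizer D' := by
  classical
  have h01 : ∀ a : F, a = 0 ∨ a = 1 := fun a => by
    rcases eq_or_ne a 0 with h | h
    · exact Or.inl h
    · refine Or.inr ?_
      simpa [hq] using FiniteField.pow_card_sub_one_eq_one a h
  have h2 : (2 : F) = 0 := by
    have h := FiniteField.cast_card_eq_zero F
    rw [hq] at h
    exact_mod_cast h
  have hex : ∀ i, ∃ p q : ι → F, p ∈ D i ∧ q ∈ D i ∧ Q p = 1 ∧ Q q = 1 ∧ polar Q p q = 1 := by
    intro i
    obtain ⟨U, hUD, hU, hdim⟩ := hplus i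
    rw [hD.decomp.decomp.finrank_eq] at hdim
    obtain ⟨e1, he1, he10⟩ := U.exists_mem_ne_zero_of_ne_bot (by intro h; rw [h, finrank_bot] at hdim; omega)
    obtain ⟨f1, hf1, hqf1, hef1⟩ := Frame.exists_pair Q (hD.decomp.nondegenerate i) (hUD he1) he10 (hU e1 he1)
    obtain ⟨e2, he2, he2f, he20⟩ : ∃ e2 ∈ U, polar Q e2 f1 = 0 ∧ e2 ≠ 0 := by
      let L : U →ₗ[F] F := (Q.polarBilin f1).comp U.subtype
      obtain ⟨e2, he2, h⟩ := (LinearMap.ker L).exists_mem_ne_zero_of_ne_bot (by
        intro h
        have h1 := L.finrank_range_add_finrank_ker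
        have h2 := Submodule.finrank_le (LinearMap.range L)
        rw [h, finrank_bot, Module.finrank_self] at *
        omega)
      exact ⟨e2, e2.2, by rw [QuadraticMap.polar_comm]; exact he2, fun h0 => h (Subtype.ext h0)⟩
    obtain ⟨g, hg, hqg, heg⟩ := Frame.exists_pair Q (hD.decomp.nondegenerate i) (hUD he2) he20 (hU e2 he2)
    have he12 : polar Q e1 e2 = 0 := polar_eq_zero_of_ts Q hU he1 he2
    have hp : Q (e1 + f1) = 1 := by rw [QuadraticMap.map_add Q, hU e1 he1, hqf1, hef1, zero_add, zero_add]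
    rcases h01 (polar Q (e1 + f1) g) with hpg | hpg
    · rcases h01 (polar Q e1 g) with h1g | h1g
      · refine ⟨e1 + f1, e1 + (e2 + g), add_mem (hUD he1) hf1, add_mem (hUD he1) (add_mem (hUD he2) hg), hp, ?_, ?_⟩
        · rw [QuadraticMap.map_add Q, QuadraticMap.map_add Q, hU e1 he1, hU e2 he2, hqg, heg,
            QuadraticMap.polar_add_right, he12, h1g]
          ring
        · rw [QuadraticMap.polar_add_right, QuadraticMap.polar_add_right, hpg, QuadraticMap.polar_add_left,
            QuadraticMap.polar_add_left, polar_self_two, hU e1 he1, QuadraticMap.polar_comm Q f1 e1, hef1, he12,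
            QuadraticMap.polar_comm Q f1 e2, he2f]
          ring
      · refine ⟨e1 + f1, e1 + g, add_mem (hUD he1) hf1, add_mem (hUD he1) hg, hp, ?_, ?_⟩
        · rw [QuadraticMap.map_add Q, hU e1 he1, hqg, h1g]; ring
        · rw [QuadraticMap.polar_add_right, hpg, QuadraticMap.polar_add_left, polar_self_two, hU e1 he1,
            QuadraticMap.polar_comm Q f1 e1, hef1]
          ring
    · refine ⟨e1 + f1, e2 + g, add_mem (hUD he1) hf1, add_mem (hUD he2) hg, hp, ?_, ?_⟩
      · rw [QuadraticMap.map_add Q, hU e2 he2, hqg, heg]; ring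
      · rw [QuadraticMap.polar_add_right, hpg, QuadraticMap.polar_add_left, he12, QuadraticMap.polar_comm Q f1 e2,
          he2f]
        ring
  choose p q hp hq' hQp hQq hpq using hex
  let A : Fin 3 → Submodule F (ι → F) := fun i => Submodule.span F {p i, q i}
  let B : Fin 3 → Submodule F (ι → F) := fun i => D i ⊓ IsoSemi.perp Q.polarBilin (A i)
  have hAD : ∀ i, A i ≤ D i := fun i => Submodule.span_le.2 (by
    rintro x (rfl | rfl)
    exacts [hp i, hq' i])
  have hP : ∀ i (s u : F), polar Q (s • p i + u • q i) (p i) = u ∧ polar Q (s • p i + u • q i) (q i) = s := by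
    intro i s u
    rw [QuadraticMap.polar_add_left, QuadraticMap.polar_smul_left, QuadraticMap.polar_smul_left,
      QuadraticMap.polar_add_left, QuadraticMap.polar_smul_left, QuadraticMap.polar_smul_left, polar_self_two,
      polar_self_two, QuadraticMap.polar_comm Q (q i) (p i), hpq, hQp, hQq, smul_eq_mul, smul_eq_mul,
      smul_eq_mul, smul_eq_mul]
    exact ⟨by linear_combination s * h2, by linear_combination u * h2⟩
  have hAn : ∀ i, IsoSemi.ND Q.polarBilin (A i) := fun i x hx h => by
    obtain ⟨s, u, rfl⟩ := Submodule.mem_span_pair.1 hx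
    have h1 := h (p i) (Submodule.subset_span (Or.inl rfl))
    have h3 := h (q i) (Submodule.subset_span (Or.inr rfl))
    rw [QuadraticMap.polarBilin_apply_apply, (hP i s u).1] at h1
    rw [QuadraticMap.polarBilin_apply_apply, (hP i s u).2] at h3
    rw [h1, h3, zero_smul, zero_smul, add_zero]
  have hAaniso : ∀ i, ∀ x ∈ A i, Q x = 0 → x = 0 := fun i x hx h => by
    obtain ⟨s, u, rfl⟩ := Submodule.mem_span_pair.1 hx
    rw [QuadraticMap.map_add Q, QuadraticMap.map_smul, QuadraticMap.map_smul, QuadraticMap.polar_smul_left,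
      QuadraticMap.polar_smul_right, hQp, hQq, hpq] at h
    simp only [smul_eq_mul, mul_one] at h
    rcases h01 s with rfl | rfl <;> rcases h01 u with rfl | rfl
    · simp
    · exact absurd (by linear_combination h) (one_ne_zero (α := F))
    · exact absurd (by linear_combination h) (one_ne_zero (α := F))
    · exact absurd (by linear_combination h - h2) (one_ne_zero (α := F))
  have hAd : ∀ i, Module.finrank F (A i) = 2 := fun i => by
    have hli : LinearIndependent F ![p i, q i] := by
      rw [LinearIndependent.pair_iff]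
      intro s u h
      have h1 := hP i s u
      rw [h, QuadraticMap.polar_zero_left, QuadraticMap.polar_zero_left] at h1
      exact ⟨h1.2.symm, h1.1.symm⟩
    have := finrank_span_eq_card hli
    rw [Matrix.range_cons_cons_empty, Fintype.card_fin] at this
    exact this
  have hBd : ∀ i, Module.finrank F (B i) = 2 := fun i => by
    have h := IsoSemi.finrank_inf_perp (IsoOrth.geom hQ) (nondegenerateOn_iff.1 (hD.decomp.nondegenerate i)) (hAD i)
    rw [hAd, hD.decomp.decomp.finrank_eq] at h
    exact Nat.add_right_cancel h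
  have hsup : ∀ i, A i ⊔ B i = D i := fun i => by
    refine Submodule.eq_of_le_of_finrank_eq (sup_le (hAD i) inf_le_left) ?_
    rw [(IsoType.finrank_sum hQ (hAn i) inf_le_right).2, hAd, hBd, hD.decomp.decomp.finrank_eq]
  have horth : ∀ i, AreOrthogonalFor (polar (⇑Q)) (A i) (B i) := fun i a ha b hb => hb.2 a ha
  have hBn : ∀ i, IsoSemi.ND Q.polarBilin (B i) := fun i x hx h => by
    refine nondegenerateOn_iff.1 (hD.decomp.nondegenerate i) x hx.1 fun v hv => ?_
    rw [← hsup] at hv
    obtain ⟨a, ha, b, hb, rfl⟩ := Submodule.mem_sup.1 hv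
    rw [map_add, h b hb, QuadraticMap.polarBilin_apply_apply, QuadraticMap.polar_comm, horth i a ha x hx, zero_add]
  have hAm : ∀ i, ¬ IsPlusTypeOn (⇑Q) (A i) := fun i ⟨U, hU, hts, hd⟩ => by
    rw [hAd] at hd
    have : U = ⊥ := (Submodule.eq_bot_iff U).2 fun x hx => hAaniso i x (hU hx) (hts x hx)
    rw [this, finrank_bot] at hd
    omega
  have hBm : ∀ i, ¬ IsPlusTypeOn (⇑Q) (B i) := fun i h => by
    have h1 := plusType_sup_iff hQ (nondegenerateOn_iff.2 (hAn i)) (nondegenerateOn_iff.2 (hBn i)) (horth i)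
      (k₁ := 1) (k₂ := 1) (hAd i) (hBd i)
    rw [hsup] at h1
    exact hAm i ((h1.1 (hplus i)).2 h)
  have hside : ∀ i, ∀ x ∈ D i, Q x = 1 → x ∈ A i ∨ x ∈ B i := fun i x hx hQx => by
    rw [← hsup] at hx
    obtain ⟨a, ha, b, hb, rfl⟩ := Submodule.mem_sup.1 hx
    rw [QuadraticMap.map_add Q, horth i a ha b hb, add_zero] at hQx
    rcases h01 (Q a) with h | h
    · rw [hAaniso i a ha h, zero_add]; exact Or.inr hb
    · rcases h01 (Q b) with h' | h'
      · have hbz : b = 0 := by
          by_contra hb0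
          exact hBm i ⟨Submodule.span F {b}, (Submodule.span_singleton_le_iff_mem _ _).2 hb, fun v hv => by
            obtain ⟨c, rfl⟩ := Submodule.mem_span_singleton.1 hv
            rw [QuadraticMap.map_smul, h', smul_zero], by rw [finrank_span_singleton hb0, hBd]⟩
        rw [hbz, add_zero]; exact Or.inl ha
      · rw [h, h'] at hQx
        exact absurd (by linear_combination h2 - hQx) (one_ne_zero (α := F))
  let f : Fin 3 × Fin 2 ≃ Fin 6 := finProdFinEquiv
  let S : Fin 3 × Fin 2 → Submodule F (ι → F) := fun x => ![A x.1, B x.1] x.2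
  have hSD : ∀ x, S x ≤ D x.1 := fun ⟨i, k⟩ => by
    fin_cases k
    exacts [hAD i, inf_le_left]
  have hSd : ∀ x, Module.finrank F (S x) = 2 := fun ⟨i, k⟩ => by
    fin_cases k
    exacts [hAd i, hBd i]
  have hSn : ∀ x, IsoSemi.ND Q.polarBilin (S x) := fun ⟨i, k⟩ => by
    fin_cases k
    exacts [hAn i, hBn i]
  have hSm : ∀ x, ¬ IsPlusTypeOn (⇑Q) (S x) := fun ⟨i, k⟩ => by
    fin_cases k
    exacts [hAm i, hBm i]
  have hSo : ∀ x y, x ≠ y → AreOrthogonalFor (polar (⇑Q)) (S x) (S y) := by
    rintro ⟨i, k⟩ ⟨i', k'⟩ hne u hu v hv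
    by_cases hii : i = i'
    · subst hii
      fin_cases k <;> fin_cases k'
      · exact absurd rfl hne
      · exact horth i u hu v hv
      · rw [QuadraticMap.polar_comm]; exact horth i v hv u hu
      · exact absurd rfl hne
    · exact hD.decomp.orthogonal i i' hii u (hSD _ hu) v (hSD _ hv)
  refine ⟨fun j => S (f.symm j), ⟨⟨⟨le_of_eq_of_le rfl (by norm_num), two_pos, fun j => hSd _, ?_, ?_⟩,
    fun j => nondegenerateOn_iff.2 (hSn _), fun i j hij => hSo _ _ fun h => hij (f.symm.injective h)⟩,
    fun i j => areIsometricFor_of_type (nondegenerateOn_iff.2 (hSn _)) (nondegenerateOn_iff.2 (hSn _)) (k := 1)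
      (hSd _) (hSd _) (iff_of_false (hSm _) (hSm _))⟩, fun j => hSm _, fun g hg => ?_⟩
  · intro j
    rw [disjoint_iff, eq_bot_iff]
    refine le_trans (inf_le_inf_left _ (iSup₂_le fun k hk => ?_))
      ((IsoSemi.nd_iff (IsoOrth.geom hQ)).1 (hSn (f.symm j))).le
    exact fun v hv u hu => hSo _ _ (fun h => hk (f.symm.injective h).symm) u hu v hv
  · rw [eq_top_iff, ← hD.decomp.decomp.iSup_eq_top, iSup_le_iff]
    intro i
    rw [← hsup]
    refine sup_le ?_ ?_
    · exact le_iSup_of_le (f (i, 0)) (by simp [S])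
    · exact le_iSup_of_le (f (i, 1)) (by simp [S])
  obtain ⟨σ, hσ⟩ := hle hg
  have himg : ∀ i, ∀ x ∈ D i, (g : Matrix ι ι F) *ᵥ x ∈ D (σ i) := fun i x hx => by
    rw [← hσ]; exact ⟨x, hx, Matrix.toLin'_apply _ _⟩
  have hpol : ∀ x y, polar Q ((g : Matrix ι ι F) *ᵥ x) ((g : Matrix ι ι F) *ᵥ y) = polar Q x y := fun x y => by
    simp only [QuadraticMap.polar, ← mulVec_add, hH g hg]
  have hpl : ∀ i, ∃ τ : Equiv.Perm (Fin 2), ∀ k,
      (S (i, k)).map (Matrix.toLin' (g : Matrix ι ι F)) = S (σ i, τ k) := by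
    intro i
    have key : ∀ k : Fin 2, (g : Matrix ι ι F) *ᵥ p i ∈ S (σ i, k) →
        (A i).map (Matrix.toLin' (g : Matrix ι ι F)) = S (σ i, k) ∧
        (B i).map (Matrix.toLin' (g : Matrix ι ι F)) = S (σ i, Equiv.swap 0 1 k) := by
      intro k hk
      have hq1 : (g : Matrix ι ι F) *ᵥ q i ∈ S (σ i, k) := by
        have hor : (g : Matrix ι ι F) *ᵥ q i ∈ S (σ i, k) ∨
            (g : Matrix ι ι F) *ᵥ q i ∈ S (σ i, Equiv.swap 0 1 k) := by
          rcases hside _ _ (himg i _ (hq' i)) (by rw [hH g hg, hQq]) with h | h <;> fin_cases k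
          exacts [Or.inl h, Or.inr h, Or.inr h, Or.inl h]
        refine hor.resolve_right fun h => ?_
        have h0 := hSo (σ i, k) (σ i, Equiv.swap 0 1 k) (by fin_cases k <;> simp) _ hk _ h
        rw [hpol, hpq] at h0
        exact one_ne_zero h0
      have hA' : (A i).map (Matrix.toLin' (g : Matrix ι ι F)) = S (σ i, k) := by
        refine Submodule.eq_of_le_of_finrank_eq ?_ (by rw [map_finrank, hAd, hSd])
        rw [Submodule.map_span, Submodule.span_le]
        rintro _ ⟨x, hx, rfl⟩
        rw [Matrix.toLin'_apply]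
        rcases hx with rfl | rfl
        exacts [hk, hq1]
      refine ⟨hA', Submodule.eq_of_le_of_finrank_eq ?_ (by rw [map_finrank, hBd, hSd])⟩
      rintro _ ⟨b, hb, rfl⟩
      rw [Matrix.toLin'_apply]
      have hgb : ∀ u ∈ S (σ i, k), polar Q u ((g : Matrix ι ι F) *ᵥ b) = 0 := fun u hu => by
        rw [← hA'] at hu
        obtain ⟨a, ha, rfl⟩ := hu
        rw [Matrix.toLin'_apply, hpol]
        exact horth i a ha b hb
      have hD' := himg i b hb.1
      fin_cases k
      · exact ⟨hD', hgb⟩
      · rw [← hsup] at hD'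
        obtain ⟨a', ha', b', hb', he⟩ := Submodule.mem_sup.1 hD'
        have hb0 : b' = 0 := hBn (σ i) b' hb' fun u hu => by
          have h1 := hgb u hu
          rw [← he, QuadraticMap.polar_add_right, QuadraticMap.polar_comm Q u a', horth (σ i) a' ha' u hu,
            zero_add] at h1
          rw [QuadraticMap.polarBilin_apply_apply, QuadraticMap.polar_comm]
          exact h1
        rw [← he, hb0, add_zero]
        exact ha'
    rcases hside _ _ (himg i _ (hp i)) (by rw [hH g hg, hQp]) with h | h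
    · obtain ⟨hA', hB'⟩ := key 0 h
      refine ⟨1, fun k => ?_⟩
      fin_cases k
      exacts [hA', hB']
    · obtain ⟨hA', hB'⟩ := key 1 h
      refine ⟨Equiv.swap 0 1, fun k => ?_⟩
      fin_cases k
      exacts [hA', hB']
  choose τ hτ using hpl
  refine ⟨f.symm.trans ((Equiv.prodShear σ τ).trans f), fun j => ?_⟩
  show (S (f.symm j)).map _ = S (f.symm (f _))
  rw [Equiv.symm_apply_apply]
  exact hτ _ _

end CfsgLib.Aschbacher.Orth
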