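import Cfsg.Agent.Lib.Aschbacher.OrthTwelveGrid

/-!
A subgroup of `Ω` keeping a symmetric decomposition `3 ⊗ 4` with second factor of plus type keeps an alternating
decomposition `2 ⊗ 6`.
-/

set_option autoImplicit false
set_option linter.unusedSectionVars false

namespace CfsgLib.Aschbacher.Orth

open Cfsg.Geo Matrix CfsgLib.Classical
open QuadraticMap (polar)
open scoped MatrixGroups Kronecker

variable {ι : Type} [Fintype ι] [DecidableEq ι] {F : Type*} [Field F] [Fintype F]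

/-- The regrouping `3 ⊗ (2 ⊗ 2) = 2 ⊗ (3 ⊗ 2)`. -/
def regroupEquiv : Fin 3 × Fin 4 ≃ Fin 2 × Fin 6 :=
  ((Equiv.refl (Fin 3)).prodCongr gridEquiv.symm).trans
    ((Equiv.prodAssoc (Fin 3) (Fin 2) (Fin 2)).symm.trans
      ((Equiv.prodComm _ _).trans ((Equiv.refl (Fin 2)).prodCongr (finProdFinEquiv : Fin 3 × Fin 2 ≃ Fin 6))))

theorem regroup_kronecker (a : Matrix (Fin 3) (Fin 3) F) (x y : Matrix (Fin 2) (Fin 2) F) :
    Matrix.reindex regroupEquiv regroupEquiv (a ⊗ₖ Matrix.reindex gridEquiv gridEquiv (x ⊗ₖ y)) =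
      y ⊗ₖ Matrix.reindex (finProdFinEquiv : Fin 3 × Fin 2 ≃ Fin 6) finProdFinEquiv (a ⊗ₖ x) := by
  ext ⟨i, s⟩ ⟨j, t⟩
  simp [regroupEquiv, Matrix.kroneckerMap_apply]
  ring

/-- Two equal non-zero Kronecker products have proportional factors. -/
theorem kronecker_eq_kronecker {m n : Type} {a U : Matrix m m F} {b W : Matrix n n F} (ha : a ≠ 0) (hb : b ≠ 0)
    (h : U ⊗ₖ W = a ⊗ₖ b) : ∃ p r : F, U = p • a ∧ W = r • b ∧ p * r = 1 := by
  obtain ⟨i₀, j₀, ha0⟩ : ∃ i j, a i j ≠ 0 := by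
    by_contra hn; push Not at hn; exact ha (Matrix.ext hn)
  obtain ⟨k₀, l₀, hb0⟩ : ∃ i j, b i j ≠ 0 := by
    by_contra hn; push Not at hn; exact hb (Matrix.ext hn)
  have e : ∀ i j k l, U i j * W k l = a i j * b k l := fun i j k l => congrFun (congrFun h (i, k)) (j, l)
  have hne := e i₀ j₀ k₀ l₀
  have hU : U i₀ j₀ ≠ 0 := fun h0 => by rw [h0, zero_mul] at hne; exact mul_ne_zero ha0 hb0 hne.symm
  have hW : W k₀ l₀ ≠ 0 := fun h0 => by rw [h0, mul_zero] at hne; exact mul_ne_zero ha0 hb0 hne.symm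
  refine ⟨b k₀ l₀ / W k₀ l₀, a i₀ j₀ / U i₀ j₀, ?_, ?_, ?_⟩
  · ext i j
    rw [Matrix.smul_apply, smul_eq_mul, div_mul_eq_mul_div, eq_div_iff hW, e]; ring
  · ext k l
    rw [Matrix.smul_apply, smul_eq_mul, div_mul_eq_mul_div, eq_div_iff hU, mul_comm, e]
  · rw [div_mul_div_comm, div_eq_one_iff_eq (mul_ne_zero hW hU), mul_comm (W k₀ l₀), hne]; ring

variable {Q : QuadraticForm F (ι → F)}

theorem det_of_mem_omega {g : GL ι F} (hg : g ∈ omegaGL (⇑Q)) : (g : Matrix ι ι F).det = 1 := by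
  obtain ⟨g', hg', rfl⟩ := hg
  have h := Abelianization.commutator_subset_ker
    (Matrix.GeneralLinearGroup.det.comp (Cfsg.isometryGroup F (⇑Q)).subtype) hg'
  rw [MonoidHom.mem_ker] at h
  exact congrArg Units.val h

theorem gram_eq_of_isometry {g : GL ι F} (hg : ∀ x, Q ((g : Matrix ι ι F) *ᵥ x) = Q x) :
    (g : Matrix ι ι F)ᵀ * gramQ Q * (g : Matrix ι ι F) = gramQ Q := by
  ext i j
  have h : polar Q ((g : Matrix ι ι F) *ᵥ Pi.single i 1) ((g : Matrix ι ι F) *ᵥ Pi.single j 1) =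
      polar Q (Pi.single i 1) (Pi.single j 1) := by
    simp only [QuadraticMap.polar, ← mulVec_add, hg]
  rw [mulVec_gram, polar_eq_dot] at h
  simpa [mulVec_single_one, single_dotProduct] using h

variable (hQ : ∀ x, (∀ y, polar Q x y = 0) → x = 0)
include hQ

/-- `3 ⊗ 4` with a plus factor gives `2 ⊗ 6`. -/
theorem tensor_plus_regroup (h2 : (2 : F) ≠ 0) {H : Subgroup (GL ι F)} (hH : H ≤ omegaGL (⇑Q))
    (e : ι ≃ Fin 3 × Fin 4) (P : GL ι F) {a : Matrix (Fin 3) (Fin 3) F} {b : Matrix (Fin 4) (Fin 4) F}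
    (hau : IsUnit a) (hbu : IsUnit b) (hAB : coordGram Q e P = a ⊗ₖ b) (has : aᵀ = a) (hbs : bᵀ = b)
    (hplus : IsPlusTypeOn (fun v : Fin 4 → F => v ⬝ᵥ (b *ᵥ v)) ⊤)
    (hle : H ≤ tensorProductSubgroup 3 4 e P) :
    ∃ (e' : ι ≃ Fin 2 × Fin 6) (P' : GL ι F) (a' : Matrix (Fin 2) (Fin 2) F) (b' : Matrix (Fin 6) (Fin 6) F),
      IsUnit a' ∧ IsUnit b' ∧ coordGram Q e' P' = a' ⊗ₖ b' ∧ (∀ x, x ⬝ᵥ (a' *ᵥ x) = 0) ∧
      (∀ y, y ⬝ᵥ (b' *ᵥ y) = 0) ∧ (∀ x y, Q (pureVec e' P' x y) = 0) ∧ H ≤ tensorProductSubgroup 2 6 e' P' := by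
  classical
  obtain ⟨M, hM⟩ := exists_grid h2 hbu hbs hplus
  set f : Fin 3 × Fin 2 ≃ Fin 6 := finProdFinEquiv with hf
  set J := altTwo F with hJ
  obtain ⟨Z, hZ⟩ : IsUnit ((1 : Matrix (Fin 3) (Fin 3) F) ⊗ₖ (M : Matrix (Fin 4) (Fin 4) F)) := by
    refine (Matrix.isUnit_iff_isUnit_det _).2 (isUnit_iff_ne_zero.2 ?_)
    rw [Matrix.det_kronecker, det_one, one_pow, one_mul]
    exact pow_ne_zero _ ((Matrix.isUnit_iff_isUnit_det _).1 M.isUnit).ne_zero
  let e' : ι ≃ Fin 2 × Fin 6 := e.trans regroupEquiv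
  let P' : GL ι F := P * glReindex e.symm Z
  let b' : Matrix (Fin 6) (Fin 6) F := (2 : F)⁻¹ • Matrix.reindex f f (a ⊗ₖ J)
  have hG : coordGram Q e' P' = J ⊗ₖ b' := by
    have h1 : coordGram Q e' P' = Matrix.reindex regroupEquiv regroupEquiv
        ((Z : Matrix (Fin 3 × Fin 4) (Fin 3 × Fin 4) F)ᵀ * coordGram Q e P *
          (Z : Matrix (Fin 3 × Fin 4) (Fin 3 × Fin 4) F)) := by
      set Pm := (P : Matrix ι ι F)
      set R := Matrix.reindexAlgEquiv F F e.symm (Z : Matrix (Fin 3 × Fin 4) (Fin 3 × Fin 4) F) with hR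
      have hP' : (P' : Matrix ι ι F) = Pm * R := rfl
      have hRt : Rᵀ = Matrix.reindexAlgEquiv F F e.symm (Z : Matrix (Fin 3 × Fin 4) (Fin 3 × Fin 4) F)ᵀ := rfl
      have hre : Matrix.reindex e e (Rᵀ * (Pmᵀ * gramQ Q * Pm) * R) =
          (Z : Matrix (Fin 3 × Fin 4) (Fin 3 × Fin 4) F)ᵀ * coordGram Q e P *
            (Z : Matrix (Fin 3 × Fin 4) (Fin 3 × Fin 4) F) := by
        show Matrix.reindexAlgEquiv F F e _ = _
        rw [map_mul, map_mul, hRt, hR]
        congr 1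
        · congr 1
          ext p q; simp
        · ext p q; simp
      rw [← hre]
      ext p q
      simp only [coordGram, e', hP', transpose_mul, Matrix.reindex_apply, Matrix.submatrix_apply,
        Equiv.symm_trans_apply, mul_assoc]
    rw [h1, hAB, hZ, ← Matrix.kroneckerMap_transpose, ← Matrix.mul_kronecker_mul, ← Matrix.mul_kronecker_mul,
      transpose_one, one_mul, mul_one, hM, Matrix.kronecker_smul]
    rw [show ∀ (c : F) (X : Matrix (Fin 3 × Fin 4) (Fin 3 × Fin 4) F),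
      Matrix.reindex regroupEquiv regroupEquiv (c • X) = c • Matrix.reindex regroupEquiv regroupEquiv X
      from fun c X => rfl, regroup_kronecker, ← Matrix.kronecker_smul]
  have hJa : ∀ x, x ⬝ᵥ (J *ᵥ x) = 0 := fun x => by
    simp [hJ, altTwo, dotProduct, mulVec, Fin.sum_univ_two]; ring
  have hb' : ∀ y, y ⬝ᵥ (b' *ᵥ y) = 0 := by
    refine dot_self_eq_zero ?_ fun i => ?_
    · ext s t
      obtain ⟨⟨i, k⟩, rfl⟩ := f.surjective s
      obtain ⟨⟨j, l⟩, rfl⟩ := f.surjective t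
      have hs : a j i = a i j := congrFun (congrFun has i) j
      fin_cases k <;> fin_cases l <;> simp [b', hJ, altTwo, Matrix.kroneckerMap_apply, hs]
    · obtain ⟨⟨j, k⟩, rfl⟩ := f.surjective i
      fin_cases k <;> simp [b', hJ, altTwo, Matrix.kroneckerMap_apply]
  have hJu : IsUnit J := (Matrix.isUnit_iff_isUnit_det _).2 (isUnit_iff_ne_zero.2 (by
    simp [hJ, altTwo, Matrix.det_fin_two]))
  have hb'u : IsUnit b' := (Matrix.isUnit_iff_isUnit_det _).2 (isUnit_iff_ne_zero.2 (by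
    rw [det_smul, Matrix.det_reindex_self, Matrix.det_kronecker]
    exact mul_ne_zero (pow_ne_zero _ (inv_ne_zero h2)) (mul_ne_zero
      (pow_ne_zero _ ((Matrix.isUnit_iff_isUnit_det _).1 hau).ne_zero)
      (pow_ne_zero _ ((Matrix.isUnit_iff_isUnit_det _).1 hJu).ne_zero))))
  refine ⟨e', P', J, b', hJu, hb'u, hG, hJa, hb', fun x y => ?_, fun g hg => ?_⟩
  · have h := polar_pureVec e' P' hG x x y y
    rw [hJa, zero_mul, QuadraticMap.polar_self, two_smul, ← two_mul] at h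
    exact (mul_eq_zero.1 h).resolve_left h2
  have hgo := hH hg
  obtain ⟨y, ⟨k, ⟨u, w, hk⟩, rfl⟩, rfl⟩ := hle hg
  set g : GL ι F := (MulAut.conj P).toMonoidHom ((glReindex e.symm).toMonoidHom k) with hgdef
  have hgk : g = P * glReindex e.symm k * P⁻¹ := rfl
  set R := Matrix.reindexAlgEquiv F F e.symm (k : Matrix (Fin 3 × Fin 4) (Fin 3 × Fin 4) F) with hR
  have hgP : (g : Matrix ι ι F) * (P : Matrix ι ι F) = (P : Matrix ι ι F) * R := by
    rw [hgk, Units.val_mul, Units.val_mul, mul_assoc, ← Units.val_mul P⁻¹ P, inv_mul_cancel, Units.val_one,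
      mul_one]
    rfl
  have hkC : (k : Matrix (Fin 3 × Fin 4) (Fin 3 × Fin 4) F)ᵀ * coordGram Q e P *
      (k : Matrix (Fin 3 × Fin 4) (Fin 3 × Fin 4) F) = coordGram Q e P := by
    have h : Rᵀ * ((P : Matrix ι ι F)ᵀ * gramQ Q * (P : Matrix ι ι F)) * R =
        (P : Matrix ι ι F)ᵀ * gramQ Q * (P : Matrix ι ι F) := by
      calc _ = ((P : Matrix ι ι F) * R)ᵀ * gramQ Q * ((P : Matrix ι ι F) * R) := by
            rw [transpose_mul]; simp only [mul_assoc]
        _ = (P : Matrix ι ι F)ᵀ * ((g : Matrix ι ι F)ᵀ * gramQ Q * (g : Matrix ι ι F)) * (P : Matrix ι ι F) := by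
            rw [← hgP, transpose_mul]; simp only [mul_assoc]
        _ = _ := by rw [gram_eq_of_isometry (omega_isometry hgo)]
    have h' := congrArg (Matrix.reindexAlgEquiv F F e) h
    rw [map_mul, map_mul] at h'
    refine Eq.trans ?_ h'
    rw [coordGram]
    congr 1
    · congr 1
      ext p q; simp [hR]
    · ext p q; simp [hR]
  rw [hAB, hk, ← Matrix.kroneckerMap_transpose, ← Matrix.mul_kronecker_mul, ← Matrix.mul_kronecker_mul] at hkC
  obtain ⟨p, r, hp, hr, hpr⟩ := kronecker_eq_kronecker hau.ne_zero hbu.ne_zero hkC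
  have hdet : (w : Matrix (Fin 4) (Fin 4) F).det = r * r := by
    have hk1 : (u : Matrix (Fin 3) (Fin 3) F).det ^ 4 * (w : Matrix (Fin 4) (Fin 4) F).det ^ 3 = 1 := by
      have h := congrArg Matrix.det hgP
      rw [det_mul, det_mul, det_of_mem_omega hgo, one_mul, hR, Matrix.det_reindexAlgEquiv, hk,
        Matrix.det_kronecker, Fintype.card_fin, Fintype.card_fin] at h
      exact (mul_eq_left₀ ((Matrix.isUnit_iff_isUnit_det _).1 P.isUnit).ne_zero).1 h.symm
    have hu2 : (u : Matrix (Fin 3) (Fin 3) F).det ^ 2 = p ^ 3 := by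
      have h := congrArg Matrix.det hp
      rw [det_mul, det_mul, det_transpose, det_smul, Fintype.card_fin] at h
      refine mul_right_cancel₀ ((Matrix.isUnit_iff_isUnit_det _).1 hau).ne_zero ?_
      linear_combination h
    have hw2 : (w : Matrix (Fin 4) (Fin 4) F).det ^ 2 = r ^ 4 := by
      have h := congrArg Matrix.det hr
      rw [det_mul, det_mul, det_transpose, det_smul, Fintype.card_fin] at h
      refine mul_right_cancel₀ ((Matrix.isUnit_iff_isUnit_det _).1 hbu).ne_zero ?_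
      linear_combination h
    have hr0 : r ≠ 0 := right_ne_zero_of_mul_eq_one hpr
    refine mul_right_cancel₀ (pow_ne_zero 4 hr0) ?_
    have hd3 : (w : Matrix (Fin 4) (Fin 4) F).det ^ 3 = r ^ 6 := by
      calc _ = (p * r) ^ 6 * (w : Matrix (Fin 4) (Fin 4) F).det ^ 3 := by rw [hpr, one_pow, one_mul]
        _ = r ^ 6 * ((u : Matrix (Fin 3) (Fin 3) F).det ^ 4 * (w : Matrix (Fin 4) (Fin 4) F).det ^ 3) := by
            rw [show (u : Matrix (Fin 3) (Fin 3) F).det ^ 4 = ((u : Matrix (Fin 3) (Fin 3) F).det ^ 2) ^ 2 by ring,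
              hu2]
            ring
        _ = _ := by rw [hk1, mul_one]
    linear_combination hd3 - (w : Matrix (Fin 4) (Fin 4) F).det * hw2
  set w₂ : GL (Fin 2 × Fin 2) F := glReindex gridEquiv.symm (M⁻¹ * w * M) with hw₂
  have hw₂v : (w₂ : Matrix (Fin 2 × Fin 2) (Fin 2 × Fin 2) F) = Matrix.reindexAlgEquiv F F gridEquiv.symm
      ((M⁻¹ * w * M : GL (Fin 4) F) : Matrix (Fin 4) (Fin 4) F) := rfl
  obtain ⟨A, B, hAB'⟩ := grid_proper h2 w₂ (r := r) (by
    set X := ((M⁻¹ * w * M : GL (Fin 4) F) : Matrix (Fin 4) (Fin 4) F) with hX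
    have hMX : (M : Matrix (Fin 4) (Fin 4) F) * X = (w : Matrix (Fin 4) (Fin 4) F) * (M : Matrix (Fin 4) (Fin 4) F) := by
      rw [hX, Units.val_mul, Units.val_mul, mul_assoc, Units.mul_inv_cancel_left]
    set K := Matrix.reindex gridEquiv gridEquiv (J ⊗ₖ J) with hK
    have h3 : Xᵀ * ((2 : F)⁻¹ • K) * X = r • ((2 : F)⁻¹ • K) := by
      calc _ = ((M : Matrix (Fin 4) (Fin 4) F) * X)ᵀ * b * ((M : Matrix (Fin 4) (Fin 4) F) * X) := by
            rw [← hM, transpose_mul]; simp only [mul_assoc]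
        _ = (M : Matrix (Fin 4) (Fin 4) F)ᵀ * ((w : Matrix (Fin 4) (Fin 4) F)ᵀ * b * (w : Matrix (Fin 4) (Fin 4) F)) *
              (M : Matrix (Fin 4) (Fin 4) F) := by rw [hMX, transpose_mul]; simp only [mul_assoc]
        _ = _ := by rw [hr, Matrix.mul_smul, Matrix.smul_mul, hM]
    rw [Matrix.mul_smul, Matrix.smul_mul, smul_comm r] at h3
    have h4 := congrArg (Matrix.reindexAlgEquiv F F gridEquiv.symm)
      (smul_right_injective _ (inv_ne_zero h2) h3)
    rw [map_mul, map_mul, map_smul] at h4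
    have eK : Matrix.reindexAlgEquiv F F gridEquiv.symm K = J ⊗ₖ J := by ext p q; simp [hK]
    rw [eK] at h4
    rw [hw₂v]
    exact h4)
    (by
      rw [hw₂v, Matrix.det_reindexAlgEquiv, Units.val_mul, Units.val_mul, Matrix.det_units_conj', hdet])
  obtain ⟨C, hC⟩ : IsUnit (Matrix.reindex f f
      ((u : Matrix (Fin 3) (Fin 3) F) ⊗ₖ (A : Matrix (Fin 2) (Fin 2) F))) := by
    refine (Matrix.isUnit_iff_isUnit_det _).2 (isUnit_iff_ne_zero.2 ?_)
    rw [Matrix.det_reindex_self, Matrix.det_kronecker]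
    exact mul_ne_zero (pow_ne_zero _ ((Matrix.isUnit_iff_isUnit_det _).1 u.isUnit).ne_zero)
      (pow_ne_zero _ ((Matrix.isUnit_iff_isUnit_det _).1 A.isUnit).ne_zero)
  refine ⟨_, ⟨glReindex regroupEquiv (Z⁻¹ * k * Z), ⟨B, C, ?_⟩, rfl⟩, ?_⟩
  · have hZi : ((Z⁻¹ : GL (Fin 3 × Fin 4) F) : Matrix (Fin 3 × Fin 4) (Fin 3 × Fin 4) F) =
        (1 : Matrix (Fin 3) (Fin 3) F) ⊗ₖ ((M⁻¹ : GL (Fin 4) F) : Matrix (Fin 4) (Fin 4) F) := by
      refine Units.inv_eq_of_mul_eq_one_right ?_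
      rw [hZ, ← Matrix.mul_kronecker_mul, one_mul, Units.mul_inv, Matrix.one_kronecker_one]
    have hval : ((Z⁻¹ * k * Z : GL (Fin 3 × Fin 4) F) : Matrix (Fin 3 × Fin 4) (Fin 3 × Fin 4) F) =
        (u : Matrix (Fin 3) (Fin 3) F) ⊗ₖ ((M⁻¹ * w * M : GL (Fin 4) F) : Matrix (Fin 4) (Fin 4) F) := by
      rw [Units.val_mul, Units.val_mul, hZi, hk, hZ, ← Matrix.mul_kronecker_mul, ← Matrix.mul_kronecker_mul,
        one_mul, mul_one, ← Units.val_mul, ← Units.val_mul]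
    have hX : ((M⁻¹ * w * M : GL (Fin 4) F) : Matrix (Fin 4) (Fin 4) F) =
        Matrix.reindex gridEquiv gridEquiv ((A : Matrix (Fin 2) (Fin 2) F) ⊗ₖ (B : Matrix (Fin 2) (Fin 2) F)) := by
      rw [← hAB', hw₂v]
      ext p q; simp
    show Matrix.reindexAlgEquiv F F regroupEquiv _ = _
    rw [hval, hX, Matrix.reindexAlgEquiv_apply, regroup_kronecker, hC]
  · show P' * glReindex e'.symm (glReindex regroupEquiv (Z⁻¹ * k * Z)) * P'⁻¹ = g
    have h1 : glReindex e'.symm (glReindex regroupEquiv (Z⁻¹ * k * Z)) = glReindex e.symm (Z⁻¹ * k * Z) :=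
      Units.ext (by
        generalize (Z⁻¹ * k * Z : GL (Fin 3 × Fin 4) F) = x
        ext p q; simp [glReindex, e'])
    rw [h1, map_mul, map_mul, map_inv, hgk]
    show P * glReindex e.symm Z * ((glReindex e.symm Z)⁻¹ * glReindex e.symm k * glReindex e.symm Z) *
      (P * glReindex e.symm Z)⁻¹ = _
    group

/-- In plus type the even factor of a symmetric `3 ⊗ 4` decomposition has plus type. -/
theorem plus_right_factor (h2 : (2 : F) ≠ 0) (hm : Fintype.card ι = 2 * 6) (hplus : IsPlusTypeOn (⇑Q) ⊤)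
    (e : ι ≃ Fin 3 × Fin 4) (P : GL ι F) {a : Matrix (Fin 3) (Fin 3) F} {b : Matrix (Fin 4) (Fin 4) F}
    (hau : IsUnit a) (hbu : IsUnit b) (hAB : coordGram Q e P = a ⊗ₖ b) (hbs : bᵀ = b) :
    IsPlusTypeOn (fun v : Fin 4 → F => v ⬝ᵥ (b *ᵥ v)) ⊤ := by
  let B : (Fin 4 → F) →ₗ[F] (Fin 4 → F) →ₗ[F] F := Matrix.toLinearMap₂' F b
  let q : QuadraticForm F (Fin 4 → F) := LinearMap.BilinMap.toQuadraticMap B
  have hq : ∀ v, q v = v ⬝ᵥ (b *ᵥ v) := fun v => by
    simp [q, B, LinearMap.BilinMap.toQuadraticMap_apply, Matrix.toLinearMap₂'_apply']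
  have hpol : ∀ u v, polar q u v = 2 * (u ⬝ᵥ (b *ᵥ v)) := fun u v => by
    have hsym : v ⬝ᵥ (b *ᵥ u) = u ⬝ᵥ (b *ᵥ v) := by
      rw [dotProduct_mulVec, ← mulVec_transpose, hbs, dotProduct_comm]
    simp only [QuadraticMap.polar, hq, mulVec_add, dotProduct_add, add_dotProduct, hsym]
    ring
  have hqs : ∀ x, (∀ y, polar q x y = 0) → x = 0 := fun x hx => by
    have h1 : x ᵥ* b = 0 := funext fun j => by
      have := hx (Pi.single j 1)
      rw [hpol, dotProduct_mulVec, dotProduct_single, mul_one] at this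
      exact (mul_eq_zero.1 this).resolve_left h2
    exact Matrix.vecMul_injective_iff_isUnit.2 hbu (h1.trans (zero_vecMul b).symm)
  rw [show (fun v : Fin 4 → F => v ⬝ᵥ (b *ᵥ v)) = ⇑q from (funext hq).symm,
    plusType_iff_square hqs h2 (show Fintype.card (Fin 4) = 2 * 2 by simp)]
  rw [plusType_iff_square hQ h2 hm, Even.neg_one_pow ⟨3, rfl⟩, one_mul] at hplus
  rw [Even.neg_one_pow ⟨1, rfl⟩, one_mul]
  have hg : gramQ q = (2 : F) • b := by
    ext i j
    show polar q (Pi.single i 1) (Pi.single j 1) = _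
    rw [hpol]
    simp [mulVec_single, single_dotProduct]
  rw [hg, det_smul, Fintype.card_fin, show (2 : F) ^ 4 = (2 * 2) * (2 * 2) by ring,
    isSquare_sq_mul_iff (mul_ne_zero h2 h2)]
  have h := congrArg Matrix.det hAB
  rw [coordGram, Matrix.det_reindex_self, det_mul, det_mul, det_transpose, Matrix.det_kronecker, Fintype.card_fin,
    Fintype.card_fin] at h
  obtain ⟨s, hs⟩ := hplus
  have hA : a.det ≠ 0 := ((Matrix.isUnit_iff_isUnit_det _).1 hau).ne_zero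
  have hB : b.det ≠ 0 := ((Matrix.isUnit_iff_isUnit_det _).1 hbu).ne_zero
  refine (isSquare_sq_mul_iff (mul_ne_zero (pow_ne_zero 2 hA) hB)).1 ⟨(P : Matrix ι ι F).det * s, ?_⟩
  rw [hs] at h
  linear_combination -h

end CfsgLib.Aschbacher.Orth
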