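import Cfsg.Agent.Lib.Aschbacher.Structures

/-!
Irreducible subgroups of `GL` in odd prime dimension: decomposition into lines, extension field, extraspecial
normaliser, or almost simple and absolutely irreducible.
-/

set_option autoImplicit false
set_option linter.unusedSectionVars false

namespace CfsgLib.AschPrime

open Matrix Cfsg.Geo
open scoped MatrixGroups commutatorElement

variable {ι : Type} [Fintype ι] [DecidableEq ι] {F : Type*} [Field F]

theorem not_le_scalars_of_irreducible (hn : 2 ≤ Fintype.card ι) {H : Subgroup (GL ι F)}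
    (hH : ActsIrreducibly (matrixSet H)) : ¬ H ≤ scalars ι F := by
  classical
  intro hle
  obtain ⟨i⟩ : Nonempty ι := Fintype.card_pos_iff.1 (by omega)
  rcases hH (Submodule.span F {Pi.single i (1 : F)}) (fun s hs => mapsTo_iff_map_le.2 fun w hw => by
      obtain ⟨x, hx, rfl⟩ := hs
      obtain ⟨c, hc⟩ := (mem_scalars_iff x).1 (hle hx)
      change ((x : GL ι F) : Matrix ι ι F) *ᵥ w ∈ _
      rw [hc, smul_mulVec, one_mulVec]
      exact Submodule.smul_mem _ _ hw) with h | h
  · have := Submodule.span_singleton_eq_bot.1 h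
    simpa using congrFun this i
  · have h1 := congrArg (fun W : Submodule F (ι → F) => Module.finrank F W) h
    simp only [finrank_top, Module.finrank_fintype_fun_eq_card] at h1
    rw [finrank_span_singleton (by simp)] at h1
    omega

/-- An irreducible group in odd prime dimension stabilises a decomposition into lines, normalises a field of full
degree, normalises an extraspecial group, or is almost simple modulo scalars and absolutely irreducible. -/
theorem prime_dim_cases [Finite F] (hn : (Fintype.card ι).Prime) (hodd : Fintype.card ι ≠ 2)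
    {H : Subgroup (GL ι F)} (hH : ActsIrreducibly (matrixSet H)) :
    (∃ D : Fin (Fintype.card ι) → Submodule F (ι → F), IsMDecomposition 1 D ∧ H ≤ decompositionStabilizer D) ∨
    (∃ K : Subalgebra F (Matrix ι ι F), IsFieldSubalgebra (Fintype.card ι) K ∧ H ≤ subalgebraNormalizer K) ∨
    (∃ R : Subgroup (GL ι F), R ≤ H ∧ IsHeisenberg R ∧ (∀ h ∈ H, ∀ x ∈ R, h * x * h⁻¹ ∈ R)) ∨
    (∃ P : Subgroup (GL ι F), IsSimpleCore H P) := by
  haveI : Nonempty ι := Fintype.card_pos_iff.1 hn.pos
  obtain ⟨N, hmin⟩ := exists_minNonscalar (not_le_scalars_of_irreducible hn.two_le hH)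
  rcases clifford hn hH hmin.normal hmin.nonscalar with hirr | ⟨-, D, hD, hle⟩
  · rcases abs_or_field hn hirr with habs | hfield
    · by_cases hab : ∀ a ∈ N, ∀ b ∈ N, ModComm a b
      · exact .inr (.inr (.inl ⟨N, hmin.le, heisenberg_of_minimal hn hodd hmin habs hab, hmin.normal⟩))
      · refine .inr (.inr (.inr ⟨N, simpleCore_of_perfect hn hmin habs ?_⟩))
        refine (hmin.minimal _ (Subgroup.commutator_le.2 fun a ha b hb => ?_) fun h hh x hx => ?_).resolve_left
          fun h => hab (Subgroup.commutator_le.1 h)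
        · rw [commutatorElement_def]
          exact mul_mem (mul_mem (mul_mem ha hb) (inv_mem ha)) (inv_mem hb)
        · have hle : ⁅N, N⁆ ≤ ⁅N, N⁆.comap (MulAut.conj h).toMonoidHom := by
            refine Subgroup.commutator_le.2 fun a ha b hb => ?_
            rw [Subgroup.mem_comap, map_commutatorElement]
            exact Subgroup.commutator_mem_commutator (hmin.normal h hh a ha) (hmin.normal h hh b hb)
          exact hle hx
    · exact .inr (.inl ⟨_, hfield, le_subalgebraNormalizer_cmt hmin.normal⟩)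
  · exact .inl ⟨D, hD, hle⟩

theorem le_subgroupNormalizer {H R : Subgroup (GL ι F)} (h : ∀ g ∈ H, ∀ x ∈ R, g * x * g⁻¹ ∈ R) :
    H ≤ subgroupNormalizer R := by
  intro g hg
  refine Subgroup.mem_normalizer_iff.2 fun x => ⟨h g hg x, fun hx => ?_⟩
  have := h _ (inv_mem hg) _ hx
  simpa [mul_assoc] using this

/-- roots of unity in a subfield make a Heisenberg group rational over it -/
theorem IsHeisenberg.rational [Finite F] {R : Subgroup (GL ι F)} (hR : IsHeisenberg R) {F₀ : Subfield F}
    (hF₀ : ∀ c : F, c ^ Fintype.card ι = 1 → c ∈ F₀) :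
    ∃ B : GL ι F, ∀ x ∈ R, ∀ i j, ((B * x * B⁻¹ : GL ι F) : Matrix ι ι F) i j ∈ F₀ := by
  obtain ⟨B, hB⟩ := hR.monomial
  refine ⟨B, fun x hx i j => ?_⟩
  obtain ⟨π, c, hc, hA⟩ := hB x hx
  have h1 := hA (Pi.single j 1) (π.symm i)
  rw [Equiv.apply_symm_apply, mulVec_single_one] at h1
  change ((B * x * B⁻¹ : GL ι F) : Matrix ι ι F) i j = _ at h1
  rw [h1]
  refine mul_mem (hF₀ _ (hc _)) ?_
  rw [Pi.single_apply]
  split <;> simp [one_mem, zero_mem]

/-- when `σ` inverts the `n`-th roots of unity a Heisenberg group fixes a unitary form -/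
theorem IsHeisenberg.fixes_unitary [Finite F] {R : Subgroup (GL ι F)} (hR : IsHeisenberg R) {σ : F ≃+* F}
    (hσ : σ ≠ RingEquiv.refl F) (hσ2 : ∀ a, σ (σ a) = a) (hinv : ∀ c : F, c ^ Fintype.card ι = 1 → c * σ c = 1) :
    ∃ f : (ι → F) → (ι → F) → F, IsUnitaryForm σ f ∧ FixesForm (matrixSet R) f := by
  classical
  obtain ⟨B, hB⟩ := hR.monomial
  refine ⟨fun u v => ∑ i, ((B : Matrix ι ι F) *ᵥ u) i * σ (((B : Matrix ι ι F) *ᵥ v) i),
    ⟨hσ, hσ2, fun x y v => ?_, fun c x v => ?_, fun v w => ?_, fun v hv => ?_⟩, ?_⟩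
  · simp only [mulVec_add, Pi.add_apply, add_mul, Finset.sum_add_distrib]
  · simp only [mulVec_smul, Pi.smul_apply, smul_eq_mul, mul_assoc, Finset.mul_sum]
  · simp only [map_sum, map_mul, hσ2, mul_comm]
  · obtain ⟨i, hi⟩ : ∃ i, ((B : Matrix ι ι F) *ᵥ v) i ≠ 0 := by
      by_contra hc
      push Not at hc
      exact hv (mulVec_inj B (by rw [mulVec_zero]; exact funext hc))
    have hB' : (B : Matrix ι ι F) *ᵥ (((B⁻¹ : GL ι F) : Matrix ι ι F) *ᵥ Pi.single i 1) = Pi.single i 1 := by
      rw [mulVec_mulVec, ← Units.val_mul, mul_inv_cancel, Units.val_one, one_mulVec]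
    refine ⟨⟨((B⁻¹ : GL ι F) : Matrix ι ι F) *ᵥ Pi.single i 1, ?_⟩,
      ⟨((B⁻¹ : GL ι F) : Matrix ι ι F) *ᵥ Pi.single i 1, ?_⟩⟩
    · simp only [hB', Pi.single_apply, ite_mul, one_mul, zero_mul, Finset.sum_ite_eq', Finset.mem_univ, if_true]
      exact (map_ne_zero σ).2 hi
    · simp only [hB', Pi.single_apply, apply_ite σ, map_one, map_zero, mul_ite, mul_one, mul_zero,
        Finset.sum_ite_eq', Finset.mem_univ, if_true]
      exact hi
  · rintro _ ⟨x, hx, rfl⟩ u v
    obtain ⟨π, c, hc, hA⟩ := hB x hx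
    have e : ∀ w, (B : Matrix ι ι F) *ᵥ ((x : Matrix ι ι F) *ᵥ w) =
        ((B * x * B⁻¹ : GL ι F) : Matrix ι ι F) *ᵥ ((B : Matrix ι ι F) *ᵥ w) := fun w => by
      simp only [mulVec_mulVec, ← Units.val_mul, inv_mul_cancel_right]
    simp only [e]
    rw [← Equiv.sum_comp π]
    refine Finset.sum_congr rfl fun i _ => ?_
    rw [hA, hA, map_mul]
    linear_combination (((B : Matrix ι ι F) *ᵥ u) i * σ (((B : Matrix ι ι F) *ᵥ v) i)) * hinv (c i) (hc i)

end CfsgLib.AschPrime
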