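import Cfsg.Agent.Lib.Aschbacher.PrimeCore
import Cfsg.Agent.Lib.MaxSub.Sub
import Cfsg.Agent.Lib.MaxSub.DecompCoord

/-!
The geometric subgroups meet the special linear group properly.
-/

set_option autoImplicit false
set_option linter.unusedSectionVars false

namespace CfsgLib.AschPrime

open Matrix Cfsg.Geo CfsgLib.MaxSub
open scoped MatrixGroups commutatorElement

variable {ι : Type} [Fintype ι] [DecidableEq ι] {F : Type*} [Field F]

theorem eq_inf_of_maximal {H X : Subgroup (GL ι F)} (hH : IsMaximalIn (specialLinear ι F) H) (hle : H ≤ X)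
    (hX : ¬ specialLinear ι F ≤ X) : H = X ⊓ specialLinear ι F :=
  ((hH.2 (X ⊓ specialLinear ι F) (le_inf hle hH.1.le) inf_le_right).resolve_right
    fun h => hX (inf_eq_right.1 h)).symm

/-- a linear form vanishing on a subspace and not on a vector outside -/
theorem exists_tv_moving {W : Submodule F (ι → F)} {a w : ι → F} (ha : a ∉ W) (hw : w ∈ W) (hw0 : w ≠ 0) :
    ∃ φ : ι → F, φ ⬝ᵥ a = 0 ∧ φ ⬝ᵥ w ≠ 0 := by
  obtain ⟨χ, hχa, hχ⟩ := exists_dotProduct_of_notMem ha
  obtain ⟨i, hi⟩ : ∃ i, w i ≠ 0 := Function.ne_iff.1 hw0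
  exact ⟨Pi.single i 1 - a i • χ, by simp [sub_dotProduct, hχa], by simpa [sub_dotProduct, hχ w hw] using hi⟩

theorem not_le_subspaceStabilizer {W : Submodule F (ι → F)} (h0 : W ≠ ⊥) (h1 : W ≠ ⊤) :
    ¬ specialLinear ι F ≤ subspaceStabilizer W := by
  intro hle
  obtain ⟨a, -, ha⟩ := SetLike.exists_of_lt (lt_top_iff_ne_top.2 h1)
  obtain ⟨w, hw, hw0⟩ := W.exists_mem_ne_zero_of_ne_bot h0
  obtain ⟨φ, hφa, hφw⟩ := exists_tv_moving ha hw hw0
  have := maps_of_mem_subspaceStabilizer (hle (tvGL_mem_specialLinear a φ hφa)) hw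
  rw [coe_tvGL, tvMat_mulVec, Submodule.add_mem_iff_right _ hw, W.smul_mem_iff hφw] at this
  exact ha this

theorem not_le_decompositionStabilizer {n : ℕ} {D : Fin n → Submodule F (ι → F)} (hD : IsMDecomposition 1 D) :
    ¬ specialLinear ι F ≤ decompositionStabilizer D := by
  classical
  intro hle
  obtain ⟨ψ, hψ⟩ := Decomp.exists_coord hD
  have := hD.two_le
  let i : Fin n := ⟨0, by omega⟩
  let j : Fin n := ⟨1, by omega⟩
  let one : Fin 1 → F := fun _ => 1
  set x := ψ.symm (Pi.single i one)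
  set y := ψ.symm (Pi.single j one)
  have hone : one ≠ 0 := fun e => one_ne_zero (congrFun e 0)
  have hij : i ≠ j := fun e => by simp [i, j, Fin.ext_iff] at e
  have hy : y ∉ Submodule.span F {x} := by
    intro h
    obtain ⟨c, hc⟩ := Submodule.mem_span_singleton.1 h
    have h1 := congrArg (fun v => ψ v j) hc
    simp only [x, y, map_smul, LinearEquiv.apply_symm_apply, Pi.smul_apply, Pi.single_eq_same,
      Pi.single_eq_of_ne hij.symm, smul_zero] at h1
    exact hone h1.symm
  have hx0 : x ≠ 0 := fun e => by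
    have h1 := congrArg (fun v => ψ v i) e
    simp only [x, LinearEquiv.apply_symm_apply, Pi.single_eq_same, map_zero, Pi.zero_apply] at h1
    exact hone h1
  obtain ⟨φ, hφy, hφx⟩ := exists_tv_moving hy (Submodule.mem_span_singleton_self x) hx0
  have hd : ((φ ⬝ᵥ x)⁻¹ • φ) ⬝ᵥ y = 0 := by rw [smul_dotProduct, hφy, smul_zero]
  have h1 := Decomp.cnt_stab ψ hψ (hle (tvGL_mem_specialLinear y _ hd)) x
  rw [coe_tvGL, tvMat_mulVec, smul_dotProduct, smul_eq_mul, inv_mul_cancel₀ hφx, one_smul, map_add] at h1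
  simp only [x, y, LinearEquiv.apply_symm_apply, Decomp.cnt] at h1
  rw [← Finset.sum_subset (Finset.subset_univ ({i, j} : Finset (Fin n))) (fun k _ hk => by
      simp only [Finset.mem_insert, Finset.mem_singleton, not_or] at hk
      rw [Pi.add_apply, Pi.single_eq_of_ne hk.1, Pi.single_eq_of_ne hk.2, add_zero, Decomp.ind_zero]),
    Finset.sum_pair hij, Finset.sum_eq_single i (fun k _ hk => by rw [Pi.single_eq_of_ne hk, Decomp.ind_zero])
      (fun h => absurd (Finset.mem_univ _) h)] at h1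
  simp [Pi.single_eq_of_ne hij, Pi.single_eq_of_ne hij.symm, Decomp.ind_ne hone] at h1

theorem not_le_subalgebraNormalizer (h3 : 3 ≤ Fintype.card ι) {r : ℕ} (hr : r ≠ 1)
    {K : Subalgebra F (Matrix ι ι F)} (hK : IsFieldSubalgebra r K) :
    ¬ specialLinear ι F ≤ subalgebraNormalizer K := by
  classical
  intro hle
  haveI : Nonempty ι := Fintype.card_pos_iff.1 (by omega)
  have hcomm : ∀ k ∈ K, ∀ a φ : ι → F, φ ⬝ᵥ a = 0 → vecMulVec a φ * k = k * vecMulVec a φ := by
    intro k hk a φ h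
    set t := tvGL a φ h
    have hk' := (hle (tvGL_mem_specialLinear a φ h) k).1 hk
    set k' := (t : Matrix ι ι F) * k * ((t⁻¹ : GL ι F) : Matrix ι ι F)
    have e : (1 + vecMulVec a φ) * k = k' * (1 + vecMulVec a φ) := by
      show (t : Matrix ι ι F) * k = k' * (t : Matrix ι ι F)
      simp only [k', mul_assoc, ← Units.val_mul, inv_mul_cancel, Units.val_one, mul_one]
    have hd : k - k' = vecMulVec (k' *ᵥ a) φ - vecMulVec a (φ ᵥ* k) := by
      rw [← mul_vecMulVec, ← vecMulVec_mul]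
      linear_combination (norm := noncomm_ring) e
    suffices hkk : k - k' = 0 by
      rw [← sub_eq_zero.1 hkk] at e
      linear_combination (norm := noncomm_ring) e
    by_contra hne
    obtain ⟨y, -, hy⟩ := hK.inv _ (K.sub_mem hk hk') hne
    have hy' := mul_eq_one_comm.1 hy
    obtain ⟨v, hv0, hv1, hv2⟩ : ∃ v : ι → F, v ≠ 0 ∧ φ ⬝ᵥ v = 0 ∧ (φ ᵥ* k) ⬝ᵥ v = 0 := by
      let L : (ι → F) →ₗ[F] (Fin 2 → F) :=
        (Matrix.of ![φ, φ ᵥ* k]).mulVecLin
      obtain ⟨v, hv, hv0⟩ := (LinearMap.ker L).exists_mem_ne_zero_of_ne_bot fun hb => by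
        have h1 := LinearMap.finrank_range_add_finrank_ker L
        have h2 := Submodule.finrank_le (LinearMap.range L)
        rw [hb, finrank_bot, Module.finrank_fintype_fun_eq_card] at h1
        rw [Module.finrank_fin_fun] at h2
        omega
      exact ⟨v, hv0, congrFun hv 0, congrFun hv 1⟩
    refine hv0 ?_
    have h1 : (k - k') *ᵥ v = 0 := by
      rw [hd, sub_mulVec, vecMulVec_mulVec, vecMulVec_mulVec, hv1, hv2]
      simp
    rw [← one_mulVec v, ← hy', ← mulVec_mulVec, h1, mulVec_zero]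
  refine hr ?_
  have hsc : ∀ k ∈ K, ∃ c : F, k = c • 1 := by
    intro k hk
    obtain ⟨f, hf⟩ : ∃ f : (ι → F) → F, ∀ a, k *ᵥ a = f a • a := by
      refine ⟨fun a => if h : ∃ c : F, k *ᵥ a = c • a then h.choose else 0, fun a => ?_⟩
      have h : ∃ c : F, k *ᵥ a = c • a := by
        rcases eq_or_ne a 0 with rfl | ha
        · exact ⟨0, by rw [mulVec_zero, smul_zero]⟩
        obtain ⟨i, hi⟩ := Function.ne_iff.1 ha
        obtain ⟨j, hji⟩ : ∃ j, j ≠ i := Fintype.exists_ne_of_one_lt_card (by omega) i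
        let φ : ι → F := Pi.single j (a i) - Pi.single i (a j)
        have hφ : φ ⬝ᵥ a = 0 := by simp [φ, sub_dotProduct, mul_comm]
        have hφj : φ j = a i := by simp [φ, hji]
        have h1 := congrArg (fun M => M *ᵥ Pi.single j (1 : F)) (hcomm k hk a φ hφ)
        simp only [← mulVec_mulVec, vecMulVec_mulVec, dotProduct_single, mul_one, hφj] at h1
        refine ⟨(a i)⁻¹ * (φ ⬝ᵥ (k *ᵥ Pi.single j 1)), ?_⟩
        have hz : ∀ w : ι → F, ∀ c : F, MulOpposite.op c • w = c • w := fun w c => funext fun l => mul_comm _ _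
        rw [hz, hz, mulVec_smul] at h1
        rw [mul_smul, h1, smul_smul, inv_mul_cancel₀ hi, one_smul]
      dsimp only
      rw [dif_pos h]
      exact h.choose_spec
    obtain ⟨i₀⟩ := (inferInstance : Nonempty ι)
    refine ⟨f (Pi.single i₀ 1), (Matrix.toLin').injective ((Pi.basisFun F ι).ext fun l => ?_)⟩
    rw [Pi.basisFun_apply, toLin'_apply, toLin'_apply, smul_mulVec, one_mulVec, hf]
    congr 1
    by_cases hl : l = i₀
    · rw [hl]
    have h2 := hf (Pi.single l (1 : F) + Pi.single i₀ (1 : F))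
    rw [mulVec_add, hf, hf, smul_add] at h2
    have hl' := congrFun h2 l
    have hi' := congrFun h2 i₀
    simp [hl, Ne.symm hl] at hl' hi'
    rw [hl', hi']
  have hbot : K = ⊥ := eq_bot_iff.2 fun k hk => by
    obtain ⟨c, hc⟩ := hsc k hk
    rw [Algebra.mem_bot]
    exact ⟨c, by rw [hc, Algebra.algebraMap_eq_smul_one]⟩
  rw [← hK.finrank_eq, hbot, Subalgebra.finrank_bot]

theorem not_le_subfieldSubgroup (h2 : 3 ≤ Fintype.card ι) {F₀ : Subfield F} (hF₀ : F₀ ≠ ⊤) (P : GL ι F) :
    ¬ specialLinear ι F ≤ subfieldSubgroup F₀ P := by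
  classical
  intro hle
  obtain ⟨a, -, ha⟩ := SetLike.exists_of_lt (lt_top_iff_ne_top.2 hF₀)
  obtain ⟨i, j, hij⟩ := Fintype.exists_pair_of_one_lt_card (by omega : 1 < Fintype.card ι)
  have hd : (Pi.single j (1 : F)) ⬝ᵥ (Pi.single i a : ι → F) = 0 := by simp [hij]
  have ht := tvGL_mem_specialLinear (Pi.single i a) (Pi.single j (1 : F)) hd
  set t := tvGL (Pi.single i a) (Pi.single j (1 : F)) hd
  have hmem : t ∈ subfieldSubgroup F₀ (1 : GL ι F) := by
    have hn : P * t * P⁻¹ ∈ specialLinear ι F := by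
      rw [specialLinear, MonoidHom.mem_ker, map_mul, map_mul, MonoidHom.mem_ker.1 ht, mul_one, map_inv, mul_inv_cancel]
    have h1 := hle hn
    rw [subfieldSubgroup] at h1 ⊢
    rw [map_one]
    obtain ⟨y, hy, hyt⟩ := h1
    change P * y * P⁻¹ = P * t * P⁻¹ at hyt
    exact ⟨y, hy, mul_left_cancel (mul_right_cancel hyt)⟩
  obtain ⟨c, hc, hr⟩ := (mem_subfieldSubgroup_one t).1 hmem
  have hjj := hr j j
  have hij' := hr i j
  simp [t, tvMat, vecMulVec_apply, hij, Ne.symm hij] at hjj hij'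
  refine ha ?_
  have := mul_mem (inv_mem hjj) hij'
  rwa [← mul_assoc, inv_mul_cancel₀ hc, one_mul] at this

theorem not_le_similarityGroup [Finite F] (h3 : 3 ≤ Fintype.card ι) {τ : F →+* F} {f : (ι → F) → (ι → F) → F}
    (hf : IsSesqForm τ f) (hnd : IsNondegenerateForm f) :
    ¬ specialLinear ι F ≤ similarityGroup f := by
  classical
  intro hle
  haveI : Nonempty ι := Fintype.card_pos_iff.1 (by omega)
  suffices hall : ∀ a x : ι → F, f x a = 0 by
    obtain ⟨i⟩ := (inferInstance : Nonempty ι)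
    obtain ⟨⟨x, hx⟩, -⟩ := hnd (Pi.single i 1) (by simp)
    exact hx (hall _ x)
  have hG := hf.gram_isUnit hnd
  intro a x
  obtain ⟨φ, hφ0, hφa, hφx⟩ : ∃ φ : ι → F, φ ≠ 0 ∧ φ ⬝ᵥ a = 0 ∧ φ ⬝ᵥ x = 0 := by
    let L : (ι → F) →ₗ[F] (Fin 2 → F) := (Matrix.of ![a, x]).mulVecLin
    obtain ⟨v, hv, hv0⟩ := (LinearMap.ker L).exists_mem_ne_zero_of_ne_bot fun hb => by
      have h1 := LinearMap.finrank_range_add_finrank_ker L
      have h2 := Submodule.finrank_le (LinearMap.range L)
      rw [hb, finrank_bot, Module.finrank_fintype_fun_eq_card] at h1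
      rw [Module.finrank_fin_fun] at h2
      omega
    exact ⟨v, hv0, (dotProduct_comm v a).trans (congrFun hv 0), (dotProduct_comm v x).trans (congrFun hv 1)⟩
  obtain ⟨c, hc⟩ := hle (tvGL_mem_specialLinear a φ hφa)
  simp only [coe_tvGL, tvMat_mulVec] at hc
  obtain ⟨u, w, hu, hw, huw⟩ : ∃ u w, φ ⬝ᵥ u = 0 ∧ φ ⬝ᵥ w = 0 ∧ f u w ≠ 0 := by
    by_contra hno
    push Not at hno
    let K : Submodule F (ι → F) := LinearMap.ker (dotProductBilin F F φ)
    have hK : Fintype.card ι ≤ Module.finrank F K + 1 := by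
      have h1 := finrank_le_inf_ker (⊤ : Submodule F (ι → F)) (dotProductBilin F F φ)
      rwa [finrank_top, top_inf_eq, Module.finrank_fintype_fun_eq_card] at h1
    -- `K` is sent injectively into the annihilator of `K`
    let T : (ι → F) →ₗ[F] (ι → F) := (gramMatrix f).vecMulLinear
    have hTinj : Function.Injective T := Matrix.vecMul_injective_iff_isUnit.2 hG
    have hann : ∀ u ∈ K, ∀ w ∈ K, T u ⬝ᵥ (τ ∘ w) = 0 := fun u hu w hw => by
      show (u ᵥ* gramMatrix f) ⬝ᵥ (τ ∘ w) = 0
      rw [← dotProduct_mulVec, ← hf.gram]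
      exact hno u w hu hw
    let e := Module.finBasis F K
    let M : Matrix (Fin (Module.finrank F K)) ι F := Matrix.of fun k l => τ ((e k : ι → F) l)
    have hMli : LinearIndependent F M.row := by
      rw [Fintype.linearIndependent_iff]
      intro g hg k
      have hg' : ∀ l, ∑ k, g k * τ ((e k : ι → F) l) = 0 := fun l => by
        simpa [M, Matrix.row, Finset.sum_apply] using congrFun hg l
      obtain ⟨τ', hτ'⟩ : ∃ τ' : F → F, ∀ y, τ (τ' y) = y := by
        have hb : Function.Bijective τ := Finite.injective_iff_bijective.1 τ.injective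
        exact ⟨Function.surjInv hb.2, Function.surjInv_eq hb.2⟩
      have h0 : ∑ k, τ' (g k) • (e k : ι → F) = 0 := funext fun l => τ.injective (by
        simp [Finset.sum_apply, map_sum, hτ', hg' l])
      have h1 : ∑ k, τ' (g k) • e k = 0 := Subtype.ext (by simpa using h0)
      have := Fintype.linearIndependent_iff.1 e.linearIndependent _ h1 k
      rw [← hτ' (g k), this, map_zero]
    have hrank : Module.finrank F (LinearMap.range M.mulVecLin) = Module.finrank F K := by
      rw [← Matrix.rank, hMli.rank_matrix, Fintype.card_fin]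
    have hle' : K.map T ≤ LinearMap.ker M.mulVecLin := by
      rintro _ ⟨u, hu, rfl⟩
      refine LinearMap.mem_ker.2 (funext fun k => ?_)
      show (fun l => τ ((e k : ι → F) l)) ⬝ᵥ T u = 0
      rw [dotProduct_comm]
      exact hann u hu _ (e k).2
    have h4 := Submodule.finrank_mono hle'
    rw [((Submodule.equivMapOfInjective T hTinj K).symm).finrank_eq] at h4
    have h5 := LinearMap.finrank_range_add_finrank_ker M.mulVecLin
    rw [hrank, Module.finrank_fintype_fun_eq_card] at h5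
    omega
  have hc1 : (c : F) = 1 := by
    have := hc u w
    rw [hu, hw, zero_smul, add_zero, add_zero] at this
    exact (mul_eq_right₀ huw).1 this.symm
  obtain ⟨y, hy⟩ : ∃ y, φ ⬝ᵥ y = 1 := by
    obtain ⟨i, hi⟩ := Function.ne_iff.1 hφ0
    exact ⟨Pi.single i (φ i)⁻¹, by simp [mul_inv_cancel₀ hi]⟩
  have := hc x y
  rw [hc1, one_mul, hφx, hy, zero_smul, add_zero, one_smul, hf.add_right] at this
  simpa using this

theorem not_le_quadSimilarityGroup [Finite F] (h3 : 3 ≤ Fintype.card ι) {Q : (ι → F) → F}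
    (hQ : IsNondegenerateQuadraticForm Q) : ¬ specialLinear ι F ≤ quadSimilarityGroup Q := fun hle =>
  not_le_similarityGroup h3 hQ.polar_bilinear.isSesqForm hQ.nondegenerate fun g hg => by
    obtain ⟨c, hc⟩ := hle hg
    refine ⟨c, fun u v => ?_⟩
    simp only [QuadraticMap.polar, ← mulVec_add, hc]
    ring

theorem not_le_subgroupNormalizer [Finite F] (hn : (Fintype.card ι).Prime) (h3 : 3 ≤ Fintype.card ι)
    {R : Subgroup (GL ι F)} (hR : IsHeisenberg R) : ¬ specialLinear ι F ≤ subgroupNormalizer R := by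
  classical
  intro hle
  haveI : Nonempty ι := Fintype.card_pos_iff.1 hn.pos
  set n := Fintype.card ι with hnι
  obtain ⟨ζ, hζ⟩ := hR.primRoot
  obtain ⟨x, hx, hxs⟩ : ∃ x ∈ R, x ∉ scalars ι F := by
    by_contra hno
    push Not at hno
    exact not_le_scalars_of_irreducible hn.two_le hR.absIrred.1 hno
  have hexp : ∀ r ∈ R, r ^ n = 1 := fun r hr => by
    have h1 := hR.symplecticType.exponent_eq
    rw [show Nat.gcd 2 n = 1 from (Nat.coprime_two_left.2 (hn.odd_of_ne_two (by omega))), mul_one] at h1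
    have := Monoid.pow_exponent_eq_one (⟨r, hr⟩ : R)
    rw [h1] at this
    exact congrArg Subtype.val this
  obtain ⟨v, μ, hv, hμ, hxv⟩ := exists_eigenvector hζ hn.pos (Matrix.toLinAlgEquiv' (x : Matrix ι ι F)) (by
    rw [← map_pow, ← Units.val_pow_eq_pow_val, hexp x hx, Units.val_one, map_one])
  change (x : Matrix ι ι F) *ᵥ v = μ • v at hxv
  have hμ0 : μ ≠ 0 := fun e => by rw [e, zero_pow hn.ne_zero] at hμ; exact zero_ne_one hμ
  set X := ((x⁻¹ : GL ι F) : Matrix ι ι F)
  have hXv : X *ᵥ v = μ⁻¹ • v := by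
    have h1 := congrArg (X *ᵥ ·) hxv
    simp only [X, inv_mulVec_cancel, mulVec_smul] at h1
    conv_rhs => rw [h1, smul_smul, inv_mul_cancel₀ hμ0, one_smul]
  have key : ∀ φ : ι → F, φ ⬝ᵥ v = 0 → φ - μ • (φ ᵥ* X) = 0 := by
    intro φ hφ
    set t := tvGL v φ hφ
    have hψ : (φ - μ • (φ ᵥ* X)) ⬝ᵥ v = 0 := by
      rw [sub_dotProduct, smul_dotProduct, ← dotProduct_mulVec, hXv, dotProduct_smul, hφ]
      simp
    set ψ := φ - μ • (φ ᵥ* X)
    have hcR : t * x * t⁻¹ * x⁻¹ ∈ R :=
      mul_mem ((Subgroup.mem_normalizer_iff.1 (hle (tvGL_mem_specialLinear v φ hφ)) x).1 hx) (inv_mem hx)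
    have hval : ((t * x * t⁻¹ * x⁻¹ : GL ι F) : Matrix ι ι F) = tvMat v ψ := by
      rw [mul_assoc t, mul_assoc t, Units.val_mul, Units.val_mul, Units.val_mul]
      show tvMat v φ * ((x : Matrix ι ι F) * tvMat v (-φ) * X) = _
      rw [mul_tvMat_mul _ _ _ _ (by rw [← Units.val_mul, mul_inv_cancel, Units.val_one]), hxv, tvMat_smul,
        tvMat_mul_same_center _ _ _ hφ, neg_vecMul, smul_neg, ← sub_eq_add_neg]
    have h1 := congrArg Units.val (hexp _ hcR)
    rw [Units.val_pow_eq_pow_val, hval, Units.val_one] at h1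
    have hpow : ∀ m : ℕ, tvMat v ψ ^ m = tvMat v ((m : F) • ψ) := by
      intro m
      induction m with
      | zero => rw [pow_zero, Nat.cast_zero, zero_smul, tvMat_zero]
      | succ m ih =>
        rw [pow_succ, ih, tvMat_mul_same_center _ _ _ (by rw [smul_dotProduct, hψ, smul_zero]), Nat.cast_succ,
          add_smul, one_smul]
    rw [hpow, tvMat, add_eq_left] at h1
    have hn0 : (n : F) ≠ 0 := by
      haveI : NeZero n := ⟨hn.ne_zero⟩
      exact hζ.neZero'.out
    obtain ⟨i, hi⟩ := Function.ne_iff.1 hv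
    funext j
    have := congrFun (congrFun h1 i) j
    simp [vecMulVec_apply, hn0] at this
    exact this.resolve_left hi
  -- `x - μ` maps everything into the line of `v`
  have hW : ∀ w, (x : Matrix ι ι F) *ᵥ w - μ • w ∈ Submodule.span F ({v} : Set (ι → F)) := by
    intro w
    by_contra hout
    obtain ⟨χ, hχ1, hχ⟩ := exists_dotProduct_of_notMem hout
    have h0 := key χ (hχ v (Submodule.mem_span_singleton_self v))
    have h1 := congrArg (· ⬝ᵥ ((x : Matrix ι ι F) *ᵥ w)) h0
    simp only [sub_dotProduct, smul_dotProduct, zero_dotProduct, ← dotProduct_mulVec, X, inv_mulVec_cancel] at h1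
    rw [← dotProduct_smul, ← dotProduct_sub, hχ1] at h1
    exact one_ne_zero h1
  obtain ⟨B, hB⟩ := hR.monomial
  -- the eigenspace of `x` for `μ` is a line
  suffices hcenter : x ∈ scalars ι F from hxs hcenter
  obtain ⟨y, hy, hxy⟩ : ∃ y ∈ R, y * x ≠ x * y := by
    by_contra hno
    push Not at hno
    exact hxs (mem_scalars_of_commute_group hR.absIrred fun r hr => (hno r hr).symm)
  exfalso
  have hmc : ModComm y x := by
    have hcenter : ⁅(⟨y, hy⟩ : R), ⟨x, hx⟩⁆ ∈ Subgroup.center R := by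
      rw [← QuotientGroup.eq_one_iff, ← QuotientGroup.mk'_apply, map_commutatorElement]
      haveI : Fact n.Prime := ⟨hn⟩
      haveI : Subgroup.Normal (Subgroup.center R) := inferInstance
      have hq : Nat.card (R ⧸ Subgroup.center R) = n ^ 2 := by
        have := Subgroup.card_eq_card_quotient_mul_card_subgroup (Subgroup.center R)
        rw [hR.card_eq, hR.card_center, ← hnι] at this
        exact (Nat.eq_of_mul_eq_mul_right hn.pos (this.symm.trans (pow_succ n 2)))
      haveI := IsPGroup.isMulCommutative_of_card_eq_prime_sq (p := n) hq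
      exact commutatorElement_eq_one_iff_mul_comm.2 (IsMulCommutative.is_comm.comm _ _)
    refine mem_scalars_of_commute_group hR.absIrred fun r hr => ?_
    exact (congrArg Subtype.val (Subgroup.mem_center_iff.1 hcenter ⟨r, hr⟩)).symm
  obtain ⟨c, hc⟩ := (mem_scalars_iff _).1 hmc
  have hc1 : (c : F) ≠ 1 := fun e => hxy (commutatorElement_eq_one_iff_mul_comm.1
    (show ⁅y, x⁆ = 1 from Units.ext (by rw [hc, e, one_smul, Units.val_one])))
  -- `y` permutes the eigenspaces of `x`, so no eigenspace has codimension at most one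
  set E : Submodule F (ι → F) := Module.End.eigenspace (Matrix.toLin' (x : Matrix ι ι F)) μ
  have hE : Fintype.card ι ≤ Module.finrank F E + 1 := by
    have h1 := LinearMap.finrank_range_add_finrank_ker (Matrix.toLin' (x : Matrix ι ι F) - μ • 1)
    have h2 : LinearMap.range (Matrix.toLin' (x : Matrix ι ι F) - μ • 1) ≤ Submodule.span F {v} := by
      rintro _ ⟨w, rfl⟩
      exact hW w
    have h3 := Submodule.finrank_mono h2
    rw [finrank_span_singleton hv] at h3
    rw [Module.finrank_fintype_fun_eq_card] at h1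
    have h4 : LinearMap.ker (Matrix.toLin' (x : Matrix ι ι F) - μ • 1) = E := by
      ext w; simp [E, Module.End.mem_eigenspace_iff, sub_eq_zero]
    rw [h4] at h1
    omega
  obtain ⟨w, hw, hw0⟩ := (E.map (Matrix.toLin' (y : Matrix ι ι F)) ⊓ E).exists_mem_ne_zero_of_ne_bot fun hb => by
    have h1 := Submodule.finrank_sup_add_finrank_inf_eq (E.map (Matrix.toLin' (y : Matrix ι ι F))) E
    rw [hb, finrank_bot, finrank_map_gl] at h1
    have h2 := Submodule.finrank_le (E.map (Matrix.toLin' (y : Matrix ι ι F)) ⊔ E)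
    rw [Module.finrank_fintype_fun_eq_card] at h2
    omega
  obtain ⟨⟨u, hu, rfl⟩, hwE⟩ := hw
  have hu' : (x : Matrix ι ι F) *ᵥ u = μ • u := Module.End.mem_eigenspace_iff.1 hu
  have hwE' : (x : Matrix ι ι F) *ᵥ ((y : Matrix ι ι F) *ᵥ u) = μ • ((y : Matrix ι ι F) *ᵥ u) :=
    Module.End.mem_eigenspace_iff.1 hwE
  have hyx : (y : Matrix ι ι F) * (x : Matrix ι ι F) = (c : F) • ((x : Matrix ι ι F) * (y : Matrix ι ι F)) := by
    have h1 : y * x = ⁅y, x⁆ * (x * y) := by rw [commutatorElement_def]; group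
    have := congrArg Units.val h1
    rwa [Units.val_mul, Units.val_mul, Units.val_mul, hc, smul_mul, one_mul] at this
  have h1 := congrArg (· *ᵥ u) hyx
  simp only [← mulVec_mulVec, smul_mulVec, hu', mulVec_smul, hwE', smul_smul] at h1
  have h2 : (μ - (c : F) * μ) • ((y : Matrix ι ι F) *ᵥ u) = 0 := by rw [sub_smul, h1, sub_self]
  rcases smul_eq_zero.1 h2 with h | h
  · exact hc1 (mul_eq_right₀ hμ0 |>.1 (sub_eq_zero.1 h).symm)
  · exact hw0 h

end CfsgLib.AschPrime
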