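import Cfsg.Agent.Lib.Aschbacher.Proper
import Mathlib.LinearAlgebra.Matrix.Determinant.Basic

/-!
Stabilisers of decompositions into planes: symplectic similitudes over two elements, and over three in dimension four.
-/

set_option autoImplicit false
set_option linter.unusedSectionVars false

namespace CfsgLib.AschPrime

open Matrix Cfsg.Geo CfsgLib.MaxSub
open scoped MatrixGroups

variable {ι : Type} [Fintype ι] [DecidableEq ι] {F : Type*} [Field F] {t : ℕ}
  {D : Fin t → Submodule F (ι → F)}

/-- the determinant pairing on `F²` -/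
def planePair (a b : Fin 2 → F) : F := a 0 * b 1 - a 1 * b 0

theorem planePair_mulVec (A : Matrix (Fin 2) (Fin 2) F) (a b : Fin 2 → F) :
    planePair (A *ᵥ a) (A *ᵥ b) = A.det * planePair a b := by
  simp [planePair, mulVec, dotProduct, Fin.sum_univ_two, det_fin_two]
  ring

/-- A decomposition into planes carries a symplectic form, multiplied factorwise by each element of the
stabiliser. -/
theorem exists_planes_form (hD : IsMDecomposition 2 D) :
    ∃ (ψ : (ι → F) ≃ₗ[F] (Fin t → Fin 2 → F)) (f : (ι → F) → (ι → F) → F), IsSymplecticForm f ∧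
      (∀ u v, f u v = ∑ i, planePair (ψ u i) (ψ v i)) ∧
      ∀ g ∈ decompositionStabilizer D, ∃ (σ : Equiv.Perm (Fin t)) (A : Fin t → Matrix (Fin 2) (Fin 2) F),
        (∀ i, (A i).det ≠ 0) ∧ ∀ x i, ψ ((g : Matrix ι ι F) *ᵥ x) (σ i) = A i *ᵥ ψ x i := by
  classical
  obtain ⟨ψ, hψ⟩ := Decomp.exists_coord hD
  refine ⟨ψ, fun u v => ∑ i, planePair (ψ u i) (ψ v i), ⟨⟨?_, ?_, ?_, ?_⟩, fun u v => ?_, fun v => ?_, ?_⟩,
    fun u v => rfl, fun g hg => ?_⟩
  · intro x y v
    simp only [planePair, map_add, Pi.add_apply, ← Finset.sum_add_distrib]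
    exact Finset.sum_congr rfl fun i _ => by ring
  · intro c x v
    simp only [planePair, map_smul, Pi.smul_apply, smul_eq_mul, Finset.mul_sum]
    exact Finset.sum_congr rfl fun i _ => by ring
  · intro v x y
    simp only [planePair, map_add, Pi.add_apply, ← Finset.sum_add_distrib]
    exact Finset.sum_congr rfl fun i _ => by ring
  · intro c v x
    simp only [planePair, map_smul, Pi.smul_apply, smul_eq_mul, Finset.mul_sum]
    exact Finset.sum_congr rfl fun i _ => by ring
  · rw [← Finset.sum_neg_distrib]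
    exact Finset.sum_congr rfl fun i _ => by simp [planePair]; ring
  · exact Finset.sum_eq_zero fun i _ => by simp [planePair, mul_comm]
  · intro v hv
    have hv' : ψ v ≠ 0 := fun h => hv (ψ.map_eq_zero_iff.1 h)
    obtain ⟨i, hi⟩ := Function.ne_iff.1 hv'
    obtain ⟨x, hx⟩ : ∃ x, ∑ k, planePair (ψ x k) (ψ v k) ≠ 0 := by
      obtain ⟨a, ha⟩ : ∃ a, planePair a (ψ v i) ≠ 0 := by
        obtain ⟨j, hj⟩ := Function.ne_iff.1 hi
        fin_cases j
        · exact ⟨![0, 1], by simpa [planePair] using hj⟩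
        · exact ⟨![1, 0], by simpa [planePair] using hj⟩
      refine ⟨ψ.symm (Pi.single i a), ?_⟩
      rw [Finset.sum_eq_single i (fun k _ hk => by simp [hk, planePair]) (by simp), LinearEquiv.apply_symm_apply,
        Pi.single_eq_same]
      exact ha
    exact ⟨⟨x, hx⟩, x, fun h => hx (by
      rw [← neg_eq_zero, ← h, ← Finset.sum_neg_distrib]
      exact Finset.sum_congr rfl fun k _ => by simp [planePair]; ring)⟩
  · obtain ⟨σ, hσ⟩ := hg
    let L : Fin t → ((Fin 2 → F) →ₗ[F] (Fin 2 → F)) := fun i =>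
      (LinearMap.proj (σ i)).comp (ψ.toLinearMap ∘ₗ Matrix.toLin' (g : Matrix ι ι F) ∘ₗ ψ.symm.toLinearMap ∘ₗ
        LinearMap.single F (fun _ => Fin 2 → F) i)
    have himg : ∀ i a j, j ≠ σ i → ψ ((g : Matrix ι ι F) *ᵥ ψ.symm (Pi.single i a)) j = 0 := fun i a =>
      (hψ _ (σ i)).1 (hσ i ▸ ⟨_, Decomp.single_of_coord ψ hψ i a, rfl⟩)
    refine ⟨σ, fun i => LinearMap.toMatrix' (L i), fun i h => ?_, fun x i => ?_⟩
    · obtain ⟨a, ha, ha0⟩ := Matrix.exists_mulVec_eq_zero_iff.2 h
      have h1 : ψ ((g : Matrix ι ι F) *ᵥ ψ.symm (Pi.single i a)) = 0 := funext fun j => by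
        by_cases hj : j = σ i
        · subst hj
          simpa [L, LinearMap.toMatrix'_mulVec] using ha0
        · exact himg i a j hj
      have h2 := mulVec_inj g ((ψ.map_eq_zero_iff.1 h1).trans (mulVec_zero _).symm)
      exact ha (Pi.single_eq_zero_iff.1 (ψ.symm.map_eq_zero_iff.1 h2))
    · rw [LinearMap.toMatrix'_mulVec]
      let T : (ι → F) →ₗ[F] (Fin 2 → F) :=
        (LinearMap.proj (σ i)).comp (ψ.toLinearMap ∘ₗ Matrix.toLin' (g : Matrix ι ι F))
      show T x = T (ψ.symm (Pi.single i (ψ x i)))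
      conv_lhs => rw [← ψ.symm_apply_apply x, ← Finset.univ_sum_single (ψ x), map_sum, map_sum]
      refine Finset.sum_eq_single i (fun k _ hk => ?_) (by simp)
      exact himg k _ (σ i) fun e => hk (σ.injective e).symm

/-- Over two elements the stabiliser of a decomposition into planes preserves a symplectic form. -/
theorem le_symplectic_of_planes_two [Fintype F] (hq : Fintype.card F = 2) (hD : IsMDecomposition 2 D) :
    ∃ f : (ι → F) → (ι → F) → F, IsSymplecticForm f ∧ decompositionStabilizer D ≤ similarityGroup f := by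
  obtain ⟨ψ, f, hf, hfv, hψ⟩ := exists_planes_form hD
  refine ⟨f, hf, fun g hg => ⟨1, fun u v => ?_⟩⟩
  obtain ⟨σ, A, hA, hg⟩ := hψ g hg
  rw [Units.val_one, one_mul, hfv, hfv, ← Equiv.sum_comp σ]
  refine Finset.sum_congr rfl fun i _ => ?_
  have := FiniteField.pow_card_sub_one_eq_one _ (hA i)
  rw [hq, pow_one] at this
  rw [hg, hg, planePair_mulVec, this, one_mul]

/-- Over three elements determinant-one elements stabilising two planes are symplectic similitudes. -/
theorem le_symplectic_of_planes_three [Fintype F] (hq : Fintype.card F = 3) {D : Fin 2 → Submodule F (ι → F)}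
    (hD : IsMDecomposition 2 D) :
    ∃ f : (ι → F) → (ι → F) → F, IsSymplecticForm f ∧
      decompositionStabilizer D ⊓ specialLinear ι F ≤ similarityGroup f := by
  classical
  obtain ⟨ψ, f, hf, hfv, hψ⟩ := exists_planes_form hD
  refine ⟨f, hf, fun g hg => ?_⟩
  obtain ⟨σ, A, hA, hg'⟩ := hψ g hg.1
  let ψ' : (ι → F) ≃ₗ[F] (Fin 2 × Fin 2 → F) := ψ.trans
    { toFun := fun x p => x p.2 p.1
      map_add' := fun x y => rfl
      map_smul' := fun c x => rfl
      invFun := fun y i a => y (a, i)
      left_inv := fun x => rfl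
      right_inv := fun y => rfl }
  let π : Equiv.Perm (Fin 2 × Fin 2) := Equiv.prodCongr (Equiv.refl _) σ
  have hM : (ψ'.toLinearMap ∘ₗ Matrix.toLin' (g : Matrix ι ι F) ∘ₗ ψ'.symm.toLinearMap) =
      Matrix.toLin' ((blockDiagonal A).submatrix π.symm id) := by
    refine LinearMap.ext fun y => funext fun ⟨a, k⟩ => ?_
    obtain ⟨i, rfl⟩ := σ.surjective k
    show ψ' ((g : Matrix ι ι F) *ᵥ ψ'.symm y) (a, σ i) = _
    refine (congrFun (hg' (ψ'.symm y) i) a).trans ?_
    have hy : ∀ b, ψ (ψ'.symm y) i b = y (b, i) := fun b => by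
      simp [ψ']
    simp [mulVec, dotProduct, π, Fintype.sum_prod_type, blockDiagonal_apply, hy]
  have hdet : (A 0).det * (A 1).det = 1 := by
    have h1 : LinearMap.det (Matrix.toLin' (g : Matrix ι ι F)) = 1 := by
      rw [LinearMap.det_toLin']
      exact congrArg Units.val (MonoidHom.mem_ker.1 hg.2)
    rw [← LinearMap.det_conj (Matrix.toLin' (g : Matrix ι ι F)) ψ', hM, LinearMap.det_toLin', det_permute,
      det_blockDiagonal, Fin.prod_univ_two] at h1
    have hsign : ∀ σ : Equiv.Perm (Fin 2),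
        Equiv.Perm.sign (Equiv.prodCongr (Equiv.refl (Fin 2)) σ).symm = 1 := by decide
    rwa [hsign σ, Units.val_one, Int.cast_one, one_mul] at h1
  have h01 : (A 1).det = (A 0).det := by
    have hs : (A 0).det * (A 0).det = 1 := by
      have := FiniteField.pow_card_sub_one_eq_one _ (hA 0)
      rwa [hq, pow_two] at this
    calc (A 1).det = (A 0).det * (A 0).det * (A 1).det := by rw [hs, one_mul]
      _ = (A 0).det := by rw [mul_assoc, hdet, mul_one]
  refine ⟨Units.mk0 _ (hA 0), fun u v => ?_⟩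
  rw [hfv, hfv, Finset.mul_sum, ← Equiv.sum_comp σ]
  refine Finset.sum_congr rfl fun i _ => ?_
  rw [hg', hg', planePair_mulVec]
  fin_cases i
  · rfl
  · show (A 1).det * _ = _
    rw [h01]; rfl

end CfsgLib.AschPrime
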