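import Cfsg.Agent.Lib.Aschbacher.SLCases
import Cfsg.Agent.Lib.Aschbacher.SLPlanes

/-!
The small-field exclusions for the imprimitive and tensor cases of `SL_n(q)`.
-/

set_option autoImplicit false
set_option linter.unusedSectionVars false

namespace CfsgLib.AschPrime

open Matrix Cfsg.Geo
open scoped MatrixGroups

variable {F : Type*} [Field F] [Fintype F] {n : ℕ} {H : Subgroup (GL (Fin n) F)}

theorem odd_of_two_ne_zero (h2 : (2 : F) ≠ 0) : Odd (Fintype.card F) := by
  obtain ⟨p, hp⟩ := CharP.exists F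
  obtain ⟨k, hpp, hk⟩ := FiniteField.card F p
  rw [hk]
  refine (hpp.odd_of_ne_two ?_).pow
  rintro rfl
  exact h2 (by exact_mod_cast CharP.cast_eq_zero F 2)

theorem decomposition_eq (hn : 2 ≤ n) (hH : IsMaximalIn (specialLinear (Fin n) F) H) {t m : ℕ}
    {D : Fin t → Submodule F (Fin n → F)} (hD : IsMDecomposition m D) (hle : H ≤ decompositionStabilizer D) :
    ∃ D : Fin t → Submodule F (Fin n → F), IsMDecomposition m D ∧
      H = decompositionStabilizer D ⊓ specialLinear (Fin n) F :=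
  ⟨D, hD, eq_inf_of_maximal hH hle (not_le_decompositionStabilizer_any (by rwa [Fintype.card_fin]) hD)⟩

theorem lines_branch (h3 : 3 ≤ n) (hH : IsMaximalIn (specialLinear (Fin n) F) H)
    (hirr : ActsIrreducibly (matrixSet H)) {D : Fin n → Submodule F (Fin n → F)} (hD : IsMDecomposition 1 D)
    (hle : H ≤ decompositionStabilizer D) :
    (5 ≤ Fintype.card F ∧ ∃ D : Fin n → Submodule F (Fin n → F), IsMDecomposition 1 D ∧
      H = decompositionStabilizer D ⊓ specialLinear (Fin n) F) ∨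
    (Odd (Fintype.card F) ∧ ∃ Q : (Fin n → F) → F, IsNondegenerateQuadraticForm Q ∧
      H = quadSimilarityGroup Q ⊓ specialLinear (Fin n) F) ∨
    (∃ (σ : F ≃+* F) (f : (Fin n → F) → (Fin n → F) → F), IsUnitaryForm σ f ∧
      H = similarityGroup f ⊓ specialLinear (Fin n) F) := by
  have h3' : 3 ≤ Fintype.card (Fin n) := by rwa [Fintype.card_fin]
  by_cases h5 : 5 ≤ Fintype.card F
  · exact .inl ⟨h5, decomposition_eq (by omega) hH hD hle⟩
  have h2q : 2 ≤ Fintype.card F := Fintype.one_lt_card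
  obtain h | h | h : Fintype.card F = 2 ∨ Fintype.card F = 3 ∨ Fintype.card F = 4 := by omega
  · exact absurd hirr (reducible_of_card_two h hD (by omega) hle)
  · obtain ⟨Q, hQ, hQle⟩ := le_quadSimilarity_of_card_three (ι := Fin n) h hD
    exact .inr (.inl ⟨by rw [h]; decide, Q, hQ,
      eq_inf_of_maximal hH (hle.trans hQle) (not_le_quadSimilarityGroup h3' hQ)⟩)
  · obtain ⟨σ, f, hf, hfle⟩ := le_unitarySimilarity_of_card_four (ι := Fin n) h hD
    exact .inr (.inr ⟨σ, f, hf,
      eq_inf_of_maximal hH (hle.trans hfle) (not_le_similarityGroup h3' hf.isSesqForm hf.nondegenerate)⟩)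

theorem planes_branch (h3 : 3 ≤ n) (hH : IsMaximalIn (specialLinear (Fin n) F) H) {t : ℕ}
    {D : Fin t → Submodule F (Fin n → F)} (hD : IsMDecomposition 2 D) (hle : H ≤ decompositionStabilizer D) :
    (3 ≤ Fintype.card F ∧ ∃ D : Fin t → Submodule F (Fin n → F), IsMDecomposition 2 D ∧
      H = decompositionStabilizer D ⊓ specialLinear (Fin n) F) ∨
    (∃ f : (Fin n → F) → (Fin n → F) → F, IsSymplecticForm f ∧
      H = similarityGroup f ⊓ specialLinear (Fin n) F) := by
  by_cases hq : 3 ≤ Fintype.card F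
  · exact .inl ⟨hq, decomposition_eq (by omega) hH hD hle⟩
  obtain ⟨f, hf, hfle⟩ := le_symplectic_of_planes_two (by have : 1 < Fintype.card F := Fintype.one_lt_card; omega) hD
  exact .inr ⟨f, hf, eq_inf_of_maximal hH (hle.trans hfle)
    (not_le_similarityGroup (by rwa [Fintype.card_fin]) hf.bilinear.isSesqForm hf.nondegenerate)⟩

theorem tensor_branch {d m : ℕ} (hH : IsMaximalIn (specialLinear (Fin n) F) H) (hd : 2 ≤ d) (hdm : d < m)
    {e : Fin n ≃ Fin d × Fin m} {P : GL (Fin n) F} (hle : H ≤ tensorProductSubgroup d m e P) :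
    H = tensorProductSubgroup d m e P ⊓ specialLinear (Fin n) F :=
  eq_inf_of_maximal hH hle (not_le_tensorProductSubgroup hd (by omega) e P)

theorem tensor_two_branch {m : ℕ} (hH : IsMaximalIn (specialLinear (Fin n) F) H) (hm : 2 < m)
    {e : Fin n ≃ Fin 2 × Fin m} {P : GL (Fin n) F} (hle : H ≤ tensorProductSubgroup 2 m e P) :
    (3 ≤ Fintype.card F ∧ ∃ (e : Fin n ≃ Fin 2 × Fin m) (P : GL (Fin n) F),
      H = tensorProductSubgroup 2 m e P ⊓ specialLinear (Fin n) F) ∨
    (∃ K : Subalgebra F (Matrix (Fin n) (Fin n) F), IsFieldSubalgebra 2 K ∧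
      H = subalgebraNormalizer K ⊓ specialLinear (Fin n) F) := by
  by_cases hq : 3 ≤ Fintype.card F
  · exact .inl ⟨hq, e, P, tensor_branch hH le_rfl hm hle⟩
  obtain ⟨K, hK, hKle⟩ := exists_field_of_tensor_two (by have : 1 < Fintype.card F := Fintype.one_lt_card; omega) e
    (by omega) P
  refine .inr ⟨K, hK, eq_inf_of_maximal hH (hle.trans hKle) (not_le_subalgebraNormalizer ?_ (by decide) hK)⟩
  rw [Fintype.card_congr e, Fintype.card_prod, Fintype.card_fin, Fintype.card_fin]
  omega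

theorem wreath_two_branch {t : ℕ} (h3 : 3 ≤ n) (hH : IsMaximalIn (specialLinear (Fin n) F) H) (ht : 2 ≤ t)
    {e : Fin n ≃ (Fin t → Fin 2)} {P : GL (Fin n) F} (hle : H ≤ tensorWreathSubgroup 2 t e P) :
    (Odd (Fintype.card F) ∧ ∃ Q : (Fin n → F) → F, IsNondegenerateQuadraticForm Q ∧
      H = quadSimilarityGroup Q ⊓ specialLinear (Fin n) F) ∨
    (∃ f : (Fin n → F) → (Fin n → F) → F, IsSymplecticForm f ∧
      H = similarityGroup f ⊓ specialLinear (Fin n) F) := by
  have h3' : 3 ≤ Fintype.card (Fin n) := by rwa [Fintype.card_fin]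
  rcases le_similitude_of_wreath_two ht e P with ⟨-, f, hf, hfle⟩ | ⟨⟨h2, -⟩, Q, hQ, hQle⟩
  · exact .inr ⟨f, hf, eq_inf_of_maximal hH (hle.trans hfle)
      (not_le_similarityGroup h3' hf.bilinear.isSesqForm hf.nondegenerate)⟩
  · exact .inl ⟨odd_of_two_ne_zero h2, Q, hQ,
      eq_inf_of_maximal hH (hle.trans hQle) (not_le_quadSimilarityGroup h3' hQ)⟩

theorem wreath_eq {d t : ℕ} (hd : 2 ≤ d) (ht : 2 ≤ t) (hH : IsMaximalIn (specialLinear (Fin n) F) H)
    {e : Fin n ≃ (Fin t → Fin d)} {P : GL (Fin n) F} (hle : H ≤ tensorWreathSubgroup d t e P) :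
    H = tensorWreathSubgroup d t e P ⊓ specialLinear (Fin n) F :=
  eq_inf_of_maximal hH hle (not_le_tensorWreathSubgroup hd ht e P)

theorem no_symplectic_of_odd (hn : Odd n) {f : (Fin n → F) → (Fin n → F) → F} (hf : IsSymplecticForm f) : False := by
  have hu := hf.bilinear.isSesqForm.gram_isUnit hf.nondegenerate
  rw [Matrix.isUnit_iff_isUnit_det] at hu
  exact hu.ne_zero (two_ne_zero_of_quadratic.det_eq_zero_of_alt (by rwa [Fintype.card_fin])
    (fun i => hf.alternating _) fun i j => hf.skew _ _)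

/-- the dimensions of the factors of a tensor decomposition -/
theorem tensor_dims {d m : ℕ} (e : Fin n ≃ Fin d × Fin m) : d * m = n := by
  have := Fintype.card_congr e
  simpa using this.symm

theorem wreath_dims {d t : ℕ} (e : Fin n ≃ (Fin t → Fin d)) : d ^ t = n := by
  have := Fintype.card_congr e
  simpa using this.symm

end CfsgLib.AschPrime
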