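import Cfsg.Agent.Lib.AschU.TwoTensor
import Cfsg.Agent.Lib.Aschbacher.Tensor
import Cfsg.Agent.Lib.Aschbacher.Centre

/-!
Tensor stabilisers: swapping, equal factors, two-dimensional factors, two-dimensional factors over two elements.
-/

set_option autoImplicit false
set_option linter.unusedSectionVars false
set_option linter.style.haveILetI false

namespace CfsgLib.AschPrime

open Matrix Cfsg.Geo
open scoped MatrixGroups Kronecker

variable {ι : Type} [Fintype ι] [DecidableEq ι] {F : Type*} [Field F]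

theorem tensorProductSubgroup_le_swap {d m : ℕ} (e : ι ≃ Fin d × Fin m) (P : GL ι F) :
    tensorProductSubgroup d m e P ≤ tensorProductSubgroup m d (e.trans (Equiv.prodComm _ _)) P := by
  rintro _ ⟨-, ⟨k, ⟨A, B, hAB⟩, rfl⟩, rfl⟩
  refine ⟨_, ⟨glReindex (Equiv.prodComm (Fin d) (Fin m)) k, ⟨B, A, ?_⟩, rfl⟩, ?_⟩
  · show Matrix.reindexAlgEquiv F F _ (k : Matrix (Fin d × Fin m) (Fin d × Fin m) F) = _
    rw [hAB]
    ext p q
    simp [mul_comm]
  · congr 1

theorem tensorProductSubgroup_le_wreath {d : ℕ} (e : ι ≃ Fin d × Fin d) (P : GL ι F) :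
    tensorProductSubgroup d d e P ≤
      tensorWreathSubgroup d 2 (e.trans (finTwoArrowEquiv (Fin d)).symm) P := by
  rintro _ ⟨-, ⟨k, ⟨A, B, hAB⟩, rfl⟩, rfl⟩
  refine ⟨_, ⟨glReindex (finTwoArrowEquiv (Fin d)).symm k, Subgroup.subset_closure (.inl ⟨![A, B], ?_⟩), rfl⟩, ?_⟩
  · intro x y
    show Matrix.reindexAlgEquiv F F _ (k : Matrix (Fin d × Fin d) (Fin d × Fin d) F) x y = _
    rw [hAB]
    simp [Fin.prod_univ_two]
  · congr 1

/-- The stabiliser of a tensor power of planes consists of similitudes of the product of the alternating forms. -/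
theorem le_similitude_of_wreath_two {t : ℕ} (ht : 2 ≤ t) (e : ι ≃ (Fin t → Fin 2)) (P : GL ι F) :
    ((2 : F) = 0 ∨ Odd t) ∧ (∃ f : (ι → F) → (ι → F) → F, IsSymplecticForm f ∧
        tensorWreathSubgroup 2 t e P ≤ similarityGroup f) ∨
    (((2 : F) ≠ 0 ∧ Even t) ∧ ∃ Q : (ι → F) → F, IsNondegenerateQuadraticForm Q ∧
        tensorWreathSubgroup 2 t e P ≤ quadSimilarityGroup Q) := by
  classical
  let J : Matrix ι ι F := Matrix.reindexAlgEquiv F F e.symm (AschU.altPow t)
  obtain ⟨s, hs⟩ : ∃ s, s = (-1 : F) ^ t := ⟨_, rfl⟩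
  have hs0 : s ≠ 0 := hs ▸ pow_ne_zero t (neg_ne_zero.2 one_ne_zero)
  have hJT : Jᵀ = s • J := by
    ext i j
    have := congrFun (congrFun (AschU.altPow_transpose (F := F) t) (e i)) (e j)
    simpa [J, hs] using this
  have hJdiag : ∀ i, J i i = 0 := fun i => by
    simpa [J] using AschU.altPow_diag (F := F) (by omega : 0 < t) (e i)
  have hJJ : J * J = s • 1 := by
    simp only [J, ← map_mul, AschU.altPow_sq, map_smul, map_one, hs]
  let f : (ι → F) → (ι → F) → F := fun u v =>
    (((P⁻¹ : GL ι F) : Matrix ι ι F) *ᵥ u) ⬝ᵥ (J *ᵥ (((P⁻¹ : GL ι F) : Matrix ι ι F) *ᵥ v))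
  have hbil : IsBilinearForm f :=
    ⟨fun x y v => by simp [f, mulVec_add, add_dotProduct],
      fun c x v => by simp [f, mulVec_smul],
      fun v x y => by simp [f, mulVec_add, dotProduct_add],
      fun c v x => by simp [f, mulVec_smul]⟩
  have hsym : ∀ u v, f u v = s * f v u := fun u v => by
    simp only [f]
    generalize ((P⁻¹ : GL ι F) : Matrix ι ι F) *ᵥ u = a
    generalize ((P⁻¹ : GL ι F) : Matrix ι ι F) *ᵥ v = b
    rw [dotProduct_mulVec, dotProduct_comm, ← mulVec_transpose, hJT, smul_mulVec, dotProduct_smul,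
      smul_eq_mul]
  have hnd : IsNondegenerateForm f := by
    intro v hv
    have hw : J *ᵥ (((P⁻¹ : GL ι F) : Matrix ι ι F) *ᵥ v) ≠ 0 := fun h0 => by
      have h1 := congrArg (fun z => (P : Matrix ι ι F) *ᵥ (J *ᵥ z)) h0
      rw [mulVec_mulVec _ J J, hJJ, smul_mulVec, one_mulVec, mulVec_smul, mulVec_mulVec, ← Units.val_mul,
        mul_inv_cancel, Units.val_one, one_mulVec, mulVec_zero, mulVec_zero] at h1
      exact hv ((smul_eq_zero.1 h1).resolve_left hs0)
    obtain ⟨i, hi⟩ := Function.ne_iff.1 hw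
    obtain ⟨x, hx⟩ : ∃ x, f x v ≠ 0 := ⟨(P : Matrix ι ι F) *ᵥ Pi.single i 1, by
      simp only [f]
      rw [mulVec_mulVec (Pi.single i (1 : F)), ← Units.val_mul, inv_mul_cancel, Units.val_one, one_mulVec]
      simpa using hi⟩
    exact ⟨⟨x, hx⟩, x, fun h => hx (by rw [hsym, h, mul_zero])⟩
  have hsim : tensorWreathSubgroup 2 t e P ≤ similarityGroup f := by
    rintro _ ⟨-, ⟨k, hk, rfl⟩, rfl⟩
    obtain ⟨c, hc0, hc⟩ := AschU.altPow_similitude hk
    refine ⟨Units.mk0 c hc0, fun u v => ?_⟩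
    set K : Matrix ι ι F := Matrix.reindexAlgEquiv F F e.symm (k : Matrix (Fin t → Fin 2) (Fin t → Fin 2) F)
    have hK : Kᵀ * J * K = c • J := by
      have := congrArg (Matrix.reindexAlgEquiv F F e.symm) hc
      rwa [map_mul, map_mul, map_smul,
        show Matrix.reindexAlgEquiv F F e.symm (k : Matrix (Fin t → Fin 2) (Fin t → Fin 2) F)ᵀ = Kᵀ from
          rfl] at this
    have hconj : ∀ w, ((P⁻¹ : GL ι F) : Matrix ι ι F) *ᵥ
        (((P * glReindex e.symm k * P⁻¹ : GL ι F) : Matrix ι ι F) *ᵥ w) =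
        K *ᵥ (((P⁻¹ : GL ι F) : Matrix ι ι F) *ᵥ w) := fun w => by
      rw [mulVec_mulVec, mulVec_mulVec, ← Units.val_mul, mul_assoc P, inv_mul_cancel_left, Units.val_mul]
      rfl
    show f (((P * glReindex e.symm k * P⁻¹ : GL ι F) : Matrix ι ι F) *ᵥ u)
      (((P * glReindex e.symm k * P⁻¹ : GL ι F) : Matrix ι ι F) *ᵥ v) = c * f u v
    simp only [f, hconj]
    generalize ((P⁻¹ : GL ι F) : Matrix ι ι F) *ᵥ u = a
    generalize ((P⁻¹ : GL ι F) : Matrix ι ι F) *ᵥ v = b
    rw [mulVec_mulVec, dotProduct_mulVec, ← vecMul_transpose, vecMul_vecMul, ← mul_assoc, hK,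
      ← dotProduct_mulVec, smul_mulVec, dotProduct_smul, smul_eq_mul]
  by_cases hcase : (2 : F) = 0 ∨ Odd t
  · have hs1 : s = -1 := by
      rcases hcase with h | h
      · have h1 : (-1 : F) = 1 := by linear_combination -h
        rw [hs, h1, one_pow]
      · rw [hs, h.neg_one_pow]
    have hskew : ∀ u v, f u v = - f v u := fun u v => by rw [hsym, hs1, neg_one_mul]
    refine .inl ⟨hcase, f, ⟨hbil, hskew, fun v => ?_, hnd⟩, hsim⟩
    have key : ∀ (S : Finset ι) (a : ι → F),
        (∑ i ∈ S, a i • (Pi.single i 1 : ι → F)) ⬝ᵥ (J *ᵥ ∑ i ∈ S, a i • (Pi.single i 1 : ι → F)) = 0 := by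
      intro S a
      induction S using Finset.induction with
      | empty => simp
      | insert i S hi ih =>
        rw [Finset.sum_insert hi, mulVec_add, add_dotProduct, dotProduct_add, dotProduct_add, ih, add_zero]
        generalize ∑ i ∈ S, a i • (Pi.single i 1 : ι → F) = b
        have h1 : (a i • (Pi.single i 1 : ι → F)) ⬝ᵥ (J *ᵥ (a i • (Pi.single i 1 : ι → F))) = 0 := by
          simp [mulVec_smul, mulVec_single_one, hJdiag]
        rw [h1, zero_add, dotProduct_mulVec b, dotProduct_comm _ (a i • _), ← mulVec_transpose, hJT, hs1,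
          smul_mulVec, dotProduct_smul, neg_one_smul, add_neg_cancel]
    show (((P⁻¹ : GL ι F) : Matrix ι ι F) *ᵥ v) ⬝ᵥ (J *ᵥ (((P⁻¹ : GL ι F) : Matrix ι ι F) *ᵥ v)) = 0
    rw [pi_eq_sum_univ' (((P⁻¹ : GL ι F) : Matrix ι ι F) *ᵥ v)]
    exact key _ _
  · rw [not_or, Nat.not_odd_iff_even] at hcase
    have hs1 : s = 1 := by rw [hs, hcase.2.neg_one_pow]
    have hsymm : ∀ u v, f u v = f v u := fun u v => by rw [hsym, hs1, one_mul]
    have hpol : ∀ u v, QuadraticMap.polar (fun x => f x x) u v = 2 * f u v := fun u v => by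
      simp only [QuadraticMap.polar, hbil.add_left, hbil.add_right, hsymm v u]
      ring
    refine .inr ⟨hcase, fun x => f x x, ⟨fun c v => ?_, ?_, ?_⟩, fun g hg => ?_⟩
    · rw [hbil.smul_left, hbil.smul_right]; ring
    · exact ⟨fun x y v => by simp only [hpol, hbil.add_left, mul_add],
        fun c x v => by simp only [hpol, hbil.smul_left]; ring,
        fun v x y => by simp only [hpol, hbil.add_right, mul_add],
        fun c v x => by simp only [hpol, hbil.smul_right]; ring⟩
    · intro v hv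
      obtain ⟨⟨x, hx⟩, ⟨y, hy⟩⟩ := hnd v hv
      exact ⟨⟨x, by rw [hpol]; exact mul_ne_zero hcase.1 hx⟩, y, by rw [hpol]; exact mul_ne_zero hcase.1 hy⟩
    · obtain ⟨c, hc⟩ := hsim hg
      exact ⟨c, fun v => hc v v⟩

/-- Over two elements a tensor factor of dimension two gives a quadratic field of matrices. -/
theorem exists_field_of_tensor_two [Fintype F] (hq : Fintype.card F = 2) {m : ℕ} (e : ι ≃ Fin 2 × Fin m)
    (hm : 0 < m) (P : GL ι F) :
    ∃ K : Subalgebra F (Matrix ι ι F), IsFieldSubalgebra 2 K ∧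
      tensorProductSubgroup 2 m e P ≤ subalgebraNormalizer K := by
  classical
  have h20 : (2 : F) = 0 := by
    have := Nat.cast_card_eq_zero F
    rw [hq] at this
    exact_mod_cast this
  have h11 : (1 : F) + 1 = 0 := by rw [one_add_one_eq_two, h20]
  have hF : ∀ x : F, x = 0 ∨ x = 1 := fun x => by
    by_cases h : x = 0
    · exact .inl h
    · right
      have := FiniteField.pow_card_sub_one_eq_one x h
      simpa [hq] using this
  let T : Matrix (Fin 2) (Fin 2) F := !![0, 1; 1, 1]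
  let φ : Matrix (Fin 2) (Fin 2) F →ₐ[F] Matrix ι ι F :=
    (Aschbacher.cj P).toAlgHom.comp ((Matrix.reindexAlgEquiv F F e.symm).toAlgHom.comp (AschU.kronHom m))
  have hT2 : T * T = T + 1 := by
    ext i j
    fin_cases i <;> fin_cases j <;> simp [T, Matrix.mul_apply, Fin.sum_univ_two, h11]
  set U := φ T
  have hU2 : U * U = U + 1 := by simp only [U, ← map_mul, hT2, map_add, map_one]
  have hUns : ∀ c : F, U ≠ c • 1 := by
    intro c hc
    have h1 : φ T = φ (c • 1) := by rw [map_smul, map_one]; exact hc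
    haveI : Nonempty ι := ⟨e.symm (0, ⟨0, hm⟩)⟩
    have h2 := congrFun (congrFun (φ.toRingHom.injective h1) 0) 1
    simp [T] at h2
  let K : Subalgebra F (Matrix ι ι F) :=
    { carrier := {x | ∃ a b : F, x = a • 1 + b • U}
      zero_mem' := ⟨0, 0, by simp⟩
      one_mem' := ⟨1, 0, by simp⟩
      add_mem' := by
        rintro _ _ ⟨a, b, rfl⟩ ⟨c, d, rfl⟩
        exact ⟨a + c, b + d, by simp only [add_smul]; abel⟩
      mul_mem' := by
        rintro _ _ ⟨a, b, rfl⟩ ⟨c, d, rfl⟩
        refine ⟨a * c + b * d, a * d + b * c + b * d, ?_⟩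
        simp only [add_mul, mul_add, smul_mul_assoc, mul_smul_comm, one_mul, mul_one, hU2, smul_add, smul_smul,
          add_smul]
        simp only [mul_comm c, mul_comm d]
        abel
      algebraMap_mem' := fun c => ⟨c, 0, by simp [Algebra.algebraMap_eq_smul_one]⟩ }
  refine ⟨K, ⟨?_, ?_, ?_⟩, ?_⟩
  · rintro _ ⟨a, b, rfl⟩ _ ⟨c, d, rfl⟩
    simp only [add_mul, mul_add, smul_mul_assoc, mul_smul_comm, one_mul, mul_one, smul_smul, smul_add]
    simp only [mul_comm c, mul_comm d]
    abel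
  · rintro _ ⟨a, b, rfl⟩ h0
    have hUU : U * (U + 1) = 1 := by
      rw [mul_add, hU2, mul_one, show U + 1 + U = (1 + 1 : F) • U + 1 by rw [add_smul, one_smul]; abel, h11,
        zero_smul, zero_add]
    have hUU' : (U + 1) * U = 1 := by
      calc (U + 1) * U = U * (U + 1) := by rw [add_mul, mul_add, one_mul, mul_one]
        _ = 1 := hUU
    rcases hF a with rfl | rfl <;> rcases hF b with rfl | rfl
    · simp at h0
    · exact ⟨U + 1, ⟨1, 1, by simp [add_comm]⟩, by simpa using hUU⟩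
    · exact ⟨1, ⟨1, 0, by simp⟩, by simp⟩
    · exact ⟨U, ⟨0, 1, by simp⟩, by simpa [add_comm] using hUU'⟩
  · haveI : Nonempty ι := ⟨e.symm (0, ⟨0, hm⟩)⟩
    let f : F × F → K := fun p => ⟨p.1 • 1 + p.2 • U, p.1, p.2, rfl⟩
    have hf : Function.Bijective f := by
      constructor
      · rintro ⟨a, b⟩ ⟨c, d⟩ h
        have h1 : (b - d) • U = (c - a) • (1 : Matrix ι ι F) := by
          have := congrArg Subtype.val h
          simp only [f] at this
          rw [sub_smul, sub_smul, sub_eq_sub_iff_add_eq_add, add_comm]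
          exact this.trans (add_comm _ _) |>.trans (add_comm _ _)
        by_cases hbd : b = d
        · subst hbd
          rw [sub_self, zero_smul] at h1
          rcases smul_eq_zero.1 h1.symm with h2 | h2
          · rw [sub_eq_zero.1 h2]
          · exact absurd h2 one_ne_zero
        · exact absurd (show U = ((b - d)⁻¹ * (c - a)) • (1 : Matrix ι ι F) by
            rw [← smul_smul, ← h1, smul_smul, inv_mul_cancel₀ (sub_ne_zero.2 hbd), one_smul]) (hUns _)
      · rintro ⟨_, a, b, rfl⟩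
        exact ⟨(a, b), rfl⟩
    have h1 := Nat.card_congr (Equiv.ofBijective f hf)
    rw [Nat.card_prod, Module.natCard_eq_pow_finrank (K := F) (V := K), ← pow_two, Nat.card_eq_fintype_card,
      hq] at h1
    exact (Nat.pow_right_injective le_rfl h1).symm
  · refine Aschbacher.le_subalgebraNormalizer fun g hg => ?_
    obtain ⟨-, ⟨k, ⟨A, B, hAB⟩, rfl⟩, rfl⟩ := hg
    intro x hx
    obtain ⟨a, b, rfl⟩ := hx
    obtain ⟨u, v, huv⟩ : ∃ u v : F, (A : Matrix (Fin 2) (Fin 2) F) * T =
        (u • 1 + v • T) * (A : Matrix (Fin 2) (Fin 2) F) := by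
      have hd : (A : Matrix (Fin 2) (Fin 2) F).det ≠ 0 := ((Matrix.isUnit_iff_isUnit_det _).1 A.isUnit).ne_zero
      rw [Matrix.det_fin_two] at hd
      suffices (A : Matrix (Fin 2) (Fin 2) F) * T = T * (A : Matrix (Fin 2) (Fin 2) F) ∨
          (A : Matrix (Fin 2) (Fin 2) F) * T = (1 + T) * (A : Matrix (Fin 2) (Fin 2) F) by
        rcases this with h | h
        · exact ⟨0, 1, by simpa using h⟩
        · exact ⟨1, 1, by simpa using h⟩
      obtain ⟨M, hM⟩ : ∃ M, M = (A : Matrix (Fin 2) (Fin 2) F) := ⟨_, rfl⟩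
      rw [← hM] at hd ⊢
      simp only [← Matrix.ext_iff, Fin.forall_fin_two, T, Matrix.mul_apply, Fin.sum_univ_two, Matrix.add_apply,
        Matrix.one_apply, Matrix.of_apply, Matrix.cons_val_zero, Matrix.cons_val_one, Fin.isValue,
        zero_ne_one, one_ne_zero, if_true, if_false]
      rcases hF (M 0 0) with h | h <;> rcases hF (M 0 1) with h' | h' <;> rcases hF (M 1 0) with h'' | h'' <;>
        rcases hF (M 1 1) with h''' | h''' <;> simp [h, h', h'', h''', h11] at hd ⊢
    have hgU : Aschbacher.cj (P * glReindex e.symm k * P⁻¹) U = u • 1 + v • U := by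
      show Aschbacher.cj (P * glReindex e.symm k * P⁻¹) (Aschbacher.cj P _) = _
      rw [← Aschbacher.cj_mul, inv_mul_cancel_right, Aschbacher.cj_mul]
      have h1 : Aschbacher.cj (glReindex e.symm k) (Matrix.reindexAlgEquiv F F e.symm (AschU.kronHom m T)) =
          Matrix.reindexAlgEquiv F F e.symm (AschU.kronHom m (u • 1 + v • T)) := by
        rw [Aschbacher.cj_apply, AschU.kronHom_apply, AschU.kronHom_apply, Units.mul_inv_eq_iff_eq_mul]
        show Matrix.reindexAlgEquiv F F e.symm (k : Matrix (Fin 2 × Fin m) (Fin 2 × Fin m) F) * _ =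
          _ * Matrix.reindexAlgEquiv F F e.symm (k : Matrix (Fin 2 × Fin m) (Fin 2 × Fin m) F)
        rw [← map_mul, ← map_mul, hAB, ← Matrix.mul_kronecker_mul, ← Matrix.mul_kronecker_mul, one_mul, mul_one, huv]
      exact (congrArg (Aschbacher.cj P) h1).trans (by simp [U, φ, map_add, map_smul])
    refine ⟨a + b * u, b * v, ?_⟩
    rw [map_add, map_smul, map_smul, map_one]
    show a • 1 + b • Aschbacher.cj (P * glReindex e.symm k * P⁻¹) U = _
    rw [hgU, smul_add, smul_smul, smul_smul, add_smul]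
    abel

end CfsgLib.AschPrime
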