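import Cfsg.Agent.Lib.Aschbacher.SLNotLe
import Cfsg.Agent.Lib.Aschbacher.SLTensor
import Cfsg.Agent.Lib.Aschbacher.MaximalSL
import Cfsg.Agent.Lib.Aschbacher.Main
import Cfsg.Agent.Lib.Aschbacher.SympForms
import Cfsg.Agent.Lib.Aschbacher.OrthField

/-!
Maximal subgroups of `SL_n(q)` in composite dimension: the cases, before the exclusions for small fields.
-/

set_option autoImplicit false
set_option linter.unusedSectionVars false
set_option linter.style.haveILetI false

namespace CfsgLib.AschPrime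

open Matrix Cfsg.Geo
open scoped MatrixGroups

variable {F : Type*} [Field F] [Fintype F] {n : ℕ}

theorem card_eq_mul_of_decomposition {t m : ℕ} {D : Fin t → Submodule F (Fin n → F)}
    (hD : IsMDecomposition m D) : t * m = n := by
  obtain ⟨ψ, -⟩ := CfsgLib.MaxSub.Decomp.exists_coord hD
  have h := ψ.finrank_eq
  rw [Module.finrank_fintype_fun_eq_card, Fintype.card_fin, Module.finrank_pi_fintype F] at h
  simpa using h.symm

theorem isSymplectic_polar {ι : Type} [Fintype ι] [DecidableEq ι] (h2 : (2 : F) = 0) {Q : (ι → F) → F}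
    (hQ : IsNondegenerateQuadraticForm Q) : IsSymplecticForm (QuadraticMap.polar Q) := by
  refine ⟨hQ.polar_bilinear, fun v w => ?_, fun v => ?_, hQ.nondegenerate⟩
  · rw [QuadraticMap.polar_comm Q w v]
    linear_combination (QuadraticMap.polar Q v w) * h2
  · rw [QuadraticMap.polar, ← two_smul F v, hQ.smul]
    linear_combination (2 * Q v - Q v) * h2

theorem small_sympType {N z q : ℕ} (hN : 4 ≤ N) (hz : (z = 3 ∧ 4 ≤ q) ∨ (z = 4 ∧ 5 ≤ q)) :
    z * N ^ 2 < q ^ (N - 1) := by
  have hb : ∀ N, 4 ≤ N → 3 * N ^ 2 < 4 ^ (N - 1) ∧ 4 * N ^ 2 < 5 ^ (N - 1) := by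
    intro N hN
    induction N, hN using Nat.le_induction with
    | base => norm_num
    | succ N hN ih =>
      obtain ⟨k, rfl⟩ : ∃ k, N = k + 1 := ⟨N - 1, by omega⟩
      simp only [Nat.add_sub_cancel] at ih ⊢
      rw [pow_succ 4, pow_succ 5]
      constructor <;> nlinarith
  rcases hz with ⟨rfl, hq⟩ | ⟨rfl, hq⟩
  · exact (hb N hN).1.trans_le (Nat.pow_le_pow_left hq _)
  · exact (hb N hN).2.trans_le (Nat.pow_le_pow_left hq _)

set_option maxHeartbeats 2000000 in
/-- The maximal subgroups of `SL_n(q)`; the imprimitive and tensor cases still without small-field exclusions. -/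
theorem maximal_sl_general (hn : 4 ≤ n) (hr : ∀ r m : ℕ, r.Prime → r ^ m = n → r = 2 ∨ r = 3)
    (H : Subgroup (GL (Fin n) F)) (hH : IsMaximalIn (specialLinear (Fin n) F) H) :
    (∃ W : Submodule F (Fin n → F), W ≠ ⊥ ∧ W ≠ ⊤ ∧ H = subspaceStabilizer W ⊓ specialLinear (Fin n) F) ∨
    (∃ (t m : ℕ) (D : Fin t → Submodule F (Fin n → F)), t * m = n ∧ IsMDecomposition m D ∧
      ActsIrreducibly (matrixSet H) ∧ H ≤ decompositionStabilizer D) ∨
    (∃ (r : ℕ) (K : Subalgebra F (Matrix (Fin n) (Fin n) F)), r.Prime ∧ r ∣ n ∧ IsFieldSubalgebra r K ∧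
      H = subalgebraNormalizer K ⊓ specialLinear (Fin n) F) ∨
    (∃ (d m : ℕ) (e : Fin n ≃ Fin d × Fin m) (P : GL (Fin n) F), 2 ≤ d ∧ d < m ∧
      H ≤ tensorProductSubgroup d m e P) ∨
    (∃ (d t : ℕ) (e : Fin n ≃ (Fin t → Fin d)) (P : GL (Fin n) F), 2 ≤ d ∧ 2 ≤ t ∧
      H ≤ tensorWreathSubgroup d t e P) ∨
    (∃ (F₀ : Subfield F) (r : ℕ) (P : GL (Fin n) F), r.Prime ∧ Fintype.card F = Nat.card F₀ ^ r ∧
      H = subfieldSubgroup F₀ P ⊓ specialLinear (Fin n) F) ∨
    (∃ (r m p : ℕ) (R : Subgroup (GL (Fin n) F)), r ^ m = n ∧ p.Prime ∧ Fintype.card F = p ∧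
      ((r = 2 ∧ p % 4 = 1) ∨ (r = 3 ∧ p % 3 = 1)) ∧ IsLinearSymplecticTypeData r R ∧
      H = subgroupNormalizer R ⊓ specialLinear (Fin n) F) ∨
    (Odd (Fintype.card F) ∧ ∃ Q : (Fin n → F) → F, IsNondegenerateQuadraticForm Q ∧
      H = quadSimilarityGroup Q ⊓ specialLinear (Fin n) F) ∨
    (∃ f : (Fin n → F) → (Fin n → F) → F, IsSymplecticForm f ∧
      H = similarityGroup f ⊓ specialLinear (Fin n) F) ∨
    (∃ (σ : F ≃+* F) (f : (Fin n → F) → (Fin n → F) → F), IsUnitaryForm σ f ∧
      H = similarityGroup f ⊓ specialLinear (Fin n) F) ∨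
    InLinearResidualClass H := by
  classical
  have hcard : Fintype.card (Fin n) = n := Fintype.card_fin n
  have h3 : 3 ≤ Fintype.card (Fin n) := by omega
  haveI : Nonempty (Fin n) := ⟨⟨0, by omega⟩⟩
  by_cases hirr : ActsIrreducibly (matrixSet H)
  swap
  · obtain ⟨W, hW, h0, h1⟩ : ∃ W : Submodule F (Fin n → F), (∀ s ∈ matrixSet H, W.map (Matrix.toLin' s) ≤ W) ∧
        W ≠ ⊥ ∧ W ≠ ⊤ := by
      simpa only [ActsIrreducibly, not_forall, not_or, exists_prop, ne_eq] using hirr
    refine .inl ⟨W, h0, h1, eq_inf_of_maximal hH (fun g hg => ?_) (not_le_subspaceStabilizer h0 h1)⟩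
    exact CfsgLib.MaxSub.mem_subspaceStabilizer_of_maps (mapsTo_iff_map_le.1 (hW _ (mem_matrixSet hg)))
  right
  have hsubf : ∀ {F₁ : Subfield F} {r : ℕ} {P : GL (Fin n) F}, r.Prime → Fintype.card F = Nat.card F₁ ^ r →
      H ≤ subfieldSubgroup F₁ P → H = subfieldSubgroup F₁ P ⊓ specialLinear (Fin n) F := by
    intro F₁ r P hr hc hle
    refine eq_inf_of_maximal hH hle (not_le_subfieldSubgroup h3 (fun e => ?_) P)
    rw [e, Nat.card_congr Subfield.topEquiv.toEquiv, Nat.card_eq_fintype_card] at hc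
    have := Nat.pow_lt_pow_right (Fintype.one_lt_card (α := F)) hr.one_lt
    rw [← hc, pow_one] at this
    exact lt_irrefl _ this
  have hunit : ∀ {σ : F ≃+* F} {f : (Fin n → F) → (Fin n → F) → F}, IsUnitaryForm σ f → H ≤ similarityGroup f →
      ∃ (σ : F ≃+* F) (f : (Fin n → F) → (Fin n → F) → F), IsUnitaryForm σ f ∧
        H = similarityGroup f ⊓ specialLinear (Fin n) F := fun {σ f} hf hle =>
    ⟨σ, f, hf, eq_inf_of_maximal hH hle (not_le_similarityGroup h3 hf.isSesqForm hf.nondegenerate)⟩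
  have hsymp : ∀ {f : (Fin n → F) → (Fin n → F) → F}, IsSymplecticForm f → H ≤ similarityGroup f →
      ∃ f : (Fin n → F) → (Fin n → F) → F, IsSymplecticForm f ∧
        H = similarityGroup f ⊓ specialLinear (Fin n) F := fun {f} hf hle =>
    ⟨f, hf, eq_inf_of_maximal hH hle (not_le_similarityGroup h3 hf.bilinear.isSesqForm hf.nondegenerate)⟩
  have hquad : ∀ {Q : (Fin n → F) → F}, (2 : F) ≠ 0 → IsNondegenerateQuadraticForm Q → H ≤ quadSimilarityGroup Q →
      Odd (Fintype.card F) ∧ ∃ Q : (Fin n → F) → F, IsNondegenerateQuadraticForm Q ∧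
        H = quadSimilarityGroup Q ⊓ specialLinear (Fin n) F := fun {Q} h2 hQ hle =>
    ⟨by
      obtain ⟨p, hp⟩ := CharP.exists F
      obtain ⟨k, hpp, hk⟩ := FiniteField.card F p
      rw [hk]
      refine (hpp.odd_of_ne_two ?_).pow
      rintro rfl
      exact h2 (by exact_mod_cast CharP.cast_eq_zero F 2),
     Q, hQ, eq_inf_of_maximal hH hle (not_le_quadSimilarityGroup h3 hQ)⟩
  have hGirr : ActsIrreducibly (matrixSet (H ⊔ scalars (Fin n) F)) := fun W hW =>
    hirr W fun s hs => hW s (Set.image_mono (le_sup_left : H ≤ H ⊔ scalars (Fin n) F) hs)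
  rcases Aschbacher.core (by omega) hGirr le_sup_right with
    ⟨L, -, -, t, E, hE⟩ | ⟨L, -, hLn, hinv, hdim⟩ | ⟨L, -, -, d, m, e, P, hd, hm, -, hle⟩ |
    ⟨t, d, L, -, -, -, e, P, ht, hd, -, hle, -⟩ | ⟨r, m, R, -, hRn, hdata⟩ | ⟨P, hP⟩
  · obtain ⟨m, hD⟩ := hE.isMDecomposition
    exact .inl ⟨t, m, _, card_eq_mul_of_decomposition hD, hD, hirr, le_sup_left.trans hE.le_stabilizer⟩
  · -- a field of matrices
    set K₀ := Aschbacher.centreOf (Aschbacher.alg L)
    have hcomm : ∀ x ∈ K₀, ∀ y ∈ K₀, x * y = y * x := fun x hx y hy => Aschbacher.commute_centreOf hx hy.1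
    obtain ⟨K, -, hK, hle⟩ := Aschbacher.exists_prime_subfield hcomm hinv
      (Aschbacher.inv_centreOf (Aschbacher.inv_alg hLn)) hdim (Nat.minFac_prime (by omega)) (Nat.minFac_dvd _)
    have hdvd : (Module.finrank F K₀).minFac ∣ n :=
      (Nat.minFac_dvd _).trans ((Aschbacher.Orth.finrank_dvd_card hcomm hinv).trans hcard.dvd)
    exact .inr (.inl ⟨_, K, Nat.minFac_prime (by omega), hdvd, hK, eq_inf_of_maximal hH (le_sup_left.trans hle)
      (not_le_subalgebraNormalizer h3 (Nat.minFac_prime (by omega)).ne_one hK)⟩)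
  · -- tensor products
    have hle' : H ≤ tensorProductSubgroup d m e P := le_sup_left.trans hle
    rcases lt_trichotomy d m with h | h | h
    · exact .inr (.inr (.inl ⟨d, m, e, P, hd, h, hle'⟩))
    · subst h
      exact .inr (.inr (.inr (.inl ⟨d, 2, _, P, hd, le_rfl, hle'.trans (tensorProductSubgroup_le_wreath e P)⟩)))
    · exact .inr (.inr (.inl ⟨m, d, _, P, hm, h, hle'.trans (tensorProductSubgroup_le_swap e P)⟩))
  · exact .inr (.inr (.inr (.inl ⟨d, t, e, P, hd, ht, le_sup_left.trans hle⟩)))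
  · -- symplectic type
    have hrn : r ^ m = n := by rw [← hdata.card_index, hcard]
    set z := Nat.card (Subgroup.center R) with hzdef
    by_cases hz2 : z = 2
    · have hr2 : r = 2 := by
        rcases hdata.center_cases with ⟨ho, h⟩ | ⟨h, -⟩
        · rw [← hzdef, hz2] at h
          exact h.symm
        · exact h
      have h2 : (2 : F) ≠ 0 := by
        have := hdata.cast_ne_zero
        rw [hr2] at this
        exact_mod_cast this
      obtain ⟨f, hf, hnd, hfix, hcase⟩ := hdata.exists_fixed_form (RingEquiv.refl F) (fun a => rfl) (fun ζ hζ => by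
        rw [← hzdef, hz2, pow_two] at hζ
        exact eq_inv_of_mul_eq_one_left hζ)
      have hsim : H ≤ similarityGroup f :=
        le_sup_left.trans (Aschbacher.le_similarityGroup_of_fixes hRn hdata.alg_top hf hnd hfix)
      rcases hcase with ⟨-, hsym | hs⟩ | hu
      · have hpol : ∀ u v, QuadraticMap.polar (fun x => f x x) u v = 2 * f u v := fun u v => by
          simp only [QuadraticMap.polar, hf.add_left, hf.add_right, hsym v u]
          ring
        refine .inr (.inr (.inr (.inr (.inr (.inr (.inl (hquad (Q := fun x => f x x) h2 ⟨fun c v => ?_, ?_, ?_⟩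
          fun g hg => ?_)))))))
        · rw [hf.smul_left, hf.smul_right, RingEquiv.refl_apply]; ring
        · exact ⟨fun x y v => by simp only [hpol, hf.add_left, mul_add],
            fun c x v => by simp only [hpol, hf.smul_left]; ring,
            fun v x y => by simp only [hpol, hf.add_right, mul_add],
            fun c v x => by simp only [hpol, hf.smul_right, RingEquiv.refl_apply]; ring⟩
        · intro v hv
          obtain ⟨⟨x, hx⟩, ⟨y, hy⟩⟩ := hnd v hv
          exact ⟨⟨x, by rw [hpol]; exact mul_ne_zero h2 hx⟩, y, by rw [hpol]; exact mul_ne_zero h2 hy⟩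
        · obtain ⟨c, hc⟩ := hsim hg
          exact ⟨c, fun v => hc v v⟩
      · exact .inr (.inr (.inr (.inr (.inr (.inr (.inr (.inl (hsymp hs hsim))))))))
      · exact .inr (.inr (.inr (.inr (.inr (.inr (.inr (.inr (.inl (hunit hu hsim)))))))))
    have hz : (z = 3 ∧ r = 3) ∨ (z = 4 ∧ r = 2) := by
      rcases hdata.center_cases with ⟨ho, h⟩ | ⟨h, h'⟩
      · rcases hr r m hdata.symplecticType.prime hrn with e | e
        · exact absurd (e ▸ ho) (by decide)
        · exact .inl ⟨hzdef.trans (h.trans e), e⟩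
      · exact .inr ⟨(hzdef.trans (h'.resolve_left (fun e => hz2 (hzdef.trans e)))), h⟩
    have hzq : z ∣ Fintype.card F - 1 := by
      rw [hzdef, hdata.card_center, ← Nat.card_eq_fintype_card]
      exact Nat.gcd_dvd_right _ _
    obtain ⟨p, hp⟩ := CharP.exists F
    obtain ⟨⟨e, he0⟩, hpp, hk⟩ := FiniteField.card F p
    change Fintype.card F = p ^ e at hk
    haveI := Fact.mk hpp
    have hrp : r ≠ p := by
      rintro rfl
      exact hdata.cast_ne_zero (CharP.cast_eq_zero F _)
    rw [hk] at hzq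
    by_cases hmin : ∀ d, 0 < d → d < e → ¬ z ∣ p ^ d - 1
    swap
    · push Not at hmin
      obtain ⟨d, hd0, hde, hd⟩ := hmin
      set g := Nat.gcd d e
      have hg : z ∣ p ^ g - 1 := by
        rw [← Nat.pow_sub_one_gcd_pow_sub_one]
        exact Nat.dvd_gcd hd hzq
      have hg0 : 0 < g := Nat.gcd_pos_of_pos_left _ hd0
      have hge : g < e := (Nat.gcd_le_left _ hd0).trans_lt hde
      obtain ⟨s, hs⟩ := Nat.gcd_dvd_right d e
      obtain ⟨F₀, hF₀, -⟩ := Aschbacher.exists_subfield_card (F := F) (Q := p ^ g) (k := s)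
        (Nat.one_lt_pow hg0.ne' hpp.one_lt) (by rw [hk, ← pow_mul, ← hs])
      have hne : F₀ ≠ ⊤ := fun e' => by
        rw [e', Nat.card_congr Subfield.topEquiv.toEquiv, Nat.card_eq_fintype_card, hk] at hF₀
        exact hge.ne' (Nat.pow_right_injective hpp.two_le hF₀)
      obtain ⟨F₁, r', P', -, hr', hc', hle, -⟩ := Aschbacher.le_subfield_of_realisable hRn hdata.alg_top hne
        (hdata.realisable (by rw [← hzdef, hF₀]; exact hg))
      exact .inr (.inr (.inr (.inr (.inl ⟨F₁, r', P', hr', hc', hsubf hr' hc' (le_sup_left.trans hle)⟩))))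
    have hpz : (z = 3 ∧ (p % 3 = 1 ∨ p % 3 = 2)) ∨ (z = 4 ∧ (p % 4 = 1 ∨ p % 4 = 3)) := by
      rcases hz with ⟨h, h'⟩ | ⟨h, h'⟩
      · refine .inl ⟨h, ?_⟩
        have h3p : ¬ 3 ∣ p := fun hd =>
          hrp (h'.trans ((Nat.prime_dvd_prime_iff_eq Nat.prime_three hpp).1 hd))
        omega
      · refine .inr ⟨h, ?_⟩
        have := hpp.odd_of_ne_two (fun hd => hrp (h'.trans hd.symm))
        rw [Nat.odd_iff] at this
        omega
    have hsq : z ∣ p ^ 2 - 1 := by
      rw [← Nat.modEq_iff_dvd' (Nat.one_le_pow 2 p hpp.pos)]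
      rcases hpz with ⟨h, h' | h'⟩ | ⟨h, h' | h'⟩ <;> simp [Nat.ModEq, h, Nat.pow_mod, h']
    have he2 : e = 1 ∨ e = 2 := by
      by_contra hc
      exact hmin 2 two_pos (by omega) hsq
    rcases he2 with rfl | rfl
    · -- the listed normaliser
      rw [pow_one] at hk hzq
      have hp1 : (r = 2 ∧ p % 4 = 1) ∨ (r = 3 ∧ p % 3 = 1) := by
        rcases hz with ⟨h, h'⟩ | ⟨h, h'⟩
        · right
          rw [h] at hzq
          exact ⟨h', by have := hpp.two_le; omega⟩
        · left
          rw [h] at hzq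
          exact ⟨h', by have := hpp.two_le; omega⟩
      refine .inr (.inr (.inr (.inr (.inr (.inl ⟨r, m, p, R, hrn, hpp, hk, hp1, ⟨hdata.symplecticType,
        Aschbacher.absIrred_of_alg_top hdata.alg_top, p, 1, hrp, ⟨hpp, hp, by rw [hk, pow_one], by
          rw [pow_one]; exact hzq, fun d h1 h2 => by omega⟩, ?_⟩, ?_⟩)))))
      · rcases hz with ⟨h, h'⟩ | ⟨h, h'⟩
        · refine .inl ⟨by rw [h']; decide, odd_one, by rw [← hzdef, h, h'], m, hdata.one_le, ?_⟩
          rw [hdata.card_eq, ← hzdef, h, h', Nat.one_add, pow_succ']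
        · refine .inr (.inl ⟨h', rfl, by rw [← hzdef, h], by omega, m, ?_⟩)
          rw [hdata.card_eq, ← hzdef, h, h', pow_add]
          norm_num
      · refine eq_inf_of_maximal hH (le_subgroupNormalizer fun g hg => hRn g (Subgroup.mem_sup_left hg)) ?_
        refine not_le_normalizer_of_small (fun hle => Aschbacher.not_commutative_alg_top (by omega) hdata.alg_top
          fun x hx y _ => Aschbacher.scalars_commute (hle hx) y) ?_
        rw [hdata.card_eq, ← hzdef, hcard, mul_comm 2 m, pow_mul, hrn, hk]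
        refine small_sympType hn ?_
        rcases hz with ⟨h, h'⟩ | ⟨h, h'⟩
        · exact .inl ⟨h, by rcases hp1 with hp1 | hp1 <;> have := hpp.two_le <;> omega⟩
        · exact .inr ⟨h, by rcases hp1 with hp1 | hp1 <;> have := hpp.two_le <;> omega⟩
    · -- a unitary form
      haveI : ExpChar F p := ExpChar.prime hpp
      let σ : F ≃+* F := iterateFrobeniusEquiv F p 1
      have hσ : ∀ x, σ x = x ^ p := fun x => (iterateFrobeniusEquiv_def F p 1 x).trans (by rw [pow_one])
      have hn1 : ¬ z ∣ p - 1 := by simpa using hmin 1 one_pos one_lt_two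
      have hplus : z ∣ p + 1 := by
        rcases hpz with ⟨h, h'⟩ | ⟨h, h'⟩ <;> rw [h] at hn1 ⊢ <;> have := hpp.two_le <;> omega
      obtain ⟨f, hf, hnd, hfix, hcase⟩ := hdata.exists_fixed_form σ
        (fun a => by rw [hσ, hσ, ← pow_mul, ← pow_two, ← hk]; exact FiniteField.pow_card a)
        (fun ζ hζ => by
          rw [hσ]
          refine eq_inv_of_mul_eq_one_left ?_
          rw [← pow_succ]
          obtain ⟨k, hk'⟩ := hplus
          rw [hk', pow_mul, hzdef, hζ, one_pow])
      have hsim : H ≤ similarityGroup f :=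
        le_sup_left.trans (Aschbacher.le_similarityGroup_of_fixes hRn hdata.alg_top hf hnd hfix)
      rcases hcase with ⟨hσe, -⟩ | hu
      · exfalso
        obtain ⟨g, hg⟩ := IsCyclic.exists_generator (α := Fˣ)
        have h1 : (g : F) ^ p = (g : F) := by rw [← hσ, hσe]; rfl
        have h2 : g ^ p = g := Units.ext (by rw [Units.val_pow_eq_pow_val]; exact h1)
        have h3 : orderOf g ∣ p - 1 := orderOf_dvd_of_pow_eq_one (by
          have := h2
          rw [← Nat.sub_add_cancel hpp.one_lt.le, pow_succ, mul_eq_right] at this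
          exact this)
        rw [orderOf_eq_card_of_forall_mem_zpowers hg, Nat.card_units, Nat.card_eq_fintype_card, hk] at h3
        exact hn1 (hzq.trans h3)
      · exact .inr (.inr (.inr (.inr (.inr (.inr (.inr (.inr (.inl (hunit hu hsim)))))))))
  · -- almost simple
    by_cases hreal : ∃ F₀ : Subfield F, F₀ ≠ ⊤ ∧ RealisableOver F₀ (matrixSet P)
    · obtain ⟨F₀, hF₀, hB⟩ := hreal
      obtain ⟨F₁, r', P', -, hr', hc', hle, -⟩ := Aschbacher.le_subfield_of_realisable hP.normal hP.alg_top hF₀ hB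
      exact .inr (.inr (.inr (.inr (.inl ⟨F₁, r', P', hr', hc', hsubf hr' hc' (le_sup_left.trans hle)⟩))))
    by_cases hu : ∃ (σ : F ≃+* F) (f : (Fin n → F) → (Fin n → F) → F), IsUnitaryForm σ f ∧
        FixesForm (matrixSet P) f
    · obtain ⟨σ, f, hf, hfix⟩ := hu
      exact .inr (.inr (.inr (.inr (.inr (.inr (.inr (.inr (.inl (hunit hf (le_sup_left.trans
        (Aschbacher.le_similarityGroup_of_fixes hP.normal hP.alg_top (Aschbacher.isSesqForm_of_unitary hf)
          hf.nondegenerate hfix)))))))))))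
    by_cases hs : ∃ f : (Fin n → F) → (Fin n → F) → F, IsSymplecticForm f ∧ FixesForm (matrixSet P) f
    · obtain ⟨f, hf, hfix⟩ := hs
      exact .inr (.inr (.inr (.inr (.inr (.inr (.inr (.inl (hsymp hf (le_sup_left.trans
        (Aschbacher.le_similarityGroup_of_fixes hP.normal hP.alg_top (Aschbacher.isSesqForm_of_bilinear hf.bilinear)
          hf.nondegenerate hfix))))))))))
    by_cases hQ : ∃ Q : (Fin n → F) → F, IsNondegenerateQuadraticForm Q ∧ FixesQuadForm (matrixSet P) Q
    · obtain ⟨Q, hQ, hfix⟩ := hQ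
      by_cases h2 : (2 : F) = 0
      · exact absurd ⟨_, isSymplectic_polar h2 hQ, Aschbacher.fixesForm_polar hfix⟩ hs
      · exact .inr (.inr (.inr (.inr (.inr (.inr (.inl (hquad h2 hQ (le_sup_left.trans
          (Aschbacher.le_quadSimilarityGroup_of_fixes hP.normal hP.alg_top (by omega) hQ hfix)))))))))
    exact .inr (.inr (.inr (.inr (.inr (.inr (.inr (.inr (.inr
      ⟨P, hP.residualCore fun F₀ h h' => hreal ⟨F₀, h, h'⟩, hQ, hs, hu⟩))))))))

end CfsgLib.AschPrime
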