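import Cfsg.Agent.Lib.Aschbacher.SmallField
import Cfsg.Agent.Lib.Aschbacher.SympType

/-!
Four lines over five elements: the determinant-one stabiliser normalises a group of symplectic type of order 64.
-/

set_option autoImplicit false
set_option linter.unusedSectionVars false
set_option linter.style.haveILetI false

namespace CfsgLib.AschPrime

open Matrix Cfsg.Geo
open scoped MatrixGroups

/-- bit pairs added -/
def xr (a b : Fin 4) : Fin 4 := ![![0, 1, 2, 3], ![1, 0, 3, 2], ![2, 3, 0, 1], ![3, 2, 1, 0]] a b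

/-- parity of the common bits -/
def bt (a b : Fin 4) : Bool :=
  ![![false, false, false, false], ![false, true, false, true], ![false, false, true, true],
    ![false, true, true, false]] a b

theorem xr_assoc : ∀ a b c, xr (xr a b) c = xr a (xr b c) := by decide
theorem xr_cancel : ∀ a b, xr (xr a b) b = a := by decide
theorem xr_left : ∀ a b, xr a (xr a b) = b := by decide
theorem xr_zero : ∀ a, xr a 0 = a := by decide
theorem zero_xr : ∀ a, xr 0 a = a := by decide
theorem bt_add_left : ∀ u u' i, bt (xr u u') i = (bt u i != bt u' i) := by decide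
theorem bt_add_right : ∀ u i w, bt u (xr i w) = (bt u i != bt u w) := by decide
theorem bt_zero : ∀ u, bt u 0 = false := by decide
theorem zero_bt : ∀ i, bt 0 i = false := by decide
theorem bt_ext : ∀ u u', (∀ i, bt u i = bt u' i) → u = u' := by decide
theorem bt_parity : ∀ b : Fin 4 → Bool, (b 0 != (b 1 != (b 2 != b 3))) = false →
    b 0 = false → ∃ u, ∀ i, bt u i = b i := by decide
theorem xr_perm : ∀ (σ : Equiv.Perm (Fin 4)) (w : Fin 4), ∀ i, xr (σ i) (xr (σ 0) (σ w)) = σ (xr i w) := by
  decide +kernel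

variable {F : Type*} [Field F]

/-- the signs of a character of the bit pairs -/
def sg (u i : Fin 4) : F := if bt u i then -1 else 1

theorem sg_sq (u i : Fin 4) : sg u i * sg u i = (1 : F) := by
  unfold sg; split <;> simp

theorem sg_cases (u i : Fin 4) : sg u i = (1 : F) ∨ sg u i = (-1 : F) := by
  unfold sg; split <;> simp

theorem sg_ne_zero (u i : Fin 4) : sg u i ≠ (0 : F) := fun h => by
  have := sg_sq (F := F) u i
  rw [h, mul_zero] at this
  exact zero_ne_one this

theorem sg_add_left (u u' i : Fin 4) : sg (xr u u') i = (sg u i * sg u' i : F) := by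
  unfold sg; rw [bt_add_left]; cases bt u i <;> cases bt u' i <;> simp

theorem sg_add_right (u i w : Fin 4) : sg u (xr i w) = (sg u i * sg u w : F) := by
  unfold sg; rw [bt_add_right]; cases bt u i <;> cases bt u w <;> simp

theorem sg_zero (u : Fin 4) : sg u 0 = (1 : F) := by simp [sg, bt_zero]

theorem zero_sg (i : Fin 4) : sg 0 i = (1 : F) := by simp [sg, zero_bt]

theorem sg_prod (u : Fin 4) : (∏ i, sg u i : F) = 1 := by
  fin_cases u <;> simp [Fin.prod_univ_four, sg, bt]

theorem sg_sum (m : Fin 4) : (∑ u, sg u m : F) = if m = 0 then 4 else 0 := by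
  fin_cases m <;> simp +decide [Fin.sum_univ_four, sg] <;> ring

theorem sg_orth (k i : Fin 4) : (∑ u, sg u k * sg u i : F) = if i = k then 4 else 0 := by
  have h : ∀ a b : Fin 4, (xr a b = 0) = (b = a) := by decide
  calc (∑ u, sg u k * sg u i : F) = ∑ u, sg u (xr k i) :=
        Finset.sum_congr rfl fun u _ => (sg_add_right u k i).symm
    _ = _ := by rw [sg_sum, if_congr (iff_of_eq (h k i)) rfl rfl]

/-- the vectors with square ratios and product one are multiples of characters -/
theorem exists_char (h2 : (2 : F) ≠ 0) {h : Fin 4 → F} (h0 : h 0 ≠ 0) (h4 : h 0 ^ 4 = 1)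
    (hsq : ∀ i, h i ^ 2 = h 0 ^ 2) (hprod : ∏ i, h i = 1) : ∃ u, ∀ i, h i = h 0 * sg u i := by
  classical
  have hne : (-1 : F) ≠ 1 := fun e => h2 (by linear_combination -e)
  let b : Fin 4 → Bool := fun i => decide (h i ≠ h 0)
  let sb : Bool → F := fun x => if x then -1 else 1
  have hb : ∀ i, h i = h 0 * sb (b i) := fun i => by
    by_cases e : h i = h 0
    · simp [sb, b, e]
    · have := (sq_eq_sq_iff_eq_or_eq_neg.1 (hsq i)).resolve_left e
      simp [sb, b, e, this]
  have hb0 : b 0 = false := by simp [b]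
  have hpar : (b 0 != (b 1 != (b 2 != b 3))) = false := by
    rw [Fin.prod_univ_four, hb 1, hb 2, hb 3] at hprod
    have e : sb (b 0 != (b 1 != (b 2 != b 3))) = 1 := by
      have e' : sb (b 0 != (b 1 != (b 2 != b 3))) = sb (b 1) * sb (b 2) * sb (b 3) := by
        rw [hb0]
        cases b 1 <;> cases b 2 <;> cases b 3 <;> simp [sb]
      rw [e']
      linear_combination hprod - (sb (b 1) * sb (b 2) * sb (b 3)) * h4
    by_contra hc
    rw [Bool.not_eq_false] at hc
    simp [sb, hc, hne] at e
  obtain ⟨u, hu⟩ := bt_parity b hpar hb0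
  refine ⟨u, fun i => ?_⟩
  rw [hb i]
  simp [sb, sg, hu]

variable [Fintype F]

set_option maxHeartbeats 1000000 in
/-- Four lines over five elements. -/
theorem exists_sympType_of_lines_five (hq : Fintype.card F = 5) {D : Fin 4 → Submodule F (Fin 4 → F)}
    (hD : IsMDecomposition 1 D) :
    ∃ R : Subgroup (GL (Fin 4) F), IsLinearSymplecticTypeData 2 R ∧ Nat.card R = 64 ∧
      decompositionStabilizer D ⊓ specialLinear (Fin 4) F ≤ subgroupNormalizer R := by
  classical
  obtain ⟨φ, hφ⟩ := exists_mono_coord hD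
  have hpow : ∀ c : F, c ≠ 0 → c ^ 4 = 1 := fun c hc => by
    have := FiniteField.pow_card_sub_one_eq_one c hc
    rwa [hq] at this
  have hchar : CharP F 5 := by
    obtain ⟨p, hp⟩ := CharP.exists F
    obtain ⟨k, hpp, hk⟩ := FiniteField.card F p
    have h5 : p ∣ 5 := by rw [← hq, hk]; exact dvd_pow_self p k.2.ne'
    rwa [← (Nat.prime_dvd_prime_iff_eq hpp (by norm_num)).1 h5]
  have h2 : (2 : F) ≠ 0 := by
    intro h
    have h' := (CharP.cast_eq_zero_iff F 5 2).1 (by exact_mod_cast h)
    omega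
  have h5 : (5 : F) = 0 := by exact_mod_cast CharP.cast_eq_zero F 5
  -- the operators of the group
  let L : F → Fin 4 → Fin 4 → (Fin 4 → F) → Fin 4 → F := fun z u w x i => z * sg u i * x (xr i w)
  let P : GL (Fin 4) F → F → Fin 4 → Fin 4 → Prop := fun g z u w =>
    ∀ x, φ ((g : Matrix (Fin 4) (Fin 4) F) *ᵥ x) = L z u w (φ x)
  have hmul : ∀ {g g' z u w z' u' w'}, P g z u w → P g' z' u' w' →
      P (g * g') (z * z' * sg u' w) (xr u u') (xr w w') := by
    intro g g' z u w z' u' w' hg hg' x
    rw [Units.val_mul, ← mulVec_mulVec, hg, hg']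
    funext i
    simp only [L, sg_add_left, sg_add_right, xr_assoc]
    ring
  let R₀ : Submonoid (GL (Fin 4) F) :=
    { carrier := {g | ∃ z u w, z ≠ 0 ∧ P g z u w}
      one_mem' := ⟨1, 0, 0, one_ne_zero, fun x => funext fun i => by simp [L, zero_sg, xr_zero]⟩
      mul_mem' := fun {g g'} ⟨z, u, w, hz, hg⟩ ⟨z', u', w', hz', hg'⟩ =>
        ⟨_, _, _, mul_ne_zero (mul_ne_zero hz hz') (sg_ne_zero _ _), hmul hg hg'⟩ }
  let R : Subgroup (GL (Fin 4) F) :=
    { R₀ with
      inv_mem' := fun {g} hg => by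
        have h1 : g⁻¹ = g ^ (orderOf g - 1) := inv_eq_of_mul_eq_one_right (by
          rw [← pow_succ', Nat.sub_add_cancel (orderOf_pos g), pow_orderOf_eq_one])
        rw [h1]
        exact R₀.pow_mem hg _ }
  -- existence and uniqueness of the elements
  have hex : ∀ z, z ≠ 0 → ∀ u w, ∃ g ∈ R, P g z u w := by
    intro z hz u w
    let E : (Fin 4 → F) ≃ₗ[F] (Fin 4 → F) :=
      { toFun := L z u w
        map_add' := fun x y => funext fun i => by simp [L]; ring
        map_smul' := fun c x => funext fun i => by simp [L]; ring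
        invFun := fun y i => z⁻¹ * sg u (xr i w) * y (xr i w)
        left_inv := fun x => funext fun i => by
          simp only [L, xr_cancel]
          field_simp
          linear_combination x i * sg_sq (F := F) u (xr i w)
        right_inv := fun y => funext fun i => by
          simp only [L, xr_cancel]
          field_simp
          linear_combination y i * sg_sq (F := F) u i }
    let g := CfsgLib.MaxSub.Decomp.glOf ((φ.trans E).trans φ.symm)
    have hg : P g z u w := fun x => by
      rw [CfsgLib.MaxSub.Decomp.glOf_mulVec]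
      simp [E]
    exact ⟨g, ⟨z, u, w, hz, hg⟩, hg⟩
  have hinj : ∀ {g z u w z' u' w'}, z ≠ 0 → P g z u w → P g z' u' w' → z = z' ∧ u = u' ∧ w = w' := by
    intro g z u w z' u' w' hz h h'
    have e : ∀ (y : Fin 4 → F) i, z * sg u i * y (xr i w) = z' * sg u' i * y (xr i w') := fun y i => by
      have := (h (φ.symm y)).symm.trans (h' (φ.symm y))
      simpa [L] using congrFun this i
    have hw : w = w' := by
      by_contra hne
      have := e (Pi.single w 1) 0
      simp [zero_xr, sg_zero, Pi.single_eq_of_ne (Ne.symm hne), hz] at this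
    subst hw
    have hzz : z = z' := by simpa [zero_xr, sg_zero] using e (Pi.single w 1) 0
    subst hzz
    refine ⟨rfl, bt_ext u u' fun i => ?_, rfl⟩
    have := e (fun _ => 1) i
    simp only [mul_one, mul_right_inj' hz, sg] at this
    have hne : (-1 : F) ≠ 1 := fun e => h2 (by linear_combination -e)
    revert this
    cases bt u i <;> cases bt u' i <;> simp [hne, Ne.symm hne]
  have hext : ∀ {g g' z u w}, P g z u w → P g' z u w → g = g' := by
    intro g g' z u w h h'
    refine Units.ext ((Matrix.toLin').injective (LinearMap.ext fun x => φ.injective ?_))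
    rw [toLin'_apply, toLin'_apply, h, h']
  have hscal : ∀ (g : GL (Fin 4) F) (c : F), (g : Matrix (Fin 4) (Fin 4) F) = c • 1 → P g c 0 0 :=
    fun g c hg x => funext fun i => by
      rw [hg, smul_mulVec, one_mulVec, map_smul]
      simp [L, zero_sg, xr_zero]
  have hscalR : ∀ g ∈ scalars (Fin 4) F, g ∈ R := fun g hg => by
    obtain ⟨c, hc⟩ := (mem_scalars_iff g).1 hg
    exact ⟨c, 0, 0, c.ne_zero, hscal g c hc⟩
  -- squares are scalars
  have hsq : ∀ g ∈ R, ∃ c : F, c ^ 2 = 1 ∧ (g : Matrix (Fin 4) (Fin 4) F) * g = c • 1 := by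
    rintro g ⟨z, u, w, hz, hg⟩
    refine ⟨z * z * sg u w, ?_, ?_⟩
    · linear_combination (sg u w ^ 2) * hpow z hz + sg_sq (F := F) u w
    · refine (Matrix.toLin').injective (LinearMap.ext fun x => φ.injective ?_)
      rw [toLin'_apply, toLin'_apply, ← Units.val_mul, hmul hg hg, smul_mulVec, one_mulVec, map_smul]
      funext i
      have hu : xr u u = 0 := (by decide : ∀ a, xr a a = 0) u
      have hw : xr w w = 0 := (by decide : ∀ a, xr a a = 0) w
      simp [L, hu, hw, zero_sg, xr_zero]
  have hcommR : ∀ g ∈ R, ∀ g' ∈ R, (g : Matrix (Fin 4) (Fin 4) F) * g' = g' * g ∨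
      (g : Matrix (Fin 4) (Fin 4) F) * g' = -((g' : Matrix (Fin 4) (Fin 4) F) * g) := by
    rintro g ⟨z, u, w, -, hg⟩ g' ⟨z', u', w', -, hg'⟩
    have key : (g : Matrix (Fin 4) (Fin 4) F) * g' =
        (sg u' w * sg u w' : F) • ((g' : Matrix (Fin 4) (Fin 4) F) * g) := by
      refine (Matrix.toLin').injective (LinearMap.ext fun x => φ.injective ?_)
      rw [toLin'_apply, toLin'_apply, smul_mulVec, map_smul, ← Units.val_mul, ← Units.val_mul, hmul hg hg',
        hmul hg' hg]
      funext i
      have hx : ∀ a b, xr a b = xr b a := by decide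
      simp only [L, hx u' u, hx w' w, Pi.smul_apply, smul_eq_mul]
      linear_combination -(z * z' * sg u' w * sg (xr u u') i * φ x (xr i (xr w w'))) * sg_sq (F := F) u w'
    rcases sg_cases (F := F) u' w with h | h <;> rcases sg_cases (F := F) u w' with h' | h' <;>
      simp [h, h'] at key <;> first | exact .inl key | exact .inr key
  -- absolute irreducibility
  have hirr : ActsIrreducibly (matrixSet R) := by
    intro W hW
    by_cases h0 : W = ⊥
    · exact .inl h0
    right
    obtain ⟨x, hx, hx0⟩ := W.exists_mem_ne_zero_of_ne_bot h0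
    have hmaps : ∀ g ∈ R, ∀ y ∈ W, (g : Matrix (Fin 4) (Fin 4) F) *ᵥ y ∈ W := fun g hg y hy =>
      hW _ ⟨g, hg, rfl⟩ ⟨y, hy, rfl⟩
    have hW' : ∀ u w y, y ∈ W.map φ.toLinearMap → L 1 u w y ∈ W.map φ.toLinearMap := by
      rintro u w _ ⟨y, hy, rfl⟩
      obtain ⟨g, hg, hgP⟩ := hex 1 one_ne_zero u w
      exact ⟨_, hmaps g hg y hy, hgP y⟩
    obtain ⟨k, hk⟩ : ∃ k, φ x k ≠ 0 := Function.ne_iff.1 fun h => hx0 (φ.map_eq_zero_iff.1 h)
    have hek : ∀ j, (Pi.single j 1 : Fin 4 → F) ∈ W.map φ.toLinearMap := by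
      intro j
      have h1 : ∑ u, (sg u k : F) • L 1 u (xr j k) (L 1 u 0 (φ x)) ∈ W.map φ.toLinearMap :=
        sum_mem fun u _ => Submodule.smul_mem _ _ (hW' _ _ _ (hW' _ _ _ ⟨x, hx, rfl⟩))
      have h1' : ∑ u, (sg u k : F) • L 1 u (xr j k) (φ x) ∈ W.map φ.toLinearMap :=
        sum_mem fun u _ => Submodule.smul_mem _ _ (hW' _ _ _ ⟨x, hx, rfl⟩)
      -- shift by `j + k` after projecting on `k`
      have h3 : ∑ u, (sg u k : F) • L 1 u 0 (φ x) ∈ W.map φ.toLinearMap :=
        sum_mem fun u _ => Submodule.smul_mem _ _ (hW' _ _ _ ⟨x, hx, rfl⟩)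
      have h4 : (∑ u, (sg u k : F) • L 1 u 0 (φ x)) = (4 * φ x k) • (Pi.single k 1 : Fin 4 → F) := by
        funext i
        simp only [Finset.sum_apply, Pi.smul_apply, L, one_mul, xr_zero, smul_eq_mul, ← mul_assoc]
        rw [← Finset.sum_mul, sg_orth]
        by_cases hik : i = k <;> simp [hik]
      rw [h4] at h3
      have h44 : (4 : F) * φ x k ≠ 0 := mul_ne_zero (by
        rw [show (4 : F) = 2 * 2 by norm_num]; exact mul_ne_zero h2 h2) hk
      have h5' : (Pi.single k 1 : Fin 4 → F) ∈ W.map φ.toLinearMap := (Submodule.smul_mem_iff _ h44).1 h3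
      have h6 := hW' 0 (xr k j) _ h5'
      have e : L 1 0 (xr k j) (Pi.single k 1) = (Pi.single j 1 : Fin 4 → F) := by
        funext i
        have hx' : ∀ i k j : Fin 4, xr i (xr k j) = k ↔ i = j := by decide
        simp [L, zero_sg, Pi.single_apply, hx']
      rwa [e] at h6
    refine Submodule.eq_top_iff'.2 fun y => ?_
    have hy : φ y ∈ W.map φ.toLinearMap := by
      rw [pi_eq_sum_univ' (φ y)]
      exact sum_mem fun i _ => Submodule.smul_mem _ _ (hek i)
    obtain ⟨y', hy', e⟩ := hy
    exact φ.injective e ▸ hy'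
  have habs : ActsAbsolutelyIrreducibly (matrixSet R) := by
    refine ⟨hirr, fun M hM => ?_⟩
    let N : (Fin 4 → F) →ₗ[F] (Fin 4 → F) := φ.toLinearMap ∘ₗ Matrix.toLin' M ∘ₗ φ.symm.toLinearMap
    have hN : ∀ u w y, N (L 1 u w y) = L 1 u w (N y) := by
      intro u w y
      obtain ⟨g, hg, hgP⟩ := hex 1 one_ne_zero u w
      have hc := congrArg (fun A : Matrix (Fin 4) (Fin 4) F => φ (A *ᵥ φ.symm y)) (hM _ ⟨g, hg, rfl⟩)
      simp only [← mulVec_mulVec] at hc
      rw [hgP] at hc
      have e : φ.symm (L 1 u w y) = (g : Matrix (Fin 4) (Fin 4) F) *ᵥ φ.symm y := φ.injective (by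
        rw [φ.apply_symm_apply, hgP, φ.apply_symm_apply])
      show φ (M *ᵥ φ.symm (L 1 u w y)) = _
      rw [e]
      exact hc
    have hdiag : ∀ k i, i ≠ k → N (Pi.single k 1) i = 0 := by
      intro k i hik
      obtain ⟨u, hu⟩ : ∃ u, bt u i ≠ bt u k := by
        by_contra hno
        push Not at hno
        have : ∀ i k : Fin 4, (∀ u, bt u i = bt u k) → i = k := by decide
        exact hik (this i k hno)
      have h1 := congrFun (hN u 0 (Pi.single k 1)) i
      have e : L 1 u 0 (Pi.single k 1) = (sg u k : F) • (Pi.single k 1 : Fin 4 → F) := by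
        funext l
        by_cases hl : l = k <;> simp [L, xr_zero, hl]
      rw [e, map_smul, Pi.smul_apply, smul_eq_mul] at h1
      simp only [L, one_mul, xr_zero] at h1
      have hne : (sg u k : F) - sg u i ≠ 0 := by
        have hne' : (-1 : F) ≠ 1 := fun e => h2 (by linear_combination -e)
        unfold sg
        cases hk' : bt u k <;> cases hi' : bt u i <;> simp [hk', hi'] at hu ⊢
        · exact hne'.symm ∘ (fun e => by linear_combination e)
        · exact hne' ∘ (fun e => by linear_combination e)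
      exact (mul_eq_zero.1 (show (sg u k - sg u i) * N (Pi.single k 1) i = 0 by linear_combination h1)).resolve_left hne
    have hconst : ∀ k, N (Pi.single k 1) k = N (Pi.single 0 1) 0 := by
      intro k
      have h1 := congrFun (hN 0 k (Pi.single 0 1)) k
      have e : L 1 0 k (Pi.single 0 1) = (Pi.single k 1 : Fin 4 → F) := by
        funext i
        have hx' : ∀ i k : Fin 4, xr i k = 0 ↔ i = k := by decide
        simp [L, zero_sg, Pi.single_apply, hx']
      rw [e] at h1
      have hkk : xr k k = 0 := (by decide : ∀ a, xr a a = 0) k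
      simpa [L, zero_sg, hkk] using h1
    refine ⟨N (Pi.single 0 1) 0, (Matrix.toLin').injective (LinearMap.ext fun x => φ.injective ?_)⟩
    have hNx : φ (M *ᵥ x) = N (φ x) := by simp [N]
    rw [toLin'_apply, toLin'_apply, hNx, smul_mulVec, one_mulVec, map_smul, pi_eq_sum_univ' (φ x), map_sum]
    funext i
    rw [Finset.sum_apply, Finset.sum_eq_single i (fun k _ hk => by
      rw [map_smul, Pi.smul_apply, hdiag k i (Ne.symm hk), smul_zero]) (by simp)]
    rw [map_smul, Pi.smul_apply, hconst, ← pi_eq_sum_univ', Pi.smul_apply, smul_eq_mul, smul_eq_mul, mul_comm]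
  -- centre
  have hcen : ∀ g : R, g ∈ Subgroup.center R ↔ (g : GL (Fin 4) F) ∈ scalars (Fin 4) F := fun g =>
    ⟨fun hg => mem_scalars_of_commute_group habs fun r hr =>
        congrArg Subtype.val (Subgroup.mem_center_iff.1 hg ⟨r, hr⟩).symm,
      fun hg => Subgroup.mem_center_iff.2 fun r => Subtype.ext (Aschbacher.scalars_commute hg _).symm⟩
  have hcard : Nat.card R = 64 := by
    have e : {z : F // z ≠ 0} × Fin 4 × Fin 4 ≃ R := Equiv.ofBijective
      (fun p => ⟨(hex p.1 p.1.2 p.2.1 p.2.2).choose, (hex p.1 p.1.2 p.2.1 p.2.2).choose_spec.1⟩) ⟨by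
        rintro ⟨⟨z, hz⟩, u, w⟩ ⟨⟨z', hz'⟩, u', w'⟩ h
        have h1 := (hex z hz u w).choose_spec.2
        have h2 := (hex z' hz' u' w').choose_spec.2
        rw [← show (hex z hz u w).choose = (hex z' hz' u' w').choose from congrArg Subtype.val h] at h2
        obtain ⟨rfl, rfl, rfl⟩ := hinj hz h1 h2
        rfl, by
        rintro ⟨g, z, u, w, hz, hg⟩
        exact ⟨(⟨z, hz⟩, u, w), Subtype.ext (hext (hex z hz u w).choose_spec.2 hg)⟩⟩
    rw [← Nat.card_congr e, Nat.card_prod, Nat.card_prod, Nat.card_fin, Nat.card_eq_fintype_card,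
      Fintype.card_subtype_compl, Fintype.card_subtype_eq, hq]
  have hcardc : Nat.card (Subgroup.center R) = 4 := by
    have e : Fˣ ≃ Subgroup.center R := Equiv.ofBijective
      (fun c => ⟨⟨Units.map (Matrix.scalar (Fin 4) : F →+* Matrix (Fin 4) (Fin 4) F).toMonoidHom c,
        hscalR _ ⟨c, rfl⟩⟩, (hcen _).2 ⟨c, rfl⟩⟩)
      ⟨fun a b h => Aschbacher.scalar_injective
        (congrArg (fun w : Subgroup.center R => ((w : R) : GL (Fin 4) F)) h),
       fun w => by
        obtain ⟨c, hc⟩ := (hcen w).1 w.2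
        exact ⟨c, Subtype.ext (Subtype.ext hc)⟩⟩
    rw [← Nat.card_congr e, Nat.card_units, Nat.card_eq_fintype_card, hq]
  have hexp : ∀ g : R, g ^ 4 = 1 := fun g => by
    obtain ⟨c, hc, hg⟩ := hsq _ g.2
    refine Subtype.ext (Units.ext ?_)
    rw [SubgroupClass.coe_pow, Units.val_pow_eq_pow_val]
    generalize ((g : GL (Fin 4) F) : Matrix (Fin 4) (Fin 4) F) = X at hg
    have e4 : X ^ 4 = (X * X) ^ 2 := by simp [pow_succ, mul_assoc]
    rw [e4, hg, smul_pow, one_pow, hc, one_smul]
    rfl
  refine ⟨R, ⟨⟨Nat.prime_two, fun g => ⟨2, hexp g⟩, fun A hA hAc => ?_, ?_⟩, habs, 5, 1, by norm_num,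
    ⟨by norm_num, hchar, by rw [hq, pow_one], ?_, fun d h1 h2 => by omega⟩,
    .inr (.inl ⟨rfl, rfl, hcardc, by simp, 2, by rw [hcard]; norm_num⟩)⟩, hcard, le_subgroupNormalizer fun g hg x hx => ?_⟩
  · -- a characteristic abelian subgroup is central
    have hAcen : A ≤ Subgroup.center R := by
      intro a ha
      by_contra hac
      obtain ⟨r, hr⟩ : ∃ r : R, r * a ≠ a * r := by
        by_contra hno
        push Not at hno
        exact hac (Subgroup.mem_center_iff.2 hno)
      have hr' : ((r : GL (Fin 4) F) : Matrix (Fin 4) (Fin 4) F) * (a : GL (Fin 4) F) =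
          -(((a : GL (Fin 4) F) : Matrix (Fin 4) (Fin 4) F) * (r : GL (Fin 4) F)) :=
        (hcommR _ r.2 _ a.2).resolve_left fun h => hr (Subtype.ext (Units.ext h))
      obtain ⟨b, hbR, hbb, hba⟩ : ∃ b ∈ R, (b : Matrix (Fin 4) (Fin 4) F) * b = -1 ∧
          (b : Matrix (Fin 4) (Fin 4) F) * (a : GL (Fin 4) F) =
            -(((a : GL (Fin 4) F) : Matrix (Fin 4) (Fin 4) F) * b) := by
        obtain ⟨c, hc, hcc⟩ := hsq _ r.2
        rcases sq_eq_one_iff.1 hc with rfl | rfl
        · let two : GL (Fin 4) F :=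
            Units.map (Matrix.scalar (Fin 4) : F →+* Matrix (Fin 4) (Fin 4) F).toMonoidHom (Units.mk0 2 h2)
          have htwo : (two : Matrix (Fin 4) (Fin 4) F) = (2 : F) • 1 :=
            (Matrix.smul_one_eq_diagonal (2 : F)).symm
          refine ⟨two * r, R.mul_mem (hscalR _ ⟨_, rfl⟩) r.2, ?_, ?_⟩
          · rw [Units.val_mul, htwo, smul_mul, one_mul, smul_mul_smul_comm, hcc, smul_smul,
              show (2 * 2 * 1 : F) = -1 by linear_combination h5, neg_one_smul]
          · rw [Units.val_mul, htwo, smul_mul, one_mul, smul_mul, hr', smul_neg, Matrix.mul_smul]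
        · exact ⟨r, r.2, by rw [hcc, neg_one_smul], hr'⟩
      let u : GL (Fin 4) F :=
        { val := 1 + (b : Matrix (Fin 4) (Fin 4) F)
          inv := (2 : F)⁻¹ • (1 - (b : Matrix (Fin 4) (Fin 4) F))
          val_inv := by
            rw [Matrix.mul_smul, show (1 + (b : Matrix (Fin 4) (Fin 4) F)) * (1 - b) = 1 - b * b by noncomm_ring,
              hbb, sub_neg_eq_add, ← two_smul F, smul_smul, inv_mul_cancel₀ h2, one_smul]
          inv_val := by
            rw [Matrix.smul_mul, show (1 - (b : Matrix (Fin 4) (Fin 4) F)) * (1 + b) = 1 - b * b by noncomm_ring,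
              hbb, sub_neg_eq_add, ← two_smul F, smul_smul, inv_mul_cancel₀ h2, one_smul] }
      have hu : ∀ x ∈ R, (Commute (b : Matrix (Fin 4) (Fin 4) F) x → u * x * u⁻¹ = x) ∧
          ((b : Matrix (Fin 4) (Fin 4) F) * x = -((x : Matrix (Fin 4) (Fin 4) F) * b) → u * x * u⁻¹ = b * x) := by
        refine fun x hx => ⟨fun h => ?_, fun h => ?_⟩ <;> rw [mul_inv_eq_iff_eq_mul] <;> apply Units.ext
        · show (1 + (b : Matrix (Fin 4) (Fin 4) F)) * x = x * (1 + b)
          rw [add_mul, mul_add, one_mul, mul_one, h.eq]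
        · show (1 + (b : Matrix (Fin 4) (Fin 4) F)) * x = (b * x : Matrix (Fin 4) (Fin 4) F) * (1 + b)
          rw [add_mul, one_mul, mul_add, mul_one, mul_assoc,
            show (x : Matrix (Fin 4) (Fin 4) F) * b = -((b : Matrix (Fin 4) (Fin 4) F) * x) by rw [h, neg_neg],
            mul_neg, ← mul_assoc, hbb, neg_one_mul, neg_neg, add_comm]
      have huR : ∀ x ∈ R, u * x * u⁻¹ ∈ R := fun x hx => by
        rcases hcommR b hbR x hx with h | h
        · rw [(hu x hx).1 h]; exact hx
        · rw [(hu x hx).2 h]; exact R.mul_mem hbR hx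
      let ψ : R →* R :=
        { toFun := fun x => ⟨u * x * u⁻¹, huR x x.2⟩
          map_one' := Subtype.ext (by simp)
          map_mul' := fun x y => Subtype.ext (by simp [mul_assoc]) }
      have hψ : Function.Bijective ψ := Finite.injective_iff_bijective.1 fun x y h => by
        have h1 : u * (x : GL (Fin 4) F) * u⁻¹ = u * y * u⁻¹ := congrArg Subtype.val h
        exact Subtype.ext (mul_left_cancel (mul_right_cancel h1))
      have h1 : ψ a ∈ A := by
        have := Subgroup.characteristic_iff_comap_eq.1 hA (MulEquiv.ofBijective ψ hψ)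
        show a ∈ A.comap (MulEquiv.ofBijective ψ hψ).toMonoidHom
        rw [this]; exact ha
      have h3 := congrArg (fun z : A => (((z : R) : GL (Fin 4) F) : Matrix (Fin 4) (Fin 4) F))
        (hAc.is_comm.comm ⟨a, ha⟩ ⟨ψ a, h1⟩)
      have hψa : ((ψ a : R) : GL (Fin 4) F) = b * a := (hu _ a.2).2 hba
      simp only [Subgroup.coe_mul, Units.val_mul, hψa] at h3
      rw [← mul_assoc, show ((a : GL (Fin 4) F) : Matrix (Fin 4) (Fin 4) F) * b =
          -((b : Matrix (Fin 4) (Fin 4) F) * (a : GL (Fin 4) F)) by rw [hba, neg_neg], neg_mul,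
        neg_eq_iff_add_eq_zero, ← two_smul F, smul_eq_zero] at h3
      exact (b * a * a : GL (Fin 4) F).ne_zero (by
        rw [Units.val_mul, Units.val_mul]; exact h3.resolve_left h2)
    haveI : IsCyclic (scalars (Fin 4) F) := Aschbacher.scalars_isCyclic
    let f : A →* scalars (Fin 4) F :=
      { toFun := fun a => ⟨((a : R) : GL (Fin 4) F), (hcen _).1 (hAcen a.2)⟩
        map_one' := rfl
        map_mul' := fun a b => rfl }
    exact isCyclic_of_injective f fun a b h => Subtype.ext (Subtype.ext (congrArg Subtype.val h :))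
  · show Monoid.exponent R = 4
    refine Nat.dvd_antisymm (Monoid.exponent_dvd_of_forall_pow_eq_one hexp) ?_
    let two : R := ⟨Units.map (Matrix.scalar (Fin 4) : F →+* Matrix (Fin 4) (Fin 4) F).toMonoidHom (Units.mk0 2 h2),
      hscalR _ ⟨_, rfl⟩⟩
    have h22 : two ^ 2 ≠ 1 := fun h => by
      have h1 := congrFun (congrFun (congrArg (fun z : R => ((z : GL (Fin 4) F) : Matrix (Fin 4) (Fin 4) F)) h) 0) 0
      simp [two, pow_two, Units.val_mk0] at h1
      have h3 : (3 : F) = 0 := by linear_combination h1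
      have h' := (CharP.cast_eq_zero_iff F 5 3).1 (by exact_mod_cast h3)
      omega
    have : orderOf two = 2 ^ 2 := orderOf_eq_prime_pow (p := 2) (n := 1) (by simpa using h22) (by simpa using hexp two)
    calc (4 : ℕ) = orderOf two := by rw [this]; rfl
      _ ∣ _ := Monoid.order_dvd_exponent two
  · rw [hcardc]; norm_num
  · -- the monomial matrices of determinant one normalise the group
    obtain ⟨σ, c, hc, hcx⟩ := hφ g hg.1
    obtain ⟨z, u, w, hz, hxP⟩ := hx
    have hd : (∏ i, c i ^ 2 : F) = 1 := by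
      have h1 : LinearMap.det (Matrix.toLin' (g : Matrix (Fin 4) (Fin 4) F)) = 1 := by
        rw [LinearMap.det_toLin']
        exact congrArg Units.val (MonoidHom.mem_ker.1 hg.2)
      have hM : (φ.toLinearMap ∘ₗ Matrix.toLin' (g : Matrix (Fin 4) (Fin 4) F) ∘ₗ φ.symm.toLinearMap) =
          Matrix.toLin' ((diagonal c).submatrix σ.symm id) := by
        refine LinearMap.ext fun y => funext fun k => ?_
        obtain ⟨i, rfl⟩ := σ.surjective k
        show φ ((g : Matrix (Fin 4) (Fin 4) F) *ᵥ φ.symm y) (σ i) = _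
        rw [hcx, φ.apply_symm_apply]
        simp [mulVec, dotProduct, diagonal_apply]
      rw [← LinearMap.det_conj (Matrix.toLin' (g : Matrix (Fin 4) (Fin 4) F)) φ, hM, LinearMap.det_toLin', det_permute,
        det_diagonal] at h1
      rw [Finset.prod_pow]
      rcases Int.units_eq_one_or (Equiv.Perm.sign σ.symm) with e | e <;> rw [e] at h1
      · linear_combination (norm := (push_cast; ring_nf)) (∏ i, c i + 1) * h1
      · linear_combination (norm := (push_cast; ring_nf)) (-(∏ i, c i) + 1) * h1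
    have hd1 : ∀ i, (c i ^ 2) * (c i ^ 2) = 1 := fun i => by rw [← pow_add]; exact hpow _ (hc i)
    have hpair : ∀ i, c i ^ 2 * c (xr i w) ^ 2 = c 0 ^ 2 * c w ^ 2 := by
      rw [Fin.prod_univ_four] at hd
      rcases sq_eq_one_iff.1 (show (c 0 ^ 2) ^ 2 = 1 by rw [pow_two]; exact hd1 0) with e0 | e0 <;>
      rcases sq_eq_one_iff.1 (show (c 1 ^ 2) ^ 2 = 1 by rw [pow_two]; exact hd1 1) with e1 | e1 <;>
      rcases sq_eq_one_iff.1 (show (c 2 ^ 2) ^ 2 = 1 by rw [pow_two]; exact hd1 2) with e2 | e2 <;>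
      rcases sq_eq_one_iff.1 (show (c 3 ^ 2) ^ 2 = 1 by rw [pow_two]; exact hd1 3) with e3 | e3 <;>
      simp only [e0, e1, e2, e3] at hd <;>
      first
      | (exfalso; exact h2 (by linear_combination hd))
      | (exfalso; exact h2 (by linear_combination -hd))
      | (intro i; fin_cases i <;> fin_cases w <;> simp [xr, e0, e1, e2, e3])
    obtain ⟨h, hh⟩ : ∃ h : Fin 4 → F, ∀ j, h j = z * sg u (σ.symm j) * c (σ.symm j) * (c (xr (σ.symm j) w))⁻¹ :=
      ⟨_, fun j => rfl⟩
    have hne : ∀ i, h i ≠ 0 := fun i => by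
      rw [hh]; exact mul_ne_zero (mul_ne_zero (mul_ne_zero hz (sg_ne_zero _ _)) (hc _)) (inv_ne_zero (hc _))
    obtain ⟨u', hu'⟩ := exists_char h2 (hne 0) (hpow _ (hne 0)) (fun i => by
      have e : ∀ j, h j ^ 2 = z ^ 2 * (c 0 ^ 2 * c w ^ 2) := fun j => by
        rw [hh, ← hpair (σ.symm j)]
        have := hd1 (xr (σ.symm j) w)
        have hs := sg_sq (F := F) u (σ.symm j)
        field_simp [hc (xr (σ.symm j) w)]
        linear_combination (c (σ.symm j) ^ 2) * hs - (c (σ.symm j) ^ 2) * this
      rw [e, e]) (by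
      rw [← Equiv.prod_comp σ]
      simp only [hh, Equiv.symm_apply_apply, Finset.prod_mul_distrib, Finset.prod_inv_distrib, Finset.prod_const,
        sg_prod, Finset.card_univ, Fintype.card_fin]
      have hperm : ∏ i, c (xr i w) = ∏ i, c i :=
        Equiv.prod_comp (Equiv.ofBijective (fun i => xr i w)
          (Finite.injective_iff_bijective.1 (Function.LeftInverse.injective (g := fun a => xr a w) fun a => xr_cancel a w))) c
      rw [hperm, hpow z hz, one_mul, one_mul, mul_inv_cancel₀ (Finset.prod_ne_zero_iff.2 fun i _ => hc i)])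
    refine ⟨h 0, u', xr (σ 0) (σ w), hne 0, fun y => funext fun k => ?_⟩
    obtain ⟨i, rfl⟩ := σ.surjective k
    obtain ⟨y', rfl⟩ : ∃ y', (g : Matrix (Fin 4) (Fin 4) F) *ᵥ y' = y :=
      ⟨((g⁻¹ : GL (Fin 4) F) : Matrix (Fin 4) (Fin 4) F) *ᵥ y, by simp [mulVec_mulVec]⟩
    rw [mulVec_mulVec, ← Units.val_mul, inv_mul_cancel_right, Units.val_mul, ← mulVec_mulVec, hcx, hxP]
    simp only [L]
    rw [xr_perm, hcx, ← hu' (σ i), hh, Equiv.symm_apply_apply]
    field_simp [hc (xr i w)]

end CfsgLib.AschPrime
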