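import Cfsg.Agent.Lib.Aschbacher.SLBranches
import Cfsg.Agent.Lib.Aschbacher.SLFive

/-!
`SL_4(q)`: four lines over five elements and two planes over three elements are not maximal cases.
-/

set_option autoImplicit false

namespace CfsgLib.AschPrime

open Matrix Cfsg.Geo
open scoped MatrixGroups

variable {F : Type*} [Field F] [Fintype F] {H : Subgroup (GL (Fin 4) F)}

theorem four_lines_five (hH : IsMaximalIn (specialLinear (Fin 4) F) H) (h5 : 5 ≤ Fintype.card F)
    (h7 : ¬ 7 ≤ Fintype.card F) {D : Fin 4 → Submodule F (Fin 4 → F)} (hD : IsMDecomposition 1 D)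
    (hle : H ≤ decompositionStabilizer D) :
    ∃ (p : ℕ) (R : Subgroup (GL (Fin 4) F)), p.Prime ∧ Fintype.card F = p ∧ p % 4 = 1 ∧
      IsLinearSymplecticTypeData 2 R ∧ H = subgroupNormalizer R ⊓ specialLinear (Fin 4) F := by
  have hq : Fintype.card F = 5 := by
    obtain ⟨p, hp⟩ := CharP.exists F
    obtain ⟨⟨k, hk0⟩, hpp, hk⟩ := FiniteField.card F p
    change Fintype.card F = p ^ k at hk
    by_contra hne
    have h6 : p ^ k = 6 := by omega
    have h2 : 2 ∣ p ^ k := ⟨3, h6⟩
    have h3 : 3 ∣ p ^ k := ⟨2, h6⟩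
    have e2 := (Nat.prime_dvd_prime_iff_eq Nat.prime_two hpp).1 (Nat.prime_two.dvd_of_dvd_pow h2)
    have e3 := (Nat.prime_dvd_prime_iff_eq Nat.prime_three hpp).1 (Nat.prime_three.dvd_of_dvd_pow h3)
    omega
  obtain ⟨R, hR, h64, hRle⟩ := exists_sympType_of_lines_five hq hD
  refine ⟨5, R, by norm_num, hq, rfl, hR, eq_inf_of_maximal hH ((le_inf hle hH.1.le).trans hRle) ?_⟩
  refine not_le_normalizer_of_small (fun hle' => ?_) ?_
  · haveI : Nonempty (Fin 4) := inferInstance
    exact Aschbacher.not_commutative_alg_top (by simp) (Aschbacher.alg_top_of_absIrred hR.absIrred)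
      fun x hx y _ => Aschbacher.scalars_commute (hle' hx) y
  · rw [h64, hq]
    norm_num

theorem two_planes_three (hH : IsMaximalIn (specialLinear (Fin 4) F) H) (h3 : 3 ≤ Fintype.card F)
    (h4 : ¬ 4 ≤ Fintype.card F) {D : Fin 2 → Submodule F (Fin 4 → F)} (hD : IsMDecomposition 2 D)
    (hle : H ≤ decompositionStabilizer D) :
    ∃ f : (Fin 4 → F) → (Fin 4 → F) → F, IsSymplecticForm f ∧
      H = similarityGroup f ⊓ specialLinear (Fin 4) F := by
  obtain ⟨f, hf, hfle⟩ := le_symplectic_of_planes_three (by omega) hD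
  exact ⟨f, hf, eq_inf_of_maximal hH ((le_inf hle hH.1.le).trans hfle)
    (not_le_similarityGroup (by simp) hf.bilinear.isSesqForm hf.nondegenerate)⟩

end CfsgLib.AschPrime
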