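import Cfsg.Agent.Lib.Aschbacher.Proper
import Cfsg.Agent.Lib.Aschbacher.OrthNotLe

/-!
Imprimitive, tensor, tensor-wreath and symplectic-type stabilisers do not contain `SL`, in any dimension.
-/

set_option autoImplicit false
set_option linter.unusedSectionVars false

namespace CfsgLib.AschPrime

open Matrix Cfsg.Geo CfsgLib.MaxSub
open scoped MatrixGroups Kronecker

variable {ι : Type} [Fintype ι] [DecidableEq ι] {F : Type*} [Field F]

theorem exists_notMem_span_singleton (h2 : 2 ≤ Fintype.card ι) (a : ι → F) :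
    ∃ c : ι → F, c ∉ Submodule.span F {a} := by
  by_contra h
  push Not at h
  have h1 : Module.finrank F (Submodule.span F ({a} : Set (ι → F))) = Fintype.card ι := by
    rw [Submodule.eq_top_iff'.2 h, finrank_top, Module.finrank_fintype_fun_eq_card]
  rcases eq_or_ne a 0 with rfl | ha
  · rw [Submodule.span_zero_singleton, finrank_bot] at h1
    omega
  · rw [finrank_span_singleton ha] at h1
    omega

/-- a transvection moving `a` to an independent vector `b` -/
theorem exists_sl_move_indep {a b : ι → F} (ha : a ≠ 0) (hb : b ∉ Submodule.span F {a}) :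
    ∃ g ∈ specialLinear ι F, (g : Matrix ι ι F) *ᵥ a = b := by
  have hd : b - a ∉ Submodule.span F {a} := fun h =>
    hb (by simpa using add_mem h (Submodule.mem_span_singleton_self a))
  obtain ⟨φ, hφd, hφa⟩ := exists_tv_moving hd (Submodule.mem_span_singleton_self a) ha
  have h0 : ((φ ⬝ᵥ a)⁻¹ • φ) ⬝ᵥ (b - a) = 0 := by rw [smul_dotProduct, hφd, smul_zero]
  refine ⟨_, tvGL_mem_specialLinear (b - a) _ h0, ?_⟩
  rw [coe_tvGL, tvMat_mulVec, smul_dotProduct, smul_eq_mul, inv_mul_cancel₀ hφa, one_smul, add_sub_cancel]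

/-- the special linear group is transitive on non-zero vectors -/
theorem exists_sl_move (h2 : 2 ≤ Fintype.card ι) {a b : ι → F} (ha : a ≠ 0) (hb : b ≠ 0) :
    ∃ g ∈ specialLinear ι F, (g : Matrix ι ι F) *ᵥ a = b := by
  by_cases h : b ∈ Submodule.span F {a}
  · obtain ⟨c, hc⟩ := exists_notMem_span_singleton h2 a
    have hc0 : c ≠ 0 := fun e => hc (e ▸ zero_mem _)
    have hbc : b ∉ Submodule.span F {c} := by
      intro h'
      obtain ⟨u, hu⟩ := Submodule.mem_span_singleton.1 h'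
      have hu0 : u ≠ 0 := fun e => hb (by rw [← hu, e, zero_smul])
      refine hc ?_
      rw [show c = u⁻¹ • b by rw [← hu, smul_smul, inv_mul_cancel₀ hu0, one_smul]]
      exact Submodule.smul_mem _ _ h
    obtain ⟨g₁, hg₁, h₁⟩ := exists_sl_move_indep ha hc
    obtain ⟨g₂, hg₂, h₂⟩ := exists_sl_move_indep hc0 hbc
    exact ⟨g₂ * g₁, mul_mem hg₂ hg₁, by rw [Units.val_mul, ← mulVec_mulVec, h₁, h₂]⟩
  · exact exists_sl_move_indep ha h

/-- a group preserving a set of vectors which separates two non-zero vectors does not contain `SL` -/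
theorem not_le_of_invariant (h2 : 2 ≤ Fintype.card ι) {M : Subgroup (GL ι F)} (S : Set (ι → F))
    (hM : ∀ g ∈ M, ∀ v ∈ S, (g : Matrix ι ι F) *ᵥ v ∈ S) {a b : ι → F} (ha : a ∈ S) (ha0 : a ≠ 0)
    (hb : b ∉ S) (hb0 : b ≠ 0) : ¬ specialLinear ι F ≤ M := fun hle => by
  obtain ⟨g, hg, h⟩ := exists_sl_move h2 ha0 hb0
  exact hb (h ▸ hM g (hle hg) a ha)

theorem not_le_decompositionStabilizer_any (h2 : 2 ≤ Fintype.card ι) {t m : ℕ}
    {D : Fin t → Submodule F (ι → F)} (hD : IsMDecomposition m D) :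
    ¬ specialLinear ι F ≤ decompositionStabilizer D := by
  classical
  obtain ⟨ψ, hψ⟩ := Decomp.exists_coord hD
  have := hD.two_le
  let i : Fin t := ⟨0, by omega⟩
  let j : Fin t := ⟨1, by omega⟩
  have hij : i ≠ j := fun e => by simp [i, j, Fin.ext_iff] at e
  let one : Fin m → F := fun _ => 1
  have hone : one ≠ 0 := fun e => one_ne_zero (congrFun e ⟨0, hD.pos⟩)
  refine not_le_of_invariant h2 {v | ∃ k, v ∈ D k} (fun g hg v hv => ?_) (a := ψ.symm (Pi.single i one))
    (b := ψ.symm (Pi.single i one + Pi.single j one)) ⟨i, Decomp.single_of_coord ψ hψ i one⟩ ?_ ?_ ?_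
  · obtain ⟨k, hk⟩ := hv
    obtain ⟨σ, hσ⟩ := hg
    exact ⟨σ k, hσ k ▸ Submodule.mem_map_of_mem hk⟩
  · intro e
    have := congrArg (fun v => ψ v i) e
    simp [hone] at this
  · rintro ⟨k, hk⟩
    have hk' := (hψ _ k).1 hk
    by_cases hki : k = i
    · have := hk' j (by rw [hki]; exact hij.symm)
      rw [LinearEquiv.apply_symm_apply, Pi.add_apply, Pi.single_eq_of_ne hij.symm, Pi.single_eq_same, zero_add] at this
      exact hone this
    · have := hk' i (Ne.symm hki)
      rw [LinearEquiv.apply_symm_apply, Pi.add_apply, Pi.single_eq_of_ne hij, Pi.single_eq_same, add_zero] at this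
      exact hone this
  · intro e
    have := congrArg (fun v => ψ v i) e
    simp [hone, Pi.single_eq_of_ne hij] at this

theorem not_le_tensorProductSubgroup [Fintype F] {d m : ℕ} (hd : 2 ≤ d) (hm : 2 ≤ m) (e : ι ≃ Fin d × Fin m)
    (P : GL ι F) : ¬ specialLinear ι F ≤ tensorProductSubgroup d m e P := by
  classical
  have h2 : 2 ≤ Fintype.card ι := by
    rw [Fintype.card_congr e, Fintype.card_prod, Fintype.card_fin, Fintype.card_fin]
    nlinarith
  let i₀ : Fin d := ⟨0, by omega⟩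
  let i₁ : Fin d := ⟨1, by omega⟩
  let k₀ : Fin m := ⟨0, by omega⟩
  let k₁ : Fin m := ⟨1, by omega⟩
  have hi : i₀ ≠ i₁ := fun h => by simp [i₀, i₁, Fin.ext_iff] at h
  have hk : k₀ ≠ k₁ := fun h => by simp [k₀, k₁, Fin.ext_iff] at h
  let back : (Fin d × Fin m → F) → ι → F := fun x => (P : Matrix ι ι F) *ᵥ (x ∘ e)
  have hback : Function.Injective back := fun x y h => by
    have h1 := mulVec_inj P h
    exact funext fun p => by simpa using congrFun h1 (e.symm p)
  refine not_le_of_invariant h2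
    {v | ∃ (a : Fin d → F) (b : Fin m → F), v = back fun p => a p.1 * b p.2} (fun g hg v hv => ?_)
    (a := back fun p => (Pi.single i₀ 1 : Fin d → F) p.1 * (Pi.single k₀ 1 : Fin m → F) p.2)
    (b := back fun p => (Pi.single i₀ 1 : Fin d → F) p.1 * (Pi.single k₀ 1 : Fin m → F) p.2 + (Pi.single i₁ 1 : Fin d → F) p.1 * (Pi.single k₁ 1 : Fin m → F) p.2)
    ⟨Pi.single i₀ 1, Pi.single k₀ 1, rfl⟩ ?_ ?_ ?_
  · obtain ⟨a, b, rfl⟩ := hv
    obtain ⟨-, ⟨k, ⟨A, B, hAB⟩, rfl⟩, rfl⟩ := hg
    refine ⟨(A : Matrix (Fin d) (Fin d) F) *ᵥ a, (B : Matrix (Fin m) (Fin m) F) *ᵥ b, ?_⟩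
    show ((P * glReindex e.symm k * P⁻¹ : GL ι F) : Matrix ι ι F) *ᵥ ((P : Matrix ι ι F) *ᵥ _) = _
    rw [mulVec_mulVec, ← Units.val_mul, inv_mul_cancel_right, Units.val_mul, ← mulVec_mulVec,
      Aschbacher.glReindex_symm_mulVec]
    congr 2
    funext p
    rw [hAB]
    simp only [mulVec, dotProduct, kroneckerMap_apply]
    rw [Fintype.sum_prod_type, Finset.sum_mul_sum]
    exact Finset.sum_congr rfl fun x _ => Finset.sum_congr rfl fun y _ => by ring
  · intro h
    have h1 := hback (h.trans (show (0 : ι → F) = back 0 from (mulVec_zero _).symm))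
    simpa using congrFun h1 (i₀, k₀)
  · rintro ⟨a, b, h⟩
    have h1 := fun p => congrFun (hback h) p
    have e00 := h1 (i₀, k₀)
    have e11 := h1 (i₁, k₁)
    have e01 := h1 (i₀, k₁)
    simp [hi, hi.symm, hk, hk.symm] at e00 e11 e01
    rcases e01 with h' | h'
    · rw [h', zero_mul] at e00
      exact one_ne_zero e00
    · rw [h', mul_zero] at e11
      exact one_ne_zero e11
  · intro h
    have h1 := hback (h.trans (show (0 : ι → F) = back 0 from (mulVec_zero _).symm))
    simpa [hi, hk] using congrFun h1 (i₀, k₀)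

theorem not_le_tensorWreathSubgroup [Fintype F] {d t : ℕ} (hd : 2 ≤ d) (ht : 2 ≤ t) (e : ι ≃ (Fin t → Fin d))
    (P : GL ι F) : ¬ specialLinear ι F ≤ tensorWreathSubgroup d t e P := by
  classical
  have h2 : 2 ≤ Fintype.card ι := by
    rw [Fintype.card_congr e, Fintype.card_fun, Fintype.card_fin, Fintype.card_fin]
    exact hd.trans (Nat.le_self_pow (by omega) d)
  let j₀ : Fin t := ⟨0, by omega⟩
  let j₁ : Fin t := ⟨1, by omega⟩
  have hj : j₀ ≠ j₁ := fun h => by simp [j₀, j₁, Fin.ext_iff] at h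
  let a₀ : Fin d := ⟨0, by omega⟩
  let a₁ : Fin d := ⟨1, by omega⟩
  have ha : a₀ ≠ a₁ := fun h => by simp [a₀, a₁, Fin.ext_iff] at h
  let p₀ : Fin t → Fin d := fun _ => a₀
  let p₁ : Fin t → Fin d := fun _ => a₁
  let p₀₁ : Fin t → Fin d := fun j => if j = j₀ then a₀ else a₁
  let p₁₀ : Fin t → Fin d := fun j => if j = j₀ then a₁ else a₀
  let back : ((Fin t → Fin d) → F) → ι → F := fun x => (P : Matrix ι ι F) *ᵥ (x ∘ e)
  have hback : Function.Injective back := fun x y h => by
    have h1 := mulVec_inj P h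
    exact funext fun p => by simpa using congrFun h1 (e.symm p)
  have hp : p₀ ≠ p₁ := fun h => ha (congrFun h j₀)
  refine not_le_of_invariant h2 {v | ∃ x, Aschbacher.IsPureVec x ∧ v = back x} (fun g hg v hv => ?_)
    (a := back fun p => ∏ j, (Pi.single (p₀ j) 1 : Fin d → F) (p j)) (b := back (Pi.single p₀ 1 + Pi.single p₁ 1))
    ⟨_, ⟨fun j => Pi.single (p₀ j) 1, fun p => rfl⟩, rfl⟩ ?_ ?_ ?_
  · obtain ⟨x, hx, rfl⟩ := hv
    obtain ⟨-, ⟨k, hk, rfl⟩, rfl⟩ := hg
    refine ⟨(k : Matrix (Fin t → Fin d) (Fin t → Fin d) F) *ᵥ x,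
      (Aschbacher.tensorWreathStandard_le_pure d t hk x).2 hx, ?_⟩
    show ((P * glReindex e.symm k * P⁻¹ : GL ι F) : Matrix ι ι F) *ᵥ ((P : Matrix ι ι F) *ᵥ _) = _
    rw [mulVec_mulVec, ← Units.val_mul, inv_mul_cancel_right, Units.val_mul, ← mulVec_mulVec,
      Aschbacher.glReindex_symm_mulVec]
  · intro h
    have h1 := hback (h.trans (show (0 : ι → F) = back 0 from (mulVec_zero _).symm))
    simpa using congrFun h1 p₀
  · rintro ⟨x, ⟨xs, hxs⟩, h⟩
    have h1 : ∀ p, (Pi.single p₀ 1 + Pi.single p₁ 1 : (Fin t → Fin d) → F) p = ∏ j, xs j (p j) :=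
      fun p => (congrFun (hback h) p).trans (hxs p)
    have ne1 : p₀₁ ≠ p₀ := fun h => ha (by simpa [p₀₁, p₀, hj.symm] using (congrFun h j₁).symm)
    have ne2 : p₀₁ ≠ p₁ := fun h => ha (by simpa [p₀₁, p₁] using congrFun h j₀)
    have e00 := h1 p₀
    have e11 := h1 p₁
    have e01 := h1 p₀₁
    simp [hp, hp.symm, ne1, ne2] at e00 e11 e01
    obtain ⟨j, hj'⟩ := Finset.prod_eq_zero_iff.1 e01.symm
    obtain ⟨-, hj'⟩ := hj'
    by_cases hjj : j = j₀
    · rw [Finset.prod_eq_zero (Finset.mem_univ j) (show xs j (p₀ j) = 0 by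
        simpa [p₀₁, p₀, hjj] using hj')] at e00
      exact one_ne_zero e00
    · rw [Finset.prod_eq_zero (Finset.mem_univ j) (show xs j (p₁ j) = 0 by
        simpa [p₀₁, p₁, hjj] using hj')] at e11
      exact one_ne_zero e11
  · intro h
    have h1 := hback (h.trans (show (0 : ι → F) = back 0 from (mulVec_zero _).symm))
    simpa [hp] using congrFun h1 p₀

/-- a matrix fixing every line is scalar -/
theorem mem_scalars_of_forall_eigen [Nonempty ι] (g : GL ι F)
    (h : ∀ v, ∃ c : F, (g : Matrix ι ι F) *ᵥ v = c • v) : g ∈ scalars ι F := by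
  obtain ⟨i⟩ := (inferInstance : Nonempty ι)
  choose c hc using h
  refine mem_scalars_of_matrix (c := c (Pi.single i 1))
    ((Matrix.toLin').injective ((Pi.basisFun F ι).ext fun l => ?_))
  rw [Pi.basisFun_apply, toLin'_apply, toLin'_apply, smul_mulVec, one_mulVec, hc]
  congr 1
  by_cases hl : l = i
  · rw [hl]
  have h2 := hc (Pi.single l (1 : F) + Pi.single i (1 : F))
  rw [mulVec_add, hc, hc, smul_add] at h2
  have hl' := congrFun h2 l
  have hi' := congrFun h2 i
  simp [hl, Ne.symm hl] at hl' hi'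
  rw [hl', hi']

/-- A small group normalised by `SL` is scalar. -/
theorem not_le_normalizer_of_small [Fintype F] {R : Subgroup (GL ι F)}
    (hns : ¬ R ≤ scalars ι F) (hcard : Nat.card R < Fintype.card F ^ (Fintype.card ι - 1)) :
    ¬ specialLinear ι F ≤ subgroupNormalizer R := by
  classical
  intro hle
  obtain ⟨x, hx, hxs⟩ := SetLike.not_le_iff_exists.1 hns
  obtain ⟨v, hv⟩ : ∃ v : ι → F, (x : Matrix ι ι F) *ᵥ v ∉ Submodule.span F {v} := by
    by_contra h
    push Not at h
    haveI : Nonempty ι := by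
      rcases isEmpty_or_nonempty ι with hι | hι
      · exact absurd (show x ∈ scalars ι F from by
          rw [show x = 1 from Units.ext (Matrix.ext fun i => hι.elim i)]; exact one_mem _) hxs
      · exact hι
    refine hxs (mem_scalars_of_forall_eigen x fun v => ?_)
    obtain ⟨c, hc⟩ := Submodule.mem_span_singleton.1 (h v)
    exact ⟨c, hc.symm⟩
  have hv0 : v ≠ 0 := fun e => hv (by rw [e, mulVec_zero]; exact zero_mem _)
  obtain ⟨χ, hχxv, hχ⟩ := exists_dotProduct_of_notMem hv
  let K : Submodule F (ι → F) := LinearMap.ker (dotProductBilin F F v)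
  have hK : Fintype.card ι - 1 ≤ Module.finrank F K := by
    have h1 := finrank_le_inf_ker (⊤ : Submodule F (ι → F)) (dotProductBilin F F v)
    rw [finrank_top, top_inf_eq, Module.finrank_fintype_fun_eq_card] at h1
    show _ ≤ Module.finrank F (LinearMap.ker _)
    omega
  have hKmem : ∀ φ : K, (φ : ι → F) ⬝ᵥ v = 0 := fun φ => (dotProduct_comm _ _).trans φ.2
  let f : K → R := fun φ => ⟨tvGL v (φ : ι → F) (hKmem φ) * x * (tvGL v (φ : ι → F) (hKmem φ))⁻¹,
    (Subgroup.mem_normalizer_iff.1 (hle (tvGL_mem_specialLinear _ _ (hKmem φ))) x).1 hx⟩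
  have hf : Function.Injective f := by
    intro φ ψ h
    have h1 := congrArg Subtype.val h
    simp only [f] at h1
    set t := tvGL v (φ : ι → F) (hKmem φ)
    set u := tvGL v (ψ : ι → F) (hKmem ψ)
    have h2 : (u⁻¹ * t) * x = x * (u⁻¹ * t) := by
      calc (u⁻¹ * t) * x = u⁻¹ * (t * x * t⁻¹) * t := by group
        _ = x * (u⁻¹ * t) := by rw [h1]; group
    have h3 : ((u⁻¹ * t : GL ι F) : Matrix ι ι F) = tvMat v ((φ : ι → F) - ψ) := by
      show tvMat v (-(ψ : ι → F)) * tvMat v (φ : ι → F) = _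
      rw [tvMat_mul_same_center _ _ _ (by rw [neg_dotProduct, hKmem ψ, neg_zero]), neg_add_eq_sub]
    have h4 := congrArg Units.val h2
    rw [Units.val_mul (u⁻¹ * t) x, Units.val_mul x (u⁻¹ * t), h3] at h4
    refine Subtype.ext (sub_eq_zero.1 (dotProduct_eq_zero _ fun w => ?_))
    have h5 := congrArg (· *ᵥ w) h4
    simp only [← mulVec_mulVec, tvMat_mulVec, mulVec_add, mulVec_smul] at h5
    have h6 := congrArg (χ ⬝ᵥ ·) (add_left_cancel h5)
    simpa [dotProduct_smul, hχxv, hχ v (Submodule.mem_span_singleton_self v)] using h6.symm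
  have h1 := Nat.card_le_card_of_injective f hf
  rw [Module.natCard_eq_pow_finrank (K := F), Nat.card_eq_fintype_card (α := F)] at h1
  have h2 := Nat.pow_le_pow_right (Fintype.one_lt_card (α := F)).le hK
  omega

end CfsgLib.AschPrime
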