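import Cfsg.Agent.Lib.Aschbacher.Proper
import Mathlib.FieldTheory.Finite.Trace
import Mathlib.Algebra.CharP.Lemmas
import Mathlib.GroupTheory.Perm.Cycle.Type

/-!
Small fields: stabilisers of decompositions into lines for `q ≤ 4`, cubic fields of matrices for `q = 4`.
-/

set_option autoImplicit false
set_option linter.unusedSectionVars false

namespace CfsgLib.AschPrime

open Matrix Cfsg.Geo CfsgLib.MaxSub
open scoped MatrixGroups

variable {F : Type*} [Field F]

/-- monomial coordinates for a decomposition into lines -/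
theorem exists_mono_coord {ι : Type} [Fintype ι] [DecidableEq ι] {n : ℕ} {D : Fin n → Submodule F (ι → F)}
    (hD : IsMDecomposition 1 D) :
    ∃ φ : (ι → F) ≃ₗ[F] (Fin n → F), ∀ g ∈ decompositionStabilizer D, ∃ (σ : Equiv.Perm (Fin n)) (c : Fin n → F),
      (∀ i, c i ≠ 0) ∧ ∀ x i, φ ((g : Matrix ι ι F) *ᵥ x) (σ i) = c i * φ x i := by
  classical
  obtain ⟨ψ, hψ⟩ := Decomp.exists_coord hD
  let φ : (ι → F) ≃ₗ[F] (Fin n → F) :=
    ψ.trans (LinearEquiv.piCongrRight fun _ => LinearEquiv.funUnique (Fin 1) F F)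
  refine ⟨φ, fun g hg => ?_⟩
  obtain ⟨σ, hσ⟩ := hg
  let e : Fin n → (ι → F) := fun i => φ.symm (Pi.single i 1)
  have hφD : ∀ x i, x ∈ D i ↔ ∀ j, j ≠ i → φ x j = 0 := fun x i => (hψ x i).trans (forall₂_congr fun j _ => by
    constructor
    · intro h; show (ψ x j) default = 0; rw [h]; rfl
    · intro h; funext k; rw [Subsingleton.elim k default]; exact h)
  have hmem : ∀ i, e i ∈ D i := fun i => (hφD _ i).2 fun j hj => by simp [e, hj]
  have himg : ∀ i j, j ≠ σ i → φ ((g : Matrix ι ι F) *ᵥ e i) j = 0 := fun i =>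
    (hφD _ (σ i)).1 (hσ i ▸ ⟨e i, hmem i, rfl⟩)
  let L : (ι → F) →ₗ[F] (Fin n → F) := φ.toLinearMap ∘ₗ Matrix.toLin' (g : Matrix ι ι F)
  refine ⟨σ, fun i => φ ((g : Matrix ι ι F) *ᵥ e i) (σ i), fun i h => ?_, fun x i => ?_⟩
  · have h1 : φ ((g : Matrix ι ι F) *ᵥ e i) = 0 := funext fun j => by
      by_cases hj : j = σ i
      · rw [hj]; exact h
      · exact himg i j hj
    have h2 : e i = 0 := mulVec_inj g (by rw [mulVec_zero]; exact φ.map_eq_zero_iff.1 h1)
    have h3 := congrArg (fun y => φ y i) h2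
    simp [e] at h3
  · have hx : x = ∑ j, φ x j • e j := φ.injective (by
      rw [map_sum]
      simp only [map_smul, e, LinearEquiv.apply_symm_apply]
      exact pi_eq_sum_univ' _)
    have hLx : φ ((g : Matrix ι ι F) *ᵥ x) = L x := rfl
    rw [hLx]
    conv_lhs => rw [hx, map_sum]
    rw [Finset.sum_apply, Finset.sum_eq_single i]
    · rw [map_smul, Pi.smul_apply, smul_eq_mul, mul_comm]; rfl
    · intro j _ hj
      rw [map_smul, Pi.smul_apply]
      show φ x j • φ ((g : Matrix ι ι F) *ᵥ e j) (σ i) = 0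
      rw [himg j _ (fun h => hj (σ.injective h).symm), smul_zero]
    · exact fun h => absurd (Finset.mem_univ i) h

variable [Fintype F] {ι : Type} [Fintype ι] [DecidableEq ι] {n : ℕ} {D : Fin n → Submodule F (ι → F)}

theorem reducible_of_card_two (hq : Fintype.card F = 2) (hD : IsMDecomposition 1 D) (hn : 2 ≤ Fintype.card ι)
    {H : Subgroup (GL ι F)} (hH : H ≤ decompositionStabilizer D) : ¬ ActsIrreducibly (matrixSet H) := by
  classical
  intro hirr
  obtain ⟨φ, hφ⟩ := exists_mono_coord hD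
  set v := φ.symm (fun _ => 1)
  have hv : v ≠ 0 := fun e => by
    have h1 := congrArg φ e
    rw [φ.apply_symm_apply, map_zero] at h1
    exact one_ne_zero (congrFun h1 ⟨0, by have := hD.two_le; omega⟩)
  have hone : ∀ c : F, c ≠ 0 → c = 1 := fun c hc => by
    have := FiniteField.pow_card_sub_one_eq_one c hc
    simpa [hq] using this
  rcases hirr (Submodule.span F {v}) (fun s hs => mapsTo_iff_map_le.2 fun w hw => by
      obtain ⟨x, hx, rfl⟩ := hs
      obtain ⟨a, rfl⟩ := Submodule.mem_span_singleton.1 hw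
      obtain ⟨σ, c, hc, hg⟩ := hφ x (hH hx)
      have he : (x : Matrix ι ι F) *ᵥ v = v := φ.injective (funext fun i => by
        obtain ⟨j, rfl⟩ := σ.surjective i
        rw [hg, hone _ (hc j), one_mul]
        simp [v])
      show (x : Matrix ι ι F) *ᵥ (a • v) ∈ _
      rw [mulVec_smul, he]
      exact Submodule.smul_mem _ _ (Submodule.mem_span_singleton_self v)) with h | h
  · exact hv (Submodule.span_singleton_eq_bot.1 h)
  · have h1 := congrArg (fun W : Submodule F (ι → F) => Module.finrank F W) h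
    simp only [finrank_top, Module.finrank_fintype_fun_eq_card, finrank_span_singleton hv] at h1
    omega

theorem le_quadSimilarity_of_card_three (hq : Fintype.card F = 3) (hD : IsMDecomposition 1 D) :
    ∃ Q : (ι → F) → F, IsNondegenerateQuadraticForm Q ∧ decompositionStabilizer D ≤ quadSimilarityGroup Q := by
  classical
  obtain ⟨φ, hφ⟩ := exists_mono_coord hD
  have h2 : (2 : F) ≠ 0 := fun h => by
    have h3 : (Fintype.card F : F) = 0 := Nat.cast_card_eq_zero F
    rw [hq] at h3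
    refine one_ne_zero (α := F) ?_
    push_cast at h3
    linear_combination h3 - h
  refine ⟨fun x => ∑ i, φ x i ^ 2, ⟨fun c v => ?_, ⟨?_, ?_, ?_, ?_⟩, fun v hv => ?_⟩, fun g hg => ?_⟩
  · simp [map_smul, Finset.mul_sum, mul_pow]
  all_goals try
    intros
    simp only [QuadraticMap.polar, map_add, map_smul, Pi.add_apply, Pi.smul_apply, smul_eq_mul,
      ← Finset.sum_sub_distrib, ← Finset.sum_add_distrib, Finset.mul_sum]
    exact Finset.sum_congr rfl fun i _ => by ring
  · obtain ⟨i, hi⟩ : ∃ i, φ v i ≠ 0 := by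
      by_contra hc
      push Not at hc
      exact hv (φ.map_eq_zero_iff.1 (funext hc))
    have key : ∀ a b : ι → F, QuadraticMap.polar (fun x => ∑ i, φ x i ^ 2) a b = ∑ k, 2 * φ a k * φ b k := by
      intro a b
      simp only [QuadraticMap.polar, map_add, Pi.add_apply, ← Finset.sum_sub_distrib]
      exact Finset.sum_congr rfl fun i _ => by ring
    refine ⟨⟨φ.symm (Pi.single i 1), ?_⟩, ⟨φ.symm (Pi.single i 1), ?_⟩⟩ <;>
      simp [key, Pi.single_apply, hi, h2]
  · obtain ⟨σ, c, hc, hcx⟩ := hφ g hg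
    refine ⟨1, fun v => ?_⟩
    rw [Units.val_one, one_mul]
    show ∑ i, φ ((g : Matrix ι ι F) *ᵥ v) i ^ 2 = ∑ i, φ v i ^ 2
    rw [← Equiv.sum_comp σ]
    refine Finset.sum_congr rfl fun i _ => ?_
    have := FiniteField.pow_card_sub_one_eq_one (c i) (hc i)
    rw [hq] at this
    rw [hcx, mul_pow, this, one_mul]

theorem le_unitarySimilarity_of_card_four (hq : Fintype.card F = 4) (hD : IsMDecomposition 1 D) :
    ∃ (σ : F ≃+* F) (f : (ι → F) → (ι → F) → F), IsUnitaryForm σ f ∧
      decompositionStabilizer D ≤ similarityGroup f := by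
  classical
  obtain ⟨φ, hφ⟩ := exists_mono_coord hD
  obtain ⟨p, hp⟩ := CharP.exists F
  obtain ⟨k, hpp, hk⟩ := FiniteField.card F p
  haveI := Fact.mk hpp
  have hp2 : p = 2 := by
    have h1 : p ∣ 2 ^ 2 := by rw [show (2 : ℕ) ^ 2 = 4 from rfl, ← hq, hk]; exact dvd_pow_self p k.2.ne'
    exact (Nat.prime_dvd_prime_iff_eq hpp Nat.prime_two).1 (hpp.dvd_of_dvd_pow h1)
  subst hp2
  let σ : F ≃+* F := frobeniusEquiv F 2
  have hσ : ∀ x, σ x = x ^ 2 := fun x => frobenius_def 2 x
  have h4 : ∀ x : F, x ^ 4 = x := fun x => by rw [← hq]; exact FiniteField.pow_card x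
  refine ⟨σ, fun u v => ∑ i, φ u i * σ (φ v i),
    ⟨fun h => ?_, fun a => ?_, fun x y v => ?_, fun c x v => ?_, fun v w => ?_, fun v hv => ?_⟩, fun g hg => ?_⟩
  · have hall : ∀ x : F, x ^ 2 = x := fun x => (hσ x).symm.trans (by rw [h]; rfl)
    have hsub : (Finset.univ : Finset F) ⊆ {0, 1} := fun x _ => by
      rcases mul_eq_zero.1 (show x * (x - 1) = 0 by linear_combination hall x) with h | h
      · simp [h]
      · simp [sub_eq_zero.1 h]
    have := (Finset.card_le_card hsub).trans Finset.card_le_two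
    rw [Finset.card_univ, hq] at this
    omega
  · rw [hσ, hσ, ← pow_mul]; exact h4 a
  · simp only [map_add, Pi.add_apply, add_mul, Finset.sum_add_distrib]
  · simp only [map_smul, Pi.smul_apply, smul_eq_mul, mul_assoc, Finset.mul_sum]
  · rw [map_sum]
    simp only [map_mul, hσ, ← pow_mul]
    exact Finset.sum_congr rfl fun i _ => by rw [mul_pow, ← pow_mul, show 2 * 2 = 4 from rfl, h4]; ring
  · obtain ⟨i, hi⟩ : ∃ i, φ v i ≠ 0 := by
      by_contra hc
      push Not at hc
      exact hv (φ.map_eq_zero_iff.1 (funext hc))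
    refine ⟨⟨φ.symm (Pi.single i 1), ?_⟩, ⟨φ.symm (Pi.single i 1), ?_⟩⟩ <;>
      simp [Pi.single_apply, hi, apply_ite σ]
  · obtain ⟨π, c, hc, hcx⟩ := hφ g hg
    refine ⟨1, fun u v => ?_⟩
    rw [Units.val_one, one_mul]
    show ∑ i, φ ((g : Matrix ι ι F) *ᵥ u) i * σ (φ ((g : Matrix ι ι F) *ᵥ v) i) = ∑ i, φ u i * σ (φ v i)
    rw [← Equiv.sum_comp π]
    refine Finset.sum_congr rfl fun i _ => ?_
    have h1 := FiniteField.pow_card_sub_one_eq_one (c i) (hc i)
    rw [hq] at h1
    simp only [hcx, hσ, mul_pow]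
    linear_combination (φ u i * φ v i ^ 2) * h1

set_option maxHeartbeats 1000000 in
/-- For `q = 4` the determinant-one normaliser of a cubic field lies in a subfield group over two elements. -/
theorem field_le_subfield_of_card_four (hq : Fintype.card F = 4) {K : Subalgebra F (Matrix (Fin 3) (Fin 3) F)}
    (hK : IsFieldSubalgebra 3 K) :
    ∃ (F₀ : Subfield F) (P : GL (Fin 3) F), Nat.card F₀ = 2 ∧
      subalgebraNormalizer K ⊓ specialLinear (Fin 3) F ≤ subfieldSubgroup F₀ P := by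
  classical
  haveI : Finite K := Finite.of_injective _ Subtype.val_injective
  haveI : Fintype K := Fintype.ofFinite _
  letI : Field K :=
    (show IsField K from
      { exists_pair_ne := ⟨0, 1, zero_ne_one⟩
        mul_comm := fun a b => Subtype.ext (hK.comm _ a.2 _ b.2)
        mul_inv_cancel := fun {a} ha => by
          obtain ⟨b, hb, hab⟩ := hK.inv _ a.2 fun e => ha (Subtype.ext e)
          exact ⟨⟨b, hb⟩, Subtype.ext hab⟩ }).toField
  have hfr : Module.finrank F K = 3 := hK.finrank_eq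
  have hcardK : Fintype.card K = 64 := by
    rw [Module.card_eq_pow_finrank (K := F) (V := K), hfr, hq]; rfl
  obtain ⟨p, hp⟩ := CharP.exists F
  obtain ⟨k, hpp, hk⟩ := FiniteField.card F p
  haveI := Fact.mk hpp
  have hp2 : p = 2 := by
    have h1 : p ∣ 2 ^ 2 := by rw [show (2 : ℕ) ^ 2 = 4 from rfl, ← hq, hk]; exact dvd_pow_self p k.2.ne'
    exact (Nat.prime_dvd_prime_iff_eq hpp Nat.prime_two).1 (hpp.dvd_of_dvd_pow h1)
  subst hp2
  haveI : CharP K 2 := charP_of_injective_algebraMap (algebraMap F K).injective 2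
  haveI : Fact (Nat.Prime 7) := ⟨by norm_num⟩
  obtain ⟨T₀, hT₀⟩ := exists_prime_orderOf_dvd_card' (G := Kˣ) 7 (by
    rw [Nat.card_units, Nat.card_eq_fintype_card, hcardK]; norm_num)
  set T : K := (T₀ : K) with hT
  have hT7 : T ^ 7 = 1 := by rw [hT, ← Units.val_pow_eq_pow_val, ← hT₀, pow_orderOf_eq_one, Units.val_one]
  have hTne : ∀ m : ℕ, 0 < m → m < 7 → T ^ m ≠ 1 := fun m h1 h2 e => by
    rw [hT, ← Units.val_pow_eq_pow_val, ← Units.val_one] at e
    have := orderOf_dvd_of_pow_eq_one (Units.ext e)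
    rw [hT₀] at this
    exact absurd (Nat.le_of_dvd h1 this) (by omega)
  have h4F : ∀ a : F, a ^ 4 = a := fun a => by rw [← hq]; exact FiniteField.pow_card a
  have h8F : ∀ a : F, a ^ 8 = a ^ 2 := fun a => by
    rw [show (8 : ℕ) = 4 * 2 from rfl, pow_mul, h4F]
  -- the basis `1, T, T²`
  have hli : LinearIndependent F ![(1 : K), T, T ^ 2] := by
    rw [Fintype.linearIndependent_iff]
    intro g hg
    rw [Fin.sum_univ_three] at hg
    simp only [Matrix.cons_val_zero, Matrix.cons_val_one, Matrix.cons_val_two, Matrix.tail_cons,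
      Matrix.head_cons, Algebra.smul_def, mul_one] at hg
    set a := algebraMap F K
    have hfix : ∀ x : F, a x ^ 4 = a x := fun x => by rw [← map_pow, h4F]
    have h4add : ∀ x y : K, (x + y) ^ 4 = x ^ 4 + y ^ 4 := fun x y => add_pow_char_pow (p := 2) (n := 2) x y
    have e1 : a (g 0) + a (g 1) * T ^ 4 + a (g 2) * T ^ 8 = 0 := by
      have h := congrArg (· ^ 4) hg
      simp only [zero_pow (show (4 : ℕ) ≠ 0 by norm_num), h4add, mul_pow, hfix, ← pow_mul] at h
      linear_combination h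
    have e2 : a (g 0) + a (g 1) * T ^ 2 + a (g 2) * T ^ 4 = 0 := by
      have h := congrArg (· ^ 4) e1
      simp only [zero_pow (show (4 : ℕ) ≠ 0 by norm_num), h4add, mul_pow, hfix, ← pow_mul] at h
      have t16 : T ^ 16 = T ^ 2 := by
        rw [show (16 : ℕ) = 7 * 2 + 2 from rfl, pow_add, pow_mul, hT7, one_pow, one_mul]
      have t32 : T ^ 32 = T ^ 4 := by
        rw [show (32 : ℕ) = 7 * 4 + 4 from rfl, pow_add, pow_mul, hT7, one_pow, one_mul]
      rw [show 4 * 4 = 16 from rfl, show 8 * 4 = 32 from rfl, t16, t32] at h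
      linear_combination h
    have t8 : T ^ 8 = T := by rw [show (8 : ℕ) = 7 + 1 from rfl, pow_add, hT7, pow_one, one_mul]
    rw [t8] at e1
    have d1 : T ≠ T ^ 4 := fun e => hTne 3 (by norm_num) (by norm_num) (mul_left_cancel₀
      (show T ≠ 0 from T₀.ne_zero) (by rw [mul_one, ← pow_succ']; exact e.symm))
    have d2 : T ≠ T ^ 2 := fun e => hTne 1 (by norm_num) (by norm_num) (mul_left_cancel₀
      (show T ≠ 0 from T₀.ne_zero) (by rw [mul_one, ← pow_succ']; exact e.symm))
    have d3 : T ^ 2 ≠ T ^ 4 := fun e => hTne 2 (by norm_num) (by norm_num) (mul_left_cancel₀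
      (pow_ne_zero 2 (show T ≠ 0 from T₀.ne_zero)) (by rw [mul_one, ← pow_add]; exact e.symm))
    have hb : a (g 2) = 0 := by
      have f1 : (T - T ^ 2) * a (g 1) + (T ^ 2 - T ^ 4) * a (g 2) = 0 := by linear_combination hg - e2
      have f2 : (T ^ 2 - T ^ 4) * a (g 1) + (T ^ 4 - T) * a (g 2) = 0 := by linear_combination e2 - e1
      have f3 : a (g 2) * ((T ^ 2 - T ^ 4) ^ 2 - (T - T ^ 2) * (T ^ 4 - T)) = 0 := by
        linear_combination (T ^ 2 - T ^ 4) * f1 - (T - T ^ 2) * f2
      have hsum : T ^ 6 + T ^ 5 + T ^ 4 + T ^ 3 + T ^ 2 + T + 1 = 0 :=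
        (mul_eq_zero.1 (show (T - 1) * (T ^ 6 + T ^ 5 + T ^ 4 + T ^ 3 + T ^ 2 + T + 1) = 0 by
          linear_combination hT7)).resolve_left
          (sub_ne_zero.2 fun e => hTne 1 (by norm_num) (by norm_num) (by rw [pow_one, e]))
      have h2K : (2 : K) = 0 := CharTwo.two_eq_zero
      refine (mul_eq_zero.1 f3).resolve_right fun e => one_ne_zero (α := K) ?_
      linear_combination hsum - e + t8 - (T ^ 3 + T ^ 5 + T ^ 6) * h2K
    have hb1 : a (g 1) = 0 := by
      have f1 : (T - T ^ 2) * a (g 1) = 0 := by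
        linear_combination hg - e2 - (T ^ 2 - T ^ 4) * hb
      exact (mul_eq_zero.1 f1).resolve_left (sub_ne_zero.2 d2)
    have hb0 : a (g 0) = 0 := by linear_combination hg - T * hb1 - T ^ 2 * hb
    intro i
    fin_cases i <;> apply (algebraMap F K).injective <;> rw [map_zero] <;> assumption
  let b : Module.Basis (Fin 3) F K := basisOfLinearIndependentOfCardEqFinrank hli (by rw [hfr, Fintype.card_fin])
  have hb : ∀ i, b i = ![(1 : K), T, T ^ 2] i := fun i => by simp [b]
  have hb8 : ∀ i, b i ^ 8 = b i := by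
    intro i
    rw [hb]
    have t8 : T ^ 8 = T := by rw [show (8 : ℕ) = 7 + 1 from rfl, pow_add, hT7, pow_one, one_mul]
    fin_cases i <;> simp [← pow_mul]
    · exact t8
    · rw [show (16 : ℕ) = 8 * 2 from rfl, pow_mul, t8]
  let F₀ : Subfield F := (ZMod.castHom (dvd_refl 2) F).fieldRange
  have hF₀ : Nat.card F₀ = 2 := by
    rw [show Nat.card F₀ = Nat.card (ZMod 2) from
      Nat.card_range_of_injective (ZMod.castHom (dvd_refl 2) F).injective, Nat.card_zmod]
  have hrat : ∀ x : K, x ^ 8 = x → ∀ i, b.repr x i = 0 ∨ b.repr x i = 1 := by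
    intro x hx i
    have h8add : ∀ (s : Finset (Fin 3)) (f : Fin 3 → K), (∑ j ∈ s, f j) ^ 8 = ∑ j ∈ s, f j ^ 8 :=
      fun s f => sum_pow_char_pow (p := 2) (n := 3) s f
    have h1 : x = ∑ j, (b.repr x j) ^ 2 • b j := by
      conv_lhs => rw [← hx, ← b.sum_repr x, h8add]
      exact Finset.sum_congr rfl fun j _ => by rw [smul_pow, hb8, h8F]
    have h2 : b.repr x i = (b.repr x i) ^ 2 := by
      conv_lhs => rw [h1, b.repr_sum_self]
    rcases mul_eq_zero.1 (show b.repr x i * (b.repr x i - 1) = 0 by linear_combination -h2) with h | h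
    · exact .inl h
    · exact .inr (sub_eq_zero.1 h)
  have hmemF₀ : ∀ {y : F}, y = 0 ∨ y = 1 → y ∈ F₀ := by
    rintro y (rfl | rfl)
    exacts [zero_mem _, one_mem _]
  -- the space as a line over `K`
  let e₀ : Fin 3 → F := Pi.single 0 1
  let L : K →ₗ[F] (Fin 3 → F) :=
    { toFun := fun k => (k : Matrix (Fin 3) (Fin 3) F) *ᵥ e₀
      map_add' := fun a c => by rw [Subalgebra.coe_add, add_mulVec]
      map_smul' := fun c a => by rw [Subalgebra.coe_smul, smul_mulVec, RingHom.id_apply] }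
  have hLinj : Function.Injective L := by
    rw [← LinearMap.ker_eq_bot, LinearMap.ker_eq_bot']
    intro z hz
    by_contra h0
    obtain ⟨N, hNK, hN⟩ := hK.inv _ z.2 fun e => h0 (Subtype.ext e)
    have h1 : ((z : Matrix (Fin 3) (Fin 3) F) * N) *ᵥ e₀ = 0 := by
      rw [hK.comm _ z.2 _ hNK, ← mulVec_mulVec]
      exact (congrArg (N *ᵥ ·) hz).trans (mulVec_zero N)
    rw [hN, one_mulVec] at h1
    exact (one_ne_zero : (1 : F) ≠ 0) (by simpa [e₀] using congrFun h1 0)
  let Le : K ≃ₗ[F] (Fin 3 → F) :=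
    LinearEquiv.ofBijective L ⟨hLinj, (LinearMap.injective_iff_surjective_of_finrank_eq_finrank
      (by rw [hfr, Module.finrank_fin_fun])).1 hLinj⟩
  let w : Module.Basis (Fin 3) F (Fin 3 → F) := b.map Le
  let P : GL (Fin 3) F :=
    { val := (Pi.basisFun F (Fin 3)).toMatrix w
      inv := w.toMatrix (Pi.basisFun F (Fin 3))
      val_inv := Module.Basis.toMatrix_mul_toMatrix_flip _ _
      inv_val := Module.Basis.toMatrix_mul_toMatrix_flip _ _ }
  have hPe : ∀ i, (P : Matrix (Fin 3) (Fin 3) F) *ᵥ Pi.single i 1 = Le (b i) := by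
    intro i
    rw [mulVec_single_one]
    funext j
    show (Pi.basisFun F (Fin 3)).toMatrix w j i = _
    rw [Module.Basis.toMatrix_apply, Pi.basisFun_repr, Module.Basis.map_apply]
  refine ⟨F₀, P, hF₀, ?_⟩
  rintro g ⟨hgN, hgS⟩
  let α : K → K := fun z =>
    ⟨(g : Matrix (Fin 3) (Fin 3) F) * z * ((g⁻¹ : GL (Fin 3) F) : Matrix (Fin 3) (Fin 3) F), (hgN z).1 z.2⟩
  have hαpow : ∀ (z : K) (m : ℕ), α (z ^ m) = α z ^ m := fun z m => Subtype.ext (by
    simp only [α, SubmonoidClass.coe_pow]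
    exact (Units.conj_pow g (z : Matrix (Fin 3) (Fin 3) F) m).symm)
  let u : K := Le.symm ((g : Matrix (Fin 3) (Fin 3) F) *ᵥ e₀)
  let M : K →ₗ[F] K := Le.symm.toLinearMap ∘ₗ Matrix.toLin' (g : Matrix (Fin 3) (Fin 3) F) ∘ₗ Le.toLinearMap
  have hM : ∀ z, M z = u * α z := by
    intro z
    apply Le.injective
    show Le (Le.symm ((g : Matrix (Fin 3) (Fin 3) F) *ᵥ Le z)) = _
    rw [LinearEquiv.apply_symm_apply, show u * α z = α z * u from mul_comm _ _]
    show _ = ((α z : Matrix (Fin 3) (Fin 3) F) * (u : Matrix (Fin 3) (Fin 3) F)) *ᵥ e₀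
    rw [← mulVec_mulVec, show (u : Matrix (Fin 3) (Fin 3) F) *ᵥ e₀ = (g : Matrix (Fin 3) (Fin 3) F) *ᵥ e₀ from
      Le.apply_symm_apply _]
    show (g : Matrix (Fin 3) (Fin 3) F) *ᵥ ((z : Matrix (Fin 3) (Fin 3) F) *ᵥ e₀) = _
    simp only [α, mulVec_mulVec, mul_assoc, ← Units.val_mul, inv_mul_cancel, Units.val_one, mul_one]
  have hα8 : ∀ i, α (b i) ^ 8 = α (b i) := fun i => by rw [← hαpow, hb8]
  let A : K →ₗ[F] K :=
    { toFun := α
      map_add' := fun x y => Subtype.ext (by simp only [α, Subalgebra.coe_add, mul_add, add_mul])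
      map_smul' := fun c x => Subtype.ext (by
        simp only [α, Subalgebra.coe_smul, RingHom.id_apply, mul_smul_comm, smul_mul_assoc]) }
  have hMA : M = Algebra.lmul F K u ∘ₗ A := LinearMap.ext hM
  have hdetM : LinearMap.det M = 1 := by
    have h1 : LinearMap.det (Matrix.toLin' (g : Matrix (Fin 3) (Fin 3) F)) = 1 := by
      rw [LinearMap.det_toLin']
      exact congrArg Units.val (MonoidHom.mem_ker.1 hgS)
    rw [← h1, ← LinearMap.det_conj (Matrix.toLin' (g : Matrix (Fin 3) (Fin 3) F)) Le.symm]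
    rfl
  have hdetA : LinearMap.det A = 0 ∨ LinearMap.det A = 1 := by
    rw [← LinearMap.det_toMatrix b]
    have hmap : LinearMap.toMatrix b b A = (Matrix.of fun i j =>
        (⟨LinearMap.toMatrix b b A i j, hmemF₀ (by rw [LinearMap.toMatrix_apply]; exact hrat _ (hα8 j) i)⟩ : F₀)).map
          F₀.subtype := rfl
    rw [hmap, ← RingHom.mapMatrix_apply, ← RingHom.map_det]
    obtain ⟨z, hz⟩ := (Matrix.det (Matrix.of fun i j =>
        (⟨LinearMap.toMatrix b b A i j, hmemF₀ (by rw [LinearMap.toMatrix_apply]; exact hrat _ (hα8 j) i)⟩ : F₀))).2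
    rw [Subfield.subtype_apply, ← hz]
    fin_cases z
    · exact .inl (map_zero _)
    · exact .inr (map_one _)
  have hnorm : Algebra.norm F u = 1 := by
    rw [hMA, LinearMap.det_comp] at hdetM
    rcases hdetA with h | h <;> rw [h] at hdetM
    · simp at hdetM
    · rwa [mul_one] at hdetM
  have hu21 : u ^ 21 = 1 := by
    have h1 := FiniteField.algebraMap_norm_eq_pow_sum (K := F) (L := K) (x := u)
    rw [hnorm, map_one, hfr, Nat.card_eq_fintype_card, hq] at h1
    rw [h1]
    rfl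
  -- `u ^ 7` is a scalar
  obtain ⟨c, hc⟩ : ∃ c : F, algebraMap F K c = u ^ 7 := by
    have h73 : (u ^ 7) ^ 4 = u ^ 7 := by
      rw [← pow_mul, show 7 * 4 = 21 + 7 from rfl, pow_add, hu21, one_mul]
    by_contra hno
    push Not at hno
    let S : Finset K := insert (u ^ 7) (Finset.univ.map ⟨algebraMap F K, (algebraMap F K).injective⟩)
    have hS : S.card = 5 := by
      rw [Finset.card_insert_of_notMem (by simpa using hno), Finset.card_map, Finset.card_univ, hq]
    have hroots : S ⊆ (Polynomial.X ^ 4 - Polynomial.X : Polynomial K).roots.toFinset := by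
      intro y hy
      rw [Multiset.mem_toFinset, Polynomial.mem_roots (FiniteField.X_pow_card_sub_X_ne_zero K (by norm_num))]
      rcases Finset.mem_insert.1 hy with rfl | hy
      · simp [h73]
      · obtain ⟨a, -, rfl⟩ := Finset.mem_map.1 hy
        simp [← map_pow, h4F]
    have h1 := ((Finset.card_le_card hroots).trans (Multiset.toFinset_card_le _)).trans (Polynomial.card_roots' _)
    rw [hS, FiniteField.X_pow_card_sub_X_natDegree_eq K (by norm_num)] at h1
    omega
  have hc0 : c ≠ 0 := by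
    rintro rfl
    rw [map_zero] at hc
    have : u ^ 21 = 0 := by rw [show 21 = 7 * 3 from rfl, pow_mul, ← hc, zero_pow (by norm_num)]
    rw [hu21] at this
    exact one_ne_zero this
  have hent : ∀ i j, c⁻¹ * ((P⁻¹ * g * P : GL (Fin 3) F) : Matrix (Fin 3) (Fin 3) F) j i ∈ F₀ := by
    intro i j
    have h1 : ((P⁻¹ * g * P : GL (Fin 3) F) : Matrix (Fin 3) (Fin 3) F) *ᵥ Pi.single i 1 = fun j => b.repr (M (b i)) j := by
      refine mulVec_inj P ?_
      rw [mulVec_mulVec, ← Units.val_mul, show P * (P⁻¹ * g * P) = g * P by group, Units.val_mul, ← mulVec_mulVec, hPe]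
      have h2 : Le (M (b i)) = (g : Matrix (Fin 3) (Fin 3) F) *ᵥ Le (b i) := LinearEquiv.apply_symm_apply _ _
      rw [← h2]
      conv_rhs => rw [pi_eq_sum_univ' (fun j => b.repr (M (b i)) j), mulVec_sum]
      conv_lhs => rw [← b.sum_repr (M (b i)), map_sum]
      exact Finset.sum_congr rfl fun j _ => by rw [map_smul, mulVec_smul, hPe]
    have h3 := congrFun h1 j
    rw [mulVec_single_one] at h3
    change ((P⁻¹ * g * P : GL (Fin 3) F) : Matrix (Fin 3) (Fin 3) F) j i = _ at h3
    rw [h3, hM]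
    have hu22 : u = u ^ 7 * u ^ 15 := by rw [← pow_add, show 7 + 15 = 21 + 1 from rfl, pow_add, hu21, one_mul, pow_one]
    rw [show u * α (b i) = c • (u ^ 15 * α (b i)) by rw [Algebra.smul_def, hc, ← mul_assoc, ← hu22],
      map_smul, Finsupp.smul_apply, smul_eq_mul, ← mul_assoc, inv_mul_cancel₀ hc0, one_mul]
    refine hmemF₀ (hrat _ ?_ j)
    rw [mul_pow, hα8, ← pow_mul, show 15 * 8 = 21 * 5 + 15 from rfl, pow_add, pow_mul, hu21, one_pow, one_mul]
  have hmem := (mem_subfieldSubgroup_one (P⁻¹ * g * P)).2 ⟨c⁻¹, inv_ne_zero hc0, fun j i => hent i j⟩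
  rw [subfieldSubgroup, map_one] at hmem
  obtain ⟨y, hy, hyg⟩ := hmem
  refine ⟨y, hy, ?_⟩
  change (y : GL (Fin 3) F) = _ at hyg
  change P * y * P⁻¹ = g
  rw [hyg]
  group

end CfsgLib.AschPrime
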