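import Cfsg.Agent.Lib.Aschbacher.Heis
import Cfsg.Agent.Lib.MaxSub.Rational

/-!
Structures preserved by the normaliser of an absolutely irreducible group: a subfield, a bilinear, quadratic or
unitary form up to similarity.
-/

set_option autoImplicit false
set_option linter.unusedSectionVars false

namespace CfsgLib.AschPrime

open Matrix Cfsg.Geo
open scoped MatrixGroups

variable {ι : Type} [Fintype ι] [DecidableEq ι] {F : Type*} [Field F]

/-- A group normalised by `g`, absolutely irreducible and rational over `F₀` in a basis, puts `g` into the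
subfield group. -/
theorem mem_subfieldSubgroup_of_normalizes [Finite F] [Nonempty ι] {N : Subgroup (GL ι F)}
    (hN : ActsAbsolutelyIrreducibly (matrixSet N)) {F₀ : Subfield F} {B : GL ι F}
    (hB : ∀ x ∈ N, ∀ i j, ((B * x * B⁻¹ : GL ι F) : Matrix ι ι F) i j ∈ F₀)
    {g : GL ι F} (hg : ∀ x ∈ N, g * x * g⁻¹ ∈ N) : g ∈ subfieldSubgroup F₀ B⁻¹ := by
  classical
  set h := B * g * B⁻¹ with hh
  let V : Submodule F₀ (Matrix ι ι F) :=
    Submodule.span F₀ ((fun x : GL ι F => ((B * x * B⁻¹ : GL ι F) : Matrix ι ι F)) '' (N : Set (GL ι F)))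
  have hrat : ∀ A ∈ V, ∀ i j, A i j ∈ F₀ := by
    intro A hA
    induction hA using Submodule.span_induction with
    | mem A hA => obtain ⟨x, hx, rfl⟩ := hA; exact hB x hx
    | zero => intro i j; exact zero_mem _
    | add A A' _ _ h1 h2 => intro i j; exact add_mem (h1 i j) (h2 i j)
    | smul c A _ h1 => intro i j; exact mul_mem c.2 (h1 i j)
  have hspanF : ∀ A : Matrix ι ι F, A ∈ Submodule.span F (V : Set (Matrix ι ι F)) := by
    intro A
    have h1 : ((B⁻¹ : GL ι F) : Matrix ι ι F) * A * (B : Matrix ι ι F) ∈ Submodule.span F (matrixSet N) := by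
      rw [span_eq_top hN]; exact Submodule.mem_top
    have key : ∀ M ∈ Submodule.span F (matrixSet N),
        (B : Matrix ι ι F) * M * ((B⁻¹ : GL ι F) : Matrix ι ι F) ∈ Submodule.span F (V : Set (Matrix ι ι F)) := by
      intro M hM
      induction hM using Submodule.span_induction with
      | mem M hM =>
        obtain ⟨x, hx, rfl⟩ := hM
        exact Submodule.subset_span (Submodule.subset_span ⟨x, hx, by simp only [Units.val_mul]⟩)
      | zero => rw [mul_zero, zero_mul]; exact zero_mem _
      | add A A' _ _ h1 h2 => rw [mul_add, add_mul]; exact add_mem h1 h2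
      | smul c A _ h1 => rw [mul_smul_comm, smul_mul_assoc]; exact Submodule.smul_mem _ c h1
    have := key _ h1
    rwa [← mul_assoc, ← mul_assoc, ← Units.val_mul, mul_inv_cancel, Units.val_one, one_mul, mul_assoc,
      ← Units.val_mul, mul_inv_cancel, Units.val_one, mul_one] at this
  -- `V` is the whole of the matrices over `F₀`
  have hfull : ∀ i j, Matrix.single i j (1 : F) ∈ V := by
    obtain ⟨s, hsV, hspan, hli⟩ := exists_linearIndependent F (V : Set (Matrix ι ι F))
    have htop : ⊤ ≤ Submodule.span F (Set.range ((↑) : s → Matrix ι ι F)) := by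
      rw [Subtype.range_coe, hspan]; exact fun A _ => hspanF A
    haveI : Fintype s := Fintype.ofFinite _
    let b := Module.Basis.mk hli htop
    have hcard : Fintype.card s = Fintype.card ι * Fintype.card ι := by
      rw [← Module.finrank_eq_card_basis b, Module.finrank_matrix, Module.finrank_self, mul_one]
    let W : Submodule F₀ (Matrix ι ι F) :=
      { carrier := {A | ∀ i j, A i j ∈ F₀}
        add_mem' := fun h1 h2 i j => add_mem (h1 i j) (h2 i j)
        zero_mem' := fun i j => zero_mem _
        smul_mem' := fun c A h i j => mul_mem c.2 (h i j) }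
    let e : W ≃ₗ[F₀] Matrix ι ι F₀ :=
      { toFun := fun A => Matrix.of fun i j => ⟨(A : Matrix ι ι F) i j, A.2 i j⟩
        invFun := fun A => ⟨A.map Subtype.val, fun i j => (A i j).2⟩
        left_inv := fun A => rfl
        right_inv := fun A => rfl
        map_add' := fun A A' => rfl
        map_smul' := fun c A => rfl }
    have hW : Module.finrank F₀ W = Fintype.card ι * Fintype.card ι := by
      rw [e.finrank_eq, Module.finrank_matrix, Module.finrank_self, mul_one]
    haveI : Module.Finite F₀ W := Module.Finite.equiv e.symm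
    let v : s → W := fun a => ⟨a, hrat _ (hsV a.2)⟩
    have hv : LinearIndependent F₀ v := by
      refine LinearIndependent.of_comp W.subtype ?_
      exact hli.restrict_scalars' F₀
    have hW' : Submodule.span F₀ (Set.range v) = ⊤ :=
      hv.span_eq_top_of_card_eq_finrank' (by rw [hcard, hW])
    intro i j
    have hm : (⟨Matrix.single i j (1 : F), fun a b => by
        rw [Matrix.single_apply]; split <;> simp [one_mem, zero_mem]⟩ : W) ∈ Submodule.span F₀ (Set.range v) :=
      hW' ▸ Submodule.mem_top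
    have hle : (Submodule.span F₀ (Set.range v)).map W.subtype ≤ V := by
      rw [Submodule.map_span, Submodule.span_le]
      rintro _ ⟨_, ⟨a, rfl⟩, rfl⟩
      exact hsV a.2
    exact hle ⟨_, hm, rfl⟩
  -- `h` preserves `V`
  have hpres : ∀ A ∈ V, (h : Matrix ι ι F) * A * ((h⁻¹ : GL ι F) : Matrix ι ι F) ∈ V := by
    intro A hA
    induction hA using Submodule.span_induction with
    | mem A hA =>
      obtain ⟨x, hx, rfl⟩ := hA
      refine Submodule.subset_span ⟨_, hg x hx, ?_⟩
      simp only
      rw [← Units.val_mul, ← Units.val_mul]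
      congr 1
      rw [hh]
      group
    | zero => rw [mul_zero, zero_mul]; exact zero_mem _
    | add A A' _ _ h1 h2 => rw [mul_add, add_mul]; exact add_mem h1 h2
    | smul c A _ h1 => rw [mul_smul_comm, smul_mul_assoc]; exact Submodule.smul_mem _ c h1
  obtain ⟨j₀, l₀, hne⟩ : ∃ j l, ((h⁻¹ : GL ι F) : Matrix ι ι F) j l ≠ 0 := by
    by_contra hc
    push Not at hc
    exact (h⁻¹).ne_zero (Matrix.ext hc)
  have hent : ∀ k i, ((h⁻¹ : GL ι F) : Matrix ι ι F) j₀ l₀ * (h : Matrix ι ι F) k i ∈ F₀ := by
    intro k i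
    have h1 := hrat _ (hpres _ (hfull i j₀)) k l₀
    rw [Matrix.mul_apply, Finset.sum_eq_single j₀, Matrix.mul_single_apply_same, mul_one] at h1
    · rw [mul_comm]; exact h1
    · intro b _ hb
      rw [Matrix.mul_single_apply_of_ne _ _ _ _ _ hb, zero_mul]
    · exact fun h => absurd (Finset.mem_univ _) h
  have hmem : h ∈ subfieldSubgroup F₀ (1 : GL ι F) :=
    (CfsgLib.MaxSub.mem_subfieldSubgroup_one h).2 ⟨_, hne, hent⟩
  rw [subfieldSubgroup, map_one] at hmem
  obtain ⟨y, hy, hyh⟩ := hmem
  refine ⟨y, hy, ?_⟩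
  change (y : GL ι F) = h at hyh
  change B⁻¹ * y * B⁻¹⁻¹ = g
  rw [hyh, hh]
  group

/-- invariant sesquilinear forms are unique up to a scalar -/
theorem form_matrix_unique [Nonempty ι] {N : Subgroup (GL ι F)} (hN : ActsAbsolutelyIrreducibly (matrixSet N))
    (τ : F →+* F) {G G' : Matrix ι ι F} (hG : IsUnit G)
    (h1 : ∀ x ∈ N, (x : Matrix ι ι F)ᵀ * G * (x : Matrix ι ι F).map τ = G)
    (h2 : ∀ x ∈ N, (x : Matrix ι ι F)ᵀ * G' * (x : Matrix ι ι F).map τ = G') : ∃ c : F, G' = c • G := by
  obtain ⟨u, rfl⟩ := hG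
  set U : Matrix ι ι F := ((u⁻¹ : (Matrix ι ι F)ˣ) : Matrix ι ι F)
  have hcomm : ∀ s ∈ matrixSet N, (G' * U)ᵀ * s = s * (G' * U)ᵀ := by
    rintro _ ⟨x, hx, rfl⟩
    refine Matrix.transpose_injective ?_
    simp only [transpose_mul _ (x : Matrix ι ι F), transpose_mul (x : Matrix ι ι F), transpose_transpose]
    show (x : Matrix ι ι F)ᵀ * (G' * U) = G' * U * (x : Matrix ι ι F)ᵀ
    set a := (x : Matrix ι ι F)ᵀ
    set b := (x : Matrix ι ι F).map τ
    have hb : b * U * a * (u : Matrix ι ι F) = 1 := by
      have e1 : U * a * (u : Matrix ι ι F) * b = 1 := by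
        rw [mul_assoc U, mul_assoc U, h1 x hx]; exact u.inv_mul
      have e2 := mul_eq_one_comm.1 e1
      simpa only [mul_assoc] using e2
    calc a * (G' * U) = a * G' * ((b * U * a * (u : Matrix ι ι F)) * U) := by rw [hb, one_mul, mul_assoc]
      _ = (a * G' * b) * U * a * ((u : Matrix ι ι F) * U) := by simp only [mul_assoc]
      _ = G' * U * a := by rw [h2 x hx, u.mul_inv, mul_one]
  obtain ⟨c, hc⟩ := hN.2 _ hcomm
  refine ⟨c, ?_⟩
  have h3 := congrArg Matrix.transpose hc
  rw [transpose_transpose, transpose_smul, transpose_one] at h3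
  calc G' = G' * U * (u : Matrix ι ι F) := by rw [mul_assoc, u.inv_mul, mul_one]
    _ = _ := by rw [h3, smul_mul, one_mul]

/-- A form linear in the first and `τ`-semilinear in the second argument. -/
structure IsSesqForm (τ : F →+* F) (f : (ι → F) → (ι → F) → F) : Prop where
  add_left : ∀ x y v, f (x + y) v = f x v + f y v
  smul_left : ∀ (c : F) (x v : ι → F), f (c • x) v = c * f x v
  add_right : ∀ v x y, f v (x + y) = f v x + f v y
  smul_right : ∀ (c : F) (v x : ι → F), f v (c • x) = τ c * f v x

theorem IsSesqForm.gram {τ : F →+* F} {f : (ι → F) → (ι → F) → F} (hf : IsSesqForm τ f) (u v : ι → F) :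
    f u v = u ⬝ᵥ (gramMatrix f *ᵥ (τ ∘ v)) := by
  let L : (ι → F) →ₗ[F] F :=
    { toFun := fun u => f u v, map_add' := fun a b => hf.add_left a b v, map_smul' := fun c a => hf.smul_left c a v }
  let R : ι → (ι → F) →ₛₗ[τ] F := fun a =>
    { toFun := fun v => f (Pi.single a 1) v, map_add' := fun x y => hf.add_right _ x y,
      map_smul' := fun c x => hf.smul_right c _ x }
  show L u = _
  conv_lhs => rw [pi_eq_sum_univ' u, map_sum]
  refine Finset.sum_congr rfl fun a _ => ?_
  rw [map_smul, smul_eq_mul]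
  congr 1
  show R a v = _
  conv_lhs => rw [pi_eq_sum_univ' v, map_sum]
  refine Finset.sum_congr rfl fun b _ => ?_
  rw [LinearMap.map_smulₛₗ, smul_eq_mul, mul_comm]
  rfl

theorem IsSesqForm.gram_isUnit {τ : F →+* F} {f : (ι → F) → (ι → F) → F} (hf : IsSesqForm τ f)
    (hnd : IsNondegenerateForm f) : IsUnit (gramMatrix f) := by
  rw [← Matrix.vecMul_injective_iff_isUnit]
  intro a b hab
  by_contra hne
  obtain ⟨-, x, hx⟩ := hnd (a - b) (sub_ne_zero.2 hne)
  rw [hf.gram, dotProduct_mulVec, sub_vecMul] at hx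
  change a ᵥ* gramMatrix f = b ᵥ* gramMatrix f at hab
  rw [hab, sub_self, zero_dotProduct] at hx
  exact hx rfl

/-- A group fixing a non-degenerate form up to scalar: so does its normaliser. -/
theorem mem_similarityGroup_of_normalizes [Nonempty ι] {N : Subgroup (GL ι F)}
    (hN : ActsAbsolutelyIrreducibly (matrixSet N)) {τ : F →+* F} {f : (ι → F) → (ι → F) → F}
    (hf : IsSesqForm τ f) (hnd : IsNondegenerateForm f) (hfix : FixesForm (matrixSet N) f)
    {g : GL ι F} (hg : ∀ x ∈ N, g * x * g⁻¹ ∈ N) : g ∈ similarityGroup f := by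
  classical
  set G := gramMatrix f
  have htr : ∀ (A : Matrix ι ι F) (u v : ι → F),
      f (A *ᵥ u) (A *ᵥ v) = u ⬝ᵥ ((Aᵀ * G * A.map τ) *ᵥ (τ ∘ v)) := by
    intro A u v
    rw [hf.gram, dotProduct_comm u, ← mulVec_mulVec, ← mulVec_mulVec, dotProduct_comm _ u,
      dotProduct_mulVec u, vecMul_transpose]
    congr 2
    funext i
    exact τ.map_mulVec A v i
  have hG : ∀ x ∈ N, (x : Matrix ι ι F)ᵀ * G * (x : Matrix ι ι F).map τ = G := by
    intro x hx
    ext i j
    have h1 := hfix _ (mem_matrixSet hx) (Pi.single i 1) (Pi.single j 1)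
    rw [htr, hf.gram] at h1
    have e : (τ ∘ Pi.single j (1 : F)) = Pi.single j 1 := by
      funext k
      simp only [Function.comp_apply, Pi.single_apply]
      split <;> simp
    simpa [e, single_dotProduct, mulVec_single_one] using h1
  set A := (g : Matrix ι ι F)
  have hG' : ∀ x ∈ N, (x : Matrix ι ι F)ᵀ * (Aᵀ * G * A.map τ) * (x : Matrix ι ι F).map τ = Aᵀ * G * A.map τ := by
    intro x hx
    have h1 := hG _ (hg x hx)
    have e1 : A * (x : Matrix ι ι F) = ((g * x * g⁻¹ : GL ι F) : Matrix ι ι F) * A := by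
      rw [← Units.val_mul, ← Units.val_mul, inv_mul_cancel_right]
    calc (x : Matrix ι ι F)ᵀ * (Aᵀ * G * A.map τ) * (x : Matrix ι ι F).map τ
        = (A * (x : Matrix ι ι F))ᵀ * G * (A * (x : Matrix ι ι F)).map τ := by
          rw [transpose_mul, Matrix.map_mul]; simp only [mul_assoc]
      _ = Aᵀ * (((g * x * g⁻¹ : GL ι F) : Matrix ι ι F)ᵀ * G * ((g * x * g⁻¹ : GL ι F) : Matrix ι ι F).map τ) *
            A.map τ := by
          rw [e1, transpose_mul, Matrix.map_mul]; simp only [mul_assoc]
      _ = _ := by rw [h1]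
  obtain ⟨c, hc⟩ := form_matrix_unique hN τ (hf.gram_isUnit hnd) hG hG'
  have hc0 : c ≠ 0 := by
    rintro rfl
    obtain ⟨i⟩ := (inferInstance : Nonempty ι)
    obtain ⟨-, x, hx⟩ := hnd _ (fun e : A *ᵥ Pi.single i 1 = 0 => by
      have h1 := mulVec_inj g (e.trans (mulVec_zero A).symm)
      simpa using congrFun h1 i)
    refine hx ?_
    have hxe : x = A *ᵥ (((g⁻¹ : GL ι F) : Matrix ι ι F) *ᵥ x) := by
      rw [mulVec_mulVec, ← Units.val_mul, mul_inv_cancel, Units.val_one, one_mulVec]
    rw [hxe, htr, hc, zero_smul, zero_mulVec, dotProduct_zero]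
  exact ⟨Units.mk0 c hc0, fun u v => by
    rw [htr, hc, hf.gram, smul_mulVec, dotProduct_smul]; rfl⟩

theorem _root_.Cfsg.Geo.IsUnitaryForm.isSesqForm {σ : F ≃+* F} {f : (ι → F) → (ι → F) → F}
    (h : IsUnitaryForm σ f) : IsSesqForm σ.toRingHom f where
  add_left := h.add_left
  smul_left := h.smul_left
  add_right v x y := by rw [h.herm v (x + y), h.add_left, map_add, ← h.herm, ← h.herm]
  smul_right c v x := by rw [h.herm v (c • x), h.smul_left, map_mul, ← h.herm]; rfl

theorem _root_.Cfsg.Geo.IsBilinearForm.isSesqForm {f : (ι → F) → (ι → F) → F}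
    (h : IsBilinearForm f) : IsSesqForm (RingHom.id F) f :=
  ⟨h.add_left, h.smul_left, h.add_right, h.smul_right⟩

/-- quadratic forms exist with non-degenerate polar only in odd characteristic, in odd dimension -/
theorem two_ne_zero_of_quadratic (hodd : Odd (Fintype.card ι)) {Q : (ι → F) → F}
    (hQ : IsNondegenerateQuadraticForm Q) : (2 : F) ≠ 0 := by
  intro h2
  have hf := hQ.polar_bilinear.isSesqForm
  set G := gramMatrix (QuadraticMap.polar Q)
  have hdiag : ∀ v, QuadraticMap.polar Q v v = 0 := fun v => by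
    simp only [QuadraticMap.polar]
    rw [← two_smul F v, hQ.smul, h2]
    linear_combination -(Q v) * h2
  have hGd : ∀ i, G i i = 0 := fun i => hdiag _
  have hGs : ∀ i j, G i j = G j i := fun i j => QuadraticMap.polar_comm _ _ _
  have hu : IsUnit G.det := (Matrix.isUnit_iff_isUnit_det G).1 (hf.gram_isUnit hQ.nondegenerate)
  exact hu.ne_zero (det_eq_zero_of_alt hodd hGd fun i j => by rw [hGs i j]; linear_combination (G j i) * h2)
where
  det_eq_zero_of_alt {G : Matrix ι ι F} (hodd : Odd (Fintype.card ι)) (hd : ∀ i, G i i = 0)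
      (hs : ∀ i j, G i j = - G j i) : G.det = 0 := by
    classical
    rw [Matrix.det_apply]
    refine Finset.sum_involution (fun π _ => π⁻¹) (fun π _ => ?_) (fun π _ hne e => ?_)
      (fun _ _ => Finset.mem_univ _) (fun π _ => inv_inv π)
    · rw [Equiv.Perm.sign_inv]
      have : ∏ i, G (π⁻¹ i) i = (-1) ^ Fintype.card ι * ∏ i, G (π i) i := by
        rw [← Equiv.prod_comp π fun i => G (π⁻¹ i) i]
        simp only [Equiv.Perm.coe_inv, Equiv.symm_apply_apply]
        rw [Finset.prod_congr rfl fun i _ => (hs i (π i)), Finset.prod_neg, Finset.card_univ]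
      rw [this, hodd.neg_one_pow, neg_one_mul, smul_neg, add_neg_cancel]
    · refine hne ?_
      obtain ⟨i, hi⟩ : ∃ i, π i = i := by
        by_contra hfp
        push Not at hfp
        obtain ⟨m, hm⟩ := hodd
        have h1 : (Finset.univ.filter fun i => π i ≠ i).card % 2 = 0 := by
          have hinv : Function.Involutive π := fun i => by
            nth_rewrite 2 [← e]
            rw [Equiv.Perm.coe_inv, Equiv.apply_symm_apply]
          have h2 : π ^ 2 = 1 := Equiv.ext fun i => by simp [pow_two, hinv i]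
          have : π.support = Finset.univ.filter fun i => π i ≠ i := rfl
          rw [← this]
          exact Nat.dvd_iff_mod_eq_zero.1 (Equiv.Perm.two_dvd_card_support h2)
        rw [Finset.filter_true_of_mem (fun i _ => hfp i), Finset.card_univ, hm] at h1
        omega
      rw [Finset.prod_eq_zero (Finset.mem_univ i) (by rw [hi, hd]), smul_zero]

/-- an isometry group of a quadratic form: the normaliser consists of similarities -/
theorem mem_quadSimilarityGroup_of_normalizes [Nonempty ι] (hodd : Odd (Fintype.card ι)) {N : Subgroup (GL ι F)}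
    (hN : ActsAbsolutelyIrreducibly (matrixSet N)) {Q : (ι → F) → F} (hQ : IsNondegenerateQuadraticForm Q)
    (hfix : FixesQuadForm (matrixSet N) Q) {g : GL ι F} (hg : ∀ x ∈ N, g * x * g⁻¹ ∈ N) :
    g ∈ quadSimilarityGroup Q := by
  have h2 := two_ne_zero_of_quadratic hodd hQ
  have hpol : FixesForm (matrixSet N) (QuadraticMap.polar Q) := fun s hs u v => by
    simp only [QuadraticMap.polar]
    rw [← mulVec_add, hfix s hs, hfix s hs, hfix s hs]
  obtain ⟨c, hc⟩ := mem_similarityGroup_of_normalizes hN hQ.polar_bilinear.isSesqForm hQ.nondegenerate hpol hg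
  refine ⟨c, fun v => ?_⟩
  have h1 := hc v v
  simp only [QuadraticMap.polar] at h1
  rw [← two_smul F ((g : Matrix ι ι F) *ᵥ v), ← two_smul F v, hQ.smul, hQ.smul] at h1
  refine mul_left_cancel₀ h2 ?_
  linear_combination h1

end CfsgLib.AschPrime
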